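import Mathlib
import Cfsg.Agent.TcData.HN.I1539000.Pr_x_0
import Cfsg.Agent.TcData.HN.I1539000.Pr_x_1
import Cfsg.Agent.TcData.HN.I1539000.Pr_x_2

set_option autoImplicit false
set_option Elab.async false
set_option maxRecDepth 100000
set_option linter.all false

namespace Cfsg.Agent.TcData.HN.I1539000

/-- The program of the generator. -/
noncomputable def pr_x : List (ℕ × ℕ) := pr_x_0 ++ pr_x_1 ++ pr_x_2

end Cfsg.Agent.TcData.HN.I1539000
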