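import Cfsg.Agent.Lib.TcFacts

set_option autoImplicit false
set_option Elab.async false
set_option maxRecDepth 100000
set_option linter.all false

namespace Cfsg.Agent.TcData.HN.I1539000

open Cfsg.Agent.Lib.TcFacts

/-- A part of a table. -/
noncomputable def PH0 : Tr := (.node (.node (.node (.node (.node (.node (.node (.node (.node (.leaf (nat_lit 0x133c)) (.leaf (nat_lit 0x4074))) (.node (.leaf (nat_lit 0x62e8)) (.leaf (nat_lit 0x80e4)))) (.node (.node (.leaf (nat_lit 0x110)) (.leaf (nat_lit 0x10001eb))) (.node (.leaf (nat_lit 0x100b064)) (.leaf (nat_lit 0x0))))) (.node (.node (.node (.leaf (nat_lit 0x1000289)) (.leaf (nat_lit 0x91b2))) (.node (.leaf (nat_lit 0x1005170)) (.leaf (nat_lit 0x90bc)))) (.node (.node (.leaf (nat_lit 0x3118)) (.leaf (nat_lit 0x2296))) (.node (.leaf (nat_lit 0x3046)) (.leaf (nat_lit 0x0)))))) (.node (.node (.node (.node (.leaf (nat_lit 0x10001a2)) (.leaf (nat_lit 0x6083))) (.node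 (.leaf (nat_lit 0x121f)) (.leaf (nat_lit 0x6084)))) (.node (.node (.leaf (nat_lit 0x21b0)) (.leaf (nat_lit 0x1003212))) (.node (.leaf (nat_lit 0x10032a2)) (.leaf (nat_lit 0x0))))) (.node (.node (.node (.leaf (nat_lit 0xd10c)) (.leaf (nat_lit 0x1008337))) (.node (.leaf (nat_lit 0x100c281)) (.leaf (nat_lit 0x0)))) (.node (.node (.leaf (nat_lit 0x70dc)) (.leaf (nat_lit 0x7273))) (.node (.leaf (nat_lit 0x304c)) (.leaf (nat_lit 0x0))))))) (.node (.node (.node (.node (.node (.leaf (nat_lit 0xd4)) (.leaf (nat_lit 0x1002070))) (.node (.leaf (nat_lit 0x1005295)) (.leaf (nat_lit 0x6105)))) (.node (.node (.leaf (nat_lit 0x1102)) (.leaf (nat_lit 0x100012d))) (.node (.leaf (nat_lit 0x1003040)) (.leaf (nat_lit 0x0))))) (.node (.node (.node (.leaf (nat_lit 0x624e)) (.leaf (nat_lit 0x100406c))) (.node (.leaf (nat_lit 0x8015)) (.leaf (nat_lit 0x91d4)))) (.node (.node (.leaf (nat_lit 0xd336)) (.leaf (nat_lit 0x10052a8))) (.node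 (.leaf (nat_lit 0x1283)) (.leaf (nat_lit 0x0)))))) (.node (.node (.node (.node (.leaf (nat_lit 0x1002003)) (.leaf (nat_lit 0x100c105))) (.node (.leaf (nat_lit 0x10032aa)) (.leaf (nat_lit 0xd13a)))) (.node (.node (.leaf (nat_lit 0xa0fb)) (.leaf (nat_lit 0x100b165))) (.node (.leaf (nat_lit 0xb189)) (.leaf (nat_lit 0x0))))) (.node (.node (.node (.leaf (nat_lit 0x6040)) (.leaf (nat_lit 0xa04b))) (.node (.leaf (nat_lit 0x1005070)) (.leaf (nat_lit 0x0)))) (.node (.node (.leaf (nat_lit 0xa0e9)) (.leaf (nat_lit 0xd2b5))) (.node (.leaf (nat_lit 0x21a4)) (.leaf (nat_lit 0x0)))))))) (.node (.node (.node (.node (.node (.node (.leaf (nat_lit 0x5002)) (.leaf (nat_lit 0x302d))) (.node (.leaf (nat_lit 0x1004287)) (.leaf (nat_lit 0x1008237)))) (.node (.node (.leaf (nat_lit 0x1002339)) (.leaf (nat_lit 0x12a3))) (.node (.leaf (nat_lit 0x814e)) (.leaf (nat_lit 0x0))))) (.node (.node (.node (.leaf (nat_lit 0x10030fe)) (.leaf (nat_lit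 0xca))) (.node (.leaf (nat_lit 0x1006014)) (.leaf (nat_lit 0x240)))) (.node (.node (.leaf (nat_lit 0x1002281)) (.leaf (nat_lit 0x71ea))) (.node (.leaf (nat_lit 0x10031b4)) (.leaf (nat_lit 0x0)))))) (.node (.node (.node (.node (.leaf (nat_lit 0xf144)) (.leaf (nat_lit 0x42))) (.node (.leaf (nat_lit 0x3017)) (.leaf (nat_lit 0x8172)))) (.node (.node (.leaf (nat_lit 0x820e)) (.leaf (nat_lit 0x1208))) (.node (.leaf (nat_lit 0x10052a4)) (.leaf (nat_lit 0x0))))) (.node (.node (.node (.leaf (nat_lit 0xc102)) (.leaf (nat_lit 0x1007289))) (.node (.leaf (nat_lit 0x100504c)) (.leaf (nat_lit 0x0)))) (.node (.node (.leaf (nat_lit 0x1199)) (.leaf (nat_lit 0x9167))) (.node (.leaf (nat_lit 0x3052)) (.leaf (nat_lit 0x0))))))) (.node (.node (.node (.node (.node (.leaf (nat_lit 0x50fd)) (.leaf (nat_lit 0x702c))) (.node (.leaf (nat_lit 0x720e)) (.leaf (nat_lit 0x10042a6)))) (.node (.node (.leaf (nat_lit 0x1001001)) (.leaf (nat_lit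 0xe18a))) (.node (.leaf (nat_lit 0x1004295)) (.leaf (nat_lit 0x0))))) (.node (.node (.node (.leaf (nat_lit 0x10032b5)) (.leaf (nat_lit 0x914d))) (.node (.leaf (nat_lit 0x10060f6)) (.leaf (nat_lit 0x0)))) (.node (.node (.leaf (nat_lit 0x4333)) (.leaf (nat_lit 0xc9))) (.node (.leaf (nat_lit 0xa047)) (.leaf (nat_lit 0x0)))))) (.node (.node (.node (.node (.leaf (nat_lit 0x100210e)) (.leaf (nat_lit 0x1005109))) (.node (.leaf (nat_lit 0x10090dd)) (.leaf (nat_lit 0x9069)))) (.node (.node (.leaf (nat_lit 0xc2b2)) (.leaf (nat_lit 0x100f16f))) (.node (.leaf (nat_lit 0x7116)) (.leaf (nat_lit 0x0))))) (.node (.node (.node (.leaf (nat_lit 0x7214)) (.leaf (nat_lit 0xa21b))) (.node (.leaf (nat_lit 0xc157)) (.leaf (nat_lit 0x0)))) (.node (.node (.leaf (nat_lit 0x100a29a)) (.leaf (nat_lit 0x61fa))) (.node (.leaf (nat_lit 0x100902d)) (.leaf (nat_lit 0x0))))))))) (.node (.node (.node (.node (.node (.node (.node (.leaf (nat_lit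 0x2339)) (.leaf (nat_lit 0x7149))) (.node (.leaf (nat_lit 0x100a113)) (.leaf (nat_lit 0x100a23d)))) (.node (.node (.leaf (nat_lit 0x198)) (.leaf (nat_lit 0x100707f))) (.node (.leaf (nat_lit 0x1003072)) (.leaf (nat_lit 0x0))))) (.node (.node (.node (.leaf (nat_lit 0x100606c)) (.leaf (nat_lit 0xa0b2))) (.node (.leaf (nat_lit 0x1000100)) (.leaf (nat_lit 0x100714d)))) (.node (.node (.leaf (nat_lit 0x62b2)) (.leaf (nat_lit 0x10031b1))) (.node (.leaf (nat_lit 0x41)) (.leaf (nat_lit 0x0)))))) (.node (.node (.node (.node (.leaf (nat_lit 0x1005004)) (.leaf (nat_lit 0x1001200))) (.node (.leaf (nat_lit 0x100b10c)) (.leaf (nat_lit 0x507b)))) (.node (.node (.leaf (nat_lit 0x70d0)) (.leaf (nat_lit 0x1006220))) (.node (.leaf (nat_lit 0x628c)) (.leaf (nat_lit 0x0))))) (.node (.node (.node (.leaf (nat_lit 0x70bd)) (.leaf (nat_lit 0x100e160))) (.node (.leaf (nat_lit 0x100c0fc)) (.leaf (nat_lit 0x0)))) (.node (.node (.leaf (nat_lit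 0x1069)) (.leaf (nat_lit 0x3068))) (.node (.leaf (nat_lit 0x4066)) (.leaf (nat_lit 0x0))))))) (.node (.node (.node (.node (.node (.leaf (nat_lit 0x120e)) (.leaf (nat_lit 0x272))) (.node (.leaf (nat_lit 0x1007112)) (.leaf (nat_lit 0x213c)))) (.node (.node (.leaf (nat_lit 0x514e)) (.leaf (nat_lit 0x21bc))) (.node (.leaf (nat_lit 0x1e199)) (.leaf (nat_lit 0x0))))) (.node (.node (.node (.leaf (nat_lit 0x3063)) (.leaf (nat_lit 0x10080db))) (.node (.leaf (nat_lit 0xb112)) (.leaf (nat_lit 0x10012df)))) (.node (.node (.leaf (nat_lit 0x21a8)) (.leaf (nat_lit 0x100b031))) (.node (.leaf (nat_lit 0xc0f9)) (.leaf (nat_lit 0x0)))))) (.node (.node (.node (.node (.leaf (nat_lit 0xd2b2)) (.leaf (nat_lit 0x100a112))) (.node (.leaf (nat_lit 0x40e2)) (.leaf (nat_lit 0x100e)))) (.node (.node (.leaf (nat_lit 0x7107)) (.leaf (nat_lit 0x100c2b4))) (.node (.leaf (nat_lit 0x1002294)) (.leaf (nat_lit 0x0))))) (.node (.node (.node (.leaf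 (nat_lit 0x90d5)) (.leaf (nat_lit 0x100707e))) (.node (.leaf (nat_lit 0x206b)) (.leaf (nat_lit 0x0)))) (.node (.node (.leaf (nat_lit 0xb0ee)) (.leaf (nat_lit 0x5033))) (.node (.leaf (nat_lit 0x10041cb)) (.leaf (nat_lit 0x0)))))))) (.node (.node (.node (.node (.node (.node (.leaf (nat_lit 0x6062)) (.leaf (nat_lit 0x520b))) (.node (.leaf (nat_lit 0x10021c2)) (.leaf (nat_lit 0x100807b)))) (.node (.node (.leaf (nat_lit 0x1009029)) (.leaf (nat_lit 0xb0b8))) (.node (.leaf (nat_lit 0x1000072)) (.leaf (nat_lit 0x0))))) (.node (.node (.node (.leaf (nat_lit 0xb07b)) (.leaf (nat_lit 0xc0ec))) (.node (.leaf (nat_lit 0x40ea)) (.leaf (nat_lit 0xa174)))) (.node (.node (.leaf (nat_lit 0x100a2b2)) (.leaf (nat_lit 0x10032b0))) (.node (.leaf (nat_lit 0x10060e6)) (.leaf (nat_lit 0x0)))))) (.node (.node (.node (.node (.leaf (nat_lit 0x1004201)) (.leaf (nat_lit 0x7c))) (.node (.leaf (nat_lit 0x60fe)) (.leaf (nat_lit 0x711b)))) (.node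 (.node (.leaf (nat_lit 0x100710c)) (.leaf (nat_lit 0x100a20e))) (.node (.leaf (nat_lit 0xf157)) (.leaf (nat_lit 0x0))))) (.node (.node (.node (.leaf (nat_lit 0x3280)) (.leaf (nat_lit 0x100702b))) (.node (.leaf (nat_lit 0x2220)) (.leaf (nat_lit 0x0)))) (.node (.node (.leaf (nat_lit 0x3022)) (.leaf (nat_lit 0x1004084))) (.node (.leaf (nat_lit 0x10022a4)) (.leaf (nat_lit 0x0))))))) (.node (.node (.node (.node (.node (.leaf (nat_lit 0x7198)) (.leaf (nat_lit 0x1006280))) (.node (.leaf (nat_lit 0x100c107)) (.leaf (nat_lit 0x2034)))) (.node (.node (.leaf (nat_lit 0x210e)) (.leaf (nat_lit 0x10050f3))) (.node (.leaf (nat_lit 0x32a8)) (.leaf (nat_lit 0x0))))) (.node (.node (.node (.leaf (nat_lit 0x100c285)) (.leaf (nat_lit 0x100d))) (.node (.leaf (nat_lit 0x10041cc)) (.leaf (nat_lit 0x0)))) (.node (.node (.leaf (nat_lit 0xc29e)) (.leaf (nat_lit 0xb169))) (.node (.leaf (nat_lit 0x1003205)) (.leaf (nat_lit 0x0)))))) (.node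 (.node (.node (.node (.leaf (nat_lit 0x6212)) (.leaf (nat_lit 0x6072))) (.node (.leaf (nat_lit 0x229b)) (.leaf (nat_lit 0x509d)))) (.node (.node (.leaf (nat_lit 0x3018)) (.leaf (nat_lit 0x1008079))) (.node (.leaf (nat_lit 0xf1)) (.leaf (nat_lit 0x0))))) (.node (.node (.node (.leaf (nat_lit 0x1112)) (.leaf (nat_lit 0x21f2))) (.node (.leaf (nat_lit 0x1009068)) (.leaf (nat_lit 0x0)))) (.node (.node (.leaf (nat_lit 0x100329b)) (.leaf (nat_lit 0xe163))) (.node (.leaf (nat_lit 0x5041)) (.leaf (nat_lit 0x0)))))))))) (.node (.node (.node (.node (.node (.node (.node (.node (.leaf (nat_lit 0x33b)) (.leaf (nat_lit 0x100a074))) (.node (.leaf (nat_lit 0x51be)) (.leaf (nat_lit 0xc179)))) (.node (.node (.leaf (nat_lit 0x700c)) (.leaf (nat_lit 0x10092a1))) (.node (.leaf (nat_lit 0xc285)) (.leaf (nat_lit 0x0))))) (.node (.node (.node (.leaf (nat_lit 0x521f)) (.leaf (nat_lit 0x1e1))) (.node (.leaf (nat_lit 0x4016)) (.leaf (nat_lit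 0x1004112)))) (.node (.node (.leaf (nat_lit 0x5268)) (.leaf (nat_lit 0xb04e))) (.node (.leaf (nat_lit 0x10080fa)) (.leaf (nat_lit 0x0)))))) (.node (.node (.node (.node (.leaf (nat_lit 0x90fe)) (.leaf (nat_lit 0xed))) (.node (.leaf (nat_lit 0x10072a4)) (.leaf (nat_lit 0x101c199)))) (.node (.node (.leaf (nat_lit 0x9072)) (.leaf (nat_lit 0x10041fd))) (.node (.leaf (nat_lit 0x100b0e2)) (.leaf (nat_lit 0x0))))) (.node (.node (.node (.leaf (nat_lit 0x100b2b2)) (.leaf (nat_lit 0xe137))) (.node (.leaf (nat_lit 0x100b042)) (.leaf (nat_lit 0x0)))) (.node (.node (.leaf (nat_lit 0x901f)) (.leaf (nat_lit 0xa139))) (.node (.leaf (nat_lit 0x4208)) (.leaf (nat_lit 0x0))))))) (.node (.node (.node (.node (.node (.leaf (nat_lit 0x7006)) (.leaf (nat_lit 0x1000157))) (.node (.leaf (nat_lit 0x1008111)) (.leaf (nat_lit 0x7189)))) (.node (.node (.leaf (nat_lit 0x100520b)) (.leaf (nat_lit 0x100c271))) (.node (.leaf (nat_lit 0x100b0fe))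 (.leaf (nat_lit 0x0))))) (.node (.node (.node (.leaf (nat_lit 0x927d)) (.leaf (nat_lit 0x926f))) (.node (.leaf (nat_lit 0x602e)) (.leaf (nat_lit 0xd266)))) (.node (.node (.leaf (nat_lit 0x8214)) (.leaf (nat_lit 0x8138))) (.node (.leaf (nat_lit 0x1001290)) (.leaf (nat_lit 0x0)))))) (.node (.node (.node (.node (.leaf (nat_lit 0x70d7)) (.leaf (nat_lit 0x100120d))) (.node (.leaf (nat_lit 0x514d)) (.leaf (nat_lit 0x7286)))) (.node (.node (.leaf (nat_lit 0x10fa)) (.leaf (nat_lit 0xb09b))) (.node (.leaf (nat_lit 0x7097)) (.leaf (nat_lit 0x0))))) (.node (.node (.node (.leaf (nat_lit 0x6044)) (.leaf (nat_lit 0x5169))) (.node (.leaf (nat_lit 0x4d)) (.leaf (nat_lit 0x0)))) (.node (.node (.leaf (nat_lit 0x5270)) (.leaf (nat_lit 0xc0e2))) (.node (.leaf (nat_lit 0x1005249)) (.leaf (nat_lit 0x0)))))))) (.node (.node (.node (.node (.node (.node (.leaf (nat_lit 0x333a)) (.leaf (nat_lit 0x21d))) (.node (.leaf (nat_lit 0x11e3))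 (.leaf (nat_lit 0x10071eb)))) (.node (.node (.leaf (nat_lit 0x52aa)) (.leaf (nat_lit 0x5076))) (.node (.leaf (nat_lit 0x10041af)) (.leaf (nat_lit 0x0))))) (.node (.node (.node (.leaf (nat_lit 0x300d)) (.leaf (nat_lit 0x404e))) (.node (.leaf (nat_lit 0x929e)) (.leaf (nat_lit 0x805b)))) (.node (.node (.leaf (nat_lit 0x10080ee)) (.leaf (nat_lit 0x100427c))) (.node (.leaf (nat_lit 0x3160)) (.leaf (nat_lit 0x0)))))) (.node (.node (.node (.node (.leaf (nat_lit 0x100927c)) (.leaf (nat_lit 0x100b10f))) (.node (.leaf (nat_lit 0x3037)) (.leaf (nat_lit 0x5047)))) (.node (.node (.leaf (nat_lit 0x70d4)) (.leaf (nat_lit 0x100c2a4))) (.node (.leaf (nat_lit 0x100320c)) (.leaf (nat_lit 0x0))))) (.node (.node (.node (.leaf (nat_lit 0x10ad)) (.leaf (nat_lit 0x100b10e))) (.node (.leaf (nat_lit 0xa167)) (.leaf (nat_lit 0x0)))) (.node (.node (.leaf (nat_lit 0x5112)) (.leaf (nat_lit 0x60e0))) (.node (.leaf (nat_lit 0x100b292)) (.leaf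 (nat_lit 0x0))))))) (.node (.node (.node (.node (.node (.leaf (nat_lit 0xd25c)) (.leaf (nat_lit 0x10051c7))) (.node (.leaf (nat_lit 0x10072ac)) (.leaf (nat_lit 0x10a)))) (.node (.node (.leaf (nat_lit 0x100520a)) (.leaf (nat_lit 0x10020d6))) (.node (.leaf (nat_lit 0x1002114)) (.leaf (nat_lit 0x0))))) (.node (.node (.node (.leaf (nat_lit 0x10021ae)) (.leaf (nat_lit 0xa0))) (.node (.leaf (nat_lit 0x336)) (.leaf (nat_lit 0x0)))) (.node (.node (.leaf (nat_lit 0x90cb)) (.leaf (nat_lit 0x90bd))) (.node (.leaf (nat_lit 0x1027337)) (.leaf (nat_lit 0x0)))))) (.node (.node (.node (.node (.leaf (nat_lit 0x1008198)) (.leaf (nat_lit 0x603e))) (.node (.leaf (nat_lit 0xa044)) (.leaf (nat_lit 0x9136)))) (.node (.node (.leaf (nat_lit 0x100805f)) (.leaf (nat_lit 0x1007157))) (.node (.leaf (nat_lit 0x100b214)) (.leaf (nat_lit 0x0))))) (.node (.node (.node (.leaf (nat_lit 0x212b)) (.leaf (nat_lit 0x313a))) (.node (.leaf (nat_lit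 0x818b)) (.leaf (nat_lit 0x0)))) (.node (.node (.leaf (nat_lit 0x10022a1)) (.leaf (nat_lit 0x100007c))) (.node (.leaf (nat_lit 0x2a2)) (.leaf (nat_lit 0x0))))))))) (.node (.node (.node (.node (.node (.node (.node (.leaf (nat_lit 0x1b5)) (.leaf (nat_lit 0x81b5))) (.node (.leaf (nat_lit 0x21b8)) (.leaf (nat_lit 0x3014)))) (.node (.node (.leaf (nat_lit 0xa07a)) (.leaf (nat_lit 0xd30e))) (.node (.leaf (nat_lit 0x732c)) (.leaf (nat_lit 0x0))))) (.node (.node (.node (.leaf (nat_lit 0xb292)) (.leaf (nat_lit 0x7036))) (.node (.leaf (nat_lit 0x10010ea)) (.leaf (nat_lit 0x828e)))) (.node (.node (.leaf (nat_lit 0x1001194)) (.leaf (nat_lit 0x1007025))) (.node (.leaf (nat_lit 0x68)) (.leaf (nat_lit 0x0)))))) (.node (.node (.node (.node (.leaf (nat_lit 0x100c0e7)) (.leaf (nat_lit 0xc2fe))) (.node (.leaf (nat_lit 0x42d8)) (.leaf (nat_lit 0x9037)))) (.node (.node (.leaf (nat_lit 0x210a)) (.leaf (nat_lit 0x41df))) (.node (.leaf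 (nat_lit 0x4199)) (.leaf (nat_lit 0x0))))) (.node (.node (.node (.leaf (nat_lit 0x1002198)) (.leaf (nat_lit 0x6c))) (.node (.leaf (nat_lit 0x1000083)) (.leaf (nat_lit 0x0)))) (.node (.node (.leaf (nat_lit 0x5042)) (.leaf (nat_lit 0x3177))) (.node (.leaf (nat_lit 0x5032)) (.leaf (nat_lit 0x0))))))) (.node (.node (.node (.node (.node (.leaf (nat_lit 0x1063)) (.leaf (nat_lit 0x2f199))) (.node (.leaf (nat_lit 0x11ae)) (.leaf (nat_lit 0x818e)))) (.node (.node (.leaf (nat_lit 0x706f)) (.leaf (nat_lit 0xf141))) (.node (.leaf (nat_lit 0x100b0f7)) (.leaf (nat_lit 0x0))))) (.node (.node (.node (.leaf (nat_lit 0xa20e)) (.leaf (nat_lit 0x100921b))) (.node (.leaf (nat_lit 0x1000028)) (.leaf (nat_lit 0x830f)))) (.node (.node (.leaf (nat_lit 0x810f)) (.leaf (nat_lit 0xd0d2))) (.node (.leaf (nat_lit 0x100d0f6)) (.leaf (nat_lit 0x0)))))) (.node (.node (.node (.node (.leaf (nat_lit 0x4269)) (.leaf (nat_lit 0xa285))) (.node (.leaf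 (nat_lit 0x20bf)) (.leaf (nat_lit 0x100b25d)))) (.node (.node (.leaf (nat_lit 0x2e)) (.leaf (nat_lit 0x10071fb))) (.node (.leaf (nat_lit 0xd260)) (.leaf (nat_lit 0x0))))) (.node (.node (.node (.leaf (nat_lit 0xa109)) (.leaf (nat_lit 0x10031cb))) (.node (.leaf (nat_lit 0x5208)) (.leaf (nat_lit 0x0)))) (.node (.node (.leaf (nat_lit 0xa27e)) (.leaf (nat_lit 0xc30d))) (.node (.leaf (nat_lit 0x15e)) (.leaf (nat_lit 0x0)))))))) (.node (.node (.node (.node (.node (.node (.leaf (nat_lit 0x100a05f)) (.leaf (nat_lit 0x70de))) (.node (.leaf (nat_lit 0xd083)) (.leaf (nat_lit 0xd153)))) (.node (.node (.leaf (nat_lit 0x7299)) (.leaf (nat_lit 0x913a))) (.node (.leaf (nat_lit 0x80e5)) (.leaf (nat_lit 0x0))))) (.node (.node (.node (.leaf (nat_lit 0x6008)) (.leaf (nat_lit 0x1002288))) (.node (.leaf (nat_lit 0x1004009)) (.leaf (nat_lit 0x9083)))) (.node (.node (.leaf (nat_lit 0x100506d)) (.leaf (nat_lit 0x8188))) (.node (.leaf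 (nat_lit 0x7296)) (.leaf (nat_lit 0x0)))))) (.node (.node (.node (.node (.leaf (nat_lit 0x2042)) (.leaf (nat_lit 0x30bb))) (.node (.leaf (nat_lit 0xa136)) (.leaf (nat_lit 0x604f)))) (.node (.node (.leaf (nat_lit 0x1cb)) (.leaf (nat_lit 0x1007152))) (.node (.leaf (nat_lit 0x11337)) (.leaf (nat_lit 0x0))))) (.node (.node (.node (.leaf (nat_lit 0x229a)) (.leaf (nat_lit 0x100a201))) (.node (.leaf (nat_lit 0x1001289)) (.leaf (nat_lit 0x0)))) (.node (.node (.leaf (nat_lit 0x5078)) (.leaf (nat_lit 0x3330))) (.node (.leaf (nat_lit 0x100028b)) (.leaf (nat_lit 0x0))))))) (.node (.node (.node (.node (.node (.leaf (nat_lit 0x5022)) (.leaf (nat_lit 0xa0f5))) (.node (.leaf (nat_lit 0x10060fe)) (.leaf (nat_lit 0xf2d4)))) (.node (.node (.leaf (nat_lit 0x807a)) (.leaf (nat_lit 0x100a2b1))) (.node (.leaf (nat_lit 0x41ac)) (.leaf (nat_lit 0x0))))) (.node (.node (.node (.leaf (nat_lit 0xa06b)) (.leaf (nat_lit 0x4117))) (.node (.leaf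 (nat_lit 0x100b0e1)) (.leaf (nat_lit 0x0)))) (.node (.node (.leaf (nat_lit 0xa078)) (.leaf (nat_lit 0xb0b3))) (.node (.leaf (nat_lit 0x301f)) (.leaf (nat_lit 0x0)))))) (.node (.node (.node (.node (.leaf (nat_lit 0x1004074)) (.leaf (nat_lit 0x3051))) (.node (.leaf (nat_lit 0x31ad)) (.leaf (nat_lit 0x203)))) (.node (.node (.leaf (nat_lit 0x526f)) (.leaf (nat_lit 0x3213))) (.node (.leaf (nat_lit 0x6279)) (.leaf (nat_lit 0x0))))) (.node (.node (.node (.leaf (nat_lit 0x604a)) (.leaf (nat_lit 0x1003019))) (.node (.leaf (nat_lit 0xc105)) (.leaf (nat_lit 0x0)))) (.node (.node (.leaf (nat_lit 0x82a0)) (.leaf (nat_lit 0x716f))) (.node (.leaf (nat_lit 0x10060f0)) (.leaf (nat_lit 0x0)))))))))))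

end Cfsg.Agent.TcData.HN.I1539000
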