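import Cfsg.Agent.Lib.TcFacts

set_option autoImplicit false
set_option Elab.async false
set_option maxRecDepth 100000
set_option linter.all false

namespace Cfsg.Agent.TcData.HN.I1539000

open Cfsg.Agent.Lib.TcFacts

/-- A part of a table. -/
noncomputable def PH1 : Tr := (.node (.node (.node (.node (.node (.node (.node (.node (.node (.leaf (nat_lit 0x133e)) (.leaf (nat_lit 0x10031de))) (.node (.leaf (nat_lit 0x62ea)) (.leaf (nat_lit 0xa105)))) (.node (.node (.leaf (nat_lit 0xb0fe)) (.leaf (nat_lit 0x3297))) (.node (.leaf (nat_lit 0x100b29a)) (.leaf (nat_lit 0x0))))) (.node (.node (.node (.leaf (nat_lit 0x10050f6)) (.leaf (nat_lit 0x31d3))) (.node (.leaf (nat_lit 0x10031e7)) (.leaf (nat_lit 0x4076)))) (.node (.node (.leaf (nat_lit 0x7027)) (.leaf (nat_lit 0x4300))) (.node (.leaf (nat_lit 0x1000101)) (.leaf (nat_lit 0x0)))))) (.node (.node (.node (.node (.leaf (nat_lit 0x4331)) (.leaf (nat_lit 0xf165))) (.node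 (.leaf (nat_lit 0x801f)) (.leaf (nat_lit 0x22c0)))) (.node (.node (.leaf (nat_lit 0x21ae)) (.leaf (nat_lit 0x1009052))) (.node (.leaf (nat_lit 0x100b28c)) (.leaf (nat_lit 0x0))))) (.node (.node (.node (.leaf (nat_lit 0x7016)) (.leaf (nat_lit 0x1003079))) (.node (.leaf (nat_lit 0x100728e)) (.leaf (nat_lit 0x0)))) (.node (.node (.leaf (nat_lit 0x70df)) (.leaf (nat_lit 0x90c0))) (.node (.leaf (nat_lit 0xc0aa)) (.leaf (nat_lit 0x0))))))) (.node (.node (.node (.node (.node (.leaf (nat_lit 0xd0)) (.leaf (nat_lit 0x42b0))) (.node (.leaf (nat_lit 0xb0e5)) (.leaf (nat_lit 0xb118)))) (.node (.node (.leaf (nat_lit 0x3208)) (.leaf (nat_lit 0x100d10a))) (.node (.leaf (nat_lit 0x102c)) (.leaf (nat_lit 0x0))))) (.node (.node (.node (.leaf (nat_lit 0x6250)) (.leaf (nat_lit 0x100f))) (.node (.leaf (nat_lit 0xa0fa)) (.leaf (nat_lit 0x4072)))) (.node (.node (.leaf (nat_lit 0x100d081)) (.leaf (nat_lit 0x8019))) (.node (.leaf (nat_lit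 0xc0f3)) (.leaf (nat_lit 0x0)))))) (.node (.node (.node (.node (.leaf (nat_lit 0x10080fd)) (.leaf (nat_lit 0x10041a9))) (.node (.leaf (nat_lit 0x8159)) (.leaf (nat_lit 0x9296)))) (.node (.node (.leaf (nat_lit 0x527c)) (.leaf (nat_lit 0xd13e))) (.node (.leaf (nat_lit 0x100d0f2)) (.leaf (nat_lit 0x0))))) (.node (.node (.node (.leaf (nat_lit 0x41e3)) (.leaf (nat_lit 0x10031af))) (.node (.leaf (nat_lit 0x9048)) (.leaf (nat_lit 0x0)))) (.node (.node (.leaf (nat_lit 0xb0)) (.leaf (nat_lit 0x10071de))) (.node (.leaf (nat_lit 0x1a5)) (.leaf (nat_lit 0x0)))))))) (.node (.node (.node (.node (.node (.node (.leaf (nat_lit 0x3002)) (.leaf (nat_lit 0x1005076))) (.node (.leaf (nat_lit 0x10012b0)) (.leaf (nat_lit 0x90ca)))) (.node (.node (.leaf (nat_lit 0x1007010)) (.leaf (nat_lit 0x701d))) (.node (.leaf (nat_lit 0x100c0f8)) (.leaf (nat_lit 0x0))))) (.node (.node (.node (.leaf (nat_lit 0x1007009)) (.leaf (nat_lit 0xa036)))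 (.node (.leaf (nat_lit 0x10021ba)) (.leaf (nat_lit 0x60ad)))) (.node (.node (.leaf (nat_lit 0x107c)) (.leaf (nat_lit 0x3170))) (.node (.leaf (nat_lit 0x401c)) (.leaf (nat_lit 0x0)))))) (.node (.node (.node (.node (.leaf (nat_lit 0xd234)) (.leaf (nat_lit 0xa1e2))) (.node (.leaf (nat_lit 0x910f)) (.leaf (nat_lit 0x401d)))) (.node (.node (.leaf (nat_lit 0x100b110)) (.leaf (nat_lit 0x10040de))) (.node (.leaf (nat_lit 0x100a04f)) (.leaf (nat_lit 0x0))))) (.node (.node (.node (.leaf (nat_lit 0x729a)) (.leaf (nat_lit 0x1007297))) (.node (.leaf (nat_lit 0x100901c)) (.leaf (nat_lit 0x0)))) (.node (.node (.leaf (nat_lit 0x100129a)) (.leaf (nat_lit 0x9168))) (.node (.leaf (nat_lit 0x501c)) (.leaf (nat_lit 0x0))))))) (.node (.node (.node (.node (.node (.leaf (nat_lit 0x301e)) (.leaf (nat_lit 0x1008018))) (.node (.leaf (nat_lit 0x1009281)) (.leaf (nat_lit 0x523a)))) (.node (.node (.leaf (nat_lit 0xe3)) (.leaf (nat_lit 0xd11b)))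 (.node (.leaf (nat_lit 0x9017)) (.leaf (nat_lit 0x0))))) (.node (.node (.node (.leaf (nat_lit 0x805e)) (.leaf (nat_lit 0x914e))) (.node (.leaf (nat_lit 0x10032ad)) (.leaf (nat_lit 0x0)))) (.node (.node (.leaf (nat_lit 0x1007063)) (.leaf (nat_lit 0xd0dc))) (.node (.leaf (nat_lit 0xe156)) (.leaf (nat_lit 0x0)))))) (.node (.node (.node (.node (.leaf (nat_lit 0x100a2af)) (.leaf (nat_lit 0x100a0f5))) (.node (.leaf (nat_lit 0x10090de)) (.leaf (nat_lit 0xb0ae)))) (.node (.node (.leaf (nat_lit 0x100b0fb)) (.leaf (nat_lit 0xd0da))) (.node (.leaf (nat_lit 0x816f)) (.leaf (nat_lit 0x0))))) (.node (.node (.node (.leaf (nat_lit 0x629a)) (.leaf (nat_lit 0x31e1))) (.node (.leaf (nat_lit 0x100a292)) (.leaf (nat_lit 0x0)))) (.node (.node (.leaf (nat_lit 0x1001292)) (.leaf (nat_lit 0xb056))) (.node (.leaf (nat_lit 0x100f13a)) (.leaf (nat_lit 0x0))))))))) (.node (.node (.node (.node (.node (.node (.node (.leaf (nat_lit 0x1339))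 (.leaf (nat_lit 0x5213))) (.node (.leaf (nat_lit 0xd0eb)) (.leaf (nat_lit 0x3089)))) (.node (.node (.leaf (nat_lit 0xa03d)) (.leaf (nat_lit 0x1000074))) (.node (.leaf (nat_lit 0x100920b)) (.leaf (nat_lit 0x0))))) (.node (.node (.node (.leaf (nat_lit 0x100a078)) (.leaf (nat_lit 0x8166))) (.node (.leaf (nat_lit 0x6016)) (.leaf (nat_lit 0x5115)))) (.node (.node (.leaf (nat_lit 0x100229b)) (.leaf (nat_lit 0x10011ac))) (.node (.leaf (nat_lit 0xa1e3)) (.leaf (nat_lit 0x0)))))) (.node (.node (.node (.node (.leaf (nat_lit 0x6198)) (.leaf (nat_lit 0x1004290))) (.node (.leaf (nat_lit 0x10011e1)) (.leaf (nat_lit 0x206a)))) (.node (.node (.leaf (nat_lit 0x2295)) (.leaf (nat_lit 0xa030))) (.node (.leaf (nat_lit 0xb28e)) (.leaf (nat_lit 0x0))))) (.node (.node (.node (.leaf (nat_lit 0x717d)) (.leaf (nat_lit 0x601a))) (.node (.leaf (nat_lit 0x100c0f1)) (.leaf (nat_lit 0x0)))) (.node (.node (.leaf (nat_lit 0x1066)) (.leaf (nat_lit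 0x409a))) (.node (.leaf (nat_lit 0x321d)) (.leaf (nat_lit 0x0))))))) (.node (.node (.node (.node (.node (.leaf (nat_lit 0x907e)) (.leaf (nat_lit 0x100528f))) (.node (.leaf (nat_lit 0x100b077)) (.leaf (nat_lit 0x81b8)))) (.node (.node (.leaf (nat_lit 0x10030fc)) (.leaf (nat_lit 0x31de))) (.node (.leaf (nat_lit 0x5111)) (.leaf (nat_lit 0x0))))) (.node (.node (.node (.leaf (nat_lit 0x1005003)) (.leaf (nat_lit 0x10080dc))) (.node (.leaf (nat_lit 0x3336)) (.leaf (nat_lit 0xc2b1)))) (.node (.node (.leaf (nat_lit 0xd272)) (.leaf (nat_lit 0x11ea))) (.node (.leaf (nat_lit 0x100120b)) (.leaf (nat_lit 0x0)))))) (.node (.node (.node (.node (.leaf (nat_lit 0x100629e)) (.leaf (nat_lit 0x100a069))) (.node (.leaf (nat_lit 0x100700e)) (.leaf (nat_lit 0x10061fd)))) (.node (.node (.leaf (nat_lit 0x6027)) (.leaf (nat_lit 0x100a1d1))) (.node (.leaf (nat_lit 0x9336)) (.leaf (nat_lit 0x0))))) (.node (.node (.node (.leaf (nat_lit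 0x106d)) (.leaf (nat_lit 0x100404a))) (.node (.leaf (nat_lit 0x410d)) (.leaf (nat_lit 0x0)))) (.node (.node (.leaf (nat_lit 0x51a7)) (.leaf (nat_lit 0x5016))) (.node (.leaf (nat_lit 0xd0d3)) (.leaf (nat_lit 0x0)))))))) (.node (.node (.node (.node (.node (.node (.leaf (nat_lit 0xc198)) (.leaf (nat_lit 0x100001b))) (.node (.leaf (nat_lit 0x15)) (.leaf (nat_lit 0x920c)))) (.node (.node (.leaf (nat_lit 0x11c8)) (.leaf (nat_lit 0x90a9))) (.node (.leaf (nat_lit 0x50e5)) (.leaf (nat_lit 0x0))))) (.node (.node (.node (.leaf (nat_lit 0x10070f3)) (.leaf (nat_lit 0x3104))) (.node (.leaf (nat_lit 0x62b4)) (.leaf (nat_lit 0x1005104)))) (.node (.node (.leaf (nat_lit 0xe115)) (.leaf (nat_lit 0x10040f1))) (.node (.leaf (nat_lit 0xb1f5)) (.leaf (nat_lit 0x0)))))) (.node (.node (.node (.node (.leaf (nat_lit 0x100420a)) (.leaf (nat_lit 0x30f0))) (.node (.leaf (nat_lit 0x100b07a)) (.leaf (nat_lit 0x932d)))) (.node (.node (.leaf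 (nat_lit 0x1000273)) (.leaf (nat_lit 0x10011ea))) (.node (.leaf (nat_lit 0x10000ee)) (.leaf (nat_lit 0x0))))) (.node (.node (.node (.leaf (nat_lit 0xb2fe)) (.leaf (nat_lit 0x1002046))) (.node (.leaf (nat_lit 0xa049)) (.leaf (nat_lit 0x0)))) (.node (.node (.leaf (nat_lit 0x10001fc)) (.leaf (nat_lit 0x1001077))) (.node (.leaf (nat_lit 0x10012b2)) (.leaf (nat_lit 0x0))))))) (.node (.node (.node (.node (.node (.leaf (nat_lit 0x61a7)) (.leaf (nat_lit 0x10080e6))) (.node (.leaf (nat_lit 0x10021aa)) (.leaf (nat_lit 0x10022a8)))) (.node (.node (.leaf (nat_lit 0xd294)) (.leaf (nat_lit 0xa282))) (.node (.leaf (nat_lit 0x100c0e9)) (.leaf (nat_lit 0x0))))) (.node (.node (.node (.leaf (nat_lit 0x100d2aa)) (.leaf (nat_lit 0x71a5))) (.node (.leaf (nat_lit 0xa106)) (.leaf (nat_lit 0x0)))) (.node (.node (.leaf (nat_lit 0x90ab)) (.leaf (nat_lit 0x10031ca))) (.node (.leaf (nat_lit 0x22fe)) (.leaf (nat_lit 0x0)))))) (.node (.node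 (.node (.node (.leaf (nat_lit 0x2a)) (.leaf (nat_lit 0x51ae))) (.node (.leaf (nat_lit 0x1004208)) (.leaf (nat_lit 0x1002117)))) (.node (.node (.leaf (nat_lit 0x10090fe)) (.leaf (nat_lit 0xd151))) (.node (.leaf (nat_lit 0x60e7)) (.leaf (nat_lit 0x0))))) (.node (.node (.node (.leaf (nat_lit 0x22aa)) (.leaf (nat_lit 0x10ff))) (.node (.leaf (nat_lit 0x604b)) (.leaf (nat_lit 0x0)))) (.node (.node (.leaf (nat_lit 0x1000027)) (.leaf (nat_lit 0x10061c3))) (.node (.leaf (nat_lit 0x100b294)) (.leaf (nat_lit 0x0)))))))))) (.node (.node (.node (.node (.node (.node (.node (.node (.leaf (nat_lit 0x1)) (.leaf (nat_lit 0x1009293))) (.node (.leaf (nat_lit 0x51bf)) (.leaf (nat_lit 0x100a066)))) (.node (.node (.leaf (nat_lit 0x41ad)) (.leaf (nat_lit 0x31ca))) (.node (.leaf (nat_lit 0x60f0)) (.leaf (nat_lit 0x0))))) (.node (.node (.node (.leaf (nat_lit 0x5217)) (.leaf (nat_lit 0x5068))) (.node (.leaf (nat_lit 0xa0e8)) (.leaf (nat_lit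 0x10000bb)))) (.node (.node (.leaf (nat_lit 0xf2d0)) (.leaf (nat_lit 0x1007217))) (.node (.leaf (nat_lit 0x2075)) (.leaf (nat_lit 0x0)))))) (.node (.node (.node (.node (.leaf (nat_lit 0x10e3)) (.leaf (nat_lit 0x30e7))) (.node (.leaf (nat_lit 0x10011ed)) (.leaf (nat_lit 0xa207)))) (.node (.node (.leaf (nat_lit 0x320c)) (.leaf (nat_lit 0x304f))) (.node (.leaf (nat_lit 0x707b)) (.leaf (nat_lit 0x0))))) (.node (.node (.node (.leaf (nat_lit 0x1003114)) (.leaf (nat_lit 0x1004030))) (.node (.leaf (nat_lit 0x1005203)) (.leaf (nat_lit 0x0)))) (.node (.node (.leaf (nat_lit 0x528e)) (.leaf (nat_lit 0x1009034))) (.node (.leaf (nat_lit 0x721a)) (.leaf (nat_lit 0x0))))))) (.node (.node (.node (.node (.node (.leaf (nat_lit 0xd082)) (.leaf (nat_lit 0xd0ec))) (.node (.leaf (nat_lit 0x10022ad)) (.leaf (nat_lit 0x100125e)))) (.node (.node (.leaf (nat_lit 0x100b072)) (.leaf (nat_lit 0x280))) (.node (.leaf (nat_lit 0x100c2aa))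 (.leaf (nat_lit 0x0))))) (.node (.node (.node (.leaf (nat_lit 0xa0e0)) (.leaf (nat_lit 0xc16f))) (.node (.leaf (nat_lit 0x602f)) (.leaf (nat_lit 0x30b5)))) (.node (.node (.leaf (nat_lit 0x100b274)) (.leaf (nat_lit 0x1003018))) (.node (.leaf (nat_lit 0x1004018)) (.leaf (nat_lit 0x0)))))) (.node (.node (.node (.node (.leaf (nat_lit 0x70d8)) (.leaf (nat_lit 0x1001207))) (.node (.leaf (nat_lit 0xdc)) (.leaf (nat_lit 0x71e7)))) (.node (.node (.leaf (nat_lit 0x1009201)) (.leaf (nat_lit 0x403f))) (.node (.leaf (nat_lit 0x7098)) (.leaf (nat_lit 0x0))))) (.node (.node (.node (.leaf (nat_lit 0x427f)) (.leaf (nat_lit 0x1c6))) (.node (.leaf (nat_lit 0xa1e8)) (.leaf (nat_lit 0x0)))) (.node (.node (.leaf (nat_lit 0xd6)) (.leaf (nat_lit 0x90cf))) (.node (.leaf (nat_lit 0x10070af)) (.leaf (nat_lit 0x0)))))))) (.node (.node (.node (.node (.node (.node (.leaf (nat_lit 0x10c9)) (.leaf (nat_lit 0x100010f))) (.node (.leaf (nat_lit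 0x1002298)) (.leaf (nat_lit 0x24199)))) (.node (.node (.leaf (nat_lit 0x40f4)) (.leaf (nat_lit 0x52a2))) (.node (.leaf (nat_lit 0x821d)) (.leaf (nat_lit 0x0))))) (.node (.node (.node (.leaf (nat_lit 0x9214)) (.leaf (nat_lit 0x1005034))) (.node (.leaf (nat_lit 0x4107)) (.leaf (nat_lit 0x4157)))) (.node (.node (.leaf (nat_lit 0x10070fc)) (.leaf (nat_lit 0x100221a))) (.node (.leaf (nat_lit 0x1000029)) (.leaf (nat_lit 0x0)))))) (.node (.node (.node (.node (.leaf (nat_lit 0x100927f)) (.leaf (nat_lit 0x8093))) (.node (.leaf (nat_lit 0x6290)) (.leaf (nat_lit 0x6204)))) (.node (.node (.leaf (nat_lit 0x10062ad)) (.leaf (nat_lit 0x1000041))) (.node (.leaf (nat_lit 0x1007006)) (.leaf (nat_lit 0x0))))) (.node (.node (.node (.leaf (nat_lit 0x5024)) (.leaf (nat_lit 0x1004319))) (.node (.leaf (nat_lit 0x100205f)) (.leaf (nat_lit 0x0)))) (.node (.node (.leaf (nat_lit 0x1001063)) (.leaf (nat_lit 0xd29f))) (.node (.leaf (nat_lit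 0xb213)) (.leaf (nat_lit 0x0))))))) (.node (.node (.node (.node (.node (.leaf (nat_lit 0x9066)) (.leaf (nat_lit 0x10051c8))) (.node (.leaf (nat_lit 0xc083)) (.leaf (nat_lit 0x21c7)))) (.node (.node (.leaf (nat_lit 0x1008336)) (.leaf (nat_lit 0x100802a))) (.node (.leaf (nat_lit 0x10012aa)) (.leaf (nat_lit 0x0))))) (.node (.node (.node (.leaf (nat_lit 0x4082)) (.leaf (nat_lit 0x11df))) (.node (.leaf (nat_lit 0x100228f)) (.leaf (nat_lit 0x0)))) (.node (.node (.leaf (nat_lit 0x1007290)) (.leaf (nat_lit 0x100d118))) (.node (.leaf (nat_lit 0x1004099)) (.leaf (nat_lit 0x0)))))) (.node (.node (.node (.node (.leaf (nat_lit 0x100528e)) (.leaf (nat_lit 0xe2fd))) (.node (.leaf (nat_lit 0x9054)) (.leaf (nat_lit 0x72cf)))) (.node (.node (.leaf (nat_lit 0x801c)) (.leaf (nat_lit 0x7054))) (.node (.leaf (nat_lit 0x100807a)) (.leaf (nat_lit 0x0))))) (.node (.node (.node (.leaf (nat_lit 0x90b3)) (.leaf (nat_lit 0xb0f0))) (.node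 (.leaf (nat_lit 0x6298)) (.leaf (nat_lit 0x0)))) (.node (.node (.leaf (nat_lit 0x400b)) (.leaf (nat_lit 0x70a1))) (.node (.leaf (nat_lit 0x100f137)) (.leaf (nat_lit 0x0))))))))) (.node (.node (.node (.node (.node (.node (.node (.leaf (nat_lit 0x3004)) (.leaf (nat_lit 0xc0f5))) (.node (.leaf (nat_lit 0x51b2)) (.leaf (nat_lit 0x10010e6)))) (.node (.node (.leaf (nat_lit 0x720d)) (.leaf (nat_lit 0x81e5))) (.node (.leaf (nat_lit 0xb1cf)) (.leaf (nat_lit 0x0))))) (.node (.node (.node (.leaf (nat_lit 0xa290)) (.leaf (nat_lit 0x50eb))) (.node (.leaf (nat_lit 0x10002a9)) (.leaf (nat_lit 0x90e1)))) (.node (.node (.leaf (nat_lit 0x100000e)) (.leaf (nat_lit 0x30f8))) (.node (.leaf (nat_lit 0x100320e)) (.leaf (nat_lit 0x0)))))) (.node (.node (.node (.node (.leaf (nat_lit 0x100b299)) (.leaf (nat_lit 0x100910a))) (.node (.leaf (nat_lit 0x10052d6)) (.leaf (nat_lit 0x3293)))) (.node (.node (.leaf (nat_lit 0x60e9)) (.leaf (nat_lit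 0xf173))) (.node (.leaf (nat_lit 0x100310c)) (.leaf (nat_lit 0x0))))) (.node (.node (.node (.leaf (nat_lit 0x1003195)) (.leaf (nat_lit 0x3201))) (.node (.leaf (nat_lit 0x100021c)) (.leaf (nat_lit 0x0)))) (.node (.node (.leaf (nat_lit 0x928b)) (.leaf (nat_lit 0xa0bf))) (.node (.leaf (nat_lit 0x10011b1)) (.leaf (nat_lit 0x0))))))) (.node (.node (.node (.node (.node (.leaf (nat_lit 0xa071)) (.leaf (nat_lit 0x1217))) (.node (.leaf (nat_lit 0x8294)) (.leaf (nat_lit 0x100a2d5)))) (.node (.node (.leaf (nat_lit 0x3067)) (.leaf (nat_lit 0xf163))) (.node (.leaf (nat_lit 0x10082b2)) (.leaf (nat_lit 0x0))))) (.node (.node (.node (.leaf (nat_lit 0x1004082)) (.leaf (nat_lit 0x801d))) (.node (.leaf (nat_lit 0x9067)) (.leaf (nat_lit 0x1004337)))) (.node (.node (.leaf (nat_lit 0x8089)) (.leaf (nat_lit 0x10030ff))) (.node (.leaf (nat_lit 0x71c2)) (.leaf (nat_lit 0x0)))))) (.node (.node (.node (.node (.leaf (nat_lit 0x9063))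 (.leaf (nat_lit 0xf2fc))) (.node (.leaf (nat_lit 0x100c336)) (.leaf (nat_lit 0x15337)))) (.node (.node (.leaf (nat_lit 0x81ca)) (.leaf (nat_lit 0x1009077))) (.node (.leaf (nat_lit 0x8145)) (.leaf (nat_lit 0x0))))) (.node (.node (.node (.leaf (nat_lit 0x10020fc)) (.leaf (nat_lit 0x6056))) (.node (.leaf (nat_lit 0x5204)) (.leaf (nat_lit 0x0)))) (.node (.node (.leaf (nat_lit 0xb0db)) (.leaf (nat_lit 0x90c5))) (.node (.leaf (nat_lit 0x30a3)) (.leaf (nat_lit 0x0)))))))) (.node (.node (.node (.node (.node (.node (.leaf (nat_lit 0x19f)) (.leaf (nat_lit 0x70e1))) (.node (.leaf (nat_lit 0x1003336)) (.leaf (nat_lit 0x1006219)))) (.node (.node (.leaf (nat_lit 0x4290)) (.leaf (nat_lit 0x2082))) (.node (.leaf (nat_lit 0xb10f)) (.leaf (nat_lit 0x0))))) (.node (.node (.node (.leaf (nat_lit 0x4)) (.leaf (nat_lit 0xb033))) (.node (.leaf (nat_lit 0x1000333)) (.leaf (nat_lit 0x9085)))) (.node (.node (.leaf (nat_lit 0xb066)) (.leaf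 (nat_lit 0x100b205))) (.node (.leaf (nat_lit 0x10061ac)) (.leaf (nat_lit 0x0)))))) (.node (.node (.node (.node (.leaf (nat_lit 0x8102)) (.leaf (nat_lit 0x9021))) (.node (.leaf (nat_lit 0xa0ee)) (.leaf (nat_lit 0x1e7)))) (.node (.node (.leaf (nat_lit 0x310c)) (.leaf (nat_lit 0x426f))) (.node (.leaf (nat_lit 0x31e9)) (.leaf (nat_lit 0x0))))) (.node (.node (.node (.leaf (nat_lit 0x30f3)) (.leaf (nat_lit 0x10000f9))) (.node (.leaf (nat_lit 0x10051e8)) (.leaf (nat_lit 0x0)))) (.node (.node (.leaf (nat_lit 0x91b9)) (.leaf (nat_lit 0x5048))) (.node (.leaf (nat_lit 0x10020f0)) (.leaf (nat_lit 0x0))))))) (.node (.node (.node (.node (.node (.leaf (nat_lit 0x4010)) (.leaf (nat_lit 0x325e))) (.node (.leaf (nat_lit 0x100829e)) (.leaf (nat_lit 0xa0b9)))) (.node (.node (.leaf (nat_lit 0x50f8)) (.leaf (nat_lit 0x100b044))) (.node (.leaf (nat_lit 0x82a2)) (.leaf (nat_lit 0x0))))) (.node (.node (.node (.leaf (nat_lit 0x604e))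 (.leaf (nat_lit 0x2163))) (.node (.leaf (nat_lit 0xb0e6)) (.leaf (nat_lit 0x0)))) (.node (.node (.leaf (nat_lit 0x1003198)) (.leaf (nat_lit 0x72a6))) (.node (.leaf (nat_lit 0x7052)) (.leaf (nat_lit 0x0)))))) (.node (.node (.node (.node (.leaf (nat_lit 0x100121a)) (.leaf (nat_lit 0x1000064))) (.node (.leaf (nat_lit 0x802a)) (.leaf (nat_lit 0x620b)))) (.node (.node (.leaf (nat_lit 0x104c)) (.leaf (nat_lit 0xb07f))) (.node (.leaf (nat_lit 0x627a)) (.leaf (nat_lit 0x0))))) (.node (.node (.node (.leaf (nat_lit 0x41ed)) (.leaf (nat_lit 0x10011b2))) (.node (.leaf (nat_lit 0x1000193)) (.leaf (nat_lit 0x0)))) (.node (.node (.leaf (nat_lit 0x1000288)) (.leaf (nat_lit 0x4027))) (.node (.leaf (nat_lit 0x1005280)) (.leaf (nat_lit 0x0)))))))))))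

end Cfsg.Agent.TcData.HN.I1539000
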