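import Cfsg.Agent.Lib.TcFacts

set_option autoImplicit false
set_option Elab.async false
set_option maxRecDepth 100000
set_option linter.all false

namespace Cfsg.Agent.TcData.HN.I1539000

open Cfsg.Agent.Lib.TcFacts

/-- A part of a table. -/
noncomputable def PH10 : Tr := (.node (.node (.node (.node (.node (.node (.node (.node (.node (.leaf (nat_lit 0x1a2)) (.leaf (nat_lit 0x8308))) (.node (.leaf (nat_lit 0x30f5)) (.leaf (nat_lit 0x60b9)))) (.node (.node (.leaf (nat_lit 0x52cc)) (.leaf (nat_lit 0x128c))) (.node (.leaf (nat_lit 0x100a0eb)) (.leaf (nat_lit 0x0))))) (.node (.node (.node (.leaf (nat_lit 0x8014)) (.leaf (nat_lit 0xc118))) (.node (.leaf (nat_lit 0x100a0df)) (.leaf (nat_lit 0x427d)))) (.node (.node (.leaf (nat_lit 0xc10e)) (.leaf (nat_lit 0x4c))) (.node (.leaf (nat_lit 0x100c102)) (.leaf (nat_lit 0x0)))))) (.node (.node (.node (.node (.leaf (nat_lit 0x3331)) (.leaf (nat_lit 0x31e7))) (.node (.leaf (nat_lit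 0x1005158)) (.leaf (nat_lit 0x421d)))) (.node (.node (.leaf (nat_lit 0x1004008)) (.leaf (nat_lit 0x10001a4))) (.node (.leaf (nat_lit 0x507d)) (.leaf (nat_lit 0x0))))) (.node (.node (.node (.leaf (nat_lit 0x21ad)) (.leaf (nat_lit 0xd0a9))) (.node (.leaf (nat_lit 0x9079)) (.leaf (nat_lit 0x0)))) (.node (.node (.leaf (nat_lit 0x100406d)) (.leaf (nat_lit 0x716b))) (.node (.leaf (nat_lit 0x8151)) (.leaf (nat_lit 0x0))))))) (.node (.node (.node (.node (.node (.leaf (nat_lit 0x6011)) (.leaf (nat_lit 0x10040e3))) (.node (.leaf (nat_lit 0x100300e)) (.leaf (nat_lit 0x100215f)))) (.node (.node (.leaf (nat_lit 0xd290)) (.leaf (nat_lit 0x32a9))) (.node (.leaf (nat_lit 0x1c199)) (.leaf (nat_lit 0x0))))) (.node (.node (.node (.leaf (nat_lit 0xb291)) (.leaf (nat_lit 0x9103))) (.node (.leaf (nat_lit 0x3100)) (.leaf (nat_lit 0xa168)))) (.node (.node (.leaf (nat_lit 0x20e6)) (.leaf (nat_lit 0x704d))) (.node (.leaf (nat_lit 0x106c))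 (.leaf (nat_lit 0x0)))))) (.node (.node (.node (.node (.leaf (nat_lit 0x200f)) (.leaf (nat_lit 0x8072))) (.node (.leaf (nat_lit 0x100005f)) (.leaf (nat_lit 0x31a8)))) (.node (.node (.leaf (nat_lit 0xb0d3)) (.leaf (nat_lit 0x1001219))) (.node (.leaf (nat_lit 0x403c)) (.leaf (nat_lit 0x0))))) (.node (.node (.node (.leaf (nat_lit 0x29e)) (.leaf (nat_lit 0x414d))) (.node (.leaf (nat_lit 0x1003083)) (.leaf (nat_lit 0x0)))) (.node (.node (.leaf (nat_lit 0x100810f)) (.leaf (nat_lit 0x100404c))) (.node (.leaf (nat_lit 0x100021f)) (.leaf (nat_lit 0x0)))))))) (.node (.node (.node (.node (.node (.node (.leaf (nat_lit 0xd268)) (.leaf (nat_lit 0x20d1))) (.node (.leaf (nat_lit 0x100b2ad)) (.leaf (nat_lit 0xa09b)))) (.node (.node (.leaf (nat_lit 0xc2a2)) (.leaf (nat_lit 0x90c7))) (.node (.leaf (nat_lit 0x100b0e7)) (.leaf (nat_lit 0x0))))) (.node (.node (.node (.leaf (nat_lit 0x71cc)) (.leaf (nat_lit 0x250))) (.node (.leaf (nat_lit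 0x1008014)) (.leaf (nat_lit 0xf151)))) (.node (.node (.leaf (nat_lit 0xc10f)) (.leaf (nat_lit 0x1004285))) (.node (.leaf (nat_lit 0x10000de)) (.leaf (nat_lit 0x0)))))) (.node (.node (.node (.node (.leaf (nat_lit 0x1002112)) (.leaf (nat_lit 0x1007292))) (.node (.leaf (nat_lit 0x1af)) (.leaf (nat_lit 0xd163)))) (.node (.node (.leaf (nat_lit 0x100500f)) (.leaf (nat_lit 0x10090ff))) (.node (.leaf (nat_lit 0xb0b4)) (.leaf (nat_lit 0x0))))) (.node (.node (.node (.leaf (nat_lit 0x40f3)) (.leaf (nat_lit 0x1009102))) (.node (.leaf (nat_lit 0x62d2)) (.leaf (nat_lit 0x0)))) (.node (.node (.leaf (nat_lit 0x100129e)) (.leaf (nat_lit 0xa097))) (.node (.leaf (nat_lit 0xf118)) (.leaf (nat_lit 0x0))))))) (.node (.node (.node (.node (.node (.leaf (nat_lit 0x6047)) (.leaf (nat_lit 0x31b8))) (.node (.leaf (nat_lit 0x10001de)) (.leaf (nat_lit 0x104f)))) (.node (.node (.leaf (nat_lit 0x10001a1)) (.leaf (nat_lit 0x1008072))) (.node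 (.leaf (nat_lit 0x41c1)) (.leaf (nat_lit 0x0))))) (.node (.node (.node (.leaf (nat_lit 0x1007118)) (.leaf (nat_lit 0x10041a6))) (.node (.leaf (nat_lit 0x100b1fd)) (.leaf (nat_lit 0x0)))) (.node (.node (.leaf (nat_lit 0x100728c)) (.leaf (nat_lit 0x100704f))) (.node (.leaf (nat_lit 0x3034)) (.leaf (nat_lit 0x0)))))) (.node (.node (.node (.node (.leaf (nat_lit 0xd0f4)) (.leaf (nat_lit 0x4020))) (.node (.leaf (nat_lit 0x50a1)) (.leaf (nat_lit 0x622f)))) (.node (.node (.leaf (nat_lit 0xd232)) (.leaf (nat_lit 0x5071))) (.node (.leaf (nat_lit 0x10060fa)) (.leaf (nat_lit 0x0))))) (.node (.node (.node (.leaf (nat_lit 0x2133)) (.leaf (nat_lit 0x80bb))) (.node (.leaf (nat_lit 0x407c)) (.leaf (nat_lit 0x0)))) (.node (.node (.leaf (nat_lit 0x100b2eb)) (.leaf (nat_lit 0x10002fe))) (.node (.leaf (nat_lit 0x80ce)) (.leaf (nat_lit 0x0))))))))) (.node (.node (.node (.node (.node (.node (.node (.leaf (nat_lit 0x80c8)) (.leaf (nat_lit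 0x62a2))) (.node (.leaf (nat_lit 0x100321f)) (.leaf (nat_lit 0x22f6)))) (.node (.node (.leaf (nat_lit 0x2161)) (.leaf (nat_lit 0x100b2b4))) (.node (.leaf (nat_lit 0x100027b)) (.leaf (nat_lit 0x0))))) (.node (.node (.node (.leaf (nat_lit 0x6118)) (.leaf (nat_lit 0x903a))) (.node (.leaf (nat_lit 0x7337)) (.leaf (nat_lit 0x1001208)))) (.node (.node (.leaf (nat_lit 0x28f)) (.leaf (nat_lit 0x3107))) (.node (.leaf (nat_lit 0x50f5)) (.leaf (nat_lit 0x0)))))) (.node (.node (.node (.node (.leaf (nat_lit 0x100529a)) (.leaf (nat_lit 0x62a9))) (.node (.leaf (nat_lit 0x2122)) (.leaf (nat_lit 0x52fa)))) (.node (.node (.leaf (nat_lit 0x1001198)) (.leaf (nat_lit 0x100b208))) (.node (.leaf (nat_lit 0x80ec)) (.leaf (nat_lit 0x0))))) (.node (.node (.node (.leaf (nat_lit 0x10040f0)) (.leaf (nat_lit 0x10082a2))) (.node (.leaf (nat_lit 0xd085)) (.leaf (nat_lit 0x0)))) (.node (.node (.leaf (nat_lit 0x80dd)) (.leaf (nat_lit 0x100711c)))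 (.node (.leaf (nat_lit 0x100004a)) (.leaf (nat_lit 0x0))))))) (.node (.node (.node (.node (.node (.leaf (nat_lit 0x128f)) (.leaf (nat_lit 0x1000290))) (.node (.leaf (nat_lit 0x100b18b)) (.leaf (nat_lit 0x61ed)))) (.node (.node (.leaf (nat_lit 0x100d100)) (.leaf (nat_lit 0x21e1))) (.node (.leaf (nat_lit 0x52f2)) (.leaf (nat_lit 0x0))))) (.node (.node (.node (.leaf (nat_lit 0x100810c)) (.leaf (nat_lit 0x5297))) (.node (.leaf (nat_lit 0x1006093)) (.leaf (nat_lit 0x302)))) (.node (.node (.leaf (nat_lit 0xd137)) (.leaf (nat_lit 0x100b07c))) (.node (.leaf (nat_lit 0x51f3)) (.leaf (nat_lit 0x0)))))) (.node (.node (.node (.node (.leaf (nat_lit 0x1292)) (.leaf (nat_lit 0x10020e2))) (.node (.leaf (nat_lit 0x1020337)) (.leaf (nat_lit 0x1006019)))) (.node (.node (.leaf (nat_lit 0xb082)) (.leaf (nat_lit 0xb0ca))) (.node (.leaf (nat_lit 0x1d199)) (.leaf (nat_lit 0x0))))) (.node (.node (.node (.leaf (nat_lit 0x100a20b)) (.leaf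 (nat_lit 0x1009075))) (.node (.leaf (nat_lit 0x9290)) (.leaf (nat_lit 0x0)))) (.node (.node (.leaf (nat_lit 0x2b0)) (.leaf (nat_lit 0x6285))) (.node (.leaf (nat_lit 0x100d0db)) (.leaf (nat_lit 0x0)))))))) (.node (.node (.node (.node (.node (.node (.leaf (nat_lit 0x1003003)) (.leaf (nat_lit 0x9113))) (.node (.leaf (nat_lit 0x207)) (.leaf (nat_lit 0x5307)))) (.node (.node (.leaf (nat_lit 0x21ec)) (.leaf (nat_lit 0x714d))) (.node (.leaf (nat_lit 0x100a076)) (.leaf (nat_lit 0x0))))) (.node (.node (.node (.leaf (nat_lit 0x100802c)) (.leaf (nat_lit 0x100321c))) (.node (.leaf (nat_lit 0x10021c1)) (.leaf (nat_lit 0x7084)))) (.node (.node (.leaf (nat_lit 0x100907d)) (.leaf (nat_lit 0x1009298))) (.node (.leaf (nat_lit 0x100c2af)) (.leaf (nat_lit 0x0)))))) (.node (.node (.node (.node (.leaf (nat_lit 0x1002063)) (.leaf (nat_lit 0x11a6))) (.node (.leaf (nat_lit 0x1008067)) (.leaf (nat_lit 0x41db)))) (.node (.node (.leaf (nat_lit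 0x100c0ea)) (.leaf (nat_lit 0x7118))) (.node (.leaf (nat_lit 0x1006043)) (.leaf (nat_lit 0x0))))) (.node (.node (.node (.leaf (nat_lit 0x21a9)) (.leaf (nat_lit 0x10041a5))) (.node (.leaf (nat_lit 0xb2a4)) (.leaf (nat_lit 0x0)))) (.node (.node (.leaf (nat_lit 0x506b)) (.leaf (nat_lit 0x92fe))) (.node (.leaf (nat_lit 0x100727f)) (.leaf (nat_lit 0x0))))))) (.node (.node (.node (.node (.node (.leaf (nat_lit 0x500a)) (.leaf (nat_lit 0x10080a3))) (.node (.leaf (nat_lit 0x100f138)) (.leaf (nat_lit 0xb1de)))) (.node (.node (.leaf (nat_lit 0x31b7)) (.leaf (nat_lit 0x100a212))) (.node (.leaf (nat_lit 0x1026337)) (.leaf (nat_lit 0x0))))) (.node (.node (.node (.leaf (nat_lit 0x200a)) (.leaf (nat_lit 0x1008027))) (.node (.leaf (nat_lit 0x2fe)) (.leaf (nat_lit 0x0)))) (.node (.node (.leaf (nat_lit 0x21af)) (.leaf (nat_lit 0x1007076))) (.node (.leaf (nat_lit 0x430e)) (.leaf (nat_lit 0x0)))))) (.node (.node (.node (.node (.leaf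 (nat_lit 0x1000076)) (.leaf (nat_lit 0x8101))) (.node (.leaf (nat_lit 0x1000040)) (.leaf (nat_lit 0x1d337)))) (.node (.node (.leaf (nat_lit 0x1042)) (.leaf (nat_lit 0xf0))) (.node (.leaf (nat_lit 0x100a337)) (.leaf (nat_lit 0x0))))) (.node (.node (.node (.leaf (nat_lit 0x505f)) (.leaf (nat_lit 0x1005062))) (.node (.leaf (nat_lit 0x1027)) (.leaf (nat_lit 0x0)))) (.node (.node (.leaf (nat_lit 0x10080f0)) (.leaf (nat_lit 0x9149))) (.node (.leaf (nat_lit 0x100d0d1)) (.leaf (nat_lit 0x0)))))))))) (.node (.node (.node (.node (.node (.node (.node (.node (.leaf (nat_lit 0x19d)) (.leaf (nat_lit 0x10030d3))) (.node (.leaf (nat_lit 0x6d)) (.leaf (nat_lit 0x4075)))) (.node (.node (.leaf (nat_lit 0x407d)) (.leaf (nat_lit 0x821c))) (.node (.leaf (nat_lit 0x1005048)) (.leaf (nat_lit 0x0))))) (.node (.node (.node (.leaf (nat_lit 0x1eb)) (.leaf (nat_lit 0x71e1))) (.node (.leaf (nat_lit 0xb294)) (.leaf (nat_lit 0x51e8)))) (.node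 (.node (.leaf (nat_lit 0x9094)) (.leaf (nat_lit 0x1002086))) (.node (.leaf (nat_lit 0x5102)) (.leaf (nat_lit 0x0)))))) (.node (.node (.node (.node (.leaf (nat_lit 0x1000004)) (.leaf (nat_lit 0x1008203))) (.node (.leaf (nat_lit 0xb077)) (.leaf (nat_lit 0x82c1)))) (.node (.node (.leaf (nat_lit 0x221a)) (.leaf (nat_lit 0x2074))) (.node (.leaf (nat_lit 0x607f)) (.leaf (nat_lit 0x0))))) (.node (.node (.node (.leaf (nat_lit 0x32b2)) (.leaf (nat_lit 0x303c))) (.node (.leaf (nat_lit 0xc199)) (.leaf (nat_lit 0x0)))) (.node (.node (.leaf (nat_lit 0x1004193)) (.leaf (nat_lit 0x100b083))) (.node (.leaf (nat_lit 0xb20c)) (.leaf (nat_lit 0x0))))))) (.node (.node (.node (.node (.node (.leaf (nat_lit 0xb065)) (.leaf (nat_lit 0x10052f6))) (.node (.leaf (nat_lit 0x100820e)) (.leaf (nat_lit 0x31ae)))) (.node (.node (.leaf (nat_lit 0x10000ff)) (.leaf (nat_lit 0x100704b))) (.node (.leaf (nat_lit 0x5052)) (.leaf (nat_lit 0x0))))) (.node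 (.node (.node (.leaf (nat_lit 0x70d6)) (.leaf (nat_lit 0x100121d))) (.node (.leaf (nat_lit 0x1001288)) (.leaf (nat_lit 0xd2bf)))) (.node (.node (.leaf (nat_lit 0xf306)) (.leaf (nat_lit 0x1330))) (.node (.leaf (nat_lit 0x20b)) (.leaf (nat_lit 0x0)))))) (.node (.node (.node (.node (.leaf (nat_lit 0x4114)) (.leaf (nat_lit 0x100b20b))) (.node (.leaf (nat_lit 0x100d107)) (.leaf (nat_lit 0x326f)))) (.node (.node (.leaf (nat_lit 0x20fa)) (.leaf (nat_lit 0x100a237))) (.node (.leaf (nat_lit 0x21ca)) (.leaf (nat_lit 0x0))))) (.node (.node (.node (.leaf (nat_lit 0x10000df)) (.leaf (nat_lit 0x6037))) (.node (.leaf (nat_lit 0xf14f)) (.leaf (nat_lit 0x0)))) (.node (.node (.leaf (nat_lit 0x10021c4)) (.leaf (nat_lit 0xa152))) (.node (.leaf (nat_lit 0x6297)) (.leaf (nat_lit 0x0)))))))) (.node (.node (.node (.node (.node (.node (.leaf (nat_lit 0x1331)) (.leaf (nat_lit 0xb24e))) (.node (.leaf (nat_lit 0x3040)) (.leaf (nat_lit 0x1004025))))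 (.node (.node (.leaf (nat_lit 0x100606f)) (.leaf (nat_lit 0xd2d6))) (.node (.leaf (nat_lit 0x100000f)) (.leaf (nat_lit 0x0))))) (.node (.node (.node (.leaf (nat_lit 0x1008114)) (.leaf (nat_lit 0x10070e9))) (.node (.leaf (nat_lit 0xb113)) (.leaf (nat_lit 0x901d)))) (.node (.node (.leaf (nat_lit 0x5232)) (.leaf (nat_lit 0x8062))) (.node (.leaf (nat_lit 0x7071)) (.leaf (nat_lit 0x0)))))) (.node (.node (.node (.node (.leaf (nat_lit 0xe16f)) (.leaf (nat_lit 0x1004214))) (.node (.leaf (nat_lit 0x100a298)) (.leaf (nat_lit 0x7306)))) (.node (.node (.leaf (nat_lit 0x5067)) (.leaf (nat_lit 0x211))) (.node (.leaf (nat_lit 0x1008081)) (.leaf (nat_lit 0x0))))) (.node (.node (.node (.leaf (nat_lit 0x100a284)) (.leaf (nat_lit 0x100c2ad))) (.node (.leaf (nat_lit 0x100105f)) (.leaf (nat_lit 0x0)))) (.node (.node (.leaf (nat_lit 0xa0ff)) (.leaf (nat_lit 0x10092b4))) (.node (.leaf (nat_lit 0xa2a9)) (.leaf (nat_lit 0x0))))))) (.node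 (.node (.node (.node (.node (.leaf (nat_lit 0x101e)) (.leaf (nat_lit 0x830c))) (.node (.leaf (nat_lit 0x1ab)) (.leaf (nat_lit 0x100c157)))) (.node (.node (.leaf (nat_lit 0x10021a7)) (.leaf (nat_lit 0x626f))) (.node (.leaf (nat_lit 0x13337)) (.leaf (nat_lit 0x0))))) (.node (.node (.node (.leaf (nat_lit 0x80f3)) (.leaf (nat_lit 0x100506a))) (.node (.leaf (nat_lit 0x1000117)) (.leaf (nat_lit 0x0)))) (.node (.node (.leaf (nat_lit 0x1167)) (.leaf (nat_lit 0x9173))) (.node (.leaf (nat_lit 0x707f)) (.leaf (nat_lit 0x0)))))) (.node (.node (.node (.node (.leaf (nat_lit 0x11fe)) (.leaf (nat_lit 0x100b04b))) (.node (.leaf (nat_lit 0x608b)) (.leaf (nat_lit 0xb0b5)))) (.node (.node (.leaf (nat_lit 0x1002100)) (.leaf (nat_lit 0x100526d))) (.node (.leaf (nat_lit 0x100506c)) (.leaf (nat_lit 0x0))))) (.node (.node (.node (.leaf (nat_lit 0x214)) (.leaf (nat_lit 0x1008116))) (.node (.leaf (nat_lit 0x10080d5)) (.leaf (nat_lit 0x0))))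 (.node (.node (.leaf (nat_lit 0xd170)) (.leaf (nat_lit 0x1008042))) (.node (.leaf (nat_lit 0x10030f0)) (.leaf (nat_lit 0x0))))))))) (.node (.node (.node (.node (.node (.node (.node (.leaf (nat_lit 0x338)) (.leaf (nat_lit 0x10000fe))) (.node (.leaf (nat_lit 0x2067)) (.leaf (nat_lit 0x309b)))) (.node (.node (.leaf (nat_lit 0x100910f)) (.leaf (nat_lit 0x62dd))) (.node (.leaf (nat_lit 0x1007201)) (.leaf (nat_lit 0x0))))) (.node (.node (.node (.leaf (nat_lit 0xb110)) (.leaf (nat_lit 0x522c))) (.node (.leaf (nat_lit 0x8045)) (.leaf (nat_lit 0x3153)))) (.node (.node (.leaf (nat_lit 0x1df)) (.leaf (nat_lit 0x9133))) (.node (.leaf (nat_lit 0x10040f5)) (.leaf (nat_lit 0x0)))))) (.node (.node (.node (.node (.leaf (nat_lit 0x10000f6)) (.leaf (nat_lit 0x10061a6))) (.node (.leaf (nat_lit 0x10011ad)) (.leaf (nat_lit 0x8203)))) (.node (.node (.leaf (nat_lit 0x70ff)) (.leaf (nat_lit 0x90d0))) (.node (.leaf (nat_lit 0x30a9)) (.leaf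 (nat_lit 0x0))))) (.node (.node (.node (.leaf (nat_lit 0x1000080)) (.leaf (nat_lit 0xa085))) (.node (.leaf (nat_lit 0x80dc)) (.leaf (nat_lit 0x0)))) (.node (.node (.leaf (nat_lit 0x10051b7)) (.leaf (nat_lit 0x3163))) (.node (.leaf (nat_lit 0x4103)) (.leaf (nat_lit 0x0))))))) (.node (.node (.node (.node (.node (.leaf (nat_lit 0x1005331)) (.leaf (nat_lit 0x1018337))) (.node (.leaf (nat_lit 0x100306d)) (.leaf (nat_lit 0x1008223)))) (.node (.node (.leaf (nat_lit 0x100c2ab)) (.leaf (nat_lit 0x31b3))) (.node (.leaf (nat_lit 0x72a2)) (.leaf (nat_lit 0x0))))) (.node (.node (.node (.leaf (nat_lit 0x80fe)) (.leaf (nat_lit 0xb0a9))) (.node (.leaf (nat_lit 0x60f5)) (.leaf (nat_lit 0x2144)))) (.node (.node (.leaf (nat_lit 0x42a0)) (.leaf (nat_lit 0x10060f4))) (.node (.leaf (nat_lit 0x100d2eb)) (.leaf (nat_lit 0x0)))))) (.node (.node (.node (.node (.leaf (nat_lit 0x100d0fd)) (.leaf (nat_lit 0x1007093))) (.node (.leaf (nat_lit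 0x100a04a)) (.leaf (nat_lit 0x109f)))) (.node (.node (.leaf (nat_lit 0x10011a8)) (.leaf (nat_lit 0x30e4))) (.node (.leaf (nat_lit 0x6061)) (.leaf (nat_lit 0x0))))) (.node (.node (.node (.leaf (nat_lit 0x50f0)) (.leaf (nat_lit 0x1008289))) (.node (.leaf (nat_lit 0x4034)) (.leaf (nat_lit 0x0)))) (.node (.node (.leaf (nat_lit 0x100c100)) (.leaf (nat_lit 0x100c327))) (.node (.leaf (nat_lit 0x52e0)) (.leaf (nat_lit 0x0)))))))) (.node (.node (.node (.node (.node (.node (.leaf (nat_lit 0xa198)) (.leaf (nat_lit 0x825e))) (.node (.leaf (nat_lit 0x1006297)) (.leaf (nat_lit 0x100b032)))) (.node (.node (.leaf (nat_lit 0x910d)) (.leaf (nat_lit 0x10011b3))) (.node (.leaf (nat_lit 0x10021b6)) (.leaf (nat_lit 0x0))))) (.node (.node (.node (.leaf (nat_lit 0x100033b)) (.leaf (nat_lit 0x803c))) (.node (.leaf (nat_lit 0x10021e8)) (.leaf (nat_lit 0x911a)))) (.node (.node (.leaf (nat_lit 0xb1e8)) (.leaf (nat_lit 0xc086))) (.node (.leaf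 (nat_lit 0x10051aa)) (.leaf (nat_lit 0x0)))))) (.node (.node (.node (.node (.leaf (nat_lit 0x100013a)) (.leaf (nat_lit 0x10070dd))) (.node (.leaf (nat_lit 0x100a07e)) (.leaf (nat_lit 0x100607f)))) (.node (.node (.leaf (nat_lit 0x1010336)) (.leaf (nat_lit 0x61ca))) (.node (.leaf (nat_lit 0x11e2)) (.leaf (nat_lit 0x0))))) (.node (.node (.node (.leaf (nat_lit 0xa199)) (.leaf (nat_lit 0x731e))) (.node (.leaf (nat_lit 0xe139)) (.leaf (nat_lit 0x0)))) (.node (.node (.leaf (nat_lit 0x90ee)) (.leaf (nat_lit 0x10080de))) (.node (.leaf (nat_lit 0x2e0)) (.leaf (nat_lit 0x0))))))) (.node (.node (.node (.node (.node (.leaf (nat_lit 0x6193)) (.leaf (nat_lit 0x207a))) (.node (.leaf (nat_lit 0x51b0)) (.leaf (nat_lit 0xb034)))) (.node (.node (.leaf (nat_lit 0xa21f)) (.leaf (nat_lit 0x1009218))) (.node (.leaf (nat_lit 0x100b071)) (.leaf (nat_lit 0x0))))) (.node (.node (.node (.leaf (nat_lit 0x10072ad)) (.leaf (nat_lit 0x120d)))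 (.node (.leaf (nat_lit 0x10051b8)) (.leaf (nat_lit 0x0)))) (.node (.node (.leaf (nat_lit 0x41f9)) (.leaf (nat_lit 0x100526f))) (.node (.leaf (nat_lit 0xf181)) (.leaf (nat_lit 0x0)))))) (.node (.node (.node (.node (.leaf (nat_lit 0x56)) (.leaf (nat_lit 0x1003029))) (.node (.leaf (nat_lit 0x827c)) (.leaf (nat_lit 0x1006299)))) (.node (.node (.leaf (nat_lit 0x3007)) (.leaf (nat_lit 0xb28c))) (.node (.leaf (nat_lit 0x5083)) (.leaf (nat_lit 0x0))))) (.node (.node (.node (.leaf (nat_lit 0xb2aa)) (.leaf (nat_lit 0x10020ff))) (.node (.leaf (nat_lit 0x806e)) (.leaf (nat_lit 0x0)))) (.node (.node (.leaf (nat_lit 0x10010dd)) (.leaf (nat_lit 0x12b6))) (.node (.leaf (nat_lit 0x41b9)) (.leaf (nat_lit 0x0)))))))))))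

end Cfsg.Agent.TcData.HN.I1539000
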