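import Cfsg.Agent.Lib.TcFacts

set_option autoImplicit false
set_option Elab.async false
set_option maxRecDepth 100000
set_option linter.all false

namespace Cfsg.Agent.TcData.HN.I1539000

open Cfsg.Agent.Lib.TcFacts

/-- A part of a table. -/
noncomputable def PH11 : Tr := (.node (.node (.node (.node (.node (.node (.node (.node (.node (.leaf (nat_lit 0x196)) (.leaf (nat_lit 0x7104))) (.node (.leaf (nat_lit 0x32d8)) (.leaf (nat_lit 0x90be)))) (.node (.node (.leaf (nat_lit 0x52ce)) (.leaf (nat_lit 0x70af))) (.node (.leaf (nat_lit 0x10021cb)) (.leaf (nat_lit 0x0))))) (.node (.node (.node (.leaf (nat_lit 0x10001a3)) (.leaf (nat_lit 0x100c))) (.node (.leaf (nat_lit 0x100000d)) (.leaf (nat_lit 0xd106)))) (.node (.node (.leaf (nat_lit 0x1111)) (.leaf (nat_lit 0xd255))) (.node (.leaf (nat_lit 0x80e9)) (.leaf (nat_lit 0x0)))))) (.node (.node (.node (.node (.leaf (nat_lit 0x9068)) (.leaf (nat_lit 0x420c))) (.node (.leaf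 (nat_lit 0xe158)) (.leaf (nat_lit 0xb212)))) (.node (.node (.leaf (nat_lit 0x804e)) (.leaf (nat_lit 0x1001106))) (.node (.leaf (nat_lit 0x100d2b0)) (.leaf (nat_lit 0x0))))) (.node (.node (.node (.leaf (nat_lit 0x8295)) (.leaf (nat_lit 0x3054))) (.node (.leaf (nat_lit 0x1000104)) (.leaf (nat_lit 0x0)))) (.node (.node (.leaf (nat_lit 0x100229a)) (.leaf (nat_lit 0x50c3))) (.node (.leaf (nat_lit 0x70a5)) (.leaf (nat_lit 0x0))))))) (.node (.node (.node (.node (.node (.leaf (nat_lit 0x9200)) (.leaf (nat_lit 0x10090ed))) (.node (.leaf (nat_lit 0x40e5)) (.leaf (nat_lit 0x10090ec)))) (.node (.node (.leaf (nat_lit 0x205e)) (.leaf (nat_lit 0x32a7))) (.node (.leaf (nat_lit 0x1007203)) (.leaf (nat_lit 0x0))))) (.node (.node (.node (.leaf (nat_lit 0xb282)) (.leaf (nat_lit 0x1001298))) (.node (.leaf (nat_lit 0x107)) (.leaf (nat_lit 0x100921a)))) (.node (.node (.leaf (nat_lit 0x60db)) (.leaf (nat_lit 0x100301d))) (.node (.leaf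 (nat_lit 0x5077)) (.leaf (nat_lit 0x0)))))) (.node (.node (.node (.node (.leaf (nat_lit 0xd0df)) (.leaf (nat_lit 0x30fb))) (.node (.leaf (nat_lit 0x10030dd)) (.leaf (nat_lit 0x5152)))) (.node (.node (.leaf (nat_lit 0xb10e)) (.leaf (nat_lit 0x30df))) (.node (.leaf (nat_lit 0x1008219)) (.leaf (nat_lit 0x0))))) (.node (.node (.node (.leaf (nat_lit 0x20af)) (.leaf (nat_lit 0x100a032))) (.node (.leaf (nat_lit 0x19337)) (.leaf (nat_lit 0x0)))) (.node (.node (.leaf (nat_lit 0x100d111)) (.leaf (nat_lit 0x1009021))) (.node (.leaf (nat_lit 0x1002006)) (.leaf (nat_lit 0x0)))))))) (.node (.node (.node (.node (.node (.node (.leaf (nat_lit 0x5e)) (.leaf (nat_lit 0xd26d))) (.node (.leaf (nat_lit 0x100820b)) (.leaf (nat_lit 0x909e)))) (.node (.node (.leaf (nat_lit 0x2080)) (.leaf (nat_lit 0x60c8))) (.node (.leaf (nat_lit 0x1336)) (.leaf (nat_lit 0x0))))) (.node (.node (.node (.leaf (nat_lit 0x100423e)) (.leaf (nat_lit 0x100131b)))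 (.node (.leaf (nat_lit 0x5103)) (.leaf (nat_lit 0x100a2f5)))) (.node (.node (.leaf (nat_lit 0x10d)) (.leaf (nat_lit 0x10011cb))) (.node (.leaf (nat_lit 0x100510e)) (.leaf (nat_lit 0x0)))))) (.node (.node (.node (.node (.leaf (nat_lit 0x1003077)) (.leaf (nat_lit 0x1005220))) (.node (.leaf (nat_lit 0x1006331)) (.leaf (nat_lit 0x1337)))) (.node (.node (.leaf (nat_lit 0xe118)) (.leaf (nat_lit 0xa21d))) (.node (.leaf (nat_lit 0x30dc)) (.leaf (nat_lit 0x0))))) (.node (.node (.node (.leaf (nat_lit 0x3009)) (.leaf (nat_lit 0x4294))) (.node (.leaf (nat_lit 0x21dc)) (.leaf (nat_lit 0x0)))) (.node (.node (.leaf (nat_lit 0x416f)) (.leaf (nat_lit 0x100d117))) (.node (.leaf (nat_lit 0x80e1)) (.leaf (nat_lit 0x0))))))) (.node (.node (.node (.node (.node (.leaf (nat_lit 0x600e)) (.leaf (nat_lit 0x4023))) (.node (.leaf (nat_lit 0x1007043)) (.leaf (nat_lit 0x10061b0)))) (.node (.node (.leaf (nat_lit 0x21a7)) (.leaf (nat_lit 0x100b10a)))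 (.node (.leaf (nat_lit 0x41c3)) (.leaf (nat_lit 0x0))))) (.node (.node (.node (.leaf (nat_lit 0x100a0e6)) (.leaf (nat_lit 0x1005027))) (.node (.leaf (nat_lit 0x70f2)) (.leaf (nat_lit 0x0)))) (.node (.node (.leaf (nat_lit 0xe2fe)) (.leaf (nat_lit 0x100600f))) (.node (.leaf (nat_lit 0x90ea)) (.leaf (nat_lit 0x0)))))) (.node (.node (.node (.node (.leaf (nat_lit 0x1028337)) (.leaf (nat_lit 0x100e139))) (.node (.leaf (nat_lit 0xb0f2)) (.leaf (nat_lit 0xb138)))) (.node (.node (.leaf (nat_lit 0xa)) (.leaf (nat_lit 0xb206))) (.node (.leaf (nat_lit 0x10002a0)) (.leaf (nat_lit 0x0))))) (.node (.node (.node (.leaf (nat_lit 0x10a6)) (.leaf (nat_lit 0xc0bf))) (.node (.leaf (nat_lit 0xa0f1)) (.leaf (nat_lit 0x0)))) (.node (.node (.leaf (nat_lit 0x4011)) (.leaf (nat_lit 0x3020))) (.node (.leaf (nat_lit 0x218f)) (.leaf (nat_lit 0x0))))))))) (.node (.node (.node (.node (.node (.node (.node (.leaf (nat_lit 0x5)) (.leaf (nat_lit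 0x106f))) (.node (.leaf (nat_lit 0x615f)) (.leaf (nat_lit 0x10012c5)))) (.node (.node (.leaf (nat_lit 0x9065)) (.leaf (nat_lit 0x100b2b1))) (.node (.leaf (nat_lit 0x1007108)) (.leaf (nat_lit 0x0))))) (.node (.node (.node (.leaf (nat_lit 0x2173)) (.leaf (nat_lit 0x1ad))) (.node (.leaf (nat_lit 0x10092ed)) (.leaf (nat_lit 0x3038)))) (.node (.node (.leaf (nat_lit 0x628d)) (.leaf (nat_lit 0x10001cb))) (.node (.leaf (nat_lit 0xb115)) (.leaf (nat_lit 0x0)))))) (.node (.node (.node (.node (.leaf (nat_lit 0x10050de)) (.leaf (nat_lit 0x62a6))) (.node (.leaf (nat_lit 0x61eb)) (.leaf (nat_lit 0x52fc)))) (.node (.node (.leaf (nat_lit 0x1078)) (.leaf (nat_lit 0xb26d))) (.node (.leaf (nat_lit 0x92a0)) (.leaf (nat_lit 0x0))))) (.node (.node (.node (.leaf (nat_lit 0x100d0f4)) (.leaf (nat_lit 0x100610e))) (.node (.leaf (nat_lit 0x81c1)) (.leaf (nat_lit 0x0)))) (.node (.node (.leaf (nat_lit 0x80de)) (.leaf (nat_lit 0x72b7)))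 (.node (.leaf (nat_lit 0x61a6)) (.leaf (nat_lit 0x0))))))) (.node (.node (.node (.node (.node (.leaf (nat_lit 0xd274)) (.leaf (nat_lit 0x2af))) (.node (.leaf (nat_lit 0x607d)) (.leaf (nat_lit 0x60b5)))) (.node (.node (.leaf (nat_lit 0x82ad)) (.leaf (nat_lit 0x3157))) (.node (.leaf (nat_lit 0x100b05f)) (.leaf (nat_lit 0x0))))) (.node (.node (.node (.leaf (nat_lit 0x6010)) (.leaf (nat_lit 0x7108))) (.node (.leaf (nat_lit 0x1026199)) (.leaf (nat_lit 0x2b7)))) (.node (.node (.leaf (nat_lit 0x18199)) (.leaf (nat_lit 0x111b))) (.node (.leaf (nat_lit 0x41f2)) (.leaf (nat_lit 0x0)))))) (.node (.node (.node (.node (.leaf (nat_lit 0xb0e3)) (.leaf (nat_lit 0x100128d))) (.node (.leaf (nat_lit 0x1019199)) (.leaf (nat_lit 0x7069)))) (.node (.node (.leaf (nat_lit 0x727f)) (.leaf (nat_lit 0xc115))) (.node (.leaf (nat_lit 0x1018199)) (.leaf (nat_lit 0x0))))) (.node (.node (.node (.leaf (nat_lit 0x1000281)) (.leaf (nat_lit 0x100b290)))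 (.node (.leaf (nat_lit 0x9298)) (.leaf (nat_lit 0x0)))) (.node (.node (.leaf (nat_lit 0x100429a)) (.leaf (nat_lit 0x6284))) (.node (.leaf (nat_lit 0x100c103)) (.leaf (nat_lit 0x0)))))))) (.node (.node (.node (.node (.node (.node (.leaf (nat_lit 0x60e3)) (.leaf (nat_lit 0x614e))) (.node (.leaf (nat_lit 0x1003294)) (.leaf (nat_lit 0xf30a)))) (.node (.node (.leaf (nat_lit 0x100628c)) (.leaf (nat_lit 0x714e))) (.node (.leaf (nat_lit 0x10082a0)) (.leaf (nat_lit 0x0))))) (.node (.node (.node (.leaf (nat_lit 0x9028)) (.leaf (nat_lit 0x1273))) (.node (.leaf (nat_lit 0xc10d)) (.leaf (nat_lit 0x5050)))) (.node (.node (.leaf (nat_lit 0x31bc)) (.leaf (nat_lit 0x3066))) (.node (.leaf (nat_lit 0x100720d)) (.leaf (nat_lit 0x0)))))) (.node (.node (.node (.node (.leaf (nat_lit 0x1006078)) (.leaf (nat_lit 0x7138))) (.node (.leaf (nat_lit 0xb2a0)) (.leaf (nat_lit 0x41dd)))) (.node (.node (.leaf (nat_lit 0x100c0f7)) (.leaf (nat_lit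 0x4101))) (.node (.leaf (nat_lit 0x10041e2)) (.leaf (nat_lit 0x0))))) (.node (.node (.node (.leaf (nat_lit 0x720a)) (.leaf (nat_lit 0x1002323))) (.node (.leaf (nat_lit 0x1297)) (.leaf (nat_lit 0x0)))) (.node (.node (.leaf (nat_lit 0x40e8)) (.leaf (nat_lit 0x30ed))) (.node (.leaf (nat_lit 0x1009)) (.leaf (nat_lit 0x0))))))) (.node (.node (.node (.node (.node (.leaf (nat_lit 0x30fd)) (.leaf (nat_lit 0x10080a4))) (.node (.leaf (nat_lit 0x100b2d8)) (.leaf (nat_lit 0x2150)))) (.node (.node (.leaf (nat_lit 0x31a6)) (.leaf (nat_lit 0x1077))) (.node (.leaf (nat_lit 0x100c179)) (.leaf (nat_lit 0x0))))) (.node (.node (.node (.leaf (nat_lit 0x3081)) (.leaf (nat_lit 0x815f))) (.node (.leaf (nat_lit 0x100b157)) (.leaf (nat_lit 0x0)))) (.node (.node (.leaf (nat_lit 0x21b1)) (.leaf (nat_lit 0x10001a5))) (.node (.leaf (nat_lit 0x430d)) (.leaf (nat_lit 0x0)))))) (.node (.node (.node (.node (.leaf (nat_lit 0x1003285)) (.leaf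 (nat_lit 0x10072af))) (.node (.leaf (nat_lit 0x9299)) (.leaf (nat_lit 0x4273)))) (.node (.node (.leaf (nat_lit 0x7045)) (.leaf (nat_lit 0xd27b))) (.node (.leaf (nat_lit 0x100a199)) (.leaf (nat_lit 0x0))))) (.node (.node (.node (.leaf (nat_lit 0x6046)) (.leaf (nat_lit 0x10081e9))) (.node (.leaf (nat_lit 0x41c4)) (.leaf (nat_lit 0x0)))) (.node (.node (.leaf (nat_lit 0x10042aa)) (.leaf (nat_lit 0x1101))) (.node (.leaf (nat_lit 0x31c6)) (.leaf (nat_lit 0x0)))))))))) (.node (.node (.node (.node (.node (.node (.node (.node (.leaf (nat_lit 0x0)) (.leaf (nat_lit 0xd16f))) (.node (.leaf (nat_lit 0x307a)) (.leaf (nat_lit 0xa08b)))) (.node (.node (.leaf (nat_lit 0x1003073)) (.leaf (nat_lit 0x1003009))) (.node (.leaf (nat_lit 0xe30d)) (.leaf (nat_lit 0x0))))) (.node (.node (.node (.leaf (nat_lit 0x6199)) (.leaf (nat_lit 0x100500d))) (.node (.leaf (nat_lit 0x4220)) (.leaf (nat_lit 0x10011de)))) (.node (.node (.leaf (nat_lit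 0x9095)) (.leaf (nat_lit 0x1004293))) (.node (.leaf (nat_lit 0xd28c)) (.leaf (nat_lit 0x0)))))) (.node (.node (.node (.node (.leaf (nat_lit 0xa0e3)) (.leaf (nat_lit 0x100226d))) (.node (.leaf (nat_lit 0x10fe)) (.leaf (nat_lit 0x52bd)))) (.node (.node (.leaf (nat_lit 0xb210)) (.leaf (nat_lit 0x10030c9))) (.node (.leaf (nat_lit 0x328b)) (.leaf (nat_lit 0x0))))) (.node (.node (.node (.leaf (nat_lit 0x13336)) (.leaf (nat_lit 0x704e))) (.node (.leaf (nat_lit 0x90dc)) (.leaf (nat_lit 0x0)))) (.node (.node (.leaf (nat_lit 0x10090f2)) (.leaf (nat_lit 0x9206))) (.node (.leaf (nat_lit 0x100407d)) (.leaf (nat_lit 0x0))))))) (.node (.node (.node (.node (.node (.leaf (nat_lit 0x700e)) (.leaf (nat_lit 0x92aa))) (.node (.leaf (nat_lit 0x71c3)) (.leaf (nat_lit 0x2299)))) (.node (.node (.leaf (nat_lit 0x1010198)) (.leaf (nat_lit 0x10011cd))) (.node (.leaf (nat_lit 0x4036)) (.leaf (nat_lit 0x0))))) (.node (.node (.node (.leaf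 (nat_lit 0x100319b)) (.leaf (nat_lit 0x10091e8))) (.node (.leaf (nat_lit 0x11336)) (.leaf (nat_lit 0xa21c)))) (.node (.node (.leaf (nat_lit 0x710c)) (.leaf (nat_lit 0x61))) (.node (.leaf (nat_lit 0x6a)) (.leaf (nat_lit 0x0)))))) (.node (.node (.node (.node (.leaf (nat_lit 0x32aa)) (.leaf (nat_lit 0xd271))) (.node (.leaf (nat_lit 0x60ec)) (.leaf (nat_lit 0x703f)))) (.node (.node (.leaf (nat_lit 0x101a199)) (.leaf (nat_lit 0xa29b))) (.node (.leaf (nat_lit 0x227c)) (.leaf (nat_lit 0x0))))) (.node (.node (.node (.leaf (nat_lit 0xc0f8)) (.leaf (nat_lit 0x6048))) (.node (.leaf (nat_lit 0x903c)) (.leaf (nat_lit 0x0)))) (.node (.node (.leaf (nat_lit 0x100d0ff)) (.leaf (nat_lit 0x905b))) (.node (.leaf (nat_lit 0x6296)) (.leaf (nat_lit 0x0)))))))) (.node (.node (.node (.node (.node (.node (.leaf (nat_lit 0x8016)) (.leaf (nat_lit 0x3115))) (.node (.leaf (nat_lit 0x1006028)) (.leaf (nat_lit 0x302e)))) (.node (.node (.leaf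 (nat_lit 0x10031a1)) (.leaf (nat_lit 0x228d))) (.node (.leaf (nat_lit 0x11eb)) (.leaf (nat_lit 0x0))))) (.node (.node (.node (.leaf (nat_lit 0x10072aa)) (.leaf (nat_lit 0x1007104))) (.node (.leaf (nat_lit 0x9082)) (.leaf (nat_lit 0x6164)))) (.node (.node (.leaf (nat_lit 0x930e)) (.leaf (nat_lit 0x100a0d3))) (.node (.leaf (nat_lit 0x207f)) (.leaf (nat_lit 0x0)))))) (.node (.node (.node (.node (.leaf (nat_lit 0x1013336)) (.leaf (nat_lit 0x1006007))) (.node (.leaf (nat_lit 0x2027)) (.leaf (nat_lit 0x1025)))) (.node (.node (.leaf (nat_lit 0x1c8)) (.leaf (nat_lit 0xd113))) (.node (.leaf (nat_lit 0xb04c)) (.leaf (nat_lit 0x0))))) (.node (.node (.node (.leaf (nat_lit 0x20a5)) (.leaf (nat_lit 0xe189))) (.node (.leaf (nat_lit 0x1008327)) (.leaf (nat_lit 0x0)))) (.node (.node (.leaf (nat_lit 0x46)) (.leaf (nat_lit 0x10092b1))) (.node (.leaf (nat_lit 0x614d)) (.leaf (nat_lit 0x0))))))) (.node (.node (.node (.node (.node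 (.leaf (nat_lit 0x5010)) (.leaf (nat_lit 0x3083))) (.node (.leaf (nat_lit 0x204a)) (.leaf (nat_lit 0x100e165)))) (.node (.node (.leaf (nat_lit 0x1006015)) (.leaf (nat_lit 0x100d27c))) (.node (.leaf (nat_lit 0x42ac)) (.leaf (nat_lit 0x0))))) (.node (.node (.node (.leaf (nat_lit 0x8109)) (.leaf (nat_lit 0x52ef))) (.node (.leaf (nat_lit 0x9027)) (.leaf (nat_lit 0x0)))) (.node (.node (.leaf (nat_lit 0x100905e)) (.leaf (nat_lit 0x100c2ed))) (.node (.leaf (nat_lit 0x74)) (.leaf (nat_lit 0x0)))))) (.node (.node (.node (.node (.leaf (nat_lit 0x11fd)) (.leaf (nat_lit 0x100028a))) (.node (.leaf (nat_lit 0xc109)) (.leaf (nat_lit 0x1003273)))) (.node (.node (.leaf (nat_lit 0x605e)) (.leaf (nat_lit 0x10070d2))) (.node (.leaf (nat_lit 0xfe)) (.leaf (nat_lit 0x0))))) (.node (.node (.node (.leaf (nat_lit 0xb1df)) (.leaf (nat_lit 0x1006113))) (.node (.leaf (nat_lit 0xb137)) (.leaf (nat_lit 0x0)))) (.node (.node (.leaf (nat_lit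 0x710a)) (.leaf (nat_lit 0xe2d3))) (.node (.leaf (nat_lit 0x100a1fc)) (.leaf (nat_lit 0x0))))))))) (.node (.node (.node (.node (.node (.node (.node (.leaf (nat_lit 0x5331)) (.leaf (nat_lit 0x71a6))) (.node (.leaf (nat_lit 0x8210)) (.leaf (nat_lit 0xa0fc)))) (.node (.node (.leaf (nat_lit 0xb114)) (.leaf (nat_lit 0x62de))) (.node (.leaf (nat_lit 0x100720a)) (.leaf (nat_lit 0x0))))) (.node (.node (.node (.leaf (nat_lit 0x91e1)) (.leaf (nat_lit 0x100522b))) (.node (.leaf (nat_lit 0xc0c9)) (.leaf (nat_lit 0x903e)))) (.node (.node (.leaf (nat_lit 0xac)) (.leaf (nat_lit 0x528f))) (.node (.leaf (nat_lit 0x921d)) (.leaf (nat_lit 0x0)))))) (.node (.node (.node (.node (.leaf (nat_lit 0x20c3)) (.leaf (nat_lit 0x1004022))) (.node (.leaf (nat_lit 0x100f160)) (.leaf (nat_lit 0x4207)))) (.node (.node (.leaf (nat_lit 0x21)) (.leaf (nat_lit 0xb1e2))) (.node (.leaf (nat_lit 0x8068)) (.leaf (nat_lit 0x0))))) (.node (.node (.node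 (.leaf (nat_lit 0x100d0bf)) (.leaf (nat_lit 0x10052fd))) (.node (.leaf (nat_lit 0x100a299)) (.leaf (nat_lit 0x0)))) (.node (.node (.leaf (nat_lit 0x1082)) (.leaf (nat_lit 0x9073))) (.node (.leaf (nat_lit 0x2109)) (.leaf (nat_lit 0x0))))))) (.node (.node (.node (.node (.node (.leaf (nat_lit 0x1007008)) (.leaf (nat_lit 0x1009296))) (.node (.leaf (nat_lit 0x5110)) (.leaf (nat_lit 0x100621b)))) (.node (.node (.leaf (nat_lit 0x1005273)) (.leaf (nat_lit 0x100e157))) (.node (.leaf (nat_lit 0x100827b)) (.leaf (nat_lit 0x0))))) (.node (.node (.node (.leaf (nat_lit 0x31af)) (.leaf (nat_lit 0x11c4))) (.node (.leaf (nat_lit 0xc290)) (.leaf (nat_lit 0xf2de)))) (.node (.node (.leaf (nat_lit 0x9285)) (.leaf (nat_lit 0x1034))) (.node (.leaf (nat_lit 0x40e4)) (.leaf (nat_lit 0x0)))))) (.node (.node (.node (.node (.leaf (nat_lit 0x100d0fe)) (.leaf (nat_lit 0x100106c))) (.node (.leaf (nat_lit 0x1000010)) (.leaf (nat_lit 0xa164))))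 (.node (.node (.leaf (nat_lit 0x100429e)) (.leaf (nat_lit 0x1009280))) (.node (.leaf (nat_lit 0x7079)) (.leaf (nat_lit 0x0))))) (.node (.node (.node (.leaf (nat_lit 0x100b081)) (.leaf (nat_lit 0x1011199))) (.node (.leaf (nat_lit 0x40fa)) (.leaf (nat_lit 0x0)))) (.node (.node (.leaf (nat_lit 0x307d)) (.leaf (nat_lit 0x1006152))) (.node (.leaf (nat_lit 0x70ed)) (.leaf (nat_lit 0x0)))))))) (.node (.node (.node (.node (.node (.node (.leaf (nat_lit 0x700a)) (.leaf (nat_lit 0x1005078))) (.node (.leaf (nat_lit 0x100b298)) (.leaf (nat_lit 0x100128f)))) (.node (.node (.leaf (nat_lit 0xa10c)) (.leaf (nat_lit 0xa213))) (.node (.leaf (nat_lit 0xa0db)) (.leaf (nat_lit 0x0))))) (.node (.node (.node (.leaf (nat_lit 0x100119d)) (.leaf (nat_lit 0x40a9))) (.node (.leaf (nat_lit 0x1007295)) (.leaf (nat_lit 0xb160)))) (.node (.node (.leaf (nat_lit 0x20d5)) (.leaf (nat_lit 0x100128a))) (.node (.leaf (nat_lit 0x31a4)) (.leaf (nat_lit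 0x0)))))) (.node (.node (.node (.node (.leaf (nat_lit 0xd220)) (.leaf (nat_lit 0x100c27b))) (.node (.leaf (nat_lit 0xa280)) (.leaf (nat_lit 0x100b074)))) (.node (.node (.leaf (nat_lit 0x100010e)) (.leaf (nat_lit 0x1008221))) (.node (.leaf (nat_lit 0x21d5)) (.leaf (nat_lit 0x0))))) (.node (.node (.node (.leaf (nat_lit 0x8020)) (.leaf (nat_lit 0x618f))) (.node (.leaf (nat_lit 0x20ff)) (.leaf (nat_lit 0x0)))) (.node (.node (.leaf (nat_lit 0x1008063)) (.leaf (nat_lit 0x100c2d6))) (.node (.leaf (nat_lit 0x10072b1)) (.leaf (nat_lit 0x0))))))) (.node (.node (.node (.node (.node (.leaf (nat_lit 0x10090fd)) (.leaf (nat_lit 0xb208))) (.node (.leaf (nat_lit 0x10040fe)) (.leaf (nat_lit 0x100c15f)))) (.node (.node (.leaf (nat_lit 0x72d8)) (.leaf (nat_lit 0x41b1))) (.node (.leaf (nat_lit 0x1007298)) (.leaf (nat_lit 0x0))))) (.node (.node (.node (.leaf (nat_lit 0x79)) (.leaf (nat_lit 0x52b1))) (.node (.leaf (nat_lit 0x1005014))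 (.leaf (nat_lit 0x0)))) (.node (.node (.leaf (nat_lit 0x103)) (.leaf (nat_lit 0x1005270))) (.node (.leaf (nat_lit 0xe321)) (.leaf (nat_lit 0x0)))))) (.node (.node (.node (.node (.leaf (nat_lit 0xa1f6)) (.leaf (nat_lit 0x100902e))) (.node (.leaf (nat_lit 0x827f)) (.leaf (nat_lit 0x7181)))) (.node (.node (.leaf (nat_lit 0x4298)) (.leaf (nat_lit 0x1005118))) (.node (.leaf (nat_lit 0x70ca)) (.leaf (nat_lit 0x0))))) (.node (.node (.node (.leaf (nat_lit 0x3080)) (.leaf (nat_lit 0x92a4))) (.node (.leaf (nat_lit 0xa2ac)) (.leaf (nat_lit 0x0)))) (.node (.node (.leaf (nat_lit 0x10072b0)) (.leaf (nat_lit 0x100400e))) (.node (.leaf (nat_lit 0x6033)) (.leaf (nat_lit 0x0)))))))))))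

end Cfsg.Agent.TcData.HN.I1539000
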