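import Cfsg.Agent.Lib.TcFacts

set_option autoImplicit false
set_option Elab.async false
set_option maxRecDepth 100000
set_option linter.all false

namespace Cfsg.Agent.TcData.HN.I1539000

open Cfsg.Agent.Lib.TcFacts

/-- A part of a table. -/
noncomputable def PH12 : Tr := (.node (.node (.node (.node (.node (.node (.node (.node (.node (.leaf (nat_lit 0x19b)) (.leaf (nat_lit 0x1002296))) (.node (.leaf (nat_lit 0x32d6)) (.leaf (nat_lit 0x10001d0)))) (.node (.node (.leaf (nat_lit 0x10021a8)) (.leaf (nat_lit 0x90b8))) (.node (.leaf (nat_lit 0x7294)) (.leaf (nat_lit 0x0))))) (.node (.node (.node (.leaf (nat_lit 0xf8)) (.leaf (nat_lit 0x71a8))) (.node (.leaf (nat_lit 0x1006067)) (.leaf (nat_lit 0x10070f8)))) (.node (.node (.leaf (nat_lit 0x51aa)) (.leaf (nat_lit 0x50de))) (.node (.leaf (nat_lit 0x10e6)) (.leaf (nat_lit 0x0)))))) (.node (.node (.node (.node (.leaf (nat_lit 0xa0fe)) (.leaf (nat_lit 0x8071))) (.node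 (.leaf (nat_lit 0xb117)) (.leaf (nat_lit 0x2219)))) (.node (.node (.leaf (nat_lit 0x1000001)) (.leaf (nat_lit 0x928c))) (.node (.leaf (nat_lit 0x100321b)) (.leaf (nat_lit 0x0))))) (.node (.node (.node (.leaf (nat_lit 0x9109)) (.leaf (nat_lit 0x10031a9))) (.node (.leaf (nat_lit 0x100f117)) (.leaf (nat_lit 0x0)))) (.node (.node (.leaf (nat_lit 0x100706d)) (.leaf (nat_lit 0x1004047))) (.node (.leaf (nat_lit 0x10f6)) (.leaf (nat_lit 0x0))))))) (.node (.node (.node (.node (.node (.leaf (nat_lit 0x80d4)) (.leaf (nat_lit 0x100d28e))) (.node (.leaf (nat_lit 0x100a28b)) (.leaf (nat_lit 0x525a)))) (.node (.node (.leaf (nat_lit 0x1002199)) (.leaf (nat_lit 0x10031e8))) (.node (.leaf (nat_lit 0x5099)) (.leaf (nat_lit 0x0))))) (.node (.node (.node (.leaf (nat_lit 0xb103)) (.leaf (nat_lit 0x100801c))) (.node (.leaf (nat_lit 0xf170)) (.leaf (nat_lit 0xa281)))) (.node (.node (.leaf (nat_lit 0x9034)) (.leaf (nat_lit 0x630d)))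 (.node (.leaf (nat_lit 0x10031d4)) (.leaf (nat_lit 0x0)))))) (.node (.node (.node (.node (.leaf (nat_lit 0xd0db)) (.leaf (nat_lit 0xc163))) (.node (.leaf (nat_lit 0x100c0ec)) (.leaf (nat_lit 0x41be)))) (.node (.node (.leaf (nat_lit 0x22b0)) (.leaf (nat_lit 0xb0ec))) (.node (.leaf (nat_lit 0x70a3)) (.leaf (nat_lit 0x0))))) (.node (.node (.node (.leaf (nat_lit 0x80e3)) (.leaf (nat_lit 0x40a1))) (.node (.leaf (nat_lit 0x820c)) (.leaf (nat_lit 0x0)))) (.node (.node (.leaf (nat_lit 0x100710e)) (.leaf (nat_lit 0x4210))) (.node (.leaf (nat_lit 0x10021df)) (.leaf (nat_lit 0x0)))))))) (.node (.node (.node (.node (.node (.node (.leaf (nat_lit 0x805f)) (.leaf (nat_lit 0x1005016))) (.node (.leaf (nat_lit 0x10070f0)) (.leaf (nat_lit 0x909c)))) (.node (.node (.leaf (nat_lit 0x904c)) (.leaf (nat_lit 0x60ca))) (.node (.leaf (nat_lit 0x602a)) (.leaf (nat_lit 0x0))))) (.node (.node (.node (.leaf (nat_lit 0x3333)) (.leaf (nat_lit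 0x100928c))) (.node (.leaf (nat_lit 0xa03a)) (.leaf (nat_lit 0xa163)))) (.node (.node (.leaf (nat_lit 0xa336)) (.leaf (nat_lit 0xb163))) (.node (.leaf (nat_lit 0x100d2af)) (.leaf (nat_lit 0x0)))))) (.node (.node (.node (.node (.leaf (nat_lit 0x1003081)) (.leaf (nat_lit 0x1000079))) (.node (.leaf (nat_lit 0x228e)) (.leaf (nat_lit 0x41fa)))) (.node (.node (.leaf (nat_lit 0xd2b3)) (.leaf (nat_lit 0x10041cf))) (.node (.leaf (nat_lit 0x227e)) (.leaf (nat_lit 0x0))))) (.node (.node (.node (.leaf (nat_lit 0xf117)) (.leaf (nat_lit 0x204b))) (.node (.leaf (nat_lit 0x100c29b)) (.leaf (nat_lit 0x0)))) (.node (.node (.leaf (nat_lit 0x4138)) (.leaf (nat_lit 0xc0b2))) (.node (.leaf (nat_lit 0x10050dd)) (.leaf (nat_lit 0x0))))))) (.node (.node (.node (.node (.node (.leaf (nat_lit 0x7066)) (.leaf (nat_lit 0xe6))) (.node (.leaf (nat_lit 0x1007045)) (.leaf (nat_lit 0x305b)))) (.node (.node (.leaf (nat_lit 0x21a6)) (.leaf (nat_lit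 0x100b109))) (.node (.leaf (nat_lit 0x31c2)) (.leaf (nat_lit 0x0))))) (.node (.node (.node (.leaf (nat_lit 0x90f5)) (.leaf (nat_lit 0x100428c))) (.node (.leaf (nat_lit 0x10f)) (.leaf (nat_lit 0x0)))) (.node (.node (.leaf (nat_lit 0xd0e7)) (.leaf (nat_lit 0x4205))) (.node (.leaf (nat_lit 0x7041)) (.leaf (nat_lit 0x0)))))) (.node (.node (.node (.node (.leaf (nat_lit 0x20f0)) (.leaf (nat_lit 0x6189))) (.node (.leaf (nat_lit 0x100a081)) (.leaf (nat_lit 0x7163)))) (.node (.node (.leaf (nat_lit 0x61aa)) (.leaf (nat_lit 0x100d2fd))) (.node (.leaf (nat_lit 0x61c1)) (.leaf (nat_lit 0x0))))) (.node (.node (.node (.leaf (nat_lit 0x3195)) (.leaf (nat_lit 0x100006e))) (.node (.leaf (nat_lit 0x100520e)) (.leaf (nat_lit 0x0)))) (.node (.node (.leaf (nat_lit 0x4013)) (.leaf (nat_lit 0x5150))) (.node (.leaf (nat_lit 0x215b)) (.leaf (nat_lit 0x0))))))))) (.node (.node (.node (.node (.node (.node (.node (.leaf (nat_lit 0x3113))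 (.leaf (nat_lit 0x81bb))) (.node (.leaf (nat_lit 0x6160)) (.leaf (nat_lit 0x80e7)))) (.node (.node (.leaf (nat_lit 0x1005082)) (.leaf (nat_lit 0x10080f6))) (.node (.leaf (nat_lit 0x100828d)) (.leaf (nat_lit 0x0))))) (.node (.node (.node (.leaf (nat_lit 0x100910c)) (.leaf (nat_lit 0x1002065))) (.node (.leaf (nat_lit 0x80f6)) (.leaf (nat_lit 0x2ac)))) (.node (.node (.leaf (nat_lit 0x70e2)) (.leaf (nat_lit 0x40e7))) (.node (.leaf (nat_lit 0x10090f6)) (.leaf (nat_lit 0x0)))))) (.node (.node (.node (.node (.leaf (nat_lit 0x10050e1)) (.leaf (nat_lit 0x6116))) (.node (.leaf (nat_lit 0x2285)) (.leaf (nat_lit 0x82f7)))) (.node (.node (.leaf (nat_lit 0x1003203)) (.leaf (nat_lit 0x9337))) (.node (.leaf (nat_lit 0x2046)) (.leaf (nat_lit 0x0))))) (.node (.node (.node (.leaf (nat_lit 0x10ed)) (.leaf (nat_lit 0x2040))) (.node (.leaf (nat_lit 0x1009104)) (.leaf (nat_lit 0x0)))) (.node (.node (.leaf (nat_lit 0x100d0d6)) (.leaf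 (nat_lit 0x72b8))) (.node (.leaf (nat_lit 0x901c)) (.leaf (nat_lit 0x0))))))) (.node (.node (.node (.node (.node (.leaf (nat_lit 0x8)) (.leaf (nat_lit 0x100027c))) (.node (.leaf (nat_lit 0xb211)) (.leaf (nat_lit 0x22337)))) (.node (.node (.leaf (nat_lit 0xb0f6)) (.leaf (nat_lit 0xd0f3))) (.node (.leaf (nat_lit 0x100d160)) (.leaf (nat_lit 0x0))))) (.node (.node (.node (.leaf (nat_lit 0x1001203)) (.leaf (nat_lit 0x1002009))) (.node (.leaf (nat_lit 0x1002221)) (.leaf (nat_lit 0x12f)))) (.node (.node (.leaf (nat_lit 0x8199)) (.leaf (nat_lit 0x100a104))) (.node (.leaf (nat_lit 0x41f0)) (.leaf (nat_lit 0x0)))))) (.node (.node (.node (.node (.leaf (nat_lit 0x127f)) (.leaf (nat_lit 0x421f))) (.node (.leaf (nat_lit 0x1019337)) (.leaf (nat_lit 0x31e0)))) (.node (.node (.leaf (nat_lit 0x10040ff)) (.leaf (nat_lit 0x1008281))) (.node (.leaf (nat_lit 0xa069)) (.leaf (nat_lit 0x0))))) (.node (.node (.node (.leaf (nat_lit 0x100a0e1))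 (.leaf (nat_lit 0x10e1))) (.node (.leaf (nat_lit 0xd185)) (.leaf (nat_lit 0x0)))) (.node (.node (.leaf (nat_lit 0x10df)) (.leaf (nat_lit 0x1157))) (.node (.leaf (nat_lit 0xd21f)) (.leaf (nat_lit 0x0)))))))) (.node (.node (.node (.node (.node (.node (.leaf (nat_lit 0x60e6)) (.leaf (nat_lit 0x10000d1))) (.node (.leaf (nat_lit 0x6018)) (.leaf (nat_lit 0xa076)))) (.node (.node (.leaf (nat_lit 0x10080f2)) (.leaf (nat_lit 0x10071b8))) (.node (.leaf (nat_lit 0x10000f2)) (.leaf (nat_lit 0x0))))) (.node (.node (.node (.leaf (nat_lit 0x30fe)) (.leaf (nat_lit 0x100007a))) (.node (.leaf (nat_lit 0x415f)) (.leaf (nat_lit 0x16f)))) (.node (.node (.leaf (nat_lit 0x1003217)) (.leaf (nat_lit 0x306f))) (.node (.leaf (nat_lit 0x100a07a)) (.leaf (nat_lit 0x0)))))) (.node (.node (.node (.node (.leaf (nat_lit 0x62ad)) (.leaf (nat_lit 0x52ab))) (.node (.leaf (nat_lit 0x10092b2)) (.leaf (nat_lit 0xd0ef)))) (.node (.node (.leaf (nat_lit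 0x100a06c)) (.leaf (nat_lit 0x100b15f))) (.node (.leaf (nat_lit 0x5157)) (.leaf (nat_lit 0x0))))) (.node (.node (.node (.leaf (nat_lit 0xf15f)) (.leaf (nat_lit 0xa187))) (.node (.leaf (nat_lit 0x7114)) (.leaf (nat_lit 0x0)))) (.node (.node (.leaf (nat_lit 0x10011af)) (.leaf (nat_lit 0x30fc))) (.node (.leaf (nat_lit 0x15199)) (.leaf (nat_lit 0x0))))))) (.node (.node (.node (.node (.node (.leaf (nat_lit 0xa110)) (.leaf (nat_lit 0x1000201))) (.node (.leaf (nat_lit 0x1009037)) (.leaf (nat_lit 0x10050ea)))) (.node (.node (.leaf (nat_lit 0x31b9)) (.leaf (nat_lit 0x100904d))) (.node (.leaf (nat_lit 0xa07b)) (.leaf (nat_lit 0x0))))) (.node (.node (.node (.leaf (nat_lit 0xc104)) (.leaf (nat_lit 0x10042a2))) (.node (.leaf (nat_lit 0x1001210)) (.leaf (nat_lit 0x0)))) (.node (.node (.leaf (nat_lit 0x1005198)) (.leaf (nat_lit 0x10012d9))) (.node (.leaf (nat_lit 0x71c6)) (.leaf (nat_lit 0x0)))))) (.node (.node (.node (.node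 (.leaf (nat_lit 0x100700a)) (.leaf (nat_lit 0x1002204))) (.node (.leaf (nat_lit 0x41cd)) (.leaf (nat_lit 0x4274)))) (.node (.node (.leaf (nat_lit 0x8066)) (.leaf (nat_lit 0xbf))) (.node (.leaf (nat_lit 0x1000006)) (.leaf (nat_lit 0x0))))) (.node (.node (.node (.leaf (nat_lit 0x104)) (.leaf (nat_lit 0x1005099))) (.node (.leaf (nat_lit 0x4285)) (.leaf (nat_lit 0x0)))) (.node (.node (.leaf (nat_lit 0x100c0ff)) (.leaf (nat_lit 0x10070eb))) (.node (.leaf (nat_lit 0x31c7)) (.leaf (nat_lit 0x0)))))))))) (.node (.node (.node (.node (.node (.node (.node (.node (.leaf (nat_lit 0x4003)) (.leaf (nat_lit 0x1005208))) (.node (.leaf (nat_lit 0x10020e3)) (.leaf (nat_lit 0x100902b)))) (.node (.node (.leaf (nat_lit 0x8018)) (.leaf (nat_lit 0x1008110))) (.node (.leaf (nat_lit 0x1005036)) (.leaf (nat_lit 0x0))))) (.node (.node (.node (.leaf (nat_lit 0x80ee)) (.leaf (nat_lit 0x93))) (.node (.leaf (nat_lit 0xa2a0)) (.leaf (nat_lit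 0x3187)))) (.node (.node (.leaf (nat_lit 0x9096)) (.leaf (nat_lit 0xd2d8))) (.node (.leaf (nat_lit 0x6163)) (.leaf (nat_lit 0x0)))))) (.node (.node (.node (.node (.leaf (nat_lit 0x27c)) (.leaf (nat_lit 0x12a9))) (.node (.leaf (nat_lit 0x10090ee)) (.leaf (nat_lit 0x10de)))) (.node (.node (.leaf (nat_lit 0xb076)) (.leaf (nat_lit 0xa054))) (.node (.leaf (nat_lit 0x1003290)) (.leaf (nat_lit 0x0))))) (.node (.node (.node (.leaf (nat_lit 0x301c)) (.leaf (nat_lit 0x8211))) (.node (.leaf (nat_lit 0x6025)) (.leaf (nat_lit 0x0)))) (.node (.node (.leaf (nat_lit 0x1001008)) (.leaf (nat_lit 0x60d4))) (.node (.leaf (nat_lit 0x100607a)) (.leaf (nat_lit 0x0))))))) (.node (.node (.node (.node (.node (.leaf (nat_lit 0x90e3)) (.leaf (nat_lit 0x10050fa))) (.node (.leaf (nat_lit 0x1007099)) (.leaf (nat_lit 0x100726f)))) (.node (.node (.leaf (nat_lit 0x100301e)) (.leaf (nat_lit 0x2056))) (.node (.leaf (nat_lit 0x9115)) (.leaf (nat_lit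 0x0))))) (.node (.node (.node (.leaf (nat_lit 0x30337)) (.leaf (nat_lit 0x1011198))) (.node (.leaf (nat_lit 0x8114)) (.leaf (nat_lit 0x916c)))) (.node (.node (.leaf (nat_lit 0x50ef)) (.leaf (nat_lit 0x10070ec))) (.node (.leaf (nat_lit 0x9218)) (.leaf (nat_lit 0x0)))))) (.node (.node (.node (.node (.leaf (nat_lit 0x7065)) (.leaf (nat_lit 0x6066))) (.node (.leaf (nat_lit 0x1103)) (.leaf (nat_lit 0x1008023)))) (.node (.node (.leaf (nat_lit 0x315f)) (.leaf (nat_lit 0x4217))) (.node (.leaf (nat_lit 0xa037)) (.leaf (nat_lit 0x0))))) (.node (.node (.node (.leaf (nat_lit 0x1008285)) (.leaf (nat_lit 0xc13f))) (.node (.leaf (nat_lit 0xa041)) (.leaf (nat_lit 0x0)))) (.node (.node (.leaf (nat_lit 0xa114)) (.leaf (nat_lit 0x71c7))) (.node (.leaf (nat_lit 0x910a)) (.leaf (nat_lit 0x0)))))))) (.node (.node (.node (.node (.node (.node (.leaf (nat_lit 0x4012)) (.leaf (nat_lit 0xd0f1))) (.node (.leaf (nat_lit 0x1006029)) (.leaf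 (nat_lit 0x8073)))) (.node (.node (.leaf (nat_lit 0xd10e)) (.leaf (nat_lit 0x12ac))) (.node (.leaf (nat_lit 0x1c7)) (.leaf (nat_lit 0x0))))) (.node (.node (.node (.leaf (nat_lit 0x5220)) (.leaf (nat_lit 0x8279))) (.node (.leaf (nat_lit 0x10031fd)) (.leaf (nat_lit 0x3069)))) (.node (.node (.leaf (nat_lit 0x100c2b2)) (.leaf (nat_lit 0x1d5))) (.node (.leaf (nat_lit 0x1006116)) (.leaf (nat_lit 0x0)))))) (.node (.node (.node (.node (.leaf (nat_lit 0xe170)) (.leaf (nat_lit 0xc299))) (.node (.leaf (nat_lit 0xa292)) (.leaf (nat_lit 0x91bf)))) (.node (.node (.leaf (nat_lit 0xc0df)) (.leaf (nat_lit 0xf116))) (.node (.leaf (nat_lit 0x100b201)) (.leaf (nat_lit 0x0))))) (.node (.node (.node (.leaf (nat_lit 0x2c199)) (.leaf (nat_lit 0x1000331))) (.node (.leaf (nat_lit 0xb041)) (.leaf (nat_lit 0x0)))) (.node (.node (.leaf (nat_lit 0x201c)) (.leaf (nat_lit 0x1107))) (.node (.leaf (nat_lit 0xc0f0)) (.leaf (nat_lit 0x0)))))))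 (.node (.node (.node (.node (.node (.leaf (nat_lit 0x100119b)) (.leaf (nat_lit 0x406a))) (.node (.leaf (nat_lit 0x502e)) (.leaf (nat_lit 0x4050)))) (.node (.node (.leaf (nat_lit 0x5006)) (.leaf (nat_lit 0x10092a0))) (.node (.leaf (nat_lit 0x1001336)) (.leaf (nat_lit 0x0))))) (.node (.node (.node (.leaf (nat_lit 0x10052b2)) (.leaf (nat_lit 0x72b0))) (.node (.leaf (nat_lit 0x90e6)) (.leaf (nat_lit 0x0)))) (.node (.node (.leaf (nat_lit 0x100905f)) (.leaf (nat_lit 0x9219))) (.node (.leaf (nat_lit 0x2030)) (.leaf (nat_lit 0x0)))))) (.node (.node (.node (.node (.leaf (nat_lit 0x100d2d6)) (.leaf (nat_lit 0x100e115))) (.node (.leaf (nat_lit 0xb287)) (.leaf (nat_lit 0x201d)))) (.node (.node (.leaf (nat_lit 0x6060)) (.leaf (nat_lit 0x1002027))) (.node (.leaf (nat_lit 0x2104)) (.leaf (nat_lit 0x0))))) (.node (.node (.node (.leaf (nat_lit 0x100410e)) (.leaf (nat_lit 0xa151))) (.node (.leaf (nat_lit 0x80ae)) (.leaf (nat_lit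 0x0)))) (.node (.node (.leaf (nat_lit 0xa06c)) (.leaf (nat_lit 0x6312))) (.node (.leaf (nat_lit 0x100b060)) (.leaf (nat_lit 0x0))))))))) (.node (.node (.node (.node (.node (.node (.node (.leaf (nat_lit 0x7008)) (.leaf (nat_lit 0x1008117))) (.node (.leaf (nat_lit 0xd107)) (.leaf (nat_lit 0x7058)))) (.node (.node (.leaf (nat_lit 0x1004339)) (.leaf (nat_lit 0x52db))) (.node (.leaf (nat_lit 0xa112)) (.leaf (nat_lit 0x0))))) (.node (.node (.node (.leaf (nat_lit 0x820a)) (.leaf (nat_lit 0x21eb))) (.node (.leaf (nat_lit 0x10042fd)) (.leaf (nat_lit 0x100321d)))) (.node (.node (.leaf (nat_lit 0xc250)) (.leaf (nat_lit 0x1007299))) (.node (.leaf (nat_lit 0xb21d)) (.leaf (nat_lit 0x0)))))) (.node (.node (.node (.node (.leaf (nat_lit 0x2c)) (.leaf (nat_lit 0x10011b0))) (.node (.leaf (nat_lit 0x1009016)) (.leaf (nat_lit 0x7037)))) (.node (.node (.leaf (nat_lit 0x81c3)) (.leaf (nat_lit 0xc137))) (.node (.leaf (nat_lit 0x1003281))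 (.leaf (nat_lit 0x0))))) (.node (.node (.node (.leaf (nat_lit 0x10022b2)) (.leaf (nat_lit 0x100f157))) (.node (.leaf (nat_lit 0x70dd)) (.leaf (nat_lit 0x0)))) (.node (.node (.leaf (nat_lit 0x11a2)) (.leaf (nat_lit 0x100c25d))) (.node (.leaf (nat_lit 0x3050)) (.leaf (nat_lit 0x0))))))) (.node (.node (.node (.node (.node (.leaf (nat_lit 0x11a7)) (.leaf (nat_lit 0x10061b6))) (.node (.leaf (nat_lit 0x100b2ac)) (.leaf (nat_lit 0xaa)))) (.node (.node (.leaf (nat_lit 0x1005271)) (.leaf (nat_lit 0x41aa))) (.node (.leaf (nat_lit 0x100827f)) (.leaf (nat_lit 0x0))))) (.node (.node (.node (.leaf (nat_lit 0x31b1)) (.leaf (nat_lit 0x4b))) (.node (.leaf (nat_lit 0x8056)) (.leaf (nat_lit 0x2095)))) (.node (.node (.leaf (nat_lit 0x1045)) (.leaf (nat_lit 0x10010e4))) (.node (.leaf (nat_lit 0x1004217)) (.leaf (nat_lit 0x0)))))) (.node (.node (.node (.node (.leaf (nat_lit 0x100a0f6)) (.leaf (nat_lit 0x100c0f0))) (.node (.leaf (nat_lit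 0x8036)) (.leaf (nat_lit 0x101d337)))) (.node (.node (.leaf (nat_lit 0x10011a0)) (.leaf (nat_lit 0x803a))) (.node (.leaf (nat_lit 0x15a)) (.leaf (nat_lit 0x0))))) (.node (.node (.node (.leaf (nat_lit 0x1005081)) (.leaf (nat_lit 0x1004294))) (.node (.leaf (nat_lit 0x12199)) (.leaf (nat_lit 0x0)))) (.node (.node (.leaf (nat_lit 0x507a)) (.leaf (nat_lit 0xa27f))) (.node (.leaf (nat_lit 0x1c)) (.leaf (nat_lit 0x0)))))))) (.node (.node (.node (.node (.node (.node (.leaf (nat_lit 0x7010)) (.leaf (nat_lit 0x10031e4))) (.node (.leaf (nat_lit 0x1004220)) (.leaf (nat_lit 0xa12f)))) (.node (.node (.leaf (nat_lit 0xc0d5)) (.leaf (nat_lit 0x321a))) (.node (.leaf (nat_lit 0x10072a0)) (.leaf (nat_lit 0x0))))) (.node (.node (.node (.leaf (nat_lit 0x105f)) (.leaf (nat_lit 0x8280))) (.node (.leaf (nat_lit 0x1000013)) (.leaf (nat_lit 0x100c2f6)))) (.node (.node (.leaf (nat_lit 0x4214)) (.leaf (nat_lit 0x100b069))) (.node (.leaf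 (nat_lit 0x31a5)) (.leaf (nat_lit 0x0)))))) (.node (.node (.node (.node (.leaf (nat_lit 0x429e)) (.leaf (nat_lit 0x8032))) (.node (.leaf (nat_lit 0xb0ef)) (.leaf (nat_lit 0x100210f)))) (.node (.node (.leaf (nat_lit 0x10010fb)) (.leaf (nat_lit 0x100105e))) (.node (.leaf (nat_lit 0x221f)) (.leaf (nat_lit 0x0))))) (.node (.node (.node (.leaf (nat_lit 0x500b)) (.leaf (nat_lit 0x100528b))) (.node (.leaf (nat_lit 0x6294)) (.leaf (nat_lit 0x0)))) (.node (.node (.leaf (nat_lit 0x60f2)) (.leaf (nat_lit 0x80fb))) (.node (.leaf (nat_lit 0x203c)) (.leaf (nat_lit 0x0))))))) (.node (.node (.node (.node (.node (.leaf (nat_lit 0x1009100)) (.leaf (nat_lit 0x2083))) (.node (.leaf (nat_lit 0x625a)) (.leaf (nat_lit 0x4068)))) (.node (.node (.leaf (nat_lit 0x62d5)) (.leaf (nat_lit 0x6267))) (.node (.leaf (nat_lit 0x203d)) (.leaf (nat_lit 0x0))))) (.node (.node (.node (.leaf (nat_lit 0x1114)) (.leaf (nat_lit 0x100407b))) (.node (.leaf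 (nat_lit 0x10051b3)) (.leaf (nat_lit 0x0)))) (.node (.node (.leaf (nat_lit 0x3296)) (.leaf (nat_lit 0x10061e8))) (.node (.leaf (nat_lit 0xf15b)) (.leaf (nat_lit 0x0)))))) (.node (.node (.node (.node (.leaf (nat_lit 0x100a114)) (.leaf (nat_lit 0x4014))) (.node (.leaf (nat_lit 0x8285)) (.leaf (nat_lit 0x100b06a)))) (.node (.node (.leaf (nat_lit 0xa102)) (.leaf (nat_lit 0x1009017))) (.node (.leaf (nat_lit 0xf185)) (.leaf (nat_lit 0x0))))) (.node (.node (.node (.leaf (nat_lit 0x119f)) (.leaf (nat_lit 0xd297))) (.node (.leaf (nat_lit 0x1006100)) (.leaf (nat_lit 0x0)))) (.node (.node (.leaf (nat_lit 0x8075)) (.leaf (nat_lit 0x100d2c6))) (.node (.leaf (nat_lit 0x4025)) (.leaf (nat_lit 0x0)))))))))))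

end Cfsg.Agent.TcData.HN.I1539000
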