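import Cfsg.Agent.Lib.TcFacts

set_option autoImplicit false
set_option Elab.async false
set_option maxRecDepth 100000
set_option linter.all false

namespace Cfsg.Agent.TcData.HN.I1539000

open Cfsg.Agent.Lib.TcFacts

/-- A part of a table. -/
noncomputable def PH13 : Tr := (.node (.node (.node (.node (.node (.node (.node (.node (.node (.leaf (nat_lit 0x19a)) (.leaf (nat_lit 0x1002289))) (.node (.leaf (nat_lit 0x21c1)) (.leaf (nat_lit 0x62a4)))) (.node (.node (.leaf (nat_lit 0x1071)) (.leaf (nat_lit 0x90b6))) (.node (.leaf (nat_lit 0x42af)) (.leaf (nat_lit 0x0))))) (.node (.node (.node (.leaf (nat_lit 0x4105)) (.leaf (nat_lit 0x100620d))) (.node (.leaf (nat_lit 0x100002a)) (.leaf (nat_lit 0xa1e5)))) (.node (.node (.leaf (nat_lit 0x51ca)) (.leaf (nat_lit 0x10081e5))) (.node (.leaf (nat_lit 0x60f1)) (.leaf (nat_lit 0x0)))))) (.node (.node (.node (.node (.leaf (nat_lit 0x1290)) (.leaf (nat_lit 0x3078))) (.node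 (.leaf (nat_lit 0x1014337)) (.leaf (nat_lit 0xb20f)))) (.node (.node (.leaf (nat_lit 0x1006117)) (.leaf (nat_lit 0x100312f))) (.node (.leaf (nat_lit 0x1003287)) (.leaf (nat_lit 0x0))))) (.node (.node (.node (.leaf (nat_lit 0x113)) (.leaf (nat_lit 0x10031ab))) (.node (.leaf (nat_lit 0x100228c)) (.leaf (nat_lit 0x0)))) (.node (.node (.leaf (nat_lit 0x10080e2)) (.leaf (nat_lit 0x1000030))) (.node (.leaf (nat_lit 0x508b)) (.leaf (nat_lit 0x0))))))) (.node (.node (.node (.node (.node (.leaf (nat_lit 0x428e)) (.leaf (nat_lit 0x12d8))) (.node (.leaf (nat_lit 0x72a9)) (.leaf (nat_lit 0x525c)))) (.node (.node (.leaf (nat_lit 0x21be)) (.leaf (nat_lit 0x126f))) (.node (.leaf (nat_lit 0x100b076)) (.leaf (nat_lit 0x0))))) (.node (.node (.node (.leaf (nat_lit 0x296)) (.leaf (nat_lit 0x51d0))) (.node (.leaf (nat_lit 0x7064)) (.leaf (nat_lit 0x4173)))) (.node (.node (.leaf (nat_lit 0x128e)) (.leaf (nat_lit 0xe129))) (.node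 (.leaf (nat_lit 0x506a)) (.leaf (nat_lit 0x0)))))) (.node (.node (.node (.node (.leaf (nat_lit 0x6028)) (.leaf (nat_lit 0x50af))) (.node (.leaf (nat_lit 0x100c0eb)) (.leaf (nat_lit 0x3273)))) (.node (.node (.leaf (nat_lit 0x41b0)) (.leaf (nat_lit 0xb0a5))) (.node (.leaf (nat_lit 0x70a4)) (.leaf (nat_lit 0x0))))) (.node (.node (.node (.leaf (nat_lit 0xd27f)) (.leaf (nat_lit 0x5296))) (.node (.leaf (nat_lit 0xc)) (.leaf (nat_lit 0x0)))) (.node (.node (.leaf (nat_lit 0x10052aa)) (.leaf (nat_lit 0x1207))) (.node (.leaf (nat_lit 0x100f115)) (.leaf (nat_lit 0x0)))))))) (.node (.node (.node (.node (.node (.node (.leaf (nat_lit 0x1016)) (.leaf (nat_lit 0x1002073))) (.node (.leaf (nat_lit 0x100d110)) (.leaf (nat_lit 0x72ac)))) (.node (.node (.leaf (nat_lit 0x100a)) (.leaf (nat_lit 0xb1e4))) (.node (.leaf (nat_lit 0x100610f)) (.leaf (nat_lit 0x0))))) (.node (.node (.node (.leaf (nat_lit 0x9294)) (.leaf (nat_lit 0x71d5)))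 (.node (.leaf (nat_lit 0x501f)) (.leaf (nat_lit 0x12337)))) (.node (.node (.leaf (nat_lit 0x2065)) (.leaf (nat_lit 0x7047))) (.node (.leaf (nat_lit 0x100a27b)) (.leaf (nat_lit 0x0)))))) (.node (.node (.node (.node (.leaf (nat_lit 0x405e)) (.leaf (nat_lit 0x50bb))) (.node (.leaf (nat_lit 0x1004291)) (.leaf (nat_lit 0x41fb)))) (.node (.node (.leaf (nat_lit 0xa0f8)) (.leaf (nat_lit 0x1006032))) (.node (.leaf (nat_lit 0x10031ac)) (.leaf (nat_lit 0x0))))) (.node (.node (.node (.leaf (nat_lit 0x1194)) (.leaf (nat_lit 0x70f4))) (.node (.leaf (nat_lit 0x1002110)) (.leaf (nat_lit 0x0)))) (.node (.node (.leaf (nat_lit 0x100d10e)) (.leaf (nat_lit 0xa137))) (.node (.leaf (nat_lit 0x217)) (.leaf (nat_lit 0x0))))))) (.node (.node (.node (.node (.node (.leaf (nat_lit 0xa0d3)) (.leaf (nat_lit 0x50f1))) (.node (.leaf (nat_lit 0x10070fe)) (.leaf (nat_lit 0x3057)))) (.node (.node (.leaf (nat_lit 0xc27c)) (.leaf (nat_lit 0x2f337)))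 (.node (.leaf (nat_lit 0x10070e1)) (.leaf (nat_lit 0x0))))) (.node (.node (.node (.leaf (nat_lit 0x90e9)) (.leaf (nat_lit 0x100d294))) (.node (.leaf (nat_lit 0x1007107)) (.leaf (nat_lit 0x0)))) (.node (.node (.leaf (nat_lit 0x1006070)) (.leaf (nat_lit 0x509f))) (.node (.leaf (nat_lit 0x20a1)) (.leaf (nat_lit 0x0)))))) (.node (.node (.node (.node (.leaf (nat_lit 0x20fc)) (.leaf (nat_lit 0x10020f1))) (.node (.leaf (nat_lit 0x7068)) (.leaf (nat_lit 0x10d2)))) (.node (.node (.leaf (nat_lit 0x31bb)) (.leaf (nat_lit 0x5137))) (.node (.leaf (nat_lit 0x100c2a0)) (.leaf (nat_lit 0x0))))) (.node (.node (.node (.leaf (nat_lit 0x2d199)) (.leaf (nat_lit 0x70f1))) (.node (.leaf (nat_lit 0xb036)) (.leaf (nat_lit 0x0)))) (.node (.node (.leaf (nat_lit 0x100305e)) (.leaf (nat_lit 0x8025))) (.node (.leaf (nat_lit 0x626b)) (.leaf (nat_lit 0x0))))))))) (.node (.node (.node (.node (.node (.node (.node (.leaf (nat_lit 0xdd)) (.leaf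 (nat_lit 0x2e337))) (.node (.leaf (nat_lit 0x406b)) (.leaf (nat_lit 0x100a05c)))) (.node (.node (.leaf (nat_lit 0x52ad)) (.leaf (nat_lit 0x1003100))) (.node (.leaf (nat_lit 0x1007281)) (.leaf (nat_lit 0x0))))) (.node (.node (.node (.leaf (nat_lit 0xb27c)) (.leaf (nat_lit 0x1004040))) (.node (.leaf (nat_lit 0x720c)) (.leaf (nat_lit 0xd0bf)))) (.node (.node (.leaf (nat_lit 0xa040)) (.leaf (nat_lit 0x1003208))) (.node (.leaf (nat_lit 0x2e199)) (.leaf (nat_lit 0x0)))))) (.node (.node (.node (.node (.leaf (nat_lit 0x10092a2)) (.leaf (nat_lit 0x10001cc))) (.node (.leaf (nat_lit 0xc0de)) (.leaf (nat_lit 0x82f8)))) (.node (.node (.leaf (nat_lit 0x100019f)) (.leaf (nat_lit 0x1001301))) (.node (.leaf (nat_lit 0x100a111)) (.leaf (nat_lit 0x0))))) (.node (.node (.node (.leaf (nat_lit 0x100d0e3)) (.leaf (nat_lit 0xb28f))) (.node (.leaf (nat_lit 0x100416f)) (.leaf (nat_lit 0x0)))) (.node (.node (.leaf (nat_lit 0x70f3)) (.leaf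 (nat_lit 0x10031c0))) (.node (.leaf (nat_lit 0x5295)) (.leaf (nat_lit 0x0))))))) (.node (.node (.node (.node (.node (.leaf (nat_lit 0x12ad)) (.leaf (nat_lit 0x62ac))) (.node (.leaf (nat_lit 0x6108)) (.leaf (nat_lit 0x10052ef)))) (.node (.node (.leaf (nat_lit 0xa2b2)) (.leaf (nat_lit 0x14199))) (.node (.leaf (nat_lit 0x100b2af)) (.leaf (nat_lit 0x0))))) (.node (.node (.node (.leaf (nat_lit 0xb21a)) (.leaf (nat_lit 0x3079))) (.node (.leaf (nat_lit 0x10081eb)) (.leaf (nat_lit 0xb17a)))) (.node (.node (.leaf (nat_lit 0x500f)) (.leaf (nat_lit 0x10051b0))) (.node (.leaf (nat_lit 0x100d2f3)) (.leaf (nat_lit 0x0)))))) (.node (.node (.node (.node (.leaf (nat_lit 0x1054)) (.leaf (nat_lit 0xb03a))) (.node (.leaf (nat_lit 0x41e1)) (.leaf (nat_lit 0x401b)))) (.node (.node (.leaf (nat_lit 0x3065)) (.leaf (nat_lit 0xa034))) (.node (.leaf (nat_lit 0x1000069)) (.leaf (nat_lit 0x0))))) (.node (.node (.node (.leaf (nat_lit 0x60ee))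 (.leaf (nat_lit 0x273))) (.node (.leaf (nat_lit 0x100a211)) (.leaf (nat_lit 0x0)))) (.node (.node (.leaf (nat_lit 0x50dd)) (.leaf (nat_lit 0x4218))) (.node (.leaf (nat_lit 0xf199)) (.leaf (nat_lit 0x0)))))))) (.node (.node (.node (.node (.node (.node (.leaf (nat_lit 0xa05e)) (.leaf (nat_lit 0x1006042))) (.node (.leaf (nat_lit 0x706d)) (.leaf (nat_lit 0x225b)))) (.node (.node (.leaf (nat_lit 0x10041ad)) (.leaf (nat_lit 0x4099))) (.node (.leaf (nat_lit 0x5170)) (.leaf (nat_lit 0x0))))) (.node (.node (.node (.leaf (nat_lit 0x30ff)) (.leaf (nat_lit 0x1083))) (.node (.leaf (nat_lit 0x2016)) (.leaf (nat_lit 0xb047)))) (.node (.node (.leaf (nat_lit 0x10010fe)) (.leaf (nat_lit 0x10022d9))) (.node (.leaf (nat_lit 0x11e9)) (.leaf (nat_lit 0x0)))))) (.node (.node (.node (.node (.leaf (nat_lit 0xb2b2)) (.leaf (nat_lit 0x6017))) (.node (.leaf (nat_lit 0x1007205)) (.leaf (nat_lit 0xb187)))) (.node (.node (.leaf (nat_lit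 0x100a064)) (.leaf (nat_lit 0x100930b))) (.node (.leaf (nat_lit 0x213e)) (.leaf (nat_lit 0x0))))) (.node (.node (.node (.leaf (nat_lit 0x60df)) (.leaf (nat_lit 0x10080df))) (.node (.leaf (nat_lit 0x62b3)) (.leaf (nat_lit 0x0)))) (.node (.node (.leaf (nat_lit 0x110c)) (.leaf (nat_lit 0x2284))) (.node (.leaf (nat_lit 0x100301f)) (.leaf (nat_lit 0x0))))))) (.node (.node (.node (.node (.node (.leaf (nat_lit 0x6063)) (.leaf (nat_lit 0x100307e))) (.node (.leaf (nat_lit 0x1006110)) (.leaf (nat_lit 0x10050f5)))) (.node (.node (.leaf (nat_lit 0x1003111)) (.leaf (nat_lit 0xb15d))) (.node (.leaf (nat_lit 0x10082aa)) (.leaf (nat_lit 0x0))))) (.node (.node (.node (.leaf (nat_lit 0x500c)) (.leaf (nat_lit 0x100d298))) (.node (.leaf (nat_lit 0x10060e1)) (.leaf (nat_lit 0x0)))) (.node (.node (.leaf (nat_lit 0x5100)) (.leaf (nat_lit 0x1009112))) (.node (.leaf (nat_lit 0xa2b0)) (.leaf (nat_lit 0x0)))))) (.node (.node (.node (.node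 (.leaf (nat_lit 0x100420e)) (.leaf (nat_lit 0x81c2))) (.node (.leaf (nat_lit 0x71c1)) (.leaf (nat_lit 0x7271)))) (.node (.node (.leaf (nat_lit 0xa28d)) (.leaf (nat_lit 0x1003006))) (.node (.leaf (nat_lit 0x12a0)) (.leaf (nat_lit 0x0))))) (.node (.node (.node (.leaf (nat_lit 0x910e)) (.leaf (nat_lit 0x2d8))) (.node (.leaf (nat_lit 0x157)) (.leaf (nat_lit 0x0)))) (.node (.node (.leaf (nat_lit 0x10041b7)) (.leaf (nat_lit 0x10070f9))) (.node (.leaf (nat_lit 0xb293)) (.leaf (nat_lit 0x0)))))))))) (.node (.node (.node (.node (.node (.node (.node (.node (.leaf (nat_lit 0x19e)) (.leaf (nat_lit 0x9077))) (.node (.leaf (nat_lit 0x10040f2)) (.leaf (nat_lit 0x5087)))) (.node (.node (.leaf (nat_lit 0x310e)) (.leaf (nat_lit 0x8070))) (.node (.leaf (nat_lit 0x10000fc)) (.leaf (nat_lit 0x0))))) (.node (.node (.node (.leaf (nat_lit 0x80f2)) (.leaf (nat_lit 0x1dc))) (.node (.leaf (nat_lit 0x1003220)) (.leaf (nat_lit 0x40ed))))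 (.node (.node (.leaf (nat_lit 0xc0ff)) (.leaf (nat_lit 0x706e))) (.node (.leaf (nat_lit 0x1005294)) (.leaf (nat_lit 0x0)))))) (.node (.node (.node (.node (.leaf (nat_lit 0x1004063)) (.leaf (nat_lit 0x12a7))) (.node (.leaf (nat_lit 0x100429b)) (.leaf (nat_lit 0x8289)))) (.node (.node (.leaf (nat_lit 0x2217)) (.leaf (nat_lit 0xc093))) (.node (.leaf (nat_lit 0xb045)) (.leaf (nat_lit 0x0))))) (.node (.node (.node (.leaf (nat_lit 0xb040)) (.leaf (nat_lit 0x4024))) (.node (.leaf (nat_lit 0x1004336)) (.leaf (nat_lit 0x0)))) (.node (.node (.leaf (nat_lit 0x828b)) (.leaf (nat_lit 0x71a9))) (.node (.leaf (nat_lit 0x1009294)) (.leaf (nat_lit 0x0))))))) (.node (.node (.node (.node (.node (.leaf (nat_lit 0xc114)) (.leaf (nat_lit 0x50ea))) (.node (.leaf (nat_lit 0x100129b)) (.leaf (nat_lit 0x100b2d7)))) (.node (.node (.leaf (nat_lit 0x2004)) (.leaf (nat_lit 0x10071c1))) (.node (.leaf (nat_lit 0x710d)) (.leaf (nat_lit 0x0)))))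 (.node (.node (.node (.leaf (nat_lit 0x320b)) (.leaf (nat_lit 0x1046))) (.node (.leaf (nat_lit 0x72aa)) (.leaf (nat_lit 0x7305)))) (.node (.node (.leaf (nat_lit 0xe7)) (.leaf (nat_lit 0x3152))) (.node (.leaf (nat_lit 0x70)) (.leaf (nat_lit 0x0)))))) (.node (.node (.node (.node (.leaf (nat_lit 0x7067)) (.leaf (nat_lit 0x90bb))) (.node (.leaf (nat_lit 0x520a)) (.leaf (nat_lit 0x1003011)))) (.node (.node (.leaf (nat_lit 0x100d29a)) (.leaf (nat_lit 0x100706c))) (.node (.leaf (nat_lit 0x12)) (.leaf (nat_lit 0x0))))) (.node (.node (.node (.leaf (nat_lit 0x52b2)) (.leaf (nat_lit 0x100407a))) (.node (.leaf (nat_lit 0x61b8)) (.leaf (nat_lit 0x0)))) (.node (.node (.leaf (nat_lit 0x10000dd)) (.leaf (nat_lit 0x1007218))) (.node (.leaf (nat_lit 0x10050f7)) (.leaf (nat_lit 0x0)))))))) (.node (.node (.node (.node (.node (.node (.leaf (nat_lit 0x1a3)) (.leaf (nat_lit 0x100521c))) (.node (.leaf (nat_lit 0x1006065)) (.leaf (nat_lit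 0x8076)))) (.node (.node (.leaf (nat_lit 0x80)) (.leaf (nat_lit 0x2079))) (.node (.leaf (nat_lit 0xa043)) (.leaf (nat_lit 0x0))))) (.node (.node (.node (.leaf (nat_lit 0x705e)) (.leaf (nat_lit 0x5200))) (.node (.leaf (nat_lit 0x1008060)) (.leaf (nat_lit 0x10d6)))) (.node (.node (.leaf (nat_lit 0x5113)) (.leaf (nat_lit 0x90da))) (.node (.leaf (nat_lit 0x1003041)) (.leaf (nat_lit 0x0)))))) (.node (.node (.node (.node (.leaf (nat_lit 0x705f)) (.leaf (nat_lit 0x100c0f2))) (.node (.leaf (nat_lit 0x10011fc)) (.leaf (nat_lit 0x21bb)))) (.node (.node (.leaf (nat_lit 0xc0db)) (.leaf (nat_lit 0x100a293))) (.node (.leaf (nat_lit 0x1000020)) (.leaf (nat_lit 0x0))))) (.node (.node (.node (.leaf (nat_lit 0x2a199)) (.leaf (nat_lit 0x1002336))) (.node (.leaf (nat_lit 0x8111)) (.leaf (nat_lit 0x0)))) (.node (.node (.leaf (nat_lit 0x1003193)) (.leaf (nat_lit 0x90b9))) (.node (.leaf (nat_lit 0x10050e7)) (.leaf (nat_lit 0x0)))))))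 (.node (.node (.node (.node (.node (.leaf (nat_lit 0xa0fd)) (.leaf (nat_lit 0x10091fe))) (.node (.leaf (nat_lit 0x502f)) (.leaf (nat_lit 0x1041)))) (.node (.node (.leaf (nat_lit 0x5007)) (.leaf (nat_lit 0x10071e6))) (.node (.leaf (nat_lit 0x10061ad)) (.leaf (nat_lit 0x0))))) (.node (.node (.node (.leaf (nat_lit 0xe)) (.leaf (nat_lit 0x100621f))) (.node (.leaf (nat_lit 0x23b)) (.leaf (nat_lit 0x0)))) (.node (.node (.leaf (nat_lit 0xd292)) (.leaf (nat_lit 0x72))) (.node (.leaf (nat_lit 0x100a21b)) (.leaf (nat_lit 0x0)))))) (.node (.node (.node (.node (.leaf (nat_lit 0x6214)) (.leaf (nat_lit 0x100d2b4))) (.node (.leaf (nat_lit 0x1008160)) (.leaf (nat_lit 0x110a)))) (.node (.node (.leaf (nat_lit 0x5018)) (.leaf (nat_lit 0x11bb))) (.node (.leaf (nat_lit 0x92d8)) (.leaf (nat_lit 0x0))))) (.node (.node (.node (.leaf (nat_lit 0x100119f)) (.leaf (nat_lit 0x1003298))) (.node (.leaf (nat_lit 0x1113)) (.leaf (nat_lit 0x0))))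 (.node (.node (.leaf (nat_lit 0xa064)) (.leaf (nat_lit 0x6314))) (.node (.leaf (nat_lit 0x1007078)) (.leaf (nat_lit 0x0))))))))) (.node (.node (.node (.node (.node (.node (.node (.leaf (nat_lit 0x31a0)) (.leaf (nat_lit 0x5093))) (.node (.leaf (nat_lit 0x12f6)) (.leaf (nat_lit 0x705c)))) (.node (.node (.leaf (nat_lit 0x606d)) (.leaf (nat_lit 0x10011e2))) (.node (.leaf (nat_lit 0x61e1)) (.leaf (nat_lit 0x0))))) (.node (.node (.node (.leaf (nat_lit 0x8201)) (.leaf (nat_lit 0x4070))) (.node (.leaf (nat_lit 0x1006048)) (.leaf (nat_lit 0x8212)))) (.node (.node (.leaf (nat_lit 0x10)) (.leaf (nat_lit 0x100207d))) (.node (.leaf (nat_lit 0x10092d8)) (.leaf (nat_lit 0x0)))))) (.node (.node (.node (.node (.leaf (nat_lit 0x21ab)) (.leaf (nat_lit 0x100a0f8))) (.node (.leaf (nat_lit 0x7018)) (.leaf (nat_lit 0x100d0cf)))) (.node (.node (.leaf (nat_lit 0x90f6)) (.leaf (nat_lit 0x100f165))) (.node (.leaf (nat_lit 0x6273)) (.leaf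 (nat_lit 0x0))))) (.node (.node (.node (.leaf (nat_lit 0x100904e)) (.leaf (nat_lit 0x10092a8))) (.node (.leaf (nat_lit 0x3138)) (.leaf (nat_lit 0x0)))) (.node (.node (.leaf (nat_lit 0x21a1)) (.leaf (nat_lit 0x10090df))) (.node (.leaf (nat_lit 0x61de)) (.leaf (nat_lit 0x0))))))) (.node (.node (.node (.node (.node (.leaf (nat_lit 0x112)) (.leaf (nat_lit 0xa18d))) (.node (.leaf (nat_lit 0x1005112)) (.leaf (nat_lit 0x1002066)))) (.node (.node (.leaf (nat_lit 0x70ee)) (.leaf (nat_lit 0x2f6))) (.node (.leaf (nat_lit 0x4048)) (.leaf (nat_lit 0x0))))) (.node (.node (.node (.leaf (nat_lit 0xb046)) (.leaf (nat_lit 0xd2))) (.node (.leaf (nat_lit 0xb05a)) (.leaf (nat_lit 0x8175)))) (.node (.node (.leaf (nat_lit 0x20d2)) (.leaf (nat_lit 0x302f))) (.node (.leaf (nat_lit 0x10030cf)) (.leaf (nat_lit 0x0)))))) (.node (.node (.node (.node (.leaf (nat_lit 0x40f5)) (.leaf (nat_lit 0xc0a2))) (.node (.leaf (nat_lit 0x220)) (.leaf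 (nat_lit 0x1006091)))) (.node (.node (.leaf (nat_lit 0x1003004)) (.leaf (nat_lit 0x1005207))) (.node (.leaf (nat_lit 0x10092d5)) (.leaf (nat_lit 0x0))))) (.node (.node (.node (.leaf (nat_lit 0x502d)) (.leaf (nat_lit 0x10032a8))) (.node (.leaf (nat_lit 0x10091ec)) (.leaf (nat_lit 0x0)))) (.node (.node (.leaf (nat_lit 0x2208)) (.leaf (nat_lit 0xd283))) (.node (.leaf (nat_lit 0x6050)) (.leaf (nat_lit 0x0)))))))) (.node (.node (.node (.node (.node (.node (.leaf (nat_lit 0xc8)) (.leaf (nat_lit 0x10020f2))) (.node (.leaf (nat_lit 0x51a6)) (.leaf (nat_lit 0xd13d)))) (.node (.node (.leaf (nat_lit 0x72ad)) (.leaf (nat_lit 0x7f))) (.node (.leaf (nat_lit 0x1003027)) (.leaf (nat_lit 0x0))))) (.node (.node (.node (.leaf (nat_lit 0x205f)) (.leaf (nat_lit 0x100c0dd))) (.node (.leaf (nat_lit 0x1005002)) (.leaf (nat_lit 0x2089)))) (.node (.node (.leaf (nat_lit 0xc117)) (.leaf (nat_lit 0x1002218))) (.node (.leaf (nat_lit 0x100d10f))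 (.leaf (nat_lit 0x0)))))) (.node (.node (.node (.node (.leaf (nat_lit 0x71b7)) (.leaf (nat_lit 0x927e))) (.node (.leaf (nat_lit 0x810d)) (.leaf (nat_lit 0xa09d)))) (.node (.node (.leaf (nat_lit 0x10010ef)) (.leaf (nat_lit 0x10021ac))) (.node (.leaf (nat_lit 0x60eb)) (.leaf (nat_lit 0x0))))) (.node (.node (.node (.leaf (nat_lit 0x5013)) (.leaf (nat_lit 0x337))) (.node (.leaf (nat_lit 0x10051ab)) (.leaf (nat_lit 0x0)))) (.node (.node (.leaf (nat_lit 0x8078)) (.leaf (nat_lit 0x100405f))) (.node (.leaf (nat_lit 0x26e)) (.leaf (nat_lit 0x0))))))) (.node (.node (.node (.node (.node (.leaf (nat_lit 0x6331)) (.leaf (nat_lit 0x9121))) (.node (.leaf (nat_lit 0x625c)) (.leaf (nat_lit 0xb177)))) (.node (.node (.leaf (nat_lit 0x330e)) (.leaf (nat_lit 0x31cf))) (.node (.leaf (nat_lit 0x1009106)) (.leaf (nat_lit 0x0))))) (.node (.node (.node (.leaf (nat_lit 0x1142)) (.leaf (nat_lit 0xb06a))) (.node (.leaf (nat_lit 0x1005281))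 (.leaf (nat_lit 0x0)))) (.node (.node (.leaf (nat_lit 0x1007)) (.leaf (nat_lit 0x10061e9))) (.node (.leaf (nat_lit 0xe2fb)) (.leaf (nat_lit 0x0)))))) (.node (.node (.node (.node (.leaf (nat_lit 0x1002220)) (.leaf (nat_lit 0x100a046))) (.node (.leaf (nat_lit 0x8292)) (.leaf (nat_lit 0x72a0)))) (.node (.node (.leaf (nat_lit 0x4062)) (.leaf (nat_lit 0x10091e9))) (.node (.leaf (nat_lit 0x7072)) (.leaf (nat_lit 0x0))))) (.node (.node (.node (.leaf (nat_lit 0x6007)) (.leaf (nat_lit 0xa101))) (.node (.leaf (nat_lit 0x208f)) (.leaf (nat_lit 0x0)))) (.node (.node (.leaf (nat_lit 0x2203)) (.leaf (nat_lit 0x9039))) (.node (.leaf (nat_lit 0xe30e)) (.leaf (nat_lit 0x0)))))))))))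

end Cfsg.Agent.TcData.HN.I1539000
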