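import Cfsg.Agent.Lib.TcFacts

set_option autoImplicit false
set_option Elab.async false
set_option maxRecDepth 100000
set_option linter.all false

namespace Cfsg.Agent.TcData.HN.I1539000

open Cfsg.Agent.Lib.TcFacts

/-- A part of a table. -/
noncomputable def PH14 : Tr := (.node (.node (.node (.node (.node (.node (.node (.node (.node (.leaf (nat_lit 0x100219b)) (.leaf (nat_lit 0x71b0))) (.node (.leaf (nat_lit 0x21c3)) (.leaf (nat_lit 0x5199)))) (.node (.node (.leaf (nat_lit 0x907d)) (.leaf (nat_lit 0xc25e))) (.node (.leaf (nat_lit 0x8047)) (.leaf (nat_lit 0x0))))) (.node (.node (.node (.leaf (nat_lit 0xeb)) (.leaf (nat_lit 0x8115))) (.node (.leaf (nat_lit 0xa06d)) (.leaf (nat_lit 0x10090b1)))) (.node (.node (.leaf (nat_lit 0x1c2)) (.leaf (nat_lit 0x4015))) (.node (.leaf (nat_lit 0x100220c)) (.leaf (nat_lit 0x0)))))) (.node (.node (.node (.node (.leaf (nat_lit 0x80fd)) (.leaf (nat_lit 0xa0ea))) (.node (.leaf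 (nat_lit 0x1014199)) (.leaf (nat_lit 0x100a053)))) (.node (.node (.leaf (nat_lit 0x100d198)) (.leaf (nat_lit 0x2169))) (.node (.leaf (nat_lit 0x100b21b)) (.leaf (nat_lit 0x0))))) (.node (.node (.node (.leaf (nat_lit 0x41a0)) (.leaf (nat_lit 0x1008070))) (.node (.leaf (nat_lit 0x100b040)) (.leaf (nat_lit 0x0)))) (.node (.node (.leaf (nat_lit 0x1005205)) (.leaf (nat_lit 0x107a))) (.node (.leaf (nat_lit 0x528c)) (.leaf (nat_lit 0x0))))))) (.node (.node (.node (.node (.node (.leaf (nat_lit 0x406d)) (.leaf (nat_lit 0x12d6))) (.node (.leaf (nat_lit 0x80ea)) (.leaf (nat_lit 0xe127)))) (.node (.node (.leaf (nat_lit 0x60dc)) (.leaf (nat_lit 0x9125))) (.node (.leaf (nat_lit 0x100b067)) (.leaf (nat_lit 0x0))))) (.node (.node (.node (.leaf (nat_lit 0x4006)) (.leaf (nat_lit 0x51d1))) (.node (.leaf (nat_lit 0x1001331)) (.leaf (nat_lit 0x100707b)))) (.node (.node (.leaf (nat_lit 0x51c6)) (.leaf (nat_lit 0x100311d))) (.node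 (.leaf (nat_lit 0x5073)) (.leaf (nat_lit 0x0)))))) (.node (.node (.node (.node (.leaf (nat_lit 0x502a)) (.leaf (nat_lit 0xc113))) (.node (.leaf (nat_lit 0xc2f6)) (.leaf (nat_lit 0x6138)))) (.node (.node (.leaf (nat_lit 0x51af)) (.leaf (nat_lit 0x20f1))) (.node (.leaf (nat_lit 0x10080dd)) (.leaf (nat_lit 0x0))))) (.node (.node (.node (.leaf (nat_lit 0x702b)) (.leaf (nat_lit 0x10000f8))) (.node (.leaf (nat_lit 0x61a8)) (.leaf (nat_lit 0x0)))) (.node (.node (.leaf (nat_lit 0x10060fc)) (.leaf (nat_lit 0xe11f))) (.node (.leaf (nat_lit 0x1001102)) (.leaf (nat_lit 0x0)))))))) (.node (.node (.node (.node (.node (.node (.leaf (nat_lit 0x702f)) (.leaf (nat_lit 0x70e9))) (.node (.leaf (nat_lit 0x10071ea)) (.leaf (nat_lit 0x727c)))) (.node (.node (.leaf (nat_lit 0x42ad)) (.leaf (nat_lit 0x10081e8))) (.node (.leaf (nat_lit 0x50f6)) (.leaf (nat_lit 0x0))))) (.node (.node (.node (.leaf (nat_lit 0x314d)) (.leaf (nat_lit 0x21e2)))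 (.node (.leaf (nat_lit 0xc085)) (.leaf (nat_lit 0x22)))) (.node (.node (.leaf (nat_lit 0x50e3)) (.leaf (nat_lit 0x904b))) (.node (.leaf (nat_lit 0xd117)) (.leaf (nat_lit 0x0)))))) (.node (.node (.node (.node (.leaf (nat_lit 0x62)) (.leaf (nat_lit 0x3137))) (.node (.leaf (nat_lit 0x1004283)) (.leaf (nat_lit 0xd177)))) (.node (.node (.leaf (nat_lit 0x52a4)) (.leaf (nat_lit 0x10041d1))) (.node (.leaf (nat_lit 0x1005042)) (.leaf (nat_lit 0x0))))) (.node (.node (.node (.leaf (nat_lit 0x8316)) (.leaf (nat_lit 0x60f4))) (.node (.leaf (nat_lit 0x6031)) (.leaf (nat_lit 0x0)))) (.node (.node (.leaf (nat_lit 0x1008066)) (.leaf (nat_lit 0x2b))) (.node (.leaf (nat_lit 0x1bb)) (.leaf (nat_lit 0x0))))))) (.node (.node (.node (.node (.node (.leaf (nat_lit 0x90d6)) (.leaf (nat_lit 0x8024))) (.node (.leaf (nat_lit 0xc0fe)) (.leaf (nat_lit 0x721d)))) (.node (.node (.leaf (nat_lit 0x20e3)) (.leaf (nat_lit 0x2170))) (.node (.leaf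 (nat_lit 0x521a)) (.leaf (nat_lit 0x0))))) (.node (.node (.node (.leaf (nat_lit 0x3112)) (.leaf (nat_lit 0x100821b))) (.node (.leaf (nat_lit 0x4113)) (.leaf (nat_lit 0x0)))) (.node (.node (.leaf (nat_lit 0x100320b)) (.leaf (nat_lit 0x100a0c9))) (.node (.leaf (nat_lit 0x50dc)) (.leaf (nat_lit 0x0)))))) (.node (.node (.node (.node (.leaf (nat_lit 0x100928f)) (.leaf (nat_lit 0x100707d))) (.node (.leaf (nat_lit 0x41c8)) (.leaf (nat_lit 0x1003199)))) (.node (.node (.leaf (nat_lit 0x31ba)) (.leaf (nat_lit 0x10062da))) (.node (.leaf (nat_lit 0x100421b)) (.leaf (nat_lit 0x0))))) (.node (.node (.node (.leaf (nat_lit 0x110e)) (.leaf (nat_lit 0x1005327))) (.node (.leaf (nat_lit 0xd093)) (.leaf (nat_lit 0x0)))) (.node (.node (.leaf (nat_lit 0x100b05e)) (.leaf (nat_lit 0xa033))) (.node (.leaf (nat_lit 0x626c)) (.leaf (nat_lit 0x0))))))))) (.node (.node (.node (.node (.node (.node (.node (.leaf (nat_lit 0x2185)) (.leaf (nat_lit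 0x100920a))) (.node (.leaf (nat_lit 0x6103)) (.leaf (nat_lit 0x3072)))) (.node (.node (.leaf (nat_lit 0xb111)) (.leaf (nat_lit 0x5070))) (.node (.leaf (nat_lit 0x1007284)) (.leaf (nat_lit 0x0))))) (.node (.node (.node (.leaf (nat_lit 0x1b199)) (.leaf (nat_lit 0x30a1))) (.node (.leaf (nat_lit 0xa07c)) (.leaf (nat_lit 0xc09b)))) (.node (.node (.leaf (nat_lit 0xa0f3)) (.leaf (nat_lit 0x100b0f4))) (.node (.leaf (nat_lit 0x22199)) (.leaf (nat_lit 0x0)))))) (.node (.node (.node (.node (.leaf (nat_lit 0x10042a0)) (.leaf (nat_lit 0x130e))) (.node (.leaf (nat_lit 0x100120e)) (.leaf (nat_lit 0x10021d8)))) (.node (.node (.leaf (nat_lit 0x920e)) (.leaf (nat_lit 0x1004101))) (.node (.leaf (nat_lit 0x16199)) (.leaf (nat_lit 0x0))))) (.node (.node (.node (.leaf (nat_lit 0x100d0e7)) (.leaf (nat_lit 0x41f6))) (.node (.leaf (nat_lit 0x1000008)) (.leaf (nat_lit 0x0)))) (.node (.node (.leaf (nat_lit 0x1b1)) (.leaf (nat_lit 0x1009087)))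 (.node (.leaf (nat_lit 0x11b1)) (.leaf (nat_lit 0x0))))))) (.node (.node (.node (.node (.node (.leaf (nat_lit 0x3026)) (.leaf (nat_lit 0x100a07d))) (.node (.leaf (nat_lit 0x610b)) (.leaf (nat_lit 0x100c27c)))) (.node (.node (.leaf (nat_lit 0x82ac)) (.leaf (nat_lit 0xa30d))) (.node (.leaf (nat_lit 0x100b0ea)) (.leaf (nat_lit 0x0))))) (.node (.node (.node (.leaf (nat_lit 0x41a4)) (.leaf (nat_lit 0xd298))) (.node (.leaf (nat_lit 0x27f)) (.leaf (nat_lit 0x90ac)))) (.node (.node (.leaf (nat_lit 0x2153)) (.leaf (nat_lit 0x10081d8))) (.node (.leaf (nat_lit 0x100a290)) (.leaf (nat_lit 0x0)))))) (.node (.node (.node (.node (.leaf (nat_lit 0x726b)) (.leaf (nat_lit 0x100514f))) (.node (.leaf (nat_lit 0x90a1)) (.leaf (nat_lit 0x20f4)))) (.node (.node (.leaf (nat_lit 0x3071)) (.leaf (nat_lit 0x100b137))) (.node (.leaf (nat_lit 0x1000206)) (.leaf (nat_lit 0x0))))) (.node (.node (.node (.leaf (nat_lit 0xb043)) (.leaf (nat_lit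 0x8099))) (.node (.leaf (nat_lit 0x5207)) (.leaf (nat_lit 0x0)))) (.node (.node (.leaf (nat_lit 0x50e1)) (.leaf (nat_lit 0x521d))) (.node (.leaf (nat_lit 0x31b0)) (.leaf (nat_lit 0x0)))))))) (.node (.node (.node (.node (.node (.node (.leaf (nat_lit 0x2003)) (.leaf (nat_lit 0x10f4))) (.node (.leaf (nat_lit 0x10011e4)) (.leaf (nat_lit 0x31ed)))) (.node (.node (.leaf (nat_lit 0x10040e7)) (.leaf (nat_lit 0x21b3))) (.node (.leaf (nat_lit 0x41b4)) (.leaf (nat_lit 0x0))))) (.node (.node (.node (.leaf (nat_lit 0x629e)) (.leaf (nat_lit 0x1005299))) (.node (.leaf (nat_lit 0x7011)) (.leaf (nat_lit 0x31e5)))) (.node (.node (.leaf (nat_lit 0xb07a)) (.leaf (nat_lit 0xc17b))) (.node (.leaf (nat_lit 0x10031be)) (.leaf (nat_lit 0x0)))))) (.node (.node (.node (.node (.leaf (nat_lit 0xc111)) (.leaf (nat_lit 0x100c160))) (.node (.leaf (nat_lit 0x100720b)) (.leaf (nat_lit 0x70e5)))) (.node (.node (.leaf (nat_lit 0x100b336)) (.leaf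 (nat_lit 0xa0a5))) (.node (.leaf (nat_lit 0x100f18b)) (.leaf (nat_lit 0x0))))) (.node (.node (.node (.leaf (nat_lit 0x70e0)) (.leaf (nat_lit 0x100727d))) (.node (.leaf (nat_lit 0x80d3)) (.leaf (nat_lit 0x0)))) (.node (.node (.leaf (nat_lit 0x2b2)) (.leaf (nat_lit 0xf11b))) (.node (.leaf (nat_lit 0x1005292)) (.leaf (nat_lit 0x0))))))) (.node (.node (.node (.node (.node (.leaf (nat_lit 0x71fe)) (.leaf (nat_lit 0x100f15f))) (.node (.leaf (nat_lit 0x100506b)) (.leaf (nat_lit 0x91e8)))) (.node (.node (.leaf (nat_lit 0x6112)) (.leaf (nat_lit 0x100807d))) (.node (.leaf (nat_lit 0x10082d5)) (.leaf (nat_lit 0x0))))) (.node (.node (.node (.leaf (nat_lit 0x4026)) (.leaf (nat_lit 0x11c7))) (.node (.leaf (nat_lit 0x9220)) (.leaf (nat_lit 0x0)))) (.node (.node (.leaf (nat_lit 0x215f)) (.leaf (nat_lit 0x207c))) (.node (.leaf (nat_lit 0x41b3)) (.leaf (nat_lit 0x0)))))) (.node (.node (.node (.node (.leaf (nat_lit 0x100420d))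 (.leaf (nat_lit 0x11bc))) (.node (.leaf (nat_lit 0x31ac)) (.leaf (nat_lit 0x7272)))) (.node (.node (.leaf (nat_lit 0x5069)) (.leaf (nat_lit 0x10081f0))) (.node (.leaf (nat_lit 0x6042)) (.leaf (nat_lit 0x0))))) (.node (.node (.node (.leaf (nat_lit 0x7133)) (.leaf (nat_lit 0x10081ea))) (.node (.leaf (nat_lit 0xe2f6)) (.leaf (nat_lit 0x0)))) (.node (.node (.leaf (nat_lit 0x1004281)) (.leaf (nat_lit 0x807c))) (.node (.leaf (nat_lit 0xc10b)) (.leaf (nat_lit 0x0)))))))))) (.node (.node (.node (.node (.node (.node (.node (.node (.leaf (nat_lit 0x1003)) (.leaf (nat_lit 0xb064))) (.node (.leaf (nat_lit 0x11cb)) (.leaf (nat_lit 0xe150)))) (.node (.node (.leaf (nat_lit 0xb037)) (.leaf (nat_lit 0x4296))) (.node (.leaf (nat_lit 0x1009206)) (.leaf (nat_lit 0x0))))) (.node (.node (.node (.leaf (nat_lit 0x10070fd)) (.leaf (nat_lit 0x51c3))) (.node (.leaf (nat_lit 0xa031)) (.leaf (nat_lit 0x8283)))) (.node (.node (.leaf (nat_lit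 0x100b06b)) (.leaf (nat_lit 0x91e0))) (.node (.leaf (nat_lit 0x1002201)) (.leaf (nat_lit 0x0)))))) (.node (.node (.node (.node (.leaf (nat_lit 0x1008078)) (.leaf (nat_lit 0xb295))) (.node (.leaf (nat_lit 0x1110)) (.leaf (nat_lit 0xa099)))) (.node (.node (.leaf (nat_lit 0xb2f6)) (.leaf (nat_lit 0x100700b))) (.node (.leaf (nat_lit 0x1005290)) (.leaf (nat_lit 0x0))))) (.node (.node (.node (.leaf (nat_lit 0x333)) (.leaf (nat_lit 0x100b20a))) (.node (.leaf (nat_lit 0x1006009)) (.leaf (nat_lit 0x0)))) (.node (.node (.leaf (nat_lit 0x828d)) (.leaf (nat_lit 0x10030bf))) (.node (.leaf (nat_lit 0x10012ef)) (.leaf (nat_lit 0x0))))))) (.node (.node (.node (.node (.node (.leaf (nat_lit 0x70e6)) (.leaf (nat_lit 0x1009014))) (.node (.leaf (nat_lit 0xa104)) (.leaf (nat_lit 0xc09f)))) (.node (.node (.leaf (nat_lit 0x7295)) (.leaf (nat_lit 0x1006157))) (.node (.leaf (nat_lit 0x2186)) (.leaf (nat_lit 0x0))))) (.node (.node (.node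 (.leaf (nat_lit 0x100133a)) (.leaf (nat_lit 0x403a))) (.node (.leaf (nat_lit 0x90d3)) (.leaf (nat_lit 0x9024)))) (.node (.node (.leaf (nat_lit 0x50fb)) (.leaf (nat_lit 0x10011cc))) (.node (.leaf (nat_lit 0xb21b)) (.leaf (nat_lit 0x0)))))) (.node (.node (.node (.node (.leaf (nat_lit 0xa2ad)) (.leaf (nat_lit 0x8059))) (.node (.leaf (nat_lit 0x115f)) (.leaf (nat_lit 0x71af)))) (.node (.node (.leaf (nat_lit 0x80df)) (.leaf (nat_lit 0x5254))) (.node (.leaf (nat_lit 0x21c6)) (.leaf (nat_lit 0x0))))) (.node (.node (.node (.leaf (nat_lit 0x610c)) (.leaf (nat_lit 0x51ac))) (.node (.leaf (nat_lit 0x3085)) (.leaf (nat_lit 0x0)))) (.node (.node (.leaf (nat_lit 0x10021fc)) (.leaf (nat_lit 0x9090))) (.node (.leaf (nat_lit 0x10042a7)) (.leaf (nat_lit 0x0)))))))) (.node (.node (.node (.node (.node (.node (.leaf (nat_lit 0xb05f)) (.leaf (nat_lit 0x3189))) (.node (.leaf (nat_lit 0x3217)) (.leaf (nat_lit 0x62b0)))) (.node (.node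 (.leaf (nat_lit 0x614f)) (.leaf (nat_lit 0x100302c))) (.node (.leaf (nat_lit 0x2ad)) (.leaf (nat_lit 0x0))))) (.node (.node (.node (.leaf (nat_lit 0x7060)) (.leaf (nat_lit 0x51fc))) (.node (.leaf (nat_lit 0x9107)) (.leaf (nat_lit 0x507f)))) (.node (.node (.leaf (nat_lit 0xc10a)) (.leaf (nat_lit 0x90d9))) (.node (.leaf (nat_lit 0x127c)) (.leaf (nat_lit 0x0)))))) (.node (.node (.node (.node (.leaf (nat_lit 0x1004024)) (.leaf (nat_lit 0x100a040))) (.node (.leaf (nat_lit 0x701b)) (.leaf (nat_lit 0x10042dd)))) (.node (.node (.leaf (nat_lit 0xc0eb)) (.leaf (nat_lit 0x100a1cf))) (.node (.leaf (nat_lit 0x10051a4)) (.leaf (nat_lit 0x0))))) (.node (.node (.node (.leaf (nat_lit 0x6070)) (.leaf (nat_lit 0x1007029))) (.node (.leaf (nat_lit 0xa083)) (.leaf (nat_lit 0x0)))) (.node (.node (.leaf (nat_lit 0x100d30d)) (.leaf (nat_lit 0x33))) (.node (.leaf (nat_lit 0x100802b)) (.leaf (nat_lit 0x0))))))) (.node (.node (.node (.node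 (.node (.leaf (nat_lit 0x3010)) (.leaf (nat_lit 0x3024))) (.node (.leaf (nat_lit 0x1009027)) (.leaf (nat_lit 0xb1e3)))) (.node (.node (.leaf (nat_lit 0x807d)) (.leaf (nat_lit 0x1005066))) (.node (.leaf (nat_lit 0x1009022)) (.leaf (nat_lit 0x0))))) (.node (.node (.node (.leaf (nat_lit 0x61af)) (.leaf (nat_lit 0x21cc))) (.node (.leaf (nat_lit 0x109c)) (.leaf (nat_lit 0x0)))) (.node (.node (.leaf (nat_lit 0x12af)) (.leaf (nat_lit 0x32ff))) (.node (.leaf (nat_lit 0x28337)) (.leaf (nat_lit 0x0)))))) (.node (.node (.node (.node (.leaf (nat_lit 0x20e)) (.leaf (nat_lit 0x100d2b1))) (.node (.leaf (nat_lit 0xa2af)) (.leaf (nat_lit 0x295)))) (.node (.node (.leaf (nat_lit 0x1003078)) (.leaf (nat_lit 0x410f))) (.node (.leaf (nat_lit 0x4233)) (.leaf (nat_lit 0x0))))) (.node (.node (.node (.leaf (nat_lit 0x7012)) (.leaf (nat_lit 0x1002026))) (.node (.leaf (nat_lit 0xf138)) (.leaf (nat_lit 0x0)))) (.node (.node (.leaf (nat_lit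 0x1003082)) (.leaf (nat_lit 0x8125))) (.node (.leaf (nat_lit 0x10001c4)) (.leaf (nat_lit 0x0))))))))) (.node (.node (.node (.node (.node (.node (.node (.leaf (nat_lit 0x119d)) (.leaf (nat_lit 0x10051b1))) (.node (.leaf (nat_lit 0x26)) (.leaf (nat_lit 0xc28c)))) (.node (.node (.leaf (nat_lit 0x210)) (.leaf (nat_lit 0x61b7))) (.node (.leaf (nat_lit 0x8040)) (.leaf (nat_lit 0x0))))) (.node (.node (.node (.leaf (nat_lit 0x1009063)) (.leaf (nat_lit 0xa189))) (.node (.leaf (nat_lit 0x7078)) (.leaf (nat_lit 0xb219)))) (.node (.node (.leaf (nat_lit 0x61b0)) (.leaf (nat_lit 0x10040e5))) (.node (.leaf (nat_lit 0x100b139)) (.leaf (nat_lit 0x0)))))) (.node (.node (.node (.node (.leaf (nat_lit 0x1a0)) (.leaf (nat_lit 0x10060ee))) (.node (.leaf (nat_lit 0x100128c)) (.leaf (nat_lit 0x6068)))) (.node (.node (.leaf (nat_lit 0x8112)) (.leaf (nat_lit 0x100820d))) (.node (.leaf (nat_lit 0x10060dd)) (.leaf (nat_lit 0x0))))) (.node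 (.node (.node (.leaf (nat_lit 0xb199)) (.leaf (nat_lit 0x100a0f7))) (.node (.leaf (nat_lit 0x9016)) (.leaf (nat_lit 0x0)))) (.node (.node (.leaf (nat_lit 0x905e)) (.leaf (nat_lit 0x1006138))) (.node (.leaf (nat_lit 0x61df)) (.leaf (nat_lit 0x0))))))) (.node (.node (.node (.node (.node (.leaf (nat_lit 0xd2ad)) (.leaf (nat_lit 0x718f))) (.node (.leaf (nat_lit 0xf137)) (.leaf (nat_lit 0x1005111)))) (.node (.node (.leaf (nat_lit 0x100a295)) (.leaf (nat_lit 0x82aa))) (.node (.leaf (nat_lit 0x10022fe)) (.leaf (nat_lit 0x0))))) (.node (.node (.node (.leaf (nat_lit 0x2031)) (.leaf (nat_lit 0x80c3))) (.node (.leaf (nat_lit 0xc0d2)) (.leaf (nat_lit 0x730e)))) (.node (.node (.leaf (nat_lit 0x520d)) (.leaf (nat_lit 0x80a7))) (.node (.leaf (nat_lit 0x100d290)) (.leaf (nat_lit 0x0)))))) (.node (.node (.node (.node (.leaf (nat_lit 0xb0e9)) (.leaf (nat_lit 0x103a))) (.node (.leaf (nat_lit 0xc185)) (.leaf (nat_lit 0x10082dd))))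 (.node (.node (.leaf (nat_lit 0x100c117)) (.leaf (nat_lit 0x10001ad))) (.node (.leaf (nat_lit 0xd157)) (.leaf (nat_lit 0x0))))) (.node (.node (.node (.leaf (nat_lit 0x10031a0)) (.leaf (nat_lit 0x62fa))) (.node (.leaf (nat_lit 0x71a7)) (.leaf (nat_lit 0x0)))) (.node (.node (.leaf (nat_lit 0x11a9)) (.leaf (nat_lit 0x10bf))) (.node (.leaf (nat_lit 0x8104)) (.leaf (nat_lit 0x0)))))))) (.node (.node (.node (.node (.node (.node (.leaf (nat_lit 0x12336)) (.leaf (nat_lit 0x10012a2))) (.node (.leaf (nat_lit 0x402a)) (.leaf (nat_lit 0x100a04d)))) (.node (.node (.leaf (nat_lit 0xd111)) (.leaf (nat_lit 0xb204))) (.node (.leaf (nat_lit 0x62af)) (.leaf (nat_lit 0x0))))) (.node (.node (.node (.leaf (nat_lit 0x1fe)) (.leaf (nat_lit 0x100728d))) (.node (.leaf (nat_lit 0x51cb)) (.leaf (nat_lit 0x7151)))) (.node (.node (.leaf (nat_lit 0x407a)) (.leaf (nat_lit 0x30e))) (.node (.leaf (nat_lit 0x100607d)) (.leaf (nat_lit 0x0))))))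 (.node (.node (.node (.node (.leaf (nat_lit 0x4061)) (.leaf (nat_lit 0xa0dc))) (.node (.leaf (nat_lit 0x100c10f)) (.leaf (nat_lit 0x2099)))) (.node (.node (.leaf (nat_lit 0x100421f)) (.leaf (nat_lit 0x706b))) (.node (.leaf (nat_lit 0x60f9)) (.leaf (nat_lit 0x0))))) (.node (.node (.node (.leaf (nat_lit 0x32a0)) (.leaf (nat_lit 0x100000c))) (.node (.leaf (nat_lit 0x1b337)) (.leaf (nat_lit 0x0)))) (.node (.node (.leaf (nat_lit 0x9042)) (.leaf (nat_lit 0x18))) (.node (.leaf (nat_lit 0x100d2a1)) (.leaf (nat_lit 0x0))))))) (.node (.node (.node (.node (.node (.leaf (nat_lit 0xfd)) (.leaf (nat_lit 0x9122))) (.node (.leaf (nat_lit 0x525b)) (.leaf (nat_lit 0x40e9)))) (.node (.node (.leaf (nat_lit 0x330d)) (.leaf (nat_lit 0x1004224))) (.node (.leaf (nat_lit 0x1002297)) (.leaf (nat_lit 0x0))))) (.node (.node (.node (.leaf (nat_lit 0x115)) (.leaf (nat_lit 0xb070))) (.node (.leaf (nat_lit 0x10010de)) (.leaf (nat_lit 0x0))))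 (.node (.node (.leaf (nat_lit 0x71ab)) (.leaf (nat_lit 0x601c))) (.node (.leaf (nat_lit 0xa175)) (.leaf (nat_lit 0x0)))))) (.node (.node (.node (.node (.leaf (nat_lit 0x10011eb)) (.leaf (nat_lit 0x928f))) (.node (.leaf (nat_lit 0x40e1)) (.leaf (nat_lit 0x92)))) (.node (.node (.leaf (nat_lit 0x50b5)) (.leaf (nat_lit 0x100604a))) (.node (.leaf (nat_lit 0x100b203)) (.leaf (nat_lit 0x0))))) (.node (.node (.node (.leaf (nat_lit 0x2036)) (.leaf (nat_lit 0xd28a))) (.node (.leaf (nat_lit 0x1003013)) (.leaf (nat_lit 0x0)))) (.node (.node (.leaf (nat_lit 0xb079)) (.leaf (nat_lit 0x4108))) (.node (.leaf (nat_lit 0x1006012)) (.leaf (nat_lit 0x0)))))))))))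

end Cfsg.Agent.TcData.HN.I1539000
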