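import Cfsg.Agent.Lib.TcFacts

set_option autoImplicit false
set_option Elab.async false
set_option maxRecDepth 100000
set_option linter.all false

namespace Cfsg.Agent.TcData.HN.I1539000

open Cfsg.Agent.Lib.TcFacts

/-- A part of a table. -/
noncomputable def PH2 : Tr := (.node (.node (.node (.node (.node (.node (.node (.node (.node (.leaf (nat_lit 0x1342)) (.leaf (nat_lit 0xc2fd))) (.node (.leaf (nat_lit 0x51e1)) (.leaf (nat_lit 0x100c2d8)))) (.node (.node (.leaf (nat_lit 0x10000f1)) (.leaf (nat_lit 0x5091))) (.node (.leaf (nat_lit 0x90eb)) (.leaf (nat_lit 0x0))))) (.node (.node (.node (.leaf (nat_lit 0x10032ac)) (.leaf (nat_lit 0x1000009))) (.node (.leaf (nat_lit 0xc2ad)) (.leaf (nat_lit 0xa0d7)))) (.node (.node (.leaf (nat_lit 0x1010)) (.leaf (nat_lit 0x1023199))) (.node (.leaf (nat_lit 0x82a4)) (.leaf (nat_lit 0x0)))))) (.node (.node (.node (.node (.leaf (nat_lit 0x4198)) (.leaf (nat_lit 0x1001070))) (.node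 (.leaf (nat_lit 0x730d)) (.leaf (nat_lit 0x1004223)))) (.node (.node (.leaf (nat_lit 0x10002aa)) (.leaf (nat_lit 0x100600c))) (.node (.leaf (nat_lit 0x100602c)) (.leaf (nat_lit 0x0))))) (.node (.node (.node (.leaf (nat_lit 0x9199)) (.leaf (nat_lit 0x1008016))) (.node (.leaf (nat_lit 0x10021d0)) (.leaf (nat_lit 0x0)))) (.node (.node (.leaf (nat_lit 0x810a)) (.leaf (nat_lit 0xa20c))) (.node (.leaf (nat_lit 0xd0e9)) (.leaf (nat_lit 0x0))))))) (.node (.node (.node (.node (.node (.leaf (nat_lit 0x80d0)) (.leaf (nat_lit 0x10042ad))) (.node (.leaf (nat_lit 0xea)) (.leaf (nat_lit 0x163)))) (.node (.node (.leaf (nat_lit 0x6e)) (.leaf (nat_lit 0x8117))) (.node (.leaf (nat_lit 0x60e4)) (.leaf (nat_lit 0x0))))) (.node (.node (.node (.leaf (nat_lit 0x524f)) (.leaf (nat_lit 0x100804a))) (.node (.leaf (nat_lit 0x4110)) (.leaf (nat_lit 0x82ee)))) (.node (.node (.leaf (nat_lit 0xa0f6)) (.leaf (nat_lit 0x70b0))) (.node (.leaf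 (nat_lit 0x1286)) (.leaf (nat_lit 0x0)))))) (.node (.node (.node (.node (.leaf (nat_lit 0x41cf)) (.leaf (nat_lit 0x9018))) (.node (.leaf (nat_lit 0x815a)) (.leaf (nat_lit 0xf127)))) (.node (.node (.leaf (nat_lit 0x5280)) (.leaf (nat_lit 0x9038))) (.node (.leaf (nat_lit 0x100d29b)) (.leaf (nat_lit 0x0))))) (.node (.node (.node (.leaf (nat_lit 0xa0cf)) (.leaf (nat_lit 0x31cc))) (.node (.leaf (nat_lit 0x20d)) (.leaf (nat_lit 0x0)))) (.node (.node (.leaf (nat_lit 0x1001110)) (.leaf (nat_lit 0x100a071))) (.node (.leaf (nat_lit 0x2199)) (.leaf (nat_lit 0x0)))))))) (.node (.node (.node (.node (.node (.node (.leaf (nat_lit 0x10d5)) (.leaf (nat_lit 0xb299))) (.node (.leaf (nat_lit 0x51a4)) (.leaf (nat_lit 0x90c9)))) (.node (.node (.leaf (nat_lit 0x294)) (.leaf (nat_lit 0x327c))) (.node (.leaf (nat_lit 0x6336)) (.leaf (nat_lit 0x0))))) (.node (.node (.node (.leaf (nat_lit 0x3110)) (.leaf (nat_lit 0x10011b5))) (.node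 (.leaf (nat_lit 0x1002076)) (.leaf (nat_lit 0x62fe)))) (.node (.node (.leaf (nat_lit 0x606a)) (.leaf (nat_lit 0x1002004))) (.node (.leaf (nat_lit 0x7280)) (.leaf (nat_lit 0x0)))))) (.node (.node (.node (.node (.leaf (nat_lit 0x10030fd)) (.leaf (nat_lit 0x10011aa))) (.node (.leaf (nat_lit 0x7009)) (.leaf (nat_lit 0xd284)))) (.node (.node (.leaf (nat_lit 0x100a0f0)) (.leaf (nat_lit 0x52d8))) (.node (.leaf (nat_lit 0x8038)) (.leaf (nat_lit 0x0))))) (.node (.node (.node (.leaf (nat_lit 0x7063)) (.leaf (nat_lit 0x100630d))) (.node (.leaf (nat_lit 0x1000032)) (.leaf (nat_lit 0x0)))) (.node (.node (.leaf (nat_lit 0x5299)) (.leaf (nat_lit 0x8169))) (.node (.leaf (nat_lit 0x5336)) (.leaf (nat_lit 0x0))))))) (.node (.node (.node (.node (.node (.leaf (nat_lit 0x71)) (.leaf (nat_lit 0x601b))) (.node (.leaf (nat_lit 0x100428b)) (.leaf (nat_lit 0x523c)))) (.node (.node (.leaf (nat_lit 0x4280)) (.leaf (nat_lit 0x80a5))) (.node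 (.leaf (nat_lit 0x1007067)) (.leaf (nat_lit 0x0))))) (.node (.node (.node (.leaf (nat_lit 0x8060)) (.leaf (nat_lit 0x100d163))) (.node (.leaf (nat_lit 0xb0e8)) (.leaf (nat_lit 0x0)))) (.node (.node (.leaf (nat_lit 0x6114)) (.leaf (nat_lit 0x10050f0))) (.node (.leaf (nat_lit 0x1009042)) (.leaf (nat_lit 0x0)))))) (.node (.node (.node (.node (.leaf (nat_lit 0x4160)) (.leaf (nat_lit 0x1001079))) (.node (.leaf (nat_lit 0x20ec)) (.leaf (nat_lit 0x1006099)))) (.node (.node (.leaf (nat_lit 0x100a280)) (.leaf (nat_lit 0x100420f))) (.node (.leaf (nat_lit 0x6155)) (.leaf (nat_lit 0x0))))) (.node (.node (.node (.leaf (nat_lit 0x6299)) (.leaf (nat_lit 0x100327e))) (.node (.leaf (nat_lit 0x4069)) (.leaf (nat_lit 0x0)))) (.node (.node (.leaf (nat_lit 0x10052ac)) (.leaf (nat_lit 0x1006139))) (.node (.leaf (nat_lit 0x20337)) (.leaf (nat_lit 0x0))))))))) (.node (.node (.node (.node (.node (.node (.node (.leaf (nat_lit 0x33a))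 (.leaf (nat_lit 0x8048))) (.node (.leaf (nat_lit 0x10062a4)) (.leaf (nat_lit 0x10071c0)))) (.node (.node (.leaf (nat_lit 0x300e)) (.leaf (nat_lit 0x1002083))) (.node (.leaf (nat_lit 0x100421c)) (.leaf (nat_lit 0x0))))) (.node (.node (.node (.leaf (nat_lit 0xf)) (.leaf (nat_lit 0x61e8))) (.node (.leaf (nat_lit 0x10011c4)) (.leaf (nat_lit 0xb0f5)))) (.node (.node (.leaf (nat_lit 0x7a)) (.leaf (nat_lit 0x10010fa))) (.node (.leaf (nat_lit 0xf2)) (.leaf (nat_lit 0x0)))))) (.node (.node (.node (.node (.leaf (nat_lit 0x400a)) (.leaf (nat_lit 0x100a102))) (.node (.leaf (nat_lit 0x30f2)) (.leaf (nat_lit 0x60b7)))) (.node (.node (.leaf (nat_lit 0x100b063)) (.leaf (nat_lit 0x7087))) (.node (.leaf (nat_lit 0xc0e1)) (.leaf (nat_lit 0x0))))) (.node (.node (.node (.leaf (nat_lit 0x5008)) (.leaf (nat_lit 0x10022b0))) (.node (.leaf (nat_lit 0x12a4)) (.leaf (nat_lit 0x0)))) (.node (.node (.leaf (nat_lit 0x10041a2)) (.leaf (nat_lit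 0xe121))) (.node (.leaf (nat_lit 0x30199)) (.leaf (nat_lit 0x0))))))) (.node (.node (.node (.node (.node (.leaf (nat_lit 0x206d)) (.leaf (nat_lit 0x509a))) (.node (.leaf (nat_lit 0x1004016)) (.leaf (nat_lit 0x809b)))) (.node (.node (.leaf (nat_lit 0x510e)) (.leaf (nat_lit 0xe161))) (.node (.leaf (nat_lit 0xd2ac)) (.leaf (nat_lit 0x0))))) (.node (.node (.node (.leaf (nat_lit 0xa0e6)) (.leaf (nat_lit 0x5061))) (.node (.leaf (nat_lit 0x4065)) (.leaf (nat_lit 0xc2ab)))) (.node (.node (.leaf (nat_lit 0x1001333)) (.leaf (nat_lit 0x7053))) (.node (.leaf (nat_lit 0xd160)) (.leaf (nat_lit 0x0)))))) (.node (.node (.node (.node (.leaf (nat_lit 0x10c)) (.leaf (nat_lit 0x10042ac))) (.node (.leaf (nat_lit 0x100a0e5)) (.leaf (nat_lit 0x100a25e)))) (.node (.node (.leaf (nat_lit 0x6032)) (.leaf (nat_lit 0x1028199))) (.node (.leaf (nat_lit 0x100304d)) (.leaf (nat_lit 0x0))))) (.node (.node (.node (.leaf (nat_lit 0x807e)) (.leaf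 (nat_lit 0x100d2a4))) (.node (.leaf (nat_lit 0xa04f)) (.leaf (nat_lit 0x0)))) (.node (.node (.leaf (nat_lit 0x22a0)) (.leaf (nat_lit 0x408e))) (.node (.leaf (nat_lit 0x10002f6)) (.leaf (nat_lit 0x0)))))))) (.node (.node (.node (.node (.node (.node (.leaf (nat_lit 0x80e6)) (.leaf (nat_lit 0x10081cc))) (.node (.leaf (nat_lit 0x81b9)) (.leaf (nat_lit 0x9203)))) (.node (.node (.leaf (nat_lit 0x2102)) (.leaf (nat_lit 0x90b2))) (.node (.leaf (nat_lit 0x8282)) (.leaf (nat_lit 0x0))))) (.node (.node (.node (.leaf (nat_lit 0x100a291)) (.leaf (nat_lit 0x100801f))) (.node (.leaf (nat_lit 0xb2b0)) (.leaf (nat_lit 0xa0b1)))) (.node (.node (.leaf (nat_lit 0x1009082)) (.leaf (nat_lit 0x7279))) (.node (.leaf (nat_lit 0x10050f4)) (.leaf (nat_lit 0x0)))))) (.node (.node (.node (.node (.leaf (nat_lit 0x1100)) (.leaf (nat_lit 0x100615f))) (.node (.leaf (nat_lit 0xb28b)) (.leaf (nat_lit 0x811f)))) (.node (.node (.leaf (nat_lit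 0x504a)) (.leaf (nat_lit 0x70b1))) (.node (.leaf (nat_lit 0x100d2a2)) (.leaf (nat_lit 0x0))))) (.node (.node (.node (.leaf (nat_lit 0x4009)) (.leaf (nat_lit 0x10061de))) (.node (.leaf (nat_lit 0x10072a1)) (.leaf (nat_lit 0x0)))) (.node (.node (.leaf (nat_lit 0x10000e3)) (.leaf (nat_lit 0x1009043))) (.node (.leaf (nat_lit 0x7132)) (.leaf (nat_lit 0x0))))))) (.node (.node (.node (.node (.node (.leaf (nat_lit 0x1214)) (.leaf (nat_lit 0x10080e3))) (.node (.leaf (nat_lit 0x506e)) (.leaf (nat_lit 0x1099)))) (.node (.node (.leaf (nat_lit 0x12b0)) (.leaf (nat_lit 0x9279))) (.node (.leaf (nat_lit 0x10070db)) (.leaf (nat_lit 0x0))))) (.node (.node (.node (.leaf (nat_lit 0xa0df)) (.leaf (nat_lit 0x10061a8))) (.node (.leaf (nat_lit 0x801a)) (.leaf (nat_lit 0x0)))) (.node (.node (.leaf (nat_lit 0x6049)) (.leaf (nat_lit 0x1004200))) (.node (.leaf (nat_lit 0x7055)) (.leaf (nat_lit 0x0)))))) (.node (.node (.node (.node (.leaf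 (nat_lit 0x81c6)) (.leaf (nat_lit 0x1008199))) (.node (.leaf (nat_lit 0x828c)) (.leaf (nat_lit 0x406e)))) (.node (.node (.leaf (nat_lit 0x9100)) (.leaf (nat_lit 0xb18f))) (.node (.leaf (nat_lit 0x100a294)) (.leaf (nat_lit 0x0))))) (.node (.node (.node (.leaf (nat_lit 0x7042)) (.leaf (nat_lit 0xb2ac))) (.node (.leaf (nat_lit 0x41eb)) (.leaf (nat_lit 0x0)))) (.node (.node (.leaf (nat_lit 0x1005100)) (.leaf (nat_lit 0x916f))) (.node (.leaf (nat_lit 0x4046)) (.leaf (nat_lit 0x0)))))))))) (.node (.node (.node (.node (.node (.node (.node (.node (.leaf (nat_lit 0xb1fb)) (.leaf (nat_lit 0x10011c9))) (.node (.leaf (nat_lit 0x7081)) (.leaf (nat_lit 0x1008029)))) (.node (.node (.leaf (nat_lit 0x1104)) (.leaf (nat_lit 0x31cb))) (.node (.leaf (nat_lit 0x8220)) (.leaf (nat_lit 0x0))))) (.node (.node (.node (.leaf (nat_lit 0x7308)) (.leaf (nat_lit 0x10031bc))) (.node (.leaf (nat_lit 0x304a)) (.leaf (nat_lit 0x9031)))) (.node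 (.node (.leaf (nat_lit 0x220a)) (.leaf (nat_lit 0x30d0))) (.node (.leaf (nat_lit 0x1002284)) (.leaf (nat_lit 0x0)))))) (.node (.node (.node (.node (.leaf (nat_lit 0xc0fd)) (.leaf (nat_lit 0x30f4))) (.node (.leaf (nat_lit 0xc0d1)) (.leaf (nat_lit 0x1008297)))) (.node (.node (.leaf (nat_lit 0x1008220)) (.leaf (nat_lit 0x100901f))) (.node (.leaf (nat_lit 0x10010f2)) (.leaf (nat_lit 0x0))))) (.node (.node (.node (.leaf (nat_lit 0x10022aa)) (.leaf (nat_lit 0x41a6))) (.node (.leaf (nat_lit 0x220d)) (.leaf (nat_lit 0x0)))) (.node (.node (.leaf (nat_lit 0x1299)) (.leaf (nat_lit 0x40df))) (.node (.leaf (nat_lit 0x7102)) (.leaf (nat_lit 0x0))))))) (.node (.node (.node (.node (.node (.leaf (nat_lit 0x600c)) (.leaf (nat_lit 0x10001e8))) (.node (.leaf (nat_lit 0x1cc)) (.leaf (nat_lit 0x202d)))) (.node (.node (.leaf (nat_lit 0x82af)) (.leaf (nat_lit 0x10fb))) (.node (.leaf (nat_lit 0xa06a)) (.leaf (nat_lit 0x0))))) (.node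 (.node (.node (.leaf (nat_lit 0x30e9)) (.leaf (nat_lit 0x100c10e))) (.node (.leaf (nat_lit 0x10091ea)) (.leaf (nat_lit 0x32ba)))) (.node (.node (.leaf (nat_lit 0x70ae)) (.leaf (nat_lit 0x7187))) (.node (.leaf (nat_lit 0x30dd)) (.leaf (nat_lit 0x0)))))) (.node (.node (.node (.node (.leaf (nat_lit 0x1002007)) (.leaf (nat_lit 0x100a1e1))) (.node (.leaf (nat_lit 0xd27d)) (.leaf (nat_lit 0x92a1)))) (.node (.node (.leaf (nat_lit 0xb298)) (.leaf (nat_lit 0x1211))) (.node (.leaf (nat_lit 0x80f5)) (.leaf (nat_lit 0x0))))) (.node (.node (.node (.leaf (nat_lit 0x6082)) (.leaf (nat_lit 0x605a))) (.node (.leaf (nat_lit 0x100106d)) (.leaf (nat_lit 0x0)))) (.node (.node (.leaf (nat_lit 0x32fe)) (.leaf (nat_lit 0xd0d0))) (.node (.leaf (nat_lit 0x100121b)) (.leaf (nat_lit 0x0)))))))) (.node (.node (.node (.node (.node (.node (.leaf (nat_lit 0x41a5)) (.leaf (nat_lit 0x6322))) (.node (.leaf (nat_lit 0x1002290)) (.leaf (nat_lit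 0x909b)))) (.node (.node (.leaf (nat_lit 0xe117)) (.leaf (nat_lit 0xa29e))) (.node (.leaf (nat_lit 0x3212)) (.leaf (nat_lit 0x0))))) (.node (.node (.node (.leaf (nat_lit 0x607c)) (.leaf (nat_lit 0x1000247))) (.node (.leaf (nat_lit 0xa14d)) (.leaf (nat_lit 0xd5)))) (.node (.node (.leaf (nat_lit 0x30ea)) (.leaf (nat_lit 0x100030e))) (.node (.leaf (nat_lit 0x100b2a0)) (.leaf (nat_lit 0x0)))))) (.node (.node (.node (.node (.leaf (nat_lit 0x1009285)) (.leaf (nat_lit 0x803f))) (.node (.leaf (nat_lit 0x9208)) (.leaf (nat_lit 0x5055)))) (.node (.node (.leaf (nat_lit 0x100c111)) (.leaf (nat_lit 0x100328c))) (.node (.leaf (nat_lit 0x100607c)) (.leaf (nat_lit 0x0))))) (.node (.node (.node (.leaf (nat_lit 0x501a)) (.leaf (nat_lit 0x10052a0))) (.node (.leaf (nat_lit 0x1a199)) (.leaf (nat_lit 0x0)))) (.node (.node (.leaf (nat_lit 0x100829b)) (.leaf (nat_lit 0x10042f5))) (.node (.leaf (nat_lit 0xa2f6)) (.leaf (nat_lit 0x0)))))))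 (.node (.node (.node (.node (.node (.leaf (nat_lit 0x51a9)) (.leaf (nat_lit 0x100b07b))) (.node (.leaf (nat_lit 0x32f6)) (.leaf (nat_lit 0x10060af)))) (.node (.node (.leaf (nat_lit 0x1007220)) (.leaf (nat_lit 0x3294))) (.node (.leaf (nat_lit 0x6041)) (.leaf (nat_lit 0x0))))) (.node (.node (.node (.leaf (nat_lit 0x2112)) (.leaf (nat_lit 0xb337))) (.node (.leaf (nat_lit 0x2a337)) (.leaf (nat_lit 0x0)))) (.node (.node (.leaf (nat_lit 0xc336)) (.leaf (nat_lit 0x92a9))) (.node (.leaf (nat_lit 0x132)) (.leaf (nat_lit 0x0)))))) (.node (.node (.node (.node (.leaf (nat_lit 0x100302a)) (.leaf (nat_lit 0x8103))) (.node (.leaf (nat_lit 0xb07c)) (.leaf (nat_lit 0x10050db)))) (.node (.node (.leaf (nat_lit 0x2078)) (.leaf (nat_lit 0x1008020))) (.node (.leaf (nat_lit 0x5034)) (.leaf (nat_lit 0x0))))) (.node (.node (.node (.leaf (nat_lit 0x4255)) (.leaf (nat_lit 0xb0f1))) (.node (.leaf (nat_lit 0x6019)) (.leaf (nat_lit 0x0))))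 (.node (.node (.leaf (nat_lit 0x100e323)) (.leaf (nat_lit 0x70a2))) (.node (.leaf (nat_lit 0x10081fc)) (.leaf (nat_lit 0x0))))))))) (.node (.node (.node (.node (.node (.node (.node (.leaf (nat_lit 0xd29a)) (.leaf (nat_lit 0x21a))) (.node (.leaf (nat_lit 0x51b3)) (.leaf (nat_lit 0x10060f1)))) (.node (.node (.leaf (nat_lit 0x4081)) (.leaf (nat_lit 0x100907f))) (.node (.leaf (nat_lit 0x10020ee)) (.leaf (nat_lit 0x0))))) (.node (.node (.node (.leaf (nat_lit 0xa298)) (.leaf (nat_lit 0x50f9))) (.node (.leaf (nat_lit 0x1004204)) (.leaf (nat_lit 0x1006284)))) (.node (.node (.leaf (nat_lit 0x1009198)) (.leaf (nat_lit 0x100b073))) (.node (.leaf (nat_lit 0x100127b)) (.leaf (nat_lit 0x0)))))) (.node (.node (.node (.node (.leaf (nat_lit 0x1002285)) (.leaf (nat_lit 0x10060f5))) (.node (.leaf (nat_lit 0x90f2)) (.leaf (nat_lit 0x4337)))) (.node (.node (.leaf (nat_lit 0x60f7)) (.leaf (nat_lit 0x21a5))) (.node (.leaf (nat_lit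 0xb0fa)) (.leaf (nat_lit 0x0))))) (.node (.node (.node (.leaf (nat_lit 0x1002141)) (.leaf (nat_lit 0x100c104))) (.node (.leaf (nat_lit 0x305e)) (.leaf (nat_lit 0x0)))) (.node (.node (.leaf (nat_lit 0x5009)) (.leaf (nat_lit 0x100823f))) (.node (.leaf (nat_lit 0x2337)) (.leaf (nat_lit 0x0))))))) (.node (.node (.node (.node (.node (.leaf (nat_lit 0x90fd)) (.leaf (nat_lit 0x10062d7))) (.node (.leaf (nat_lit 0x67)) (.leaf (nat_lit 0x18a)))) (.node (.node (.leaf (nat_lit 0x1003076)) (.leaf (nat_lit 0x100d157))) (.node (.leaf (nat_lit 0x1004219)) (.leaf (nat_lit 0x0))))) (.node (.node (.node (.leaf (nat_lit 0x10090e6)) (.leaf (nat_lit 0x22d8))) (.node (.leaf (nat_lit 0x1006201)) (.leaf (nat_lit 0x51ff)))) (.node (.node (.leaf (nat_lit 0x100c112)) (.leaf (nat_lit 0xd0ea))) (.node (.leaf (nat_lit 0x1007065)) (.leaf (nat_lit 0x0)))))) (.node (.node (.node (.node (.leaf (nat_lit 0x906b)) (.leaf (nat_lit 0x1005079))) (.node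 (.leaf (nat_lit 0xa217)) (.leaf (nat_lit 0x100c09b)))) (.node (.node (.leaf (nat_lit 0x701f)) (.leaf (nat_lit 0x627c))) (.node (.leaf (nat_lit 0x8146)) (.leaf (nat_lit 0x0))))) (.node (.node (.node (.leaf (nat_lit 0x60cf)) (.leaf (nat_lit 0x6057))) (.node (.leaf (nat_lit 0x700b)) (.leaf (nat_lit 0x0)))) (.node (.node (.leaf (nat_lit 0x3298)) (.leaf (nat_lit 0xd17b))) (.node (.leaf (nat_lit 0x520c)) (.leaf (nat_lit 0x0)))))))) (.node (.node (.node (.node (.node (.node (.leaf (nat_lit 0x1008)) (.leaf (nat_lit 0x1000037))) (.node (.leaf (nat_lit 0x11a1)) (.leaf (nat_lit 0x7044)))) (.node (.node (.leaf (nat_lit 0x428c)) (.leaf (nat_lit 0xa2a4))) (.node (.leaf (nat_lit 0x100d0dd)) (.leaf (nat_lit 0x0))))) (.node (.node (.node (.leaf (nat_lit 0x41a1)) (.leaf (nat_lit 0x1005044))) (.node (.leaf (nat_lit 0x10021de)) (.leaf (nat_lit 0xba)))) (.node (.node (.leaf (nat_lit 0x100f198)) (.leaf (nat_lit 0x10002af))) (.node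 (.leaf (nat_lit 0x100020f)) (.leaf (nat_lit 0x0)))))) (.node (.node (.node (.node (.leaf (nat_lit 0x2290)) (.leaf (nat_lit 0x6020))) (.node (.leaf (nat_lit 0xa0f2)) (.leaf (nat_lit 0x50fc)))) (.node (.node (.leaf (nat_lit 0x310a)) (.leaf (nat_lit 0x4270))) (.node (.leaf (nat_lit 0x1008047)) (.leaf (nat_lit 0x0))))) (.node (.node (.node (.leaf (nat_lit 0x7013)) (.leaf (nat_lit 0x8034))) (.node (.leaf (nat_lit 0x10051e9)) (.leaf (nat_lit 0x0)))) (.node (.node (.leaf (nat_lit 0x100605e)) (.leaf (nat_lit 0x1006038))) (.node (.leaf (nat_lit 0x6165)) (.leaf (nat_lit 0x0))))))) (.node (.node (.node (.node (.node (.leaf (nat_lit 0x7025)) (.leaf (nat_lit 0xf153))) (.node (.leaf (nat_lit 0xa115)) (.leaf (nat_lit 0xa08f)))) (.node (.node (.leaf (nat_lit 0x100002c)) (.leaf (nat_lit 0x4017))) (.node (.leaf (nat_lit 0x10199)) (.leaf (nat_lit 0x0))))) (.node (.node (.node (.leaf (nat_lit 0x10090f3)) (.leaf (nat_lit 0x1008207)))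 (.node (.leaf (nat_lit 0x20ed)) (.leaf (nat_lit 0x0)))) (.node (.node (.leaf (nat_lit 0x100d28f)) (.leaf (nat_lit 0x100a285))) (.node (.leaf (nat_lit 0x62fc)) (.leaf (nat_lit 0x0)))))) (.node (.node (.node (.node (.leaf (nat_lit 0x60ff)) (.leaf (nat_lit 0x9032))) (.node (.leaf (nat_lit 0x100a10d)) (.leaf (nat_lit 0x7291)))) (.node (.node (.leaf (nat_lit 0x704f)) (.leaf (nat_lit 0x7077))) (.node (.leaf (nat_lit 0x627d)) (.leaf (nat_lit 0x0))))) (.node (.node (.node (.leaf (nat_lit 0xf122)) (.leaf (nat_lit 0x2d))) (.node (.leaf (nat_lit 0x2c337)) (.leaf (nat_lit 0x0)))) (.node (.node (.leaf (nat_lit 0x10001e3)) (.leaf (nat_lit 0x420d))) (.node (.leaf (nat_lit 0x1056)) (.leaf (nat_lit 0x0)))))))))))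

end Cfsg.Agent.TcData.HN.I1539000
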