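import Cfsg.Agent.Lib.TcFacts

set_option autoImplicit false
set_option Elab.async false
set_option maxRecDepth 100000
set_option linter.all false

namespace Cfsg.Agent.TcData.HN.I1539000

open Cfsg.Agent.Lib.TcFacts

/-- A part of a table. -/
noncomputable def PH3 : Tr := (.node (.node (.node (.node (.node (.node (.node (.node (.node (.leaf (nat_lit 0x319c)) (.leaf (nat_lit 0x1007007))) (.node (.leaf (nat_lit 0x6137)) (.leaf (nat_lit 0x7289)))) (.node (.node (.leaf (nat_lit 0x100927b)) (.leaf (nat_lit 0xf16f))) (.node (.leaf (nat_lit 0x306c)) (.leaf (nat_lit 0x0))))) (.node (.node (.node (.leaf (nat_lit 0x1009079)) (.leaf (nat_lit 0x100507b))) (.node (.leaf (nat_lit 0x100120a)) (.leaf (nat_lit 0x102d337)))) (.node (.node (.leaf (nat_lit 0x100906c)) (.leaf (nat_lit 0x1008037))) (.node (.leaf (nat_lit 0xc28a)) (.leaf (nat_lit 0x0)))))) (.node (.node (.node (.node (.leaf (nat_lit 0xa063)) (.leaf (nat_lit 0x100021b)))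 (.node (.leaf (nat_lit 0xe2f5)) (.leaf (nat_lit 0x50a9)))) (.node (.node (.leaf (nat_lit 0x2aa)) (.leaf (nat_lit 0x10032d8))) (.node (.leaf (nat_lit 0x100602d)) (.leaf (nat_lit 0x0))))) (.node (.node (.node (.leaf (nat_lit 0x27199)) (.leaf (nat_lit 0x10090fa))) (.node (.leaf (nat_lit 0x2123)) (.leaf (nat_lit 0x0)))) (.node (.node (.leaf (nat_lit 0x7293)) (.leaf (nat_lit 0x1009111))) (.node (.leaf (nat_lit 0x3027)) (.leaf (nat_lit 0x0))))))) (.node (.node (.node (.node (.node (.leaf (nat_lit 0xc0e7)) (.leaf (nat_lit 0x1003267))) (.node (.leaf (nat_lit 0xd2a9)) (.leaf (nat_lit 0x1009036)))) (.node (.node (.leaf (nat_lit 0xd114)) (.leaf (nat_lit 0x8118))) (.node (.leaf (nat_lit 0x1009048)) (.leaf (nat_lit 0x0))))) (.node (.node (.node (.leaf (nat_lit 0x524d)) (.leaf (nat_lit 0x60bf))) (.node (.leaf (nat_lit 0x1007081)) (.leaf (nat_lit 0x620d)))) (.node (.node (.leaf (nat_lit 0x214f)) (.leaf (nat_lit 0x70b2))) (.node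 (.leaf (nat_lit 0x9273)) (.leaf (nat_lit 0x0)))))) (.node (.node (.node (.node (.leaf (nat_lit 0x1000297)) (.leaf (nat_lit 0x906a))) (.node (.leaf (nat_lit 0xa0ed)) (.leaf (nat_lit 0x100b10d)))) (.node (.node (.leaf (nat_lit 0x100710f)) (.leaf (nat_lit 0x10042f6))) (.node (.leaf (nat_lit 0x20)) (.leaf (nat_lit 0x0))))) (.node (.node (.node (.leaf (nat_lit 0x2093)) (.leaf (nat_lit 0x31cd))) (.node (.leaf (nat_lit 0x510b)) (.leaf (nat_lit 0x0)))) (.node (.node (.leaf (nat_lit 0x100829a)) (.leaf (nat_lit 0x10031c6))) (.node (.leaf (nat_lit 0x9130)) (.leaf (nat_lit 0x0)))))))) (.node (.node (.node (.node (.node (.node (.leaf (nat_lit 0x3)) (.leaf (nat_lit 0xb28d))) (.node (.leaf (nat_lit 0x10042ab)) (.leaf (nat_lit 0x1004299)))) (.node (.node (.leaf (nat_lit 0x100019b)) (.leaf (nat_lit 0x3285))) (.node (.leaf (nat_lit 0xe336)) (.leaf (nat_lit 0x0))))) (.node (.node (.node (.leaf (nat_lit 0xa100)) (.leaf (nat_lit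 0x206f))) (.node (.leaf (nat_lit 0x1005218)) (.leaf (nat_lit 0x9057)))) (.node (.node (.leaf (nat_lit 0x9064)) (.leaf (nat_lit 0x7297))) (.node (.leaf (nat_lit 0x80f0)) (.leaf (nat_lit 0x0)))))) (.node (.node (.node (.node (.leaf (nat_lit 0x100a110)) (.leaf (nat_lit 0x100706e))) (.node (.leaf (nat_lit 0x100205e)) (.leaf (nat_lit 0x100b27f)))) (.node (.node (.leaf (nat_lit 0x10050e2)) (.leaf (nat_lit 0x52d6))) (.node (.leaf (nat_lit 0x503c)) (.leaf (nat_lit 0x0))))) (.node (.node (.node (.leaf (nat_lit 0xa0a9)) (.leaf (nat_lit 0x10032f5))) (.node (.leaf (nat_lit 0x3031)) (.leaf (nat_lit 0x0)))) (.node (.node (.leaf (nat_lit 0x6022)) (.leaf (nat_lit 0x1004017))) (.node (.leaf (nat_lit 0x9050)) (.leaf (nat_lit 0x0))))))) (.node (.node (.node (.node (.node (.leaf (nat_lit 0xd26e)) (.leaf (nat_lit 0x10021c0))) (.node (.leaf (nat_lit 0x4299)) (.leaf (nat_lit 0xa279)))) (.node (.node (.leaf (nat_lit 0x4109)) (.leaf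 (nat_lit 0x10081b4))) (.node (.leaf (nat_lit 0xa1eb)) (.leaf (nat_lit 0x0))))) (.node (.node (.node (.leaf (nat_lit 0x90ed)) (.leaf (nat_lit 0x100401c))) (.node (.leaf (nat_lit 0xa0b7)) (.leaf (nat_lit 0x0)))) (.node (.node (.leaf (nat_lit 0x51e3)) (.leaf (nat_lit 0x10051a5))) (.node (.leaf (nat_lit 0x320e)) (.leaf (nat_lit 0x0)))))) (.node (.node (.node (.node (.leaf (nat_lit 0x80b3)) (.leaf (nat_lit 0x100906d))) (.node (.leaf (nat_lit 0x6106)) (.leaf (nat_lit 0x7093)))) (.node (.node (.leaf (nat_lit 0x321f)) (.leaf (nat_lit 0x10011d1))) (.node (.leaf (nat_lit 0x1003098)) (.leaf (nat_lit 0x0))))) (.node (.node (.node (.leaf (nat_lit 0x50ee)) (.leaf (nat_lit 0x100015f))) (.node (.leaf (nat_lit 0x100120f)) (.leaf (nat_lit 0x0)))) (.node (.node (.leaf (nat_lit 0x100b111)) (.leaf (nat_lit 0x61c9))) (.node (.leaf (nat_lit 0x728d)) (.leaf (nat_lit 0x0))))))))) (.node (.node (.node (.node (.node (.node (.node (.leaf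 (nat_lit 0x3339)) (.leaf (nat_lit 0x203a))) (.node (.leaf (nat_lit 0x1001297)) (.leaf (nat_lit 0xa042)))) (.node (.node (.leaf (nat_lit 0x300f)) (.leaf (nat_lit 0x100b0f0))) (.node (.leaf (nat_lit 0x1012336)) (.leaf (nat_lit 0x0))))) (.node (.node (.node (.leaf (nat_lit 0x61b1)) (.leaf (nat_lit 0x61ea))) (.node (.leaf (nat_lit 0x100930d)) (.leaf (nat_lit 0x2151)))) (.node (.node (.leaf (nat_lit 0x1007294)) (.leaf (nat_lit 0xb2fd))) (.node (.leaf (nat_lit 0x5294)) (.leaf (nat_lit 0x0)))))) (.node (.node (.node (.node (.leaf (nat_lit 0xd0fd)) (.leaf (nat_lit 0x9159))) (.node (.leaf (nat_lit 0x100515f)) (.leaf (nat_lit 0x5075)))) (.node (.node (.leaf (nat_lit 0xd28e)) (.leaf (nat_lit 0x7088))) (.node (.leaf (nat_lit 0x6274)) (.leaf (nat_lit 0x0))))) (.node (.node (.node (.leaf (nat_lit 0xd0a5)) (.leaf (nat_lit 0x10061ba))) (.node (.leaf (nat_lit 0x1009199)) (.leaf (nat_lit 0x0)))) (.node (.node (.leaf (nat_lit 0x8100))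 (.leaf (nat_lit 0xb109))) (.node (.leaf (nat_lit 0x908f)) (.leaf (nat_lit 0x0))))))) (.node (.node (.node (.node (.node (.leaf (nat_lit 0x2214)) (.leaf (nat_lit 0xa273))) (.node (.leaf (nat_lit 0x10011a9)) (.leaf (nat_lit 0x100a288)))) (.node (.node (.leaf (nat_lit 0x510f)) (.leaf (nat_lit 0x10082ab))) (.node (.leaf (nat_lit 0x10010e3)) (.leaf (nat_lit 0x0))))) (.node (.node (.node (.leaf (nat_lit 0xa29a)) (.leaf (nat_lit 0x100c101))) (.node (.leaf (nat_lit 0x100b102)) (.leaf (nat_lit 0xf2b4)))) (.node (.node (.leaf (nat_lit 0x906c)) (.leaf (nat_lit 0x81ba))) (.node (.leaf (nat_lit 0x1004076)) (.leaf (nat_lit 0x0)))))) (.node (.node (.node (.node (.leaf (nat_lit 0x1005063)) (.leaf (nat_lit 0x100604c))) (.node (.leaf (nat_lit 0xa0e7)) (.leaf (nat_lit 0x6169)))) (.node (.node (.leaf (nat_lit 0x1001003)) (.leaf (nat_lit 0xa212))) (.node (.leaf (nat_lit 0x4102)) (.leaf (nat_lit 0x0))))) (.node (.node (.node (.leaf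 (nat_lit 0x6280)) (.leaf (nat_lit 0x100b0f9))) (.node (.leaf (nat_lit 0x11cc)) (.leaf (nat_lit 0x0)))) (.node (.node (.leaf (nat_lit 0x71e0)) (.leaf (nat_lit 0xc27f))) (.node (.leaf (nat_lit 0x1002069)) (.leaf (nat_lit 0x0)))))))) (.node (.node (.node (.node (.node (.node (.leaf (nat_lit 0x5003)) (.leaf (nat_lit 0x6295))) (.node (.leaf (nat_lit 0x5020)) (.leaf (nat_lit 0x10041aa)))) (.node (.node (.leaf (nat_lit 0x40e6)) (.leaf (nat_lit 0x90b0))) (.node (.leaf (nat_lit 0x90d7)) (.leaf (nat_lit 0x0))))) (.node (.node (.node (.leaf (nat_lit 0x1009078)) (.leaf (nat_lit 0x10032a9))) (.node (.leaf (nat_lit 0x40f6)) (.leaf (nat_lit 0x2b1)))) (.node (.node (.leaf (nat_lit 0x100b0ff)) (.leaf (nat_lit 0x100303a))) (.node (.leaf (nat_lit 0x1008082)) (.leaf (nat_lit 0x0)))))) (.node (.node (.node (.node (.leaf (nat_lit 0xc107)) (.leaf (nat_lit 0x1006160))) (.node (.leaf (nat_lit 0x1002111)) (.leaf (nat_lit 0x8120)))) (.node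 (.node (.leaf (nat_lit 0x504b)) (.leaf (nat_lit 0x100d15f))) (.node (.leaf (nat_lit 0x100721c)) (.leaf (nat_lit 0x0))))) (.node (.node (.node (.leaf (nat_lit 0x2333)) (.leaf (nat_lit 0x10061df))) (.node (.leaf (nat_lit 0x100b0d3)) (.leaf (nat_lit 0x0)))) (.node (.node (.leaf (nat_lit 0x10000e7)) (.leaf (nat_lit 0x10091d4))) (.node (.leaf (nat_lit 0xa134)) (.leaf (nat_lit 0x0))))))) (.node (.node (.node (.node (.node (.leaf (nat_lit 0x802c)) (.leaf (nat_lit 0x100810a))) (.node (.leaf (nat_lit 0xd30d)) (.leaf (nat_lit 0xb1e1)))) (.node (.node (.leaf (nat_lit 0x117)) (.leaf (nat_lit 0x1003064))) (.node (.leaf (nat_lit 0x10070df)) (.leaf (nat_lit 0x0))))) (.node (.node (.node (.leaf (nat_lit 0xa0eb)) (.leaf (nat_lit 0xe151))) (.node (.leaf (nat_lit 0x1027199)) (.leaf (nat_lit 0x0)))) (.node (.node (.leaf (nat_lit 0x1020)) (.leaf (nat_lit 0xa117))) (.node (.leaf (nat_lit 0x1d)) (.leaf (nat_lit 0x0)))))) (.node (.node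 (.node (.node (.leaf (nat_lit 0x10041e1)) (.leaf (nat_lit 0xb060))) (.node (.leaf (nat_lit 0x726d)) (.leaf (nat_lit 0x100824d)))) (.node (.node (.leaf (nat_lit 0x2077)) (.leaf (nat_lit 0x1008137))) (.node (.leaf (nat_lit 0x61cc)) (.leaf (nat_lit 0x0))))) (.node (.node (.node (.leaf (nat_lit 0x50ff)) (.leaf (nat_lit 0x10040fb))) (.node (.leaf (nat_lit 0x28199)) (.leaf (nat_lit 0x0)))) (.node (.node (.leaf (nat_lit 0x706c)) (.leaf (nat_lit 0x10062d5))) (.node (.leaf (nat_lit 0x180)) (.leaf (nat_lit 0x0)))))))))) (.node (.node (.node (.node (.node (.node (.node (.node (.leaf (nat_lit 0x2)) (.leaf (nat_lit 0x1005284))) (.node (.leaf (nat_lit 0x506f)) (.leaf (nat_lit 0xa0c1)))) (.node (.node (.leaf (nat_lit 0x100929b)) (.leaf (nat_lit 0x40f2))) (.node (.leaf (nat_lit 0x700d)) (.leaf (nat_lit 0x0))))) (.node (.node (.node (.leaf (nat_lit 0x730a)) (.leaf (nat_lit 0xb0bb))) (.node (.leaf (nat_lit 0x80eb)) (.leaf (nat_lit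 0x169)))) (.node (.node (.leaf (nat_lit 0xb0e2)) (.leaf (nat_lit 0x100830e))) (.node (.leaf (nat_lit 0x100006c)) (.leaf (nat_lit 0x0)))))) (.node (.node (.node (.node (.leaf (nat_lit 0x2198)) (.leaf (nat_lit 0x4054))) (.node (.leaf (nat_lit 0x4104)) (.leaf (nat_lit 0x1005103)))) (.node (.node (.leaf (nat_lit 0x4111)) (.leaf (nat_lit 0x10030f1))) (.node (.leaf (nat_lit 0x10002a2)) (.leaf (nat_lit 0x0))))) (.node (.node (.node (.leaf (nat_lit 0x2116)) (.leaf (nat_lit 0x1006208))) (.node (.leaf (nat_lit 0x1002078)) (.leaf (nat_lit 0x0)))) (.node (.node (.leaf (nat_lit 0x206c)) (.leaf (nat_lit 0x327e))) (.node (.leaf (nat_lit 0x100a10f)) (.leaf (nat_lit 0x0))))))) (.node (.node (.node (.node (.node (.leaf (nat_lit 0x6012)) (.leaf (nat_lit 0x100b06c))) (.node (.leaf (nat_lit 0xa0ec)) (.leaf (nat_lit 0x81e2)))) (.node (.node (.leaf (nat_lit 0x100d0f8)) (.leaf (nat_lit 0x51eb))) (.node (.leaf (nat_lit 0xc21f)) (.leaf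 (nat_lit 0x0))))) (.node (.node (.node (.leaf (nat_lit 0x30f7)) (.leaf (nat_lit 0x100a04b))) (.node (.leaf (nat_lit 0xc0ed)) (.leaf (nat_lit 0xe304)))) (.node (.node (.leaf (nat_lit 0xf161)) (.leaf (nat_lit 0x7188))) (.node (.leaf (nat_lit 0x100b04e)) (.leaf (nat_lit 0x0)))))) (.node (.node (.node (.node (.leaf (nat_lit 0xb0f8)) (.leaf (nat_lit 0x6328))) (.node (.leaf (nat_lit 0xe0)) (.leaf (nat_lit 0x80bc)))) (.node (.node (.leaf (nat_lit 0x22ad)) (.leaf (nat_lit 0xf2d6))) (.node (.leaf (nat_lit 0x100d0fc)) (.leaf (nat_lit 0x0))))) (.node (.node (.node (.leaf (nat_lit 0x9081)) (.leaf (nat_lit 0x605b))) (.node (.leaf (nat_lit 0xc337)) (.leaf (nat_lit 0x0)))) (.node (.node (.leaf (nat_lit 0x92b2)) (.leaf (nat_lit 0x52fe))) (.node (.leaf (nat_lit 0xa04c)) (.leaf (nat_lit 0x0)))))))) (.node (.node (.node (.node (.node (.node (.leaf (nat_lit 0x298)) (.leaf (nat_lit 0x10011b6))) (.node (.leaf (nat_lit 0x9114)) (.leaf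 (nat_lit 0x29)))) (.node (.node (.leaf (nat_lit 0x100707a)) (.leaf (nat_lit 0x1005102))) (.node (.leaf (nat_lit 0x13)) (.leaf (nat_lit 0x0))))) (.node (.node (.node (.leaf (nat_lit 0x10080ff)) (.leaf (nat_lit 0x10092ac))) (.node (.leaf (nat_lit 0x714f)) (.leaf (nat_lit 0x1005117)))) (.node (.node (.leaf (nat_lit 0xb2d8)) (.leaf (nat_lit 0x7217))) (.node (.leaf (nat_lit 0x3111)) (.leaf (nat_lit 0x0)))))) (.node (.node (.node (.node (.leaf (nat_lit 0x1009292)) (.leaf (nat_lit 0x803d))) (.node (.leaf (nat_lit 0x100210c)) (.leaf (nat_lit 0x20bb)))) (.node (.node (.leaf (nat_lit 0x1002)) (.leaf (nat_lit 0x100b218))) (.node (.leaf (nat_lit 0x100a045)) (.leaf (nat_lit 0x0))))) (.node (.node (.node (.leaf (nat_lit 0x1006193)) (.leaf (nat_lit 0x21199))) (.node (.leaf (nat_lit 0xb030)) (.leaf (nat_lit 0x0)))) (.node (.node (.leaf (nat_lit 0x610f)) (.leaf (nat_lit 0x1013199))) (.node (.leaf (nat_lit 0xa294)) (.leaf (nat_lit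 0x0))))))) (.node (.node (.node (.node (.node (.leaf (nat_lit 0xc082)) (.leaf (nat_lit 0x91b7))) (.node (.leaf (nat_lit 0xc270)) (.leaf (nat_lit 0xb2a9)))) (.node (.node (.leaf (nat_lit 0x100430e)) (.leaf (nat_lit 0x10001be))) (.node (.leaf (nat_lit 0x1006077)) (.leaf (nat_lit 0x0))))) (.node (.node (.node (.leaf (nat_lit 0x10032fd)) (.leaf (nat_lit 0x100c294))) (.node (.leaf (nat_lit 0x428f)) (.leaf (nat_lit 0x0)))) (.node (.node (.leaf (nat_lit 0x30e6)) (.leaf (nat_lit 0x78))) (.node (.leaf (nat_lit 0x71b1)) (.leaf (nat_lit 0x0)))))) (.node (.node (.node (.node (.leaf (nat_lit 0x2006)) (.leaf (nat_lit 0x1bc))) (.node (.leaf (nat_lit 0x100921f)) (.leaf (nat_lit 0x50e2)))) (.node (.node (.leaf (nat_lit 0x61b5)) (.leaf (nat_lit 0x100805e))) (.node (.leaf (nat_lit 0x71f0)) (.leaf (nat_lit 0x0))))) (.node (.node (.node (.leaf (nat_lit 0xa066)) (.leaf (nat_lit 0xb04b))) (.node (.leaf (nat_lit 0xa10a)) (.leaf (nat_lit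 0x0)))) (.node (.node (.leaf (nat_lit 0x10010ee)) (.leaf (nat_lit 0x812f))) (.node (.leaf (nat_lit 0x8017)) (.leaf (nat_lit 0x0))))))))) (.node (.node (.node (.node (.node (.node (.node (.leaf (nat_lit 0x339)) (.leaf (nat_lit 0x1008214))) (.node (.leaf (nat_lit 0x1003280)) (.leaf (nat_lit 0x100a041)))) (.node (.node (.leaf (nat_lit 0xa082)) (.leaf (nat_lit 0x1219))) (.node (.leaf (nat_lit 0x100206d)) (.leaf (nat_lit 0x0))))) (.node (.node (.node (.leaf (nat_lit 0xb105)) (.leaf (nat_lit 0xb297))) (.node (.leaf (nat_lit 0x1004206)) (.leaf (nat_lit 0x26f)))) (.node (.node (.leaf (nat_lit 0xc0e9)) (.leaf (nat_lit 0x100a10a))) (.node (.leaf (nat_lit 0x100d2ad)) (.leaf (nat_lit 0x0)))))) (.node (.node (.node (.node (.leaf (nat_lit 0x1000194)) (.leaf (nat_lit 0x100306b))) (.node (.leaf (nat_lit 0xcf)) (.leaf (nat_lit 0x102e337)))) (.node (.node (.leaf (nat_lit 0x100d0ee)) (.leaf (nat_lit 0x3116))) (.node (.leaf (nat_lit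 0x100300f)) (.leaf (nat_lit 0x0))))) (.node (.node (.node (.leaf (nat_lit 0x1005336)) (.leaf (nat_lit 0x100400b))) (.node (.leaf (nat_lit 0x50df)) (.leaf (nat_lit 0x0)))) (.node (.node (.leaf (nat_lit 0xd280)) (.leaf (nat_lit 0xc099))) (.node (.leaf (nat_lit 0x3205)) (.leaf (nat_lit 0x0))))))) (.node (.node (.node (.node (.node (.leaf (nat_lit 0x5198)) (.leaf (nat_lit 0x3029))) (.node (.leaf (nat_lit 0x6213)) (.leaf (nat_lit 0xe325)))) (.node (.node (.leaf (nat_lit 0x1006218)) (.leaf (nat_lit 0x52b0))) (.node (.leaf (nat_lit 0x100b0fc)) (.leaf (nat_lit 0x0))))) (.node (.node (.node (.leaf (nat_lit 0xc29a)) (.leaf (nat_lit 0x22d6))) (.node (.leaf (nat_lit 0x100620a)) (.leaf (nat_lit 0x25)))) (.node (.node (.leaf (nat_lit 0x1212)) (.leaf (nat_lit 0xd0f7))) (.node (.leaf (nat_lit 0x100510c)) (.leaf (nat_lit 0x0)))))) (.node (.node (.node (.node (.leaf (nat_lit 0x92ad)) (.leaf (nat_lit 0x11cd))) (.node (.leaf (nat_lit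 0x100620b)) (.leaf (nat_lit 0xd133)))) (.node (.node (.leaf (nat_lit 0xa220)) (.leaf (nat_lit 0x100a0f2))) (.node (.leaf (nat_lit 0x91b5)) (.leaf (nat_lit 0x0))))) (.node (.node (.node (.leaf (nat_lit 0x60d0)) (.leaf (nat_lit 0x3292))) (.node (.leaf (nat_lit 0x307e)) (.leaf (nat_lit 0x0)))) (.node (.node (.leaf (nat_lit 0xc0f4)) (.leaf (nat_lit 0xb157))) (.node (.leaf (nat_lit 0x5072)) (.leaf (nat_lit 0x0)))))))) (.node (.node (.node (.node (.node (.node (.leaf (nat_lit 0x107d)) (.leaf (nat_lit 0xf13a))) (.node (.leaf (nat_lit 0x100a063)) (.leaf (nat_lit 0x1009205)))) (.node (.node (.leaf (nat_lit 0x10051ae)) (.leaf (nat_lit 0x515f))) (.node (.leaf (nat_lit 0x10021c8)) (.leaf (nat_lit 0x0))))) (.node (.node (.node (.leaf (nat_lit 0x905f)) (.leaf (nat_lit 0x805a))) (.node (.leaf (nat_lit 0x7152)) (.leaf (nat_lit 0x3220)))) (.node (.node (.leaf (nat_lit 0x810c)) (.leaf (nat_lit 0x30cf))) (.node (.leaf (nat_lit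 0x1003219)) (.leaf (nat_lit 0x0)))))) (.node (.node (.node (.node (.leaf (nat_lit 0x2114)) (.leaf (nat_lit 0x6021))) (.node (.leaf (nat_lit 0x82fe)) (.leaf (nat_lit 0xb0de)))) (.node (.node (.leaf (nat_lit 0x50e6)) (.leaf (nat_lit 0x10021b5))) (.node (.leaf (nat_lit 0x7292)) (.leaf (nat_lit 0x0))))) (.node (.node (.node (.leaf (nat_lit 0x61ad)) (.leaf (nat_lit 0x1c9))) (.node (.leaf (nat_lit 0x100821c)) (.leaf (nat_lit 0x0)))) (.node (.node (.leaf (nat_lit 0x100b0dd)) (.leaf (nat_lit 0x1006039))) (.node (.leaf (nat_lit 0x8046)) (.leaf (nat_lit 0x0))))))) (.node (.node (.node (.node (.node (.leaf (nat_lit 0x7057)) (.leaf (nat_lit 0x10021a4))) (.node (.leaf (nat_lit 0x8137)) (.leaf (nat_lit 0x3055)))) (.node (.node (.leaf (nat_lit 0x10021a9)) (.leaf (nat_lit 0x1000085))) (.node (.leaf (nat_lit 0x10337)) (.leaf (nat_lit 0x0))))) (.node (.node (.node (.leaf (nat_lit 0x100610d)) (.leaf (nat_lit 0x628f))) (.node (.leaf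 (nat_lit 0xa0f0)) (.leaf (nat_lit 0x0)))) (.node (.node (.leaf (nat_lit 0x100427f)) (.leaf (nat_lit 0x828f))) (.node (.leaf (nat_lit 0x221c)) (.leaf (nat_lit 0x0)))))) (.node (.node (.node (.node (.leaf (nat_lit 0xb04a)) (.leaf (nat_lit 0x1001076))) (.node (.leaf (nat_lit 0x1009028)) (.leaf (nat_lit 0x6200)))) (.node (.node (.leaf (nat_lit 0xb071)) (.leaf (nat_lit 0x1024199))) (.node (.leaf (nat_lit 0x928e)) (.leaf (nat_lit 0x0))))) (.node (.node (.node (.leaf (nat_lit 0x2195)) (.leaf (nat_lit 0x81cd))) (.node (.leaf (nat_lit 0x100110c)) (.leaf (nat_lit 0x0)))) (.node (.node (.leaf (nat_lit 0x43)) (.leaf (nat_lit 0x707c))) (.node (.leaf (nat_lit 0x51f8)) (.leaf (nat_lit 0x0)))))))))))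

end Cfsg.Agent.TcData.HN.I1539000
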