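import Cfsg.Agent.Lib.TcFacts

set_option autoImplicit false
set_option Elab.async false
set_option maxRecDepth 100000
set_option linter.all false

namespace Cfsg.Agent.TcData.HN.I1539000

open Cfsg.Agent.Lib.TcFacts

/-- A part of a table. -/
noncomputable def PH4 : Tr := (.node (.node (.node (.node (.node (.node (.node (.node (.node (.leaf (nat_lit 0x342)) (.leaf (nat_lit 0x5153))) (.node (.leaf (nat_lit 0x5233)) (.leaf (nat_lit 0x1008127)))) (.node (.node (.leaf (nat_lit 0x5104)) (.leaf (nat_lit 0x10001c8))) (.node (.leaf (nat_lit 0x50e7)) (.leaf (nat_lit 0x0))))) (.node (.node (.node (.leaf (nat_lit 0x100329a)) (.leaf (nat_lit 0xb29e))) (.node (.leaf (nat_lit 0x80cb)) (.leaf (nat_lit 0x100021a)))) (.node (.node (.leaf (nat_lit 0xb07d)) (.leaf (nat_lit 0x2b337))) (.node (.leaf (nat_lit 0x100d0a9)) (.leaf (nat_lit 0x0)))))) (.node (.node (.node (.node (.leaf (nat_lit 0x929a)) (.leaf (nat_lit 0x1006006))) (.node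 (.leaf (nat_lit 0x3064)) (.leaf (nat_lit 0x100123f)))) (.node (.node (.leaf (nat_lit 0x100a0fc)) (.leaf (nat_lit 0x2013))) (.node (.leaf (nat_lit 0xf115)) (.leaf (nat_lit 0x0))))) (.node (.node (.node (.leaf (nat_lit 0xa046)) (.leaf (nat_lit 0x40bb))) (.node (.leaf (nat_lit 0x60f8)) (.leaf (nat_lit 0x0)))) (.node (.node (.leaf (nat_lit 0x100d0e5)) (.leaf (nat_lit 0xe17b))) (.node (.leaf (nat_lit 0x100b041)) (.leaf (nat_lit 0x0))))))) (.node (.node (.node (.node (.node (.leaf (nat_lit 0x4007)) (.leaf (nat_lit 0x20fe))) (.node (.leaf (nat_lit 0x10022b1)) (.leaf (nat_lit 0x1004137)))) (.node (.node (.leaf (nat_lit 0x201e)) (.leaf (nat_lit 0x10061a5))) (.node (.leaf (nat_lit 0xd13f)) (.leaf (nat_lit 0x0))))) (.node (.node (.node (.leaf (nat_lit 0x6254)) (.leaf (nat_lit 0x9071))) (.node (.leaf (nat_lit 0x1008218)) (.leaf (nat_lit 0x91c8)))) (.node (.node (.leaf (nat_lit 0x5063)) (.leaf (nat_lit 0x10042b3))) (.node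 (.leaf (nat_lit 0x4115)) (.leaf (nat_lit 0x0)))))) (.node (.node (.node (.node (.leaf (nat_lit 0x1004115)) (.leaf (nat_lit 0xb280))) (.node (.leaf (nat_lit 0x710f)) (.leaf (nat_lit 0x2072)))) (.node (.node (.leaf (nat_lit 0x100a0ed)) (.leaf (nat_lit 0xc295))) (.node (.leaf (nat_lit 0xe116)) (.leaf (nat_lit 0x0))))) (.node (.node (.node (.leaf (nat_lit 0x90d2)) (.leaf (nat_lit 0x10051ac))) (.node (.leaf (nat_lit 0x4287)) (.leaf (nat_lit 0x0)))) (.node (.node (.leaf (nat_lit 0x100d102)) (.leaf (nat_lit 0x100414f))) (.node (.leaf (nat_lit 0x105b)) (.leaf (nat_lit 0x0)))))))) (.node (.node (.node (.node (.node (.node (.leaf (nat_lit 0xa065)) (.leaf (nat_lit 0x8077))) (.node (.leaf (nat_lit 0x100c10a)) (.leaf (nat_lit 0x125e)))) (.node (.node (.leaf (nat_lit 0x100b065)) (.leaf (nat_lit 0x5035))) (.node (.leaf (nat_lit 0x10010f0)) (.leaf (nat_lit 0x0))))) (.node (.node (.node (.leaf (nat_lit 0xd29b)) (.leaf (nat_lit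 0x21ac))) (.node (.leaf (nat_lit 0xd0ed)) (.leaf (nat_lit 0x1008115)))) (.node (.node (.leaf (nat_lit 0x220e)) (.leaf (nat_lit 0x601d))) (.node (.leaf (nat_lit 0x4137)) (.leaf (nat_lit 0x0)))))) (.node (.node (.node (.node (.leaf (nat_lit 0x8160)) (.leaf (nat_lit 0x10011c7))) (.node (.leaf (nat_lit 0x10040e6)) (.leaf (nat_lit 0x106a)))) (.node (.node (.leaf (nat_lit 0x100428e)) (.leaf (nat_lit 0xe4))) (.node (.leaf (nat_lit 0x10030e3)) (.leaf (nat_lit 0x0))))) (.node (.node (.node (.leaf (nat_lit 0x6006)) (.leaf (nat_lit 0x1213))) (.node (.leaf (nat_lit 0x1005107)) (.leaf (nat_lit 0x0)))) (.node (.node (.leaf (nat_lit 0xa200)) (.leaf (nat_lit 0x100b06f))) (.node (.leaf (nat_lit 0xa048)) (.leaf (nat_lit 0x0))))))) (.node (.node (.node (.node (.node (.leaf (nat_lit 0xd270)) (.leaf (nat_lit 0x1006021))) (.node (.leaf (nat_lit 0xa1e1)) (.leaf (nat_lit 0xd2f6)))) (.node (.node (.leaf (nat_lit 0x3295)) (.leaf (nat_lit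 0x306e))) (.node (.leaf (nat_lit 0x90df)) (.leaf (nat_lit 0x0))))) (.node (.node (.node (.leaf (nat_lit 0x100319c)) (.leaf (nat_lit 0x100d085))) (.node (.leaf (nat_lit 0x6038)) (.leaf (nat_lit 0x0)))) (.node (.node (.leaf (nat_lit 0x1001065)) (.leaf (nat_lit 0x1009213))) (.node (.leaf (nat_lit 0x832d)) (.leaf (nat_lit 0x0)))))) (.node (.node (.node (.node (.leaf (nat_lit 0x80b4)) (.leaf (nat_lit 0x100a067))) (.node (.leaf (nat_lit 0x104b)) (.leaf (nat_lit 0x1011)))) (.node (.node (.leaf (nat_lit 0x64)) (.leaf (nat_lit 0x7038))) (.node (.leaf (nat_lit 0x1000155)) (.leaf (nat_lit 0x0))))) (.node (.node (.node (.leaf (nat_lit 0x50f2)) (.leaf (nat_lit 0x4085))) (.node (.leaf (nat_lit 0x1006046)) (.leaf (nat_lit 0x0)))) (.node (.node (.leaf (nat_lit 0x100d285)) (.leaf (nat_lit 0x2162))) (.node (.leaf (nat_lit 0x728f)) (.leaf (nat_lit 0x0))))))))) (.node (.node (.node (.node (.node (.node (.node (.leaf (nat_lit 0x105e))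 (.leaf (nat_lit 0x22a4))) (.node (.leaf (nat_lit 0x10000fd)) (.leaf (nat_lit 0x803b)))) (.node (.node (.leaf (nat_lit 0x7050)) (.leaf (nat_lit 0x30d4))) (.node (.leaf (nat_lit 0x10091e1)) (.leaf (nat_lit 0x0))))) (.node (.node (.node (.leaf (nat_lit 0xa05b)) (.leaf (nat_lit 0x61e9))) (.node (.leaf (nat_lit 0x100605f)) (.leaf (nat_lit 0x8035)))) (.node (.node (.leaf (nat_lit 0x100a0fa)) (.leaf (nat_lit 0x1009054))) (.node (.leaf (nat_lit 0x1008298)) (.leaf (nat_lit 0x0)))))) (.node (.node (.node (.node (.leaf (nat_lit 0x100c29a)) (.leaf (nat_lit 0x915a))) (.node (.leaf (nat_lit 0x1005160)) (.leaf (nat_lit 0x100307a)))) (.node (.node (.leaf (nat_lit 0xe1)) (.leaf (nat_lit 0x10021ca))) (.node (.leaf (nat_lit 0x5272)) (.leaf (nat_lit 0x0))))) (.node (.node (.node (.leaf (nat_lit 0xc245)) (.leaf (nat_lit 0x100921c))) (.node (.leaf (nat_lit 0x1002317)) (.leaf (nat_lit 0x0)))) (.node (.node (.leaf (nat_lit 0x1006336))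 (.leaf (nat_lit 0xd2a7))) (.node (.leaf (nat_lit 0x9116)) (.leaf (nat_lit 0x0))))))) (.node (.node (.node (.node (.node (.leaf (nat_lit 0x300a)) (.leaf (nat_lit 0x51c1))) (.node (.leaf (nat_lit 0x10050e0)) (.leaf (nat_lit 0x8049)))) (.node (.node (.leaf (nat_lit 0x1002292)) (.leaf (nat_lit 0x10031e2))) (.node (.leaf (nat_lit 0x1006294)) (.leaf (nat_lit 0x0))))) (.node (.node (.node (.leaf (nat_lit 0xa28b)) (.leaf (nat_lit 0x100b2b3))) (.node (.leaf (nat_lit 0x9104)) (.leaf (nat_lit 0x30)))) (.node (.node (.leaf (nat_lit 0xb0ea)) (.leaf (nat_lit 0x100401f))) (.node (.leaf (nat_lit 0x100a070)) (.leaf (nat_lit 0x0)))))) (.node (.node (.node (.node (.leaf (nat_lit 0x10050ee)) (.leaf (nat_lit 0x1007069))) (.node (.leaf (nat_lit 0x6104)) (.leaf (nat_lit 0x104a)))) (.node (.node (.leaf (nat_lit 0x30f1)) (.leaf (nat_lit 0x10040bf))) (.node (.leaf (nat_lit 0x1007214)) (.leaf (nat_lit 0x0))))) (.node (.node (.node (.leaf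 (nat_lit 0x70f0)) (.leaf (nat_lit 0x70eb))) (.node (.leaf (nat_lit 0x2154)) (.leaf (nat_lit 0x0)))) (.node (.node (.leaf (nat_lit 0x10030de)) (.leaf (nat_lit 0x1023))) (.node (.leaf (nat_lit 0xd0d1)) (.leaf (nat_lit 0x0)))))))) (.node (.node (.node (.node (.node (.node (.leaf (nat_lit 0x21b5)) (.leaf (nat_lit 0x100320a))) (.node (.leaf (nat_lit 0x5021)) (.leaf (nat_lit 0x82d2)))) (.node (.node (.leaf (nat_lit 0x1003339)) (.leaf (nat_lit 0x100521a))) (.node (.leaf (nat_lit 0x60d9)) (.leaf (nat_lit 0x0))))) (.node (.node (.node (.leaf (nat_lit 0x306d)) (.leaf (nat_lit 0x1005116))) (.node (.leaf (nat_lit 0x10032a7)) (.leaf (nat_lit 0x1002205)))) (.node (.node (.leaf (nat_lit 0x50ec)) (.leaf (nat_lit 0x10072b3))) (.node (.leaf (nat_lit 0x10022d5)) (.leaf (nat_lit 0x0)))))) (.node (.node (.node (.node (.leaf (nat_lit 0x120a)) (.leaf (nat_lit 0x9022))) (.node (.leaf (nat_lit 0xc112)) (.leaf (nat_lit 0xa123)))) (.node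 (.node (.leaf (nat_lit 0x504c)) (.leaf (nat_lit 0x100b079))) (.node (.leaf (nat_lit 0x10092aa)) (.leaf (nat_lit 0x0))))) (.node (.node (.node (.leaf (nat_lit 0x100119c)) (.leaf (nat_lit 0x2157))) (.node (.leaf (nat_lit 0xb06e)) (.leaf (nat_lit 0x0)))) (.node (.node (.leaf (nat_lit 0x10021bc)) (.leaf (nat_lit 0x10000f0))) (.node (.leaf (nat_lit 0x72b1)) (.leaf (nat_lit 0x0))))))) (.node (.node (.node (.node (.node (.leaf (nat_lit 0x10e)) (.leaf (nat_lit 0x10090f0))) (.node (.leaf (nat_lit 0x802d)) (.leaf (nat_lit 0x20cf)))) (.node (.node (.leaf (nat_lit 0xb15f)) (.leaf (nat_lit 0x61a5))) (.node (.leaf (nat_lit 0x3155)) (.leaf (nat_lit 0x0))))) (.node (.node (.node (.leaf (nat_lit 0x1000114)) (.leaf (nat_lit 0x1006207))) (.node (.leaf (nat_lit 0x100000a)) (.leaf (nat_lit 0x0)))) (.node (.node (.leaf (nat_lit 0x51b7)) (.leaf (nat_lit 0x1003021))) (.node (.leaf (nat_lit 0x9280)) (.leaf (nat_lit 0x0)))))) (.node (.node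 (.node (.node (.leaf (nat_lit 0x10041e3)) (.leaf (nat_lit 0x1009066))) (.node (.leaf (nat_lit 0x726e)) (.leaf (nat_lit 0x20f2)))) (.node (.node (.leaf (nat_lit 0x10001a7)) (.leaf (nat_lit 0x420b))) (.node (.leaf (nat_lit 0x615b)) (.leaf (nat_lit 0x0))))) (.node (.node (.node (.leaf (nat_lit 0x501b)) (.leaf (nat_lit 0x100b068))) (.node (.leaf (nat_lit 0x905a)) (.leaf (nat_lit 0x0)))) (.node (.node (.leaf (nat_lit 0x90ec)) (.leaf (nat_lit 0x10000fa))) (.node (.leaf (nat_lit 0x829e)) (.leaf (nat_lit 0x0)))))))))) (.node (.node (.node (.node (.node (.node (.node (.node (.leaf (nat_lit 0x6029)) (.leaf (nat_lit 0x18337))) (.node (.leaf (nat_lit 0x4067)) (.leaf (nat_lit 0x10040a1)))) (.node (.node (.leaf (nat_lit 0x10060ff)) (.leaf (nat_lit 0x10031ff))) (.node (.leaf (nat_lit 0x100b2b0)) (.leaf (nat_lit 0x0))))) (.node (.node (.node (.leaf (nat_lit 0x6309)) (.leaf (nat_lit 0x10041be))) (.node (.leaf (nat_lit 0x10062d8))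 (.leaf (nat_lit 0x100c0fb)))) (.node (.node (.leaf (nat_lit 0xc0fb)) (.leaf (nat_lit 0x100c2d5))) (.node (.leaf (nat_lit 0x9036)) (.leaf (nat_lit 0x0)))))) (.node (.node (.node (.node (.leaf (nat_lit 0x4004)) (.leaf (nat_lit 0x8042))) (.node (.leaf (nat_lit 0x9102)) (.leaf (nat_lit 0x6071)))) (.node (.node (.leaf (nat_lit 0x100221f)) (.leaf (nat_lit 0x1067))) (.node (.leaf (nat_lit 0x10042b2)) (.leaf (nat_lit 0x0))))) (.node (.node (.node (.leaf (nat_lit 0xd2b4)) (.leaf (nat_lit 0x72fe))) (.node (.leaf (nat_lit 0x20a)) (.leaf (nat_lit 0x0)))) (.node (.node (.leaf (nat_lit 0x6077)) (.leaf (nat_lit 0x100c199))) (.node (.leaf (nat_lit 0x304e)) (.leaf (nat_lit 0x0))))))) (.node (.node (.node (.node (.node (.leaf (nat_lit 0x8028)) (.leaf (nat_lit 0x3203))) (.node (.leaf (nat_lit 0x406f)) (.leaf (nat_lit 0x10010e7)))) (.node (.node (.leaf (nat_lit 0x82b2)) (.leaf (nat_lit 0x51ed))) (.node (.leaf (nat_lit 0x2011)) (.leaf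 (nat_lit 0x0))))) (.node (.node (.node (.leaf (nat_lit 0x400e)) (.leaf (nat_lit 0x813d))) (.node (.leaf (nat_lit 0x1005286)) (.leaf (nat_lit 0x4116)))) (.node (.node (.leaf (nat_lit 0x510a)) (.leaf (nat_lit 0xa18a))) (.node (.leaf (nat_lit 0x60d1)) (.leaf (nat_lit 0x0)))))) (.node (.node (.node (.node (.leaf (nat_lit 0xb0eb)) (.leaf (nat_lit 0x632a))) (.node (.leaf (nat_lit 0xd279)) (.leaf (nat_lit 0x2066)))) (.node (.node (.leaf (nat_lit 0x12b2)) (.leaf (nat_lit 0xa337))) (.node (.leaf (nat_lit 0x100d0f0)) (.leaf (nat_lit 0x0))))) (.node (.node (.node (.leaf (nat_lit 0xa214)) (.leaf (nat_lit 0x902b))) (.node (.leaf (nat_lit 0x100007e)) (.leaf (nat_lit 0x0)))) (.node (.node (.leaf (nat_lit 0x60dd)) (.leaf (nat_lit 0x21ea))) (.node (.leaf (nat_lit 0x201f)) (.leaf (nat_lit 0x0)))))))) (.node (.node (.node (.node (.node (.node (.leaf (nat_lit 0x600b)) (.leaf (nat_lit 0x1002013))) (.node (.leaf (nat_lit 0x100a079))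 (.leaf (nat_lit 0x4019)))) (.node (.node (.leaf (nat_lit 0x1006203)) (.leaf (nat_lit 0x10f2))) (.node (.leaf (nat_lit 0x902f)) (.leaf (nat_lit 0x0))))) (.node (.node (.node (.leaf (nat_lit 0x1008100)) (.leaf (nat_lit 0x1001111))) (.node (.leaf (nat_lit 0x907b)) (.leaf (nat_lit 0x1000280)))) (.node (.node (.leaf (nat_lit 0x21b7)) (.leaf (nat_lit 0x5025))) (.node (.leaf (nat_lit 0x70cb)) (.leaf (nat_lit 0x0)))))) (.node (.node (.node (.node (.leaf (nat_lit 0x100e198)) (.leaf (nat_lit 0x32a2))) (.node (.leaf (nat_lit 0x4100)) (.leaf (nat_lit 0x100300d)))) (.node (.node (.leaf (nat_lit 0x5114)) (.leaf (nat_lit 0x602b))) (.node (.leaf (nat_lit 0x4e)) (.leaf (nat_lit 0x0))))) (.node (.node (.node (.leaf (nat_lit 0x9015)) (.leaf (nat_lit 0x830e))) (.node (.leaf (nat_lit 0x10011a6)) (.leaf (nat_lit 0x0)))) (.node (.node (.leaf (nat_lit 0xa04a)) (.leaf (nat_lit 0x1009018))) (.node (.leaf (nat_lit 0xd299)) (.leaf (nat_lit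 0x0))))))) (.node (.node (.node (.node (.node (.leaf (nat_lit 0xc081)) (.leaf (nat_lit 0x920a))) (.node (.leaf (nat_lit 0x70c1)) (.leaf (nat_lit 0x7048)))) (.node (.node (.leaf (nat_lit 0x100430d)) (.leaf (nat_lit 0x1003117))) (.node (.leaf (nat_lit 0x100528c)) (.leaf (nat_lit 0x0))))) (.node (.node (.node (.leaf (nat_lit 0x605f)) (.leaf (nat_lit 0x31df))) (.node (.leaf (nat_lit 0xd0a2)) (.leaf (nat_lit 0x0)))) (.node (.node (.leaf (nat_lit 0x1a9)) (.leaf (nat_lit 0x1002011))) (.node (.leaf (nat_lit 0x6207)) (.leaf (nat_lit 0x0)))))) (.node (.node (.node (.node (.leaf (nat_lit 0x10080fe)) (.leaf (nat_lit 0x1006281))) (.node (.leaf (nat_lit 0x1000016)) (.leaf (nat_lit 0x100c28e)))) (.node (.node (.leaf (nat_lit 0x9143)) (.leaf (nat_lit 0x1000000))) (.node (.leaf (nat_lit 0x1280)) (.leaf (nat_lit 0x0))))) (.node (.node (.node (.leaf (nat_lit 0x20c5)) (.leaf (nat_lit 0x8023))) (.node (.leaf (nat_lit 0x8337)) (.leaf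 (nat_lit 0x0)))) (.node (.node (.leaf (nat_lit 0x1000046)) (.leaf (nat_lit 0x8130))) (.node (.leaf (nat_lit 0x1003204)) (.leaf (nat_lit 0x0))))))))) (.node (.node (.node (.node (.node (.node (.node (.leaf (nat_lit 0xa05f)) (.leaf (nat_lit 0x51c7))) (.node (.leaf (nat_lit 0xd18b)) (.leaf (nat_lit 0x1008044)))) (.node (.node (.leaf (nat_lit 0x7290)) (.leaf (nat_lit 0x100d28c))) (.node (.leaf (nat_lit 0x8031)) (.leaf (nat_lit 0x0))))) (.node (.node (.node (.leaf (nat_lit 0xa29f)) (.leaf (nat_lit 0xb289))) (.node (.leaf (nat_lit 0x7024)) (.leaf (nat_lit 0x160)))) (.node (.node (.leaf (nat_lit 0x1004003)) (.leaf (nat_lit 0x100a109))) (.node (.leaf (nat_lit 0x1000112)) (.leaf (nat_lit 0x0)))))) (.node (.node (.node (.node (.leaf (nat_lit 0x100b070)) (.leaf (nat_lit 0x104e))) (.node (.leaf (nat_lit 0xc26f)) (.leaf (nat_lit 0x102e199)))) (.node (.node (.leaf (nat_lit 0x100d0fa)) (.leaf (nat_lit 0x2081))) (.node (.leaf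 (nat_lit 0x51b5)) (.leaf (nat_lit 0x0))))) (.node (.node (.node (.leaf (nat_lit 0x100b199)) (.leaf (nat_lit 0xb153))) (.node (.leaf (nat_lit 0x1008022)) (.leaf (nat_lit 0x0)))) (.node (.node (.leaf (nat_lit 0x4077)) (.leaf (nat_lit 0xb099))) (.node (.leaf (nat_lit 0x630a)) (.leaf (nat_lit 0x0))))))) (.node (.node (.node (.node (.node (.leaf (nat_lit 0x51a2)) (.leaf (nat_lit 0x1000218))) (.node (.leaf (nat_lit 0x100a2aa)) (.leaf (nat_lit 0x10031d5)))) (.node (.node (.leaf (nat_lit 0x9292)) (.leaf (nat_lit 0x1003110))) (.node (.leaf (nat_lit 0x100507c)) (.leaf (nat_lit 0x0))))) (.node (.node (.node (.leaf (nat_lit 0xd0dd)) (.leaf (nat_lit 0x10011bc))) (.node (.leaf (nat_lit 0x8027)) (.leaf (nat_lit 0xd2ef)))) (.node (.node (.leaf (nat_lit 0x100107d)) (.leaf (nat_lit 0x5054))) (.node (.leaf (nat_lit 0xb10a)) (.leaf (nat_lit 0x0)))))) (.node (.node (.node (.node (.leaf (nat_lit 0xc0f6)) (.leaf (nat_lit 0x1005152)))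 (.node (.leaf (nat_lit 0x2a0)) (.leaf (nat_lit 0xc177)))) (.node (.node (.leaf (nat_lit 0x10001bc)) (.leaf (nat_lit 0x100300b))) (.node (.leaf (nat_lit 0x100b14f)) (.leaf (nat_lit 0x0))))) (.node (.node (.node (.leaf (nat_lit 0xd0cf)) (.leaf (nat_lit 0x70b3))) (.node (.leaf (nat_lit 0x2213)) (.leaf (nat_lit 0x0)))) (.node (.node (.leaf (nat_lit 0x606f)) (.leaf (nat_lit 0x11c9))) (.node (.leaf (nat_lit 0xb072)) (.leaf (nat_lit 0x0)))))))) (.node (.node (.node (.node (.node (.node (.leaf (nat_lit 0x2012)) (.leaf (nat_lit 0x425b))) (.node (.leaf (nat_lit 0x100a06b)) (.leaf (nat_lit 0x605d)))) (.node (.node (.leaf (nat_lit 0x1004065)) (.leaf (nat_lit 0x30d3))) (.node (.leaf (nat_lit 0x1a4)) (.leaf (nat_lit 0x0))))) (.node (.node (.node (.leaf (nat_lit 0x81fe)) (.leaf (nat_lit 0x61f1))) (.node (.leaf (nat_lit 0x410a)) (.leaf (nat_lit 0x23199)))) (.node (.node (.leaf (nat_lit 0x100a29b)) (.leaf (nat_lit 0x5151))) (.node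 (.leaf (nat_lit 0x817f)) (.leaf (nat_lit 0x0)))))) (.node (.node (.node (.node (.leaf (nat_lit 0x12aa)) (.leaf (nat_lit 0x1022))) (.node (.leaf (nat_lit 0x1002203)) (.leaf (nat_lit 0x10070fa)))) (.node (.node (.leaf (nat_lit 0x107e)) (.leaf (nat_lit 0x10062d6))) (.node (.leaf (nat_lit 0x10001a9)) (.leaf (nat_lit 0x0))))) (.node (.node (.node (.leaf (nat_lit 0x9025)) (.leaf (nat_lit 0xa074))) (.node (.leaf (nat_lit 0xc139)) (.leaf (nat_lit 0x0)))) (.node (.node (.leaf (nat_lit 0x7021)) (.leaf (nat_lit 0x100307c))) (.node (.leaf (nat_lit 0x1030)) (.leaf (nat_lit 0x0))))))) (.node (.node (.node (.node (.node (.leaf (nat_lit 0x429a)) (.leaf (nat_lit 0x100700d))) (.node (.leaf (nat_lit 0x8139)) (.leaf (nat_lit 0xa05a)))) (.node (.node (.leaf (nat_lit 0x11ab)) (.leaf (nat_lit 0x80f8))) (.node (.leaf (nat_lit 0x9078)) (.leaf (nat_lit 0x0))))) (.node (.node (.node (.leaf (nat_lit 0x10000ec)) (.leaf (nat_lit 0x40bf)))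 (.node (.leaf (nat_lit 0xc0d3)) (.leaf (nat_lit 0x0)))) (.node (.node (.leaf (nat_lit 0x20dd)) (.leaf (nat_lit 0x41d1))) (.node (.leaf (nat_lit 0x10011ec)) (.leaf (nat_lit 0x0)))))) (.node (.node (.node (.node (.leaf (nat_lit 0x1000063)) (.leaf (nat_lit 0x100701f))) (.node (.leaf (nat_lit 0xc0cf)) (.leaf (nat_lit 0xb061)))) (.node (.node (.leaf (nat_lit 0x90ef)) (.leaf (nat_lit 0x8107))) (.node (.leaf (nat_lit 0x1001205)) (.leaf (nat_lit 0x0))))) (.node (.node (.node (.leaf (nat_lit 0x100a198)) (.leaf (nat_lit 0x10012d6))) (.node (.leaf (nat_lit 0x10002f5)) (.leaf (nat_lit 0x0)))) (.node (.node (.leaf (nat_lit 0xa1de)) (.leaf (nat_lit 0x41ab))) (.node (.leaf (nat_lit 0x100c28c)) (.leaf (nat_lit 0x0)))))))))))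

end Cfsg.Agent.TcData.HN.I1539000
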