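import Cfsg.Agent.Lib.TcFacts

set_option autoImplicit false
set_option Elab.async false
set_option maxRecDepth 100000
set_option linter.all false

namespace Cfsg.Agent.TcData.HN.I1539000

open Cfsg.Agent.Lib.TcFacts

/-- A part of a table. -/
noncomputable def PH5 : Tr := (.node (.node (.node (.node (.node (.node (.node (.node (.node (.leaf (nat_lit 0x233a)) (.leaf (nat_lit 0x62a0))) (.node (.leaf (nat_lit 0x5231)) (.leaf (nat_lit 0x7034)))) (.node (.node (.leaf (nat_lit 0x100729b)) (.leaf (nat_lit 0x100807e))) (.node (.leaf (nat_lit 0x90fa)) (.leaf (nat_lit 0x0))))) (.node (.node (.node (.leaf (nat_lit 0x1008292)) (.leaf (nat_lit 0x62c8))) (.node (.leaf (nat_lit 0x80cc)) (.leaf (nat_lit 0x14337)))) (.node (.node (.leaf (nat_lit 0x6023)) (.leaf (nat_lit 0x402e))) (.node (.leaf (nat_lit 0x100227f)) (.leaf (nat_lit 0x0)))))) (.node (.node (.node (.node (.leaf (nat_lit 0x1aa)) (.leaf (nat_lit 0x10041a8))) (.node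 (.leaf (nat_lit 0x306b)) (.leaf (nat_lit 0x411b)))) (.node (.node (.leaf (nat_lit 0x405f)) (.leaf (nat_lit 0x10000f5))) (.node (.leaf (nat_lit 0x1007114)) (.leaf (nat_lit 0x0))))) (.node (.node (.node (.leaf (nat_lit 0x100b198)) (.leaf (nat_lit 0x80db))) (.node (.leaf (nat_lit 0x2110)) (.leaf (nat_lit 0x0)))) (.node (.node (.leaf (nat_lit 0x1002286)) (.leaf (nat_lit 0xc266))) (.node (.leaf (nat_lit 0x7207)) (.leaf (nat_lit 0x0))))))) (.node (.node (.node (.node (.node (.leaf (nat_lit 0xa07e)) (.leaf (nat_lit 0x5185))) (.node (.leaf (nat_lit 0x10060e8)) (.leaf (nat_lit 0xb042)))) (.node (.node (.leaf (nat_lit 0xb336)) (.leaf (nat_lit 0xd103))) (.node (.leaf (nat_lit 0x6030)) (.leaf (nat_lit 0x0))))) (.node (.node (.node (.leaf (nat_lit 0x6256)) (.leaf (nat_lit 0x607b))) (.node (.leaf (nat_lit 0x100b323)) (.leaf (nat_lit 0xa4)))) (.node (.node (.leaf (nat_lit 0x506c)) (.leaf (nat_lit 0x1017199))) (.node (.leaf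 (nat_lit 0x20d4)) (.leaf (nat_lit 0x0)))))) (.node (.node (.node (.node (.leaf (nat_lit 0x1030337)) (.leaf (nat_lit 0x1000078))) (.node (.leaf (nat_lit 0x129e)) (.leaf (nat_lit 0x1004043)))) (.node (.node (.leaf (nat_lit 0x829a)) (.leaf (nat_lit 0x1005137))) (.node (.leaf (nat_lit 0x42fe)) (.leaf (nat_lit 0x0))))) (.node (.node (.node (.leaf (nat_lit 0xb29a)) (.leaf (nat_lit 0x100c2f5))) (.node (.leaf (nat_lit 0x1a337)) (.leaf (nat_lit 0x0)))) (.node (.node (.leaf (nat_lit 0x10070ee)) (.leaf (nat_lit 0x16337))) (.node (.leaf (nat_lit 0x25b)) (.leaf (nat_lit 0x0)))))))) (.node (.node (.node (.node (.node (.node (.leaf (nat_lit 0x41a2)) (.leaf (nat_lit 0x805d))) (.node (.leaf (nat_lit 0x100620e)) (.leaf (nat_lit 0x100a2a8)))) (.node (.node (.leaf (nat_lit 0x300c)) (.leaf (nat_lit 0x10ef))) (.node (.leaf (nat_lit 0x100027f)) (.leaf (nat_lit 0x0))))) (.node (.node (.node (.leaf (nat_lit 0x1000005)) (.leaf (nat_lit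 0x100228a))) (.node (.leaf (nat_lit 0x6157)) (.leaf (nat_lit 0x10052a2)))) (.node (.node (.leaf (nat_lit 0x100b29b)) (.leaf (nat_lit 0x10011c0))) (.node (.leaf (nat_lit 0x100006d)) (.leaf (nat_lit 0x0)))))) (.node (.node (.node (.node (.leaf (nat_lit 0x10011a1)) (.leaf (nat_lit 0x100210d))) (.node (.leaf (nat_lit 0x1001281)) (.leaf (nat_lit 0x1016199)))) (.node (.node (.leaf (nat_lit 0x7336)) (.leaf (nat_lit 0x6319))) (.node (.leaf (nat_lit 0x4028)) (.leaf (nat_lit 0x0))))) (.node (.node (.node (.leaf (nat_lit 0xb0e7)) (.leaf (nat_lit 0xa072))) (.node (.leaf (nat_lit 0x8207)) (.leaf (nat_lit 0x0)))) (.node (.node (.leaf (nat_lit 0x1064)) (.leaf (nat_lit 0x4139))) (.node (.leaf (nat_lit 0x100c17b)) (.leaf (nat_lit 0x0))))))) (.node (.node (.node (.node (.node (.leaf (nat_lit 0x5193)) (.leaf (nat_lit 0x10021b0))) (.node (.leaf (nat_lit 0x10030ed)) (.leaf (nat_lit 0x10091d8)))) (.node (.node (.leaf (nat_lit 0x100c13a))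 (.leaf (nat_lit 0x10010e2))) (.node (.leaf (nat_lit 0xd15f)) (.leaf (nat_lit 0x0))))) (.node (.node (.node (.leaf (nat_lit 0x4063)) (.leaf (nat_lit 0x10001b4))) (.node (.leaf (nat_lit 0x6039)) (.leaf (nat_lit 0x0)))) (.node (.node (.leaf (nat_lit 0x1001332)) (.leaf (nat_lit 0x314f))) (.node (.leaf (nat_lit 0x832c)) (.leaf (nat_lit 0x0)))))) (.node (.node (.node (.node (.leaf (nat_lit 0x70b5)) (.leaf (nat_lit 0x21e9))) (.node (.leaf (nat_lit 0xb1ed)) (.leaf (nat_lit 0x71ac)))) (.node (.node (.leaf (nat_lit 0x41bc)) (.leaf (nat_lit 0x7039))) (.node (.leaf (nat_lit 0x3222)) (.leaf (nat_lit 0x0))))) (.node (.node (.node (.leaf (nat_lit 0x50fa)) (.leaf (nat_lit 0x10012f5))) (.node (.leaf (nat_lit 0xa2fe)) (.leaf (nat_lit 0x0)))) (.node (.node (.leaf (nat_lit 0xd110)) (.leaf (nat_lit 0x1004323))) (.node (.leaf (nat_lit 0x6075)) (.leaf (nat_lit 0x0))))))))) (.node (.node (.node (.node (.node (.node (.node (.leaf (nat_lit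 0x219c)) (.leaf (nat_lit 0x90bf))) (.node (.leaf (nat_lit 0x1000011)) (.leaf (nat_lit 0x100c30d)))) (.node (.node (.leaf (nat_lit 0x7051)) (.leaf (nat_lit 0x527f))) (.node (.leaf (nat_lit 0x10051b4)) (.leaf (nat_lit 0x0))))) (.node (.node (.node (.leaf (nat_lit 0x100b046)) (.leaf (nat_lit 0x30af))) (.node (.leaf (nat_lit 0x2100)) (.leaf (nat_lit 0x100b0f3)))) (.node (.node (.leaf (nat_lit 0x100a10e)) (.leaf (nat_lit 0x1005296))) (.node (.leaf (nat_lit 0x10032a0)) (.leaf (nat_lit 0x0)))))) (.node (.node (.node (.node (.leaf (nat_lit 0x10082ac)) (.leaf (nat_lit 0x815b))) (.node (.leaf (nat_lit 0x100904a)) (.leaf (nat_lit 0x90c1)))) (.node (.node (.leaf (nat_lit 0x7028)) (.leaf (nat_lit 0x100d2b9))) (.node (.leaf (nat_lit 0xc0f2)) (.leaf (nat_lit 0x0))))) (.node (.node (.node (.leaf (nat_lit 0xf133)) (.leaf (nat_lit 0x220b))) (.node (.leaf (nat_lit 0x7169)) (.leaf (nat_lit 0x0)))) (.node (.node (.leaf (nat_lit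 0x507e)) (.leaf (nat_lit 0x1003297))) (.node (.leaf (nat_lit 0x715f)) (.leaf (nat_lit 0x0))))))) (.node (.node (.node (.node (.node (.leaf (nat_lit 0x129a)) (.leaf (nat_lit 0x30bf))) (.node (.leaf (nat_lit 0x10001ab)) (.leaf (nat_lit 0x52b4)))) (.node (.node (.leaf (nat_lit 0x2294)) (.leaf (nat_lit 0xc2d8))) (.node (.leaf (nat_lit 0x1006)) (.leaf (nat_lit 0x0))))) (.node (.node (.node (.leaf (nat_lit 0x1002280)) (.leaf (nat_lit 0x100b2ab))) (.node (.leaf (nat_lit 0xfa)) (.leaf (nat_lit 0x8245)))) (.node (.node (.leaf (nat_lit 0xb0f7)) (.leaf (nat_lit 0x3300))) (.node (.leaf (nat_lit 0x8217)) (.leaf (nat_lit 0x0)))))) (.node (.node (.node (.node (.leaf (nat_lit 0x10dc)) (.leaf (nat_lit 0x100706a))) (.node (.leaf (nat_lit 0xb102)) (.leaf (nat_lit 0xc220)))) (.node (.node (.leaf (nat_lit 0x628e)) (.leaf (nat_lit 0x624b))) (.node (.leaf (nat_lit 0x70d3)) (.leaf (nat_lit 0x0))))) (.node (.node (.node (.leaf (nat_lit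 0xb285)) (.leaf (nat_lit 0x70f8))) (.node (.leaf (nat_lit 0x100b2aa)) (.leaf (nat_lit 0x0)))) (.node (.node (.leaf (nat_lit 0xc28e)) (.leaf (nat_lit 0x91be))) (.node (.leaf (nat_lit 0x40fe)) (.leaf (nat_lit 0x0)))))))) (.node (.node (.node (.node (.node (.node (.leaf (nat_lit 0x400c)) (.leaf (nat_lit 0x10041c6))) (.node (.leaf (nat_lit 0x1000111)) (.leaf (nat_lit 0x10032b6)))) (.node (.node (.leaf (nat_lit 0xf6)) (.leaf (nat_lit 0x100d104))) (.node (.leaf (nat_lit 0x1003213)) (.leaf (nat_lit 0x0))))) (.node (.node (.node (.leaf (nat_lit 0x10090dc)) (.leaf (nat_lit 0x1003113))) (.node (.leaf (nat_lit 0x10051de)) (.leaf (nat_lit 0xa09f)))) (.node (.node (.leaf (nat_lit 0x40db)) (.leaf (nat_lit 0x10072ab))) (.node (.leaf (nat_lit 0x100930e)) (.leaf (nat_lit 0x0)))))) (.node (.node (.node (.node (.leaf (nat_lit 0x10062b0)) (.leaf (nat_lit 0x100c0de))) (.node (.leaf (nat_lit 0x7022)) (.leaf (nat_lit 0xa124)))) (.node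 (.node (.leaf (nat_lit 0x804d)) (.leaf (nat_lit 0xa06e))) (.node (.leaf (nat_lit 0x420e)) (.leaf (nat_lit 0x0))))) (.node (.node (.node (.leaf (nat_lit 0x100233a)) (.leaf (nat_lit 0x100700c))) (.node (.leaf (nat_lit 0x5214)) (.leaf (nat_lit 0x0)))) (.node (.node (.leaf (nat_lit 0x1004081)) (.leaf (nat_lit 0xb03c))) (.node (.leaf (nat_lit 0x806a)) (.leaf (nat_lit 0x0))))))) (.node (.node (.node (.node (.node (.leaf (nat_lit 0xd2b0)) (.leaf (nat_lit 0x10022af))) (.node (.leaf (nat_lit 0x907a)) (.leaf (nat_lit 0x1121)))) (.node (.node (.leaf (nat_lit 0x100c0fd)) (.leaf (nat_lit 0x1005015))) (.node (.leaf (nat_lit 0x1006076)) (.leaf (nat_lit 0x0))))) (.node (.node (.node (.leaf (nat_lit 0x6)) (.leaf (nat_lit 0xa055))) (.node (.leaf (nat_lit 0x42a4)) (.leaf (nat_lit 0x0)))) (.node (.node (.leaf (nat_lit 0x100a100)) (.leaf (nat_lit 0x70b9))) (.node (.leaf (nat_lit 0xa0ef)) (.leaf (nat_lit 0x0)))))) (.node (.node (.node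 (.node (.leaf (nat_lit 0x100d0e6)) (.leaf (nat_lit 0xd0b9))) (.node (.leaf (nat_lit 0x100c0fa)) (.leaf (nat_lit 0x804b)))) (.node (.node (.leaf (nat_lit 0x1004333)) (.leaf (nat_lit 0x5173))) (.node (.leaf (nat_lit 0x10012fd)) (.leaf (nat_lit 0x0))))) (.node (.node (.node (.leaf (nat_lit 0x42b2)) (.leaf (nat_lit 0x100902f))) (.node (.leaf (nat_lit 0x100e2fd)) (.leaf (nat_lit 0x0)))) (.node (.node (.leaf (nat_lit 0x1002195)) (.leaf (nat_lit 0x1002299))) (.node (.leaf (nat_lit 0x70ec)) (.leaf (nat_lit 0x0)))))))))) (.node (.node (.node (.node (.node (.node (.node (.node (.leaf (nat_lit 0x19c)) (.leaf (nat_lit 0x1008205))) (.node (.leaf (nat_lit 0x100929a)) (.leaf (nat_lit 0xb0ed)))) (.node (.node (.leaf (nat_lit 0x6100)) (.leaf (nat_lit 0x10090e2))) (.node (.leaf (nat_lit 0x1004114)) (.leaf (nat_lit 0x0))))) (.node (.node (.node (.leaf (nat_lit 0x6307)) (.leaf (nat_lit 0x10041bf))) (.node (.leaf (nat_lit 0x100a138))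 (.leaf (nat_lit 0x4038)))) (.node (.node (.leaf (nat_lit 0x100c2ac)) (.leaf (nat_lit 0x1003022))) (.node (.leaf (nat_lit 0xc0ef)) (.leaf (nat_lit 0x0)))))) (.node (.node (.node (.node (.leaf (nat_lit 0xf198)) (.leaf (nat_lit 0x100521f))) (.node (.leaf (nat_lit 0x3290)) (.leaf (nat_lit 0x30e1)))) (.node (.node (.leaf (nat_lit 0xd112)) (.leaf (nat_lit 0x7210))) (.node (.leaf (nat_lit 0x1005077)) (.leaf (nat_lit 0x0))))) (.node (.node (.node (.leaf (nat_lit 0x62aa)) (.leaf (nat_lit 0x100a07c))) (.node (.leaf (nat_lit 0xa1f8)) (.leaf (nat_lit 0x0)))) (.node (.node (.leaf (nat_lit 0xb107)) (.leaf (nat_lit 0x10042f1))) (.node (.leaf (nat_lit 0xa0af)) (.leaf (nat_lit 0x0))))))) (.node (.node (.node (.node (.node (.leaf (nat_lit 0xee)) (.leaf (nat_lit 0x5028))) (.node (.leaf (nat_lit 0x41cc)) (.leaf (nat_lit 0x1005012)))) (.node (.node (.leaf (nat_lit 0x100c198)) (.leaf (nat_lit 0x41ec))) (.node (.leaf (nat_lit 0x200b))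 (.leaf (nat_lit 0x0))))) (.node (.node (.node (.leaf (nat_lit 0x1003337)) (.leaf (nat_lit 0x813e))) (.node (.leaf (nat_lit 0x10020e4)) (.leaf (nat_lit 0x2118)))) (.node (.node (.leaf (nat_lit 0x4295)) (.leaf (nat_lit 0xa18c))) (.node (.leaf (nat_lit 0x100304c)) (.leaf (nat_lit 0x0)))))) (.node (.node (.node (.node (.leaf (nat_lit 0xb10d)) (.leaf (nat_lit 0x100b21c))) (.node (.leaf (nat_lit 0x71c9)) (.leaf (nat_lit 0xb203)))) (.node (.node (.leaf (nat_lit 0x3011)) (.leaf (nat_lit 0x61b6))) (.node (.leaf (nat_lit 0x71ff)) (.leaf (nat_lit 0x0))))) (.node (.node (.node (.leaf (nat_lit 0x707a)) (.leaf (nat_lit 0x230e))) (.node (.leaf (nat_lit 0xe13a)) (.leaf (nat_lit 0x0)))) (.node (.node (.leaf (nat_lit 0x60e1)) (.leaf (nat_lit 0x62d8))) (.node (.leaf (nat_lit 0x41b7)) (.leaf (nat_lit 0x0)))))))) (.node (.node (.node (.node (.node (.node (.leaf (nat_lit 0x5011)) (.leaf (nat_lit 0x10020e7))) (.node (.leaf (nat_lit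 0x7137)) (.leaf (nat_lit 0x1004152)))) (.node (.node (.leaf (nat_lit 0x1006205)) (.leaf (nat_lit 0x1007016))) (.node (.leaf (nat_lit 0x10051ca)) (.leaf (nat_lit 0x0))))) (.node (.node (.node (.leaf (nat_lit 0x100310f)) (.leaf (nat_lit 0x10040df))) (.node (.leaf (nat_lit 0xb)) (.leaf (nat_lit 0x10060eb)))) (.node (.node (.leaf (nat_lit 0x100a21f)) (.leaf (nat_lit 0x10031ad))) (.node (.leaf (nat_lit 0x70cc)) (.leaf (nat_lit 0x0)))))) (.node (.node (.node (.node (.leaf (nat_lit 0x9020)) (.leaf (nat_lit 0x6289))) (.node (.leaf (nat_lit 0x904a)) (.leaf (nat_lit 0x10021d9)))) (.node (.node (.leaf (nat_lit 0x42aa)) (.leaf (nat_lit 0x902d))) (.node (.leaf (nat_lit 0xa1ea)) (.leaf (nat_lit 0x0))))) (.node (.node (.node (.leaf (nat_lit 0x193)) (.leaf (nat_lit 0xf158))) (.node (.leaf (nat_lit 0x9040)) (.leaf (nat_lit 0x0)))) (.node (.node (.leaf (nat_lit 0x1003333)) (.leaf (nat_lit 0x418f))) (.node (.leaf (nat_lit 0xe2))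 (.leaf (nat_lit 0x0))))))) (.node (.node (.node (.node (.node (.leaf (nat_lit 0x195)) (.leaf (nat_lit 0x92a7))) (.node (.leaf (nat_lit 0x70c2)) (.leaf (nat_lit 0xc151)))) (.node (.node (.leaf (nat_lit 0x100804d)) (.leaf (nat_lit 0x8119))) (.node (.leaf (nat_lit 0x9056)) (.leaf (nat_lit 0x0))))) (.node (.node (.node (.leaf (nat_lit 0x91fe)) (.leaf (nat_lit 0x10092a7))) (.node (.leaf (nat_lit 0x108)) (.leaf (nat_lit 0x0)))) (.node (.node (.leaf (nat_lit 0x90dd)) (.leaf (nat_lit 0xb173))) (.node (.leaf (nat_lit 0x6210)) (.leaf (nat_lit 0x0)))))) (.node (.node (.node (.node (.leaf (nat_lit 0xb063)) (.leaf (nat_lit 0x10020de))) (.node (.leaf (nat_lit 0x10011ab)) (.leaf (nat_lit 0x100a286)))) (.node (.node (.leaf (nat_lit 0x917d)) (.leaf (nat_lit 0x100a072))) (.node (.leaf (nat_lit 0x20fb)) (.leaf (nat_lit 0x0))))) (.node (.node (.node (.leaf (nat_lit 0x2175)) (.leaf (nat_lit 0x10052fe))) (.node (.leaf (nat_lit 0x1029337))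 (.leaf (nat_lit 0x0)))) (.node (.node (.leaf (nat_lit 0x10070fb)) (.leaf (nat_lit 0x7257))) (.node (.leaf (nat_lit 0x1003206)) (.leaf (nat_lit 0x0))))))))) (.node (.node (.node (.node (.node (.node (.node (.leaf (nat_lit 0xa061)) (.leaf (nat_lit 0x30d))) (.node (.leaf (nat_lit 0xb0c9)) (.leaf (nat_lit 0x10072a8)))) (.node (.node (.leaf (nat_lit 0xd102)) (.leaf (nat_lit 0x1000021))) (.node (.leaf (nat_lit 0x8033)) (.leaf (nat_lit 0x0))))) (.node (.node (.node (.leaf (nat_lit 0xa2a1)) (.leaf (nat_lit 0x91b8))) (.node (.leaf (nat_lit 0x10051fd)) (.leaf (nat_lit 0x921f)))) (.node (.node (.leaf (nat_lit 0x31)) (.leaf (nat_lit 0x100b078))) (.node (.leaf (nat_lit 0x9222)) (.leaf (nat_lit 0x0)))))) (.node (.node (.node (.node (.leaf (nat_lit 0x10011ae)) (.leaf (nat_lit 0xb1ea))) (.node (.leaf (nat_lit 0xb031)) (.leaf (nat_lit 0x10061ea)))) (.node (.node (.leaf (nat_lit 0x10001a0)) (.leaf (nat_lit 0xe11b))) (.node (.leaf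 (nat_lit 0x61d0)) (.leaf (nat_lit 0x0))))) (.node (.node (.node (.leaf (nat_lit 0x10051a6)) (.leaf (nat_lit 0x4047))) (.node (.leaf (nat_lit 0x3a)) (.leaf (nat_lit 0x0)))) (.node (.node (.leaf (nat_lit 0x1f)) (.leaf (nat_lit 0x10071ba))) (.node (.leaf (nat_lit 0x3048)) (.leaf (nat_lit 0x0))))))) (.node (.node (.node (.node (.node (.leaf (nat_lit 0x7017)) (.leaf (nat_lit 0x100123d))) (.node (.leaf (nat_lit 0x10050ad)) (.leaf (nat_lit 0x22ba)))) (.node (.node (.leaf (nat_lit 0x8065)) (.leaf (nat_lit 0x1000015))) (.node (.leaf (nat_lit 0x31ec)) (.leaf (nat_lit 0x0))))) (.node (.node (.node (.leaf (nat_lit 0x2330)) (.leaf (nat_lit 0x10091eb))) (.node (.leaf (nat_lit 0x81c9)) (.leaf (nat_lit 0x1189)))) (.node (.node (.leaf (nat_lit 0x100020e)) (.leaf (nat_lit 0xd08f))) (.node (.leaf (nat_lit 0x17)) (.leaf (nat_lit 0x0)))))) (.node (.node (.node (.node (.leaf (nat_lit 0x1004331)) (.leaf (nat_lit 0xc108))) (.node (.leaf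 (nat_lit 0xb068)) (.leaf (nat_lit 0x28c)))) (.node (.node (.leaf (nat_lit 0x8064)) (.leaf (nat_lit 0x100b112))) (.node (.leaf (nat_lit 0x80fa)) (.leaf (nat_lit 0x0))))) (.node (.node (.node (.leaf (nat_lit 0x90d1)) (.leaf (nat_lit 0x70b4))) (.node (.leaf (nat_lit 0x2212)) (.leaf (nat_lit 0x0)))) (.node (.node (.leaf (nat_lit 0x213)) (.leaf (nat_lit 0x92ac))) (.node (.leaf (nat_lit 0x106b)) (.leaf (nat_lit 0x0)))))))) (.node (.node (.node (.node (.node (.node (.leaf (nat_lit 0x6013)) (.leaf (nat_lit 0x1004298))) (.node (.leaf (nat_lit 0x704a)) (.leaf (nat_lit 0x100a043)))) (.node (.node (.leaf (nat_lit 0x30fa)) (.leaf (nat_lit 0xa211))) (.node (.leaf (nat_lit 0x100307d)) (.leaf (nat_lit 0x0))))) (.node (.node (.node (.leaf (nat_lit 0x71c8)) (.leaf (nat_lit 0x31f2))) (.node (.leaf (nat_lit 0x820d)) (.leaf (nat_lit 0x23337)))) (.node (.node (.leaf (nat_lit 0xc0ee)) (.leaf (nat_lit 0x726f))) (.node (.leaf (nat_lit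 0x8180)) (.leaf (nat_lit 0x0)))))) (.node (.node (.node (.node (.leaf (nat_lit 0x5081)) (.leaf (nat_lit 0x3086))) (.node (.leaf (nat_lit 0x1000195)) (.leaf (nat_lit 0x70f5)))) (.node (.node (.leaf (nat_lit 0x5f)) (.leaf (nat_lit 0x6153))) (.node (.leaf (nat_lit 0x8050)) (.leaf (nat_lit 0x0))))) (.node (.node (.node (.leaf (nat_lit 0x1285)) (.leaf (nat_lit 0x1000220))) (.node (.leaf (nat_lit 0x207d)) (.leaf (nat_lit 0x0)))) (.node (.node (.leaf (nat_lit 0x9046)) (.leaf (nat_lit 0x608f))) (.node (.leaf (nat_lit 0x100802f)) (.leaf (nat_lit 0x0))))))) (.node (.node (.node (.node (.node (.leaf (nat_lit 0x105c)) (.leaf (nat_lit 0x1000007))) (.node (.leaf (nat_lit 0x4078)) (.leaf (nat_lit 0xa089)))) (.node (.node (.leaf (nat_lit 0x20db)) (.leaf (nat_lit 0x10072eb))) (.node (.leaf (nat_lit 0x51b1)) (.leaf (nat_lit 0x0))))) (.node (.node (.node (.leaf (nat_lit 0x100019d)) (.leaf (nat_lit 0x10052a1))) (.node (.leaf (nat_lit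 0x10f3)) (.leaf (nat_lit 0x0)))) (.node (.node (.leaf (nat_lit 0x100b0df)) (.leaf (nat_lit 0x1004247))) (.node (.leaf (nat_lit 0xc2aa)) (.leaf (nat_lit 0x0)))))) (.node (.node (.node (.node (.leaf (nat_lit 0x10040ee)) (.leaf (nat_lit 0x138))) (.node (.leaf (nat_lit 0x1004028)) (.leaf (nat_lit 0x1004259)))) (.node (.node (.leaf (nat_lit 0x90f0)) (.leaf (nat_lit 0x1006020))) (.node (.leaf (nat_lit 0x1294)) (.leaf (nat_lit 0x0))))) (.node (.node (.node (.leaf (nat_lit 0x1005011)) (.leaf (nat_lit 0x100d0f1))) (.node (.leaf (nat_lit 0x9044)) (.leaf (nat_lit 0x0)))) (.node (.node (.leaf (nat_lit 0x100410f)) (.leaf (nat_lit 0x7220))) (.node (.leaf (nat_lit 0x1004102)) (.leaf (nat_lit 0x0)))))))))))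

end Cfsg.Agent.TcData.HN.I1539000
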