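import Cfsg.Agent.Lib.TcFacts

set_option autoImplicit false
set_option Elab.async false
set_option maxRecDepth 100000
set_option linter.all false

namespace Cfsg.Agent.TcData.HN.I1539000

open Cfsg.Agent.Lib.TcFacts

/-- A part of a table. -/
noncomputable def PH7 : Tr := (.node (.node (.node (.node (.node (.node (.node (.node (.node (.leaf (nat_lit 0x119c)) (.leaf (nat_lit 0x10062b2))) (.node (.leaf (nat_lit 0x10072b2)) (.leaf (nat_lit 0x2049)))) (.node (.node (.leaf (nat_lit 0xb200)) (.leaf (nat_lit 0x100d0d3))) (.node (.leaf (nat_lit 0x11)) (.leaf (nat_lit 0x0))))) (.node (.node (.node (.leaf (nat_lit 0x1003026)) (.leaf (nat_lit 0x31aa))) (.node (.leaf (nat_lit 0xc277)) (.leaf (nat_lit 0x2ef)))) (.node (.node (.leaf (nat_lit 0x526b)) (.leaf (nat_lit 0x10082fe))) (.node (.leaf (nat_lit 0x10021e3)) (.leaf (nat_lit 0x0)))))) (.node (.node (.node (.node (.leaf (nat_lit 0x4052)) (.leaf (nat_lit 0x100b1fc))) (.node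 (.leaf (nat_lit 0x1008294)) (.leaf (nat_lit 0x1003069)))) (.node (.node (.leaf (nat_lit 0x7092)) (.leaf (nat_lit 0x906e))) (.node (.leaf (nat_lit 0x1003104)) (.leaf (nat_lit 0x0))))) (.node (.node (.node (.leaf (nat_lit 0xb30e)) (.leaf (nat_lit 0x4206))) (.node (.leaf (nat_lit 0x9093)) (.leaf (nat_lit 0x0)))) (.node (.node (.leaf (nat_lit 0x1004046)) (.leaf (nat_lit 0x32b0))) (.node (.leaf (nat_lit 0x100920f)) (.leaf (nat_lit 0x0))))))) (.node (.node (.node (.node (.node (.leaf (nat_lit 0x600d)) (.leaf (nat_lit 0x3103))) (.node (.leaf (nat_lit 0xe9)) (.leaf (nat_lit 0x9060)))) (.node (.node (.leaf (nat_lit 0x45)) (.leaf (nat_lit 0x632c))) (.node (.leaf (nat_lit 0x8053)) (.leaf (nat_lit 0x0))))) (.node (.node (.node (.leaf (nat_lit 0x5253)) (.leaf (nat_lit 0x403e))) (.node (.leaf (nat_lit 0x42d6)) (.leaf (nat_lit 0x6208)))) (.node (.node (.leaf (nat_lit 0x5278)) (.leaf (nat_lit 0x1000221))) (.node (.leaf (nat_lit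 0x10061fc)) (.leaf (nat_lit 0x0)))))) (.node (.node (.node (.node (.leaf (nat_lit 0xc30e)) (.leaf (nat_lit 0x10041ab))) (.node (.leaf (nat_lit 0x8168)) (.leaf (nat_lit 0x87)))) (.node (.node (.leaf (nat_lit 0x100029b)) (.leaf (nat_lit 0x100b189))) (.node (.leaf (nat_lit 0x72b2)) (.leaf (nat_lit 0x0))))) (.node (.node (.node (.leaf (nat_lit 0x500d)) (.leaf (nat_lit 0xd27e))) (.node (.leaf (nat_lit 0x19199)) (.leaf (nat_lit 0x0)))) (.node (.node (.leaf (nat_lit 0x100c10c)) (.leaf (nat_lit 0xb1e7))) (.node (.leaf (nat_lit 0x100c2b0)) (.leaf (nat_lit 0x0)))))))) (.node (.node (.node (.node (.node (.node (.leaf (nat_lit 0x31e2)) (.leaf (nat_lit 0x1005064))) (.node (.leaf (nat_lit 0x1000067)) (.leaf (nat_lit 0x44)))) (.node (.node (.leaf (nat_lit 0xa2aa)) (.leaf (nat_lit 0x527e))) (.node (.leaf (nat_lit 0x100d0de)) (.leaf (nat_lit 0x0))))) (.node (.node (.node (.leaf (nat_lit 0xb0fd)) (.leaf (nat_lit 0x1007296))) (.node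 (.leaf (nat_lit 0x41e0)) (.leaf (nat_lit 0x10d3)))) (.node (.node (.leaf (nat_lit 0x50fe)) (.leaf (nat_lit 0xa1ec))) (.node (.leaf (nat_lit 0x80d1)) (.leaf (nat_lit 0x0)))))) (.node (.node (.node (.node (.leaf (nat_lit 0x630e)) (.leaf (nat_lit 0x1002113))) (.node (.leaf (nat_lit 0x100b141)) (.leaf (nat_lit 0x20de)))) (.node (.node (.leaf (nat_lit 0x1000198)) (.leaf (nat_lit 0x409b))) (.node (.leaf (nat_lit 0x10020dd)) (.leaf (nat_lit 0x0))))) (.node (.node (.node (.leaf (nat_lit 0x2336)) (.leaf (nat_lit 0x90a3))) (.node (.leaf (nat_lit 0x704c)) (.leaf (nat_lit 0x0)))) (.node (.node (.leaf (nat_lit 0x10011a2)) (.leaf (nat_lit 0x308f))) (.node (.leaf (nat_lit 0x100510d)) (.leaf (nat_lit 0x0))))))) (.node (.node (.node (.node (.node (.leaf (nat_lit 0x316d)) (.leaf (nat_lit 0x7112))) (.node (.leaf (nat_lit 0x1006107)) (.leaf (nat_lit 0xd116)))) (.node (.node (.leaf (nat_lit 0x1005006)) (.leaf (nat_lit 0x40ec))) (.node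 (.leaf (nat_lit 0x1131)) (.leaf (nat_lit 0x0))))) (.node (.node (.node (.leaf (nat_lit 0x305f)) (.leaf (nat_lit 0xa248))) (.node (.leaf (nat_lit 0x10041a1)) (.leaf (nat_lit 0x0)))) (.node (.node (.leaf (nat_lit 0x9111)) (.leaf (nat_lit 0x100e137))) (.node (.leaf (nat_lit 0x2211)) (.leaf (nat_lit 0x0)))))) (.node (.node (.node (.node (.leaf (nat_lit 0x5117)) (.leaf (nat_lit 0x100020b))) (.node (.leaf (nat_lit 0x14)) (.leaf (nat_lit 0x62ee)))) (.node (.node (.leaf (nat_lit 0x2002)) (.leaf (nat_lit 0x41da))) (.node (.leaf (nat_lit 0x41a9)) (.leaf (nat_lit 0x0))))) (.node (.node (.node (.leaf (nat_lit 0x10ee)) (.leaf (nat_lit 0x3015))) (.node (.leaf (nat_lit 0x10000ed)) (.leaf (nat_lit 0x0)))) (.node (.node (.leaf (nat_lit 0x100229e)) (.leaf (nat_lit 0x5133))) (.node (.leaf (nat_lit 0x1005069)) (.leaf (nat_lit 0x0))))))))) (.node (.node (.node (.node (.node (.node (.node (.leaf (nat_lit 0x4002)) (.leaf (nat_lit 0x5298)))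 (.node (.leaf (nat_lit 0x3211)) (.leaf (nat_lit 0x1000023)))) (.node (.node (.leaf (nat_lit 0x6054)) (.leaf (nat_lit 0x5271))) (.node (.leaf (nat_lit 0x1007031)) (.leaf (nat_lit 0x0))))) (.node (.node (.node (.leaf (nat_lit 0x70c8)) (.leaf (nat_lit 0x100b204))) (.node (.leaf (nat_lit 0x100221b)) (.leaf (nat_lit 0x3207)))) (.node (.node (.leaf (nat_lit 0x31ce)) (.leaf (nat_lit 0x100126f))) (.node (.leaf (nat_lit 0x1002102)) (.leaf (nat_lit 0x0)))))) (.node (.node (.node (.node (.leaf (nat_lit 0x100910e)) (.leaf (nat_lit 0x10040e9))) (.node (.leaf (nat_lit 0x1220)) (.leaf (nat_lit 0x100c113)))) (.node (.node (.leaf (nat_lit 0x1001220)) (.leaf (nat_lit 0x5139))) (.node (.leaf (nat_lit 0x6073)) (.leaf (nat_lit 0x0))))) (.node (.node (.node (.leaf (nat_lit 0x62d4)) (.leaf (nat_lit 0x11d9))) (.node (.leaf (nat_lit 0x328f)) (.leaf (nat_lit 0x0)))) (.node (.node (.leaf (nat_lit 0x61ae)) (.leaf (nat_lit 0x70c5))) (.node (.leaf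 (nat_lit 0x1004039)) (.leaf (nat_lit 0x0))))))) (.node (.node (.node (.node (.node (.leaf (nat_lit 0x428b)) (.leaf (nat_lit 0x1008071))) (.node (.leaf (nat_lit 0x10021b8)) (.leaf (nat_lit 0x100201e)))) (.node (.node (.leaf (nat_lit 0x3114)) (.leaf (nat_lit 0x100a083))) (.node (.leaf (nat_lit 0x821f)) (.leaf (nat_lit 0x0))))) (.node (.node (.node (.leaf (nat_lit 0x10050e3)) (.leaf (nat_lit 0x1004100))) (.node (.leaf (nat_lit 0x6113)) (.leaf (nat_lit 0x6211)))) (.node (.node (.leaf (nat_lit 0x100629b)) (.leaf (nat_lit 0xa171))) (.node (.leaf (nat_lit 0x2117)) (.leaf (nat_lit 0x0)))))) (.node (.node (.node (.node (.leaf (nat_lit 0x1002291)) (.leaf (nat_lit 0x10032d6))) (.node (.leaf (nat_lit 0xb290)) (.leaf (nat_lit 0xa165)))) (.node (.node (.leaf (nat_lit 0x1001062)) (.leaf (nat_lit 0x70fa))) (.node (.leaf (nat_lit 0x71aa)) (.leaf (nat_lit 0x0))))) (.node (.node (.node (.leaf (nat_lit 0x5012)) (.leaf (nat_lit 0x302b)))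 (.node (.leaf (nat_lit 0xf121)) (.leaf (nat_lit 0x0)))) (.node (.node (.leaf (nat_lit 0x100529b)) (.leaf (nat_lit 0x329))) (.node (.leaf (nat_lit 0x10092af)) (.leaf (nat_lit 0x0)))))))) (.node (.node (.node (.node (.node (.node (.leaf (nat_lit 0xe198)) (.leaf (nat_lit 0x10090ea))) (.node (.leaf (nat_lit 0x10012ad)) (.leaf (nat_lit 0x3109)))) (.node (.node (.leaf (nat_lit 0x100400a)) (.leaf (nat_lit 0x10081e1))) (.node (.leaf (nat_lit 0x90f7)) (.leaf (nat_lit 0x0))))) (.node (.node (.node (.leaf (nat_lit 0x10001bf)) (.leaf (nat_lit 0x2022))) (.node (.leaf (nat_lit 0xd104)) (.leaf (nat_lit 0xb15b)))) (.node (.node (.leaf (nat_lit 0x1004195)) (.leaf (nat_lit 0xb178))) (.node (.leaf (nat_lit 0x10011df)) (.leaf (nat_lit 0x0)))))) (.node (.node (.node (.node (.leaf (nat_lit 0x1004198)) (.leaf (nat_lit 0x100a0e2))) (.node (.leaf (nat_lit 0x100d336)) (.leaf (nat_lit 0x12f5)))) (.node (.node (.leaf (nat_lit 0x100806c)) (.leaf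 (nat_lit 0x71bb))) (.node (.leaf (nat_lit 0x60af)) (.leaf (nat_lit 0x0))))) (.node (.node (.node (.leaf (nat_lit 0x428d)) (.leaf (nat_lit 0x1004078))) (.node (.leaf (nat_lit 0x5211)) (.leaf (nat_lit 0x0)))) (.node (.node (.leaf (nat_lit 0x1003214)) (.leaf (nat_lit 0x50a5))) (.node (.leaf (nat_lit 0x728e)) (.leaf (nat_lit 0x0))))))) (.node (.node (.node (.node (.node (.leaf (nat_lit 0x329e)) (.leaf (nat_lit 0xa06f))) (.node (.leaf (nat_lit 0x1040)) (.leaf (nat_lit 0x51b9)))) (.node (.node (.leaf (nat_lit 0x80ac)) (.leaf (nat_lit 0x1009217))) (.node (.leaf (nat_lit 0x1000068)) (.leaf (nat_lit 0x0))))) (.node (.node (.node (.leaf (nat_lit 0x100019a)) (.leaf (nat_lit 0x20df))) (.node (.leaf (nat_lit 0x5014)) (.leaf (nat_lit 0x0)))) (.node (.node (.leaf (nat_lit 0x5292)) (.leaf (nat_lit 0x10071d2))) (.node (.leaf (nat_lit 0x1006199)) (.leaf (nat_lit 0x0)))))) (.node (.node (.node (.node (.leaf (nat_lit 0x100107e)) (.leaf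 (nat_lit 0x7030))) (.node (.leaf (nat_lit 0x100821a)) (.leaf (nat_lit 0x101b337)))) (.node (.node (.leaf (nat_lit 0x332)) (.leaf (nat_lit 0xa210))) (.node (.leaf (nat_lit 0xc2a4)) (.leaf (nat_lit 0x0))))) (.node (.node (.node (.leaf (nat_lit 0x100821f)) (.leaf (nat_lit 0x1004271))) (.node (.leaf (nat_lit 0x1008299)) (.leaf (nat_lit 0x0)))) (.node (.node (.leaf (nat_lit 0x100a273)) (.leaf (nat_lit 0x1295))) (.node (.leaf (nat_lit 0x10070cf)) (.leaf (nat_lit 0x0)))))))))) (.node (.node (.node (.node (.node (.node (.node (.node (.leaf (nat_lit 0x419b)) (.leaf (nat_lit 0x60e5))) (.node (.leaf (nat_lit 0x606b)) (.leaf (nat_lit 0x9118)))) (.node (.node (.leaf (nat_lit 0x1003292)) (.leaf (nat_lit 0x121a))) (.node (.leaf (nat_lit 0x1008104)) (.leaf (nat_lit 0x0))))) (.node (.node (.node (.leaf (nat_lit 0xb05e)) (.leaf (nat_lit 0xb151))) (.node (.leaf (nat_lit 0x4021)) (.leaf (nat_lit 0x81d9)))) (.node (.node (.leaf (nat_lit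 0xa079)) (.leaf (nat_lit 0x4185))) (.node (.leaf (nat_lit 0x4083)) (.leaf (nat_lit 0x0)))))) (.node (.node (.node (.node (.leaf (nat_lit 0x1002331)) (.leaf (nat_lit 0x1005217))) (.node (.leaf (nat_lit 0x602c)) (.leaf (nat_lit 0x100b243)))) (.node (.node (.leaf (nat_lit 0x100820a)) (.leaf (nat_lit 0x2050))) (.node (.leaf (nat_lit 0x1005201)) (.leaf (nat_lit 0x0))))) (.node (.node (.node (.leaf (nat_lit 0xa032)) (.leaf (nat_lit 0xd337))) (.node (.leaf (nat_lit 0x91eb)) (.leaf (nat_lit 0x0)))) (.node (.node (.leaf (nat_lit 0x31c4)) (.leaf (nat_lit 0xa093))) (.node (.leaf (nat_lit 0x3102)) (.leaf (nat_lit 0x0))))))) (.node (.node (.node (.node (.node (.leaf (nat_lit 0x529a)) (.leaf (nat_lit 0x100c170))) (.node (.leaf (nat_lit 0x100b28e)) (.leaf (nat_lit 0x100b075)))) (.node (.node (.leaf (nat_lit 0xff)) (.leaf (nat_lit 0x22b6))) (.node (.leaf (nat_lit 0x2009)) (.leaf (nat_lit 0x0))))) (.node (.node (.node (.leaf (nat_lit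 0x100419b)) (.leaf (nat_lit 0x10021a6))) (.node (.leaf (nat_lit 0x3291)) (.leaf (nat_lit 0x1093)))) (.node (.node (.leaf (nat_lit 0x100930c)) (.leaf (nat_lit 0x1001204))) (.node (.leaf (nat_lit 0x100907b)) (.leaf (nat_lit 0x0)))))) (.node (.node (.node (.node (.leaf (nat_lit 0x10092b0)) (.leaf (nat_lit 0x10051fe))) (.node (.leaf (nat_lit 0x31b4)) (.leaf (nat_lit 0x100f170)))) (.node (.node (.leaf (nat_lit 0x102)) (.leaf (nat_lit 0x71b5))) (.node (.leaf (nat_lit 0x61ac)) (.leaf (nat_lit 0x0))))) (.node (.node (.node (.leaf (nat_lit 0x10030f4)) (.leaf (nat_lit 0x10071fd))) (.node (.leaf (nat_lit 0x1d9)) (.leaf (nat_lit 0x0)))) (.node (.node (.leaf (nat_lit 0x100606b)) (.leaf (nat_lit 0xa1e9))) (.node (.leaf (nat_lit 0x100326d)) (.leaf (nat_lit 0x0)))))))) (.node (.node (.node (.node (.node (.node (.leaf (nat_lit 0x29a)) (.leaf (nat_lit 0x1005206))) (.node (.leaf (nat_lit 0x41f1)) (.leaf (nat_lit 0x1003007)))) (.node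 (.node (.leaf (nat_lit 0x6065)) (.leaf (nat_lit 0x10051cf))) (.node (.leaf (nat_lit 0x1009203)) (.leaf (nat_lit 0x0))))) (.node (.node (.node (.leaf (nat_lit 0x100010c)) (.leaf (nat_lit 0x10090d3))) (.node (.leaf (nat_lit 0x902a)) (.leaf (nat_lit 0x1001291)))) (.node (.node (.leaf (nat_lit 0x1011336)) (.leaf (nat_lit 0x31e8))) (.node (.leaf (nat_lit 0x100027a)) (.leaf (nat_lit 0x0)))))) (.node (.node (.node (.node (.leaf (nat_lit 0x329a)) (.leaf (nat_lit 0x6217))) (.node (.leaf (nat_lit 0x10041cd)) (.leaf (nat_lit 0x9134)))) (.node (.node (.leaf (nat_lit 0x1001080)) (.leaf (nat_lit 0x10061b1))) (.node (.leaf (nat_lit 0x100304a)) (.leaf (nat_lit 0x0))))) (.node (.node (.node (.leaf (nat_lit 0x7023)) (.leaf (nat_lit 0x3127))) (.node (.leaf (nat_lit 0x100b04a)) (.leaf (nat_lit 0x0)))) (.node (.node (.leaf (nat_lit 0x60f6)) (.leaf (nat_lit 0x1000018))) (.node (.leaf (nat_lit 0xde)) (.leaf (nat_lit 0x0))))))) (.node (.node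 (.node (.node (.node (.leaf (nat_lit 0x194)) (.leaf (nat_lit 0x1001217))) (.node (.leaf (nat_lit 0x402d)) (.leaf (nat_lit 0x1005047)))) (.node (.node (.leaf (nat_lit 0x100804e)) (.leaf (nat_lit 0x1006112))) (.node (.leaf (nat_lit 0xd0f2)) (.leaf (nat_lit 0x0))))) (.node (.node (.node (.leaf (nat_lit 0x100d281)) (.leaf (nat_lit 0x100110f))) (.node (.leaf (nat_lit 0x505e)) (.leaf (nat_lit 0x0)))) (.node (.node (.leaf (nat_lit 0x100e336)) (.leaf (nat_lit 0xb052))) (.node (.leaf (nat_lit 0x40f8)) (.leaf (nat_lit 0x0)))))) (.node (.node (.node (.node (.leaf (nat_lit 0x100006b)) (.leaf (nat_lit 0x7115))) (.node (.leaf (nat_lit 0x100c0db)) (.leaf (nat_lit 0x70e4)))) (.node (.node (.leaf (nat_lit 0xe15f)) (.leaf (nat_lit 0x1007068))) (.node (.leaf (nat_lit 0x91bb)) (.leaf (nat_lit 0x0))))) (.node (.node (.node (.leaf (nat_lit 0x910c)) (.leaf (nat_lit 0x901b))) (.node (.leaf (nat_lit 0x1005022)) (.leaf (nat_lit 0x0)))) (.node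 (.node (.leaf (nat_lit 0x10061af)) (.leaf (nat_lit 0xd0f0))) (.node (.leaf (nat_lit 0x100002e)) (.leaf (nat_lit 0x0))))))))) (.node (.node (.node (.node (.node (.node (.node (.leaf (nat_lit 0xb21f)) (.leaf (nat_lit 0x100001f))) (.node (.leaf (nat_lit 0x220c)) (.leaf (nat_lit 0x10041d8)))) (.node (.node (.leaf (nat_lit 0x72b4)) (.leaf (nat_lit 0x8088))) (.node (.leaf (nat_lit 0x31d5)) (.leaf (nat_lit 0x0))))) (.node (.node (.node (.leaf (nat_lit 0x5082)) (.leaf (nat_lit 0x100a0f1))) (.node (.leaf (nat_lit 0x70e7)) (.leaf (nat_lit 0x1036)))) (.node (.node (.leaf (nat_lit 0x100721d)) (.leaf (nat_lit 0xb296))) (.node (.leaf (nat_lit 0x100b271)) (.leaf (nat_lit 0x0)))))) (.node (.node (.node (.node (.leaf (nat_lit 0x100310e)) (.leaf (nat_lit 0x10092ad))) (.node (.leaf (nat_lit 0x2a9)) (.leaf (nat_lit 0x1008296)))) (.node (.node (.leaf (nat_lit 0x10012a0)) (.leaf (nat_lit 0x1000048))) (.node (.leaf (nat_lit 0xc6)) (.leaf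 (nat_lit 0x0))))) (.node (.node (.node (.leaf (nat_lit 0x100121f)) (.leaf (nat_lit 0xfb))) (.node (.leaf (nat_lit 0x10011c8)) (.leaf (nat_lit 0x0)))) (.node (.node (.leaf (nat_lit 0x77)) (.leaf (nat_lit 0xd0a1))) (.node (.leaf (nat_lit 0x1001104)) (.leaf (nat_lit 0x0))))))) (.node (.node (.node (.node (.node (.leaf (nat_lit 0x11198)) (.leaf (nat_lit 0x40a5))) (.node (.leaf (nat_lit 0x1009081)) (.leaf (nat_lit 0x100007f)))) (.node (.node (.leaf (nat_lit 0x604c)) (.leaf (nat_lit 0x1008170))) (.node (.leaf (nat_lit 0x100701b)) (.leaf (nat_lit 0x0))))) (.node (.node (.node (.leaf (nat_lit 0x10001fd)) (.leaf (nat_lit 0x10022a2))) (.node (.leaf (nat_lit 0xa17f)) (.leaf (nat_lit 0x91b3)))) (.node (.node (.leaf (nat_lit 0x927c)) (.leaf (nat_lit 0x1004007))) (.node (.leaf (nat_lit 0x100a0a9)) (.leaf (nat_lit 0x0)))))) (.node (.node (.node (.node (.leaf (nat_lit 0x10012fe)) (.leaf (nat_lit 0x100514d))) (.node (.leaf (nat_lit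 0x1003063)) (.leaf (nat_lit 0x10032ab)))) (.node (.node (.leaf (nat_lit 0x100b0fd)) (.leaf (nat_lit 0x5266))) (.node (.leaf (nat_lit 0x1000204)) (.leaf (nat_lit 0x0))))) (.node (.node (.node (.leaf (nat_lit 0x100007d)) (.leaf (nat_lit 0x1007077))) (.node (.leaf (nat_lit 0x10031ec)) (.leaf (nat_lit 0x0)))) (.node (.node (.leaf (nat_lit 0x521b)) (.leaf (nat_lit 0x806f))) (.node (.leaf (nat_lit 0x1000203)) (.leaf (nat_lit 0x0)))))))) (.node (.node (.node (.node (.node (.node (.leaf (nat_lit 0x70fd)) (.leaf (nat_lit 0x52ac))) (.node (.leaf (nat_lit 0xa067)) (.leaf (nat_lit 0x311b)))) (.node (.node (.leaf (nat_lit 0x100507e)) (.leaf (nat_lit 0x6264))) (.node (.leaf (nat_lit 0x100606d)) (.leaf (nat_lit 0x0))))) (.node (.node (.node (.leaf (nat_lit 0x7199)) (.leaf (nat_lit 0x60e2))) (.node (.leaf (nat_lit 0xb185)) (.leaf (nat_lit 0xb0ac)))) (.node (.node (.leaf (nat_lit 0xa10e)) (.leaf (nat_lit 0x6051))) (.node (.leaf (nat_lit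 0xa1fa)) (.leaf (nat_lit 0x0)))))) (.node (.node (.node (.node (.leaf (nat_lit 0x1006114)) (.leaf (nat_lit 0x102a337))) (.node (.leaf (nat_lit 0x1009286)) (.leaf (nat_lit 0x2222)))) (.node (.node (.leaf (nat_lit 0x410c)) (.leaf (nat_lit 0x1007337))) (.node (.leaf (nat_lit 0x100a2a2)) (.leaf (nat_lit 0x0))))) (.node (.node (.node (.leaf (nat_lit 0x3214)) (.leaf (nat_lit 0x100c290))) (.node (.leaf (nat_lit 0x100806d)) (.leaf (nat_lit 0x0)))) (.node (.node (.leaf (nat_lit 0x309f)) (.leaf (nat_lit 0x1007079))) (.node (.leaf (nat_lit 0x1003283)) (.leaf (nat_lit 0x0))))))) (.node (.node (.node (.node (.node (.leaf (nat_lit 0x2331)) (.leaf (nat_lit 0x3028))) (.node (.leaf (nat_lit 0x72d6)) (.leaf (nat_lit 0x90a6)))) (.node (.node (.leaf (nat_lit 0x210d)) (.leaf (nat_lit 0x10060dc))) (.node (.leaf (nat_lit 0xb2af)) (.leaf (nat_lit 0x0))))) (.node (.node (.node (.leaf (nat_lit 0xc28f)) (.leaf (nat_lit 0x100906a))) (.node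 (.leaf (nat_lit 0xa116)) (.leaf (nat_lit 0x0)))) (.node (.node (.leaf (nat_lit 0x51fa)) (.leaf (nat_lit 0x1003016))) (.node (.leaf (nat_lit 0x10041fc)) (.leaf (nat_lit 0x0)))))) (.node (.node (.node (.node (.leaf (nat_lit 0x1030199)) (.leaf (nat_lit 0x1002333))) (.node (.leaf (nat_lit 0xc100)) (.leaf (nat_lit 0x83)))) (.node (.node (.leaf (nat_lit 0x70f6)) (.leaf (nat_lit 0x5039))) (.node (.leaf (nat_lit 0x100505f)) (.leaf (nat_lit 0x0))))) (.node (.node (.node (.leaf (nat_lit 0x100d10c)) (.leaf (nat_lit 0xa0ab))) (.node (.leaf (nat_lit 0x10080f3)) (.leaf (nat_lit 0x0)))) (.node (.node (.leaf (nat_lit 0x100c081)) (.leaf (nat_lit 0x1002157))) (.node (.leaf (nat_lit 0x9075)) (.leaf (nat_lit 0x0)))))))))))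

end Cfsg.Agent.TcData.HN.I1539000
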