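import Cfsg.Agent.Lib.TcFacts

set_option autoImplicit false
set_option Elab.async false
set_option maxRecDepth 100000
set_option linter.all false

namespace Cfsg.Agent.TcData.HN.I1539000

open Cfsg.Agent.Lib.TcFacts

/-- A part of a table. -/
noncomputable def PH8 : Tr := (.node (.node (.node (.node (.node (.node (.node (.node (.node (.leaf (nat_lit 0x33e)) (.leaf (nat_lit 0x100a2ad))) (.node (.leaf (nat_lit 0x100b295)) (.leaf (nat_lit 0x137)))) (.node (.node (.leaf (nat_lit 0x9087)) (.leaf (nat_lit 0x100028e))) (.node (.leaf (nat_lit 0x10042b1)) (.leaf (nat_lit 0x0))))) (.node (.node (.node (.leaf (nat_lit 0x2b199)) (.leaf (nat_lit 0xd105))) (.node (.leaf (nat_lit 0x91ba)) (.leaf (nat_lit 0x82c6)))) (.node (.node (.leaf (nat_lit 0x526c)) (.leaf (nat_lit 0x10012d5))) (.node (.leaf (nat_lit 0x11a4)) (.leaf (nat_lit 0x0)))))) (.node (.node (.node (.node (.leaf (nat_lit 0x100019c)) (.leaf (nat_lit 0x100600e))) (.node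 (.leaf (nat_lit 0x100207e)) (.leaf (nat_lit 0x10011ba)))) (.node (.node (.leaf (nat_lit 0x10022b5)) (.leaf (nat_lit 0xa1fe))) (.node (.leaf (nat_lit 0x100221c)) (.leaf (nat_lit 0x0))))) (.node (.node (.node (.leaf (nat_lit 0x21e7)) (.leaf (nat_lit 0x4204))) (.node (.leaf (nat_lit 0xc0dc)) (.leaf (nat_lit 0x0)))) (.node (.node (.leaf (nat_lit 0x100b0e3)) (.leaf (nat_lit 0x10062a2))) (.node (.leaf (nat_lit 0x1000219)) (.leaf (nat_lit 0x0))))))) (.node (.node (.node (.node (.node (.leaf (nat_lit 0xd081)) (.leaf (nat_lit 0x10070e3))) (.node (.leaf (nat_lit 0xd2a6)) (.leaf (nat_lit 0x1f337)))) (.node (.node (.leaf (nat_lit 0x1065)) (.leaf (nat_lit 0x1000217))) (.node (.leaf (nat_lit 0x827e)) (.leaf (nat_lit 0x0))))) (.node (.node (.node (.leaf (nat_lit 0x100328f)) (.leaf (nat_lit 0x1000160))) (.node (.leaf (nat_lit 0x7298)) (.leaf (nat_lit 0x9019)))) (.node (.node (.leaf (nat_lit 0x41af)) (.leaf (nat_lit 0x40af)))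 (.node (.leaf (nat_lit 0x10061ff)) (.leaf (nat_lit 0x0)))))) (.node (.node (.node (.node (.leaf (nat_lit 0x11c2)) (.leaf (nat_lit 0x928d))) (.node (.leaf (nat_lit 0x6308)) (.leaf (nat_lit 0xc22a)))) (.node (.node (.leaf (nat_lit 0x100b100)) (.leaf (nat_lit 0x30ab))) (.node (.leaf (nat_lit 0x81eb)) (.leaf (nat_lit 0x0))))) (.node (.node (.node (.leaf (nat_lit 0x3012)) (.leaf (nat_lit 0xdb))) (.node (.leaf (nat_lit 0x1005214)) (.leaf (nat_lit 0x0)))) (.node (.node (.leaf (nat_lit 0x100a281)) (.leaf (nat_lit 0x32f5))) (.node (.leaf (nat_lit 0x1000292)) (.leaf (nat_lit 0x0)))))))) (.node (.node (.node (.node (.node (.node (.leaf (nat_lit 0x10d1)) (.leaf (nat_lit 0x100b27b))) (.node (.leaf (nat_lit 0x1005114)) (.leaf (nat_lit 0xa1e0)))) (.node (.node (.leaf (nat_lit 0x40ee)) (.leaf (nat_lit 0xa0e1))) (.node (.leaf (nat_lit 0x1005018)) (.leaf (nat_lit 0x0))))) (.node (.node (.node (.leaf (nat_lit 0xb0ff)) (.leaf (nat_lit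 0xc138))) (.node (.leaf (nat_lit 0x100005e)) (.leaf (nat_lit 0xd273)))) (.node (.node (.leaf (nat_lit 0xd10d)) (.leaf (nat_lit 0x42f6))) (.node (.leaf (nat_lit 0x80d2)) (.leaf (nat_lit 0x0)))))) (.node (.node (.node (.node (.leaf (nat_lit 0x1000003)) (.leaf (nat_lit 0x10042d6))) (.node (.leaf (nat_lit 0x12fe)) (.leaf (nat_lit 0x100427b)))) (.node (.node (.leaf (nat_lit 0x100a082)) (.leaf (nat_lit 0x100a217))) (.node (.leaf (nat_lit 0x100220e)) (.leaf (nat_lit 0x0))))) (.node (.node (.node (.leaf (nat_lit 0x8082)) (.leaf (nat_lit 0x1006242))) (.node (.leaf (nat_lit 0x1005110)) (.leaf (nat_lit 0x0)))) (.node (.node (.leaf (nat_lit 0x1005333)) (.leaf (nat_lit 0x100125d))) (.node (.leaf (nat_lit 0x1003014)) (.leaf (nat_lit 0x0))))))) (.node (.node (.node (.node (.node (.leaf (nat_lit 0x1004)) (.leaf (nat_lit 0x3077))) (.node (.leaf (nat_lit 0x10022a0)) (.leaf (nat_lit 0x90c6)))) (.node (.node (.leaf (nat_lit 0x1005007))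 (.leaf (nat_lit 0x9265))) (.node (.leaf (nat_lit 0x9117)) (.leaf (nat_lit 0x0))))) (.node (.node (.node (.leaf (nat_lit 0x61ff)) (.leaf (nat_lit 0x100b21f))) (.node (.leaf (nat_lit 0x7046)) (.leaf (nat_lit 0x0)))) (.node (.node (.leaf (nat_lit 0x207e)) (.leaf (nat_lit 0x100904c))) (.node (.leaf (nat_lit 0x1008177)) (.leaf (nat_lit 0x0)))))) (.node (.node (.node (.node (.leaf (nat_lit 0x5118)) (.leaf (nat_lit 0x80f4))) (.node (.leaf (nat_lit 0x81b7)) (.leaf (nat_lit 0x62f0)))) (.node (.node (.leaf (nat_lit 0x1e9)) (.leaf (nat_lit 0xcb))) (.node (.leaf (nat_lit 0x9101)) (.leaf (nat_lit 0x0))))) (.node (.node (.node (.leaf (nat_lit 0x9)) (.leaf (nat_lit 0x100621a))) (.node (.leaf (nat_lit 0xd10f)) (.leaf (nat_lit 0x0)))) (.node (.node (.leaf (nat_lit 0x1001195)) (.leaf (nat_lit 0x100a160))) (.node (.leaf (nat_lit 0x100506f)) (.leaf (nat_lit 0x0))))))))) (.node (.node (.node (.node (.node (.node (.node (.leaf (nat_lit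 0x3003)) (.leaf (nat_lit 0x297))) (.node (.leaf (nat_lit 0x10042d8)) (.leaf (nat_lit 0x31c8)))) (.node (.node (.leaf (nat_lit 0x2121)) (.leaf (nat_lit 0x7))) (.node (.leaf (nat_lit 0xc0fa)) (.leaf (nat_lit 0x0))))) (.node (.node (.node (.leaf (nat_lit 0xb06b)) (.leaf (nat_lit 0x1005074))) (.node (.leaf (nat_lit 0x5290)) (.leaf (nat_lit 0x518f)))) (.node (.node (.leaf (nat_lit 0x1004203)) (.leaf (nat_lit 0x100516f))) (.node (.leaf (nat_lit 0xb165)) (.leaf (nat_lit 0x0)))))) (.node (.node (.node (.node (.leaf (nat_lit 0x10032af)) (.leaf (nat_lit 0x10040f7))) (.node (.leaf (nat_lit 0x8079)) (.leaf (nat_lit 0x1007211)))) (.node (.node (.leaf (nat_lit 0xa28f)) (.leaf (nat_lit 0x10041e6))) (.node (.leaf (nat_lit 0x17337)) (.leaf (nat_lit 0x0))))) (.node (.node (.node (.leaf (nat_lit 0x10050e6)) (.leaf (nat_lit 0x8052))) (.node (.leaf (nat_lit 0x2207)) (.leaf (nat_lit 0x0)))) (.node (.node (.leaf (nat_lit 0x16c)) (.leaf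 (nat_lit 0x5222))) (.node (.leaf (nat_lit 0x70ac)) (.leaf (nat_lit 0x0))))))) (.node (.node (.node (.node (.node (.leaf (nat_lit 0xc0e6)) (.leaf (nat_lit 0x69))) (.node (.leaf (nat_lit 0x1008290)) (.leaf (nat_lit 0xe309)))) (.node (.node (.leaf (nat_lit 0x1007271)) (.leaf (nat_lit 0x60a1))) (.node (.leaf (nat_lit 0x2037)) (.leaf (nat_lit 0x0))))) (.node (.node (.node (.leaf (nat_lit 0x30ee)) (.leaf (nat_lit 0x52af))) (.node (.leaf (nat_lit 0x28e)) (.leaf (nat_lit 0x529b)))) (.node (.node (.leaf (nat_lit 0x8121)) (.leaf (nat_lit 0x7173))) (.node (.leaf (nat_lit 0x80b5)) (.leaf (nat_lit 0x0)))))) (.node (.node (.node (.node (.leaf (nat_lit 0x1002283)) (.leaf (nat_lit 0x11ec))) (.node (.leaf (nat_lit 0xd3)) (.leaf (nat_lit 0x728c)))) (.node (.node (.leaf (nat_lit 0x4f)) (.leaf (nat_lit 0x100b2fd))) (.node (.leaf (nat_lit 0x830a)) (.leaf (nat_lit 0x0))))) (.node (.node (.node (.leaf (nat_lit 0x2026)) (.leaf (nat_lit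 0x1003089))) (.node (.leaf (nat_lit 0x2017)) (.leaf (nat_lit 0x0)))) (.node (.node (.leaf (nat_lit 0x10020fe)) (.leaf (nat_lit 0xa087))) (.node (.leaf (nat_lit 0x10000d5)) (.leaf (nat_lit 0x0)))))))) (.node (.node (.node (.node (.node (.node (.leaf (nat_lit 0x10fd)) (.leaf (nat_lit 0x1009211))) (.node (.leaf (nat_lit 0xc2a0)) (.leaf (nat_lit 0x2293)))) (.node (.node (.leaf (nat_lit 0x906d)) (.leaf (nat_lit 0x100c116))) (.node (.leaf (nat_lit 0x100406b)) (.leaf (nat_lit 0x0))))) (.node (.node (.node (.leaf (nat_lit 0x1008076)) (.leaf (nat_lit 0x1008068))) (.node (.leaf (nat_lit 0x6107)) (.leaf (nat_lit 0x218b)))) (.node (.node (.leaf (nat_lit 0xd0f8)) (.leaf (nat_lit 0x1005073))) (.node (.leaf (nat_lit 0x21e3)) (.leaf (nat_lit 0x0)))))) (.node (.node (.node (.node (.leaf (nat_lit 0x10050fd)) (.leaf (nat_lit 0x3093))) (.node (.leaf (nat_lit 0x100c114)) (.leaf (nat_lit 0x4213)))) (.node (.node (.leaf (nat_lit 0x5065))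 (.leaf (nat_lit 0x1005061))) (.node (.leaf (nat_lit 0xa16f)) (.leaf (nat_lit 0x0))))) (.node (.node (.node (.leaf (nat_lit 0xb032)) (.leaf (nat_lit 0x1008102))) (.node (.leaf (nat_lit 0xb207)) (.leaf (nat_lit 0x0)))) (.node (.node (.leaf (nat_lit 0x410e)) (.leaf (nat_lit 0x10012a1))) (.node (.leaf (nat_lit 0x80e2)) (.leaf (nat_lit 0x0))))))) (.node (.node (.node (.node (.node (.leaf (nat_lit 0x2063)) (.leaf (nat_lit 0x100828c))) (.node (.leaf (nat_lit 0x1002214)) (.leaf (nat_lit 0x6127)))) (.node (.node (.leaf (nat_lit 0xe157)) (.leaf (nat_lit 0x620c))) (.node (.leaf (nat_lit 0x1003331)) (.leaf (nat_lit 0x0))))) (.node (.node (.node (.leaf (nat_lit 0x100300a)) (.leaf (nat_lit 0x127e))) (.node (.leaf (nat_lit 0x5015)) (.leaf (nat_lit 0x0)))) (.node (.node (.leaf (nat_lit 0x28b)) (.leaf (nat_lit 0x100019e))) (.node (.leaf (nat_lit 0x8290)) (.leaf (nat_lit 0x0)))))) (.node (.node (.node (.node (.leaf (nat_lit 0x1000213))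 (.leaf (nat_lit 0x7031))) (.node (.leaf (nat_lit 0xd0fa)) (.leaf (nat_lit 0x101b199)))) (.node (.node (.leaf (nat_lit 0x529e)) (.leaf (nat_lit 0x9153))) (.node (.leaf (nat_lit 0x2297)) (.leaf (nat_lit 0x0))))) (.node (.node (.node (.leaf (nat_lit 0x1008217)) (.leaf (nat_lit 0xe337))) (.node (.leaf (nat_lit 0x50bf)) (.leaf (nat_lit 0x0)))) (.node (.node (.leaf (nat_lit 0x10030ee)) (.leaf (nat_lit 0x100a21a))) (.node (.leaf (nat_lit 0x100726e)) (.leaf (nat_lit 0x0)))))))))) (.node (.node (.node (.node (.node (.node (.node (.node (.leaf (nat_lit 0x133b)) (.leaf (nat_lit 0x1001214))) (.node (.leaf (nat_lit 0x806c)) (.leaf (nat_lit 0x90ce)))) (.node (.node (.leaf (nat_lit 0x20e1)) (.leaf (nat_lit 0x100200a))) (.node (.leaf (nat_lit 0x10011b4)) (.leaf (nat_lit 0x0))))) (.node (.node (.node (.leaf (nat_lit 0x1a1)) (.leaf (nat_lit 0x94))) (.node (.leaf (nat_lit 0x4022)) (.leaf (nat_lit 0x30ef)))) (.node (.node (.leaf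 (nat_lit 0x114)) (.leaf (nat_lit 0x1001211))) (.node (.leaf (nat_lit 0x100920c)) (.leaf (nat_lit 0x0)))))) (.node (.node (.node (.node (.leaf (nat_lit 0x3193)) (.leaf (nat_lit 0x210c))) (.node (.leaf (nat_lit 0x602d)) (.leaf (nat_lit 0x10001b8)))) (.node (.node (.leaf (nat_lit 0x42a2)) (.leaf (nat_lit 0x907f))) (.node (.leaf (nat_lit 0x40dd)) (.leaf (nat_lit 0x0))))) (.node (.node (.node (.leaf (nat_lit 0x8022)) (.leaf (nat_lit 0x8030))) (.node (.leaf (nat_lit 0x5079)) (.leaf (nat_lit 0x0)))) (.node (.node (.leaf (nat_lit 0x50e8)) (.leaf (nat_lit 0x9165))) (.node (.leaf (nat_lit 0x2a4)) (.leaf (nat_lit 0x0))))))) (.node (.node (.node (.node (.node (.leaf (nat_lit 0x7d)) (.leaf (nat_lit 0x100c16f))) (.node (.leaf (nat_lit 0x100c0e1)) (.leaf (nat_lit 0x1007066)))) (.node (.node (.leaf (nat_lit 0x4008)) (.leaf (nat_lit 0xd0d4))) (.node (.leaf (nat_lit 0x12198)) (.leaf (nat_lit 0x0))))) (.node (.node (.node (.leaf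 (nat_lit 0x1000338)) (.leaf (nat_lit 0x301d))) (.node (.leaf (nat_lit 0x904e)) (.leaf (nat_lit 0x21337)))) (.node (.node (.leaf (nat_lit 0x62b1)) (.leaf (nat_lit 0xec))) (.node (.leaf (nat_lit 0x1cd)) (.leaf (nat_lit 0x0)))))) (.node (.node (.node (.node (.leaf (nat_lit 0x7029)) (.leaf (nat_lit 0x10002ac))) (.node (.leaf (nat_lit 0x316f)) (.leaf (nat_lit 0xa0a1)))) (.node (.node (.leaf (nat_lit 0x100329e)) (.leaf (nat_lit 0x10030f5))) (.node (.leaf (nat_lit 0x100607e)) (.leaf (nat_lit 0x0))))) (.node (.node (.node (.leaf (nat_lit 0x610e)) (.leaf (nat_lit 0x1004060))) (.node (.leaf (nat_lit 0xd0fe)) (.leaf (nat_lit 0x0)))) (.node (.node (.leaf (nat_lit 0x100629a)) (.leaf (nat_lit 0x1000044))) (.node (.leaf (nat_lit 0x4018)) (.leaf (nat_lit 0x0)))))))) (.node (.node (.node (.node (.node (.node (.leaf (nat_lit 0x6292)) (.leaf (nat_lit 0x1005204))) (.node (.leaf (nat_lit 0x41f3)) (.leaf (nat_lit 0x92c0)))) (.node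 (.node (.leaf (nat_lit 0x6067)) (.leaf (nat_lit 0x10031c9))) (.node (.leaf (nat_lit 0x1003071)) (.leaf (nat_lit 0x0))))) (.node (.node (.node (.leaf (nat_lit 0x10030f2)) (.leaf (nat_lit 0x28))) (.node (.leaf (nat_lit 0x100407e)) (.leaf (nat_lit 0x1001282)))) (.node (.node (.leaf (nat_lit 0x6220)) (.leaf (nat_lit 0x10031c2))) (.node (.leaf (nat_lit 0x100c0ee)) (.leaf (nat_lit 0x0)))))) (.node (.node (.node (.node (.leaf (nat_lit 0x40e3)) (.leaf (nat_lit 0x8265))) (.node (.leaf (nat_lit 0x10051af)) (.leaf (nat_lit 0x72d0)))) (.node (.node (.leaf (nat_lit 0xd0ff)) (.leaf (nat_lit 0x100b0f1))) (.node (.leaf (nat_lit 0x6014)) (.leaf (nat_lit 0x0))))) (.node (.node (.node (.leaf (nat_lit 0x10060e2)) (.leaf (nat_lit 0x100c0e6))) (.node (.leaf (nat_lit 0xc0a9)) (.leaf (nat_lit 0x0)))) (.node (.node (.leaf (nat_lit 0x32ad)) (.leaf (nat_lit 0x3039))) (.node (.leaf (nat_lit 0x10050fe)) (.leaf (nat_lit 0x0))))))) (.node (.node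 (.node (.node (.node (.leaf (nat_lit 0x1332)) (.leaf (nat_lit 0x1018))) (.node (.leaf (nat_lit 0x802e)) (.leaf (nat_lit 0x100b2f5)))) (.node (.node (.leaf (nat_lit 0x209b)) (.leaf (nat_lit 0x329b))) (.node (.leaf (nat_lit 0x52d7)) (.leaf (nat_lit 0x0))))) (.node (.node (.node (.leaf (nat_lit 0x100828e)) (.leaf (nat_lit 0x1009110))) (.node (.leaf (nat_lit 0x9187)) (.leaf (nat_lit 0x0)))) (.node (.node (.leaf (nat_lit 0x1005195)) (.leaf (nat_lit 0x9169))) (.node (.leaf (nat_lit 0xc0e8)) (.leaf (nat_lit 0x0)))))) (.node (.node (.node (.node (.leaf (nat_lit 0x2060)) (.leaf (nat_lit 0x310f))) (.node (.leaf (nat_lit 0x10052ad)) (.leaf (nat_lit 0x100820c)))) (.node (.node (.leaf (nat_lit 0x9110)) (.leaf (nat_lit 0x100705e))) (.node (.leaf (nat_lit 0x1004079)) (.leaf (nat_lit 0x0))))) (.node (.node (.node (.leaf (nat_lit 0x703c)) (.leaf (nat_lit 0x1e5))) (.node (.leaf (nat_lit 0x100310d)) (.leaf (nat_lit 0x0)))) (.node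 (.node (.leaf (nat_lit 0x1007013)) (.leaf (nat_lit 0x2210))) (.node (.leaf (nat_lit 0xc292)) (.leaf (nat_lit 0x0))))))))) (.node (.node (.node (.node (.node (.node (.node (.leaf (nat_lit 0x82)) (.leaf (nat_lit 0x10082af))) (.node (.leaf (nat_lit 0x1006108)) (.leaf (nat_lit 0x7212)))) (.node (.node (.leaf (nat_lit 0x10062b1)) (.leaf (nat_lit 0x1005028))) (.node (.leaf (nat_lit 0x100110e)) (.leaf (nat_lit 0x0))))) (.node (.node (.node (.leaf (nat_lit 0xb081)) (.leaf (nat_lit 0x71e2))) (.node (.leaf (nat_lit 0x8043)) (.leaf (nat_lit 0xb1d5)))) (.node (.node (.leaf (nat_lit 0x1002212)) (.leaf (nat_lit 0x1002008))) (.node (.leaf (nat_lit 0x80d5)) (.leaf (nat_lit 0x0)))))) (.node (.node (.node (.node (.leaf (nat_lit 0x1000294)) (.leaf (nat_lit 0x100c0f6))) (.node (.leaf (nat_lit 0x7e)) (.leaf (nat_lit 0x1001212)))) (.node (.node (.leaf (nat_lit 0x729e)) (.leaf (nat_lit 0x7073))) (.node (.leaf (nat_lit 0x100328e)) (.leaf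 (nat_lit 0x0))))) (.node (.node (.node (.leaf (nat_lit 0x10051a8)) (.leaf (nat_lit 0xef))) (.node (.leaf (nat_lit 0x100130e)) (.leaf (nat_lit 0x0)))) (.node (.node (.leaf (nat_lit 0x8167)) (.leaf (nat_lit 0x100d0d5))) (.node (.leaf (nat_lit 0x6109)) (.leaf (nat_lit 0x0))))))) (.node (.node (.node (.node (.node (.leaf (nat_lit 0xc15f)) (.leaf (nat_lit 0x301a))) (.node (.leaf (nat_lit 0x100920e)) (.leaf (nat_lit 0x100028f)))) (.node (.node (.leaf (nat_lit 0x21f)) (.leaf (nat_lit 0x1000158))) (.node (.leaf (nat_lit 0x10031b8)) (.leaf (nat_lit 0x0))))) (.node (.node (.node (.leaf (nat_lit 0x31a9)) (.leaf (nat_lit 0xc2b6))) (.node (.leaf (nat_lit 0x2178)) (.leaf (nat_lit 0x10ca)))) (.node (.node (.leaf (nat_lit 0x927f)) (.leaf (nat_lit 0xb265))) (.node (.leaf (nat_lit 0x100b07e)) (.leaf (nat_lit 0x0)))))) (.node (.node (.node (.node (.leaf (nat_lit 0x600f)) (.leaf (nat_lit 0x708f))) (.node (.leaf (nat_lit 0x1007027))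 (.leaf (nat_lit 0x92f6)))) (.node (.node (.leaf (nat_lit 0x4a)) (.leaf (nat_lit 0x10061b7))) (.node (.leaf (nat_lit 0x10001c7)) (.leaf (nat_lit 0x0))))) (.node (.node (.node (.leaf (nat_lit 0x8299)) (.leaf (nat_lit 0x2064))) (.node (.leaf (nat_lit 0x10091fc)) (.leaf (nat_lit 0x0)))) (.node (.node (.leaf (nat_lit 0x76)) (.leaf (nat_lit 0x90f1))) (.node (.leaf (nat_lit 0x100420b)) (.leaf (nat_lit 0x0)))))))) (.node (.node (.node (.node (.node (.node (.leaf (nat_lit 0x7100)) (.leaf (nat_lit 0x5109))) (.node (.leaf (nat_lit 0x616f)) (.leaf (nat_lit 0x100c0f9)))) (.node (.node (.leaf (nat_lit 0x100a065)) (.leaf (nat_lit 0x5263))) (.node (.leaf (nat_lit 0x31c0)) (.leaf (nat_lit 0x0))))) (.node (.node (.node (.leaf (nat_lit 0x31a2)) (.leaf (nat_lit 0x821a))) (.node (.leaf (nat_lit 0xa050)) (.leaf (nat_lit 0x20c0)))) (.node (.node (.leaf (nat_lit 0xa10f)) (.leaf (nat_lit 0x100c0d3))) (.node (.leaf (nat_lit 0xd139)) (.leaf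 (nat_lit 0x0)))))) (.node (.node (.node (.node (.leaf (nat_lit 0x8081)) (.leaf (nat_lit 0x100a214))) (.node (.leaf (nat_lit 0x1009291)) (.leaf (nat_lit 0x3185)))) (.node (.node (.leaf (nat_lit 0x1006170)) (.leaf (nat_lit 0x1007199))) (.node (.leaf (nat_lit 0x100b0f2)) (.leaf (nat_lit 0x0))))) (.node (.node (.node (.leaf (nat_lit 0x3198)) (.leaf (nat_lit 0x1009321))) (.node (.leaf (nat_lit 0x7007)) (.leaf (nat_lit 0x0)))) (.node (.node (.leaf (nat_lit 0x101c)) (.leaf (nat_lit 0x10041ec))) (.node (.leaf (nat_lit 0x100720e)) (.leaf (nat_lit 0x0))))))) (.node (.node (.node (.node (.node (.leaf (nat_lit 0x100529e)) (.leaf (nat_lit 0x100a21c))) (.node (.leaf (nat_lit 0x62d7)) (.leaf (nat_lit 0x206)))) (.node (.node (.leaf (nat_lit 0x103f)) (.leaf (nat_lit 0x10060df))) (.node (.leaf (nat_lit 0x1000022)) (.leaf (nat_lit 0x0))))) (.node (.node (.node (.leaf (nat_lit 0x10082b0)) (.leaf (nat_lit 0xb166))) (.node (.leaf (nat_lit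 0x1000082)) (.leaf (nat_lit 0x0)))) (.node (.node (.leaf (nat_lit 0x51fb)) (.leaf (nat_lit 0x1005227))) (.node (.leaf (nat_lit 0x10041fe)) (.leaf (nat_lit 0x0)))))) (.node (.node (.node (.node (.leaf (nat_lit 0x705a)) (.leaf (nat_lit 0x100a0e9))) (.node (.leaf (nat_lit 0x1007070)) (.leaf (nat_lit 0x7211)))) (.node (.node (.leaf (nat_lit 0xa111)) (.leaf (nat_lit 0xc153))) (.node (.leaf (nat_lit 0x5274)) (.leaf (nat_lit 0x0))))) (.node (.node (.node (.leaf (nat_lit 0x7082)) (.leaf (nat_lit 0x7109))) (.node (.leaf (nat_lit 0x1006265)) (.leaf (nat_lit 0x0)))) (.node (.node (.leaf (nat_lit 0xa04d)) (.leaf (nat_lit 0x50db))) (.node (.leaf (nat_lit 0x510d)) (.leaf (nat_lit 0x0)))))))))))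

end Cfsg.Agent.TcData.HN.I1539000
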