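import Cfsg.Agent.Lib.TcFacts

set_option autoImplicit false
set_option Elab.async false
set_option maxRecDepth 100000
set_option linter.all false

namespace Cfsg.Agent.TcData.HN.I1539000

open Cfsg.Agent.Lib.TcFacts

/-- A part of a table. -/
noncomputable def PH9 : Tr := (.node (.node (.node (.node (.node (.node (.node (.node (.node (.leaf (nat_lit 0x33c)) (.leaf (nat_lit 0x1003048))) (.node (.leaf (nat_lit 0x100c109)) (.leaf (nat_lit 0x1d1)))) (.node (.node (.leaf (nat_lit 0x422b)) (.leaf (nat_lit 0xb06c))) (.node (.leaf (nat_lit 0x100614e)) (.leaf (nat_lit 0x0))))) (.node (.node (.node (.leaf (nat_lit 0x229e)) (.leaf (nat_lit 0xa045))) (.node (.leaf (nat_lit 0x100b0e6)) (.leaf (nat_lit 0x505a)))) (.node (.node (.leaf (nat_lit 0x285)) (.leaf (nat_lit 0x100530d))) (.node (.leaf (nat_lit 0x1006290)) (.leaf (nat_lit 0x0)))))) (.node (.node (.node (.node (.leaf (nat_lit 0x2008)) (.leaf (nat_lit 0xa30e))) (.node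 (.leaf (nat_lit 0x10032b2)) (.leaf (nat_lit 0xb201)))) (.node (.node (.leaf (nat_lit 0x4118)) (.leaf (nat_lit 0x10031d0))) (.node (.leaf (nat_lit 0x100b2a2)) (.leaf (nat_lit 0x0))))) (.node (.node (.node (.leaf (nat_lit 0x65)) (.leaf (nat_lit 0x10081fe))) (.node (.leaf (nat_lit 0x1192)) (.leaf (nat_lit 0x0)))) (.node (.node (.leaf (nat_lit 0x100127c)) (.leaf (nat_lit 0xb13f))) (.node (.leaf (nat_lit 0x814f)) (.leaf (nat_lit 0x0))))))) (.node (.node (.node (.node (.node (.leaf (nat_lit 0x1333)) (.leaf (nat_lit 0x10070e6))) (.node (.leaf (nat_lit 0x10022b4)) (.leaf (nat_lit 0x84)))) (.node (.node (.leaf (nat_lit 0x12a2)) (.leaf (nat_lit 0x802f))) (.node (.leaf (nat_lit 0x1001201)) (.leaf (nat_lit 0x0))))) (.node (.node (.node (.leaf (nat_lit 0xa060)) (.leaf (nat_lit 0x15f))) (.node (.leaf (nat_lit 0x10336)) (.leaf (nat_lit 0xf16d)))) (.node (.node (.leaf (nat_lit 0x228f)) (.leaf (nat_lit 0x10031ea))) (.node (.leaf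 (nat_lit 0x60ef)) (.leaf (nat_lit 0x0)))))) (.node (.node (.node (.node (.leaf (nat_lit 0x10021a0)) (.leaf (nat_lit 0x10062a0))) (.node (.leaf (nat_lit 0xa107)) (.leaf (nat_lit 0x10061b5)))) (.node (.node (.leaf (nat_lit 0xa10d)) (.leaf (nat_lit 0x40c3))) (.node (.leaf (nat_lit 0x81e1)) (.leaf (nat_lit 0x0))))) (.node (.node (.node (.leaf (nat_lit 0x1193)) (.leaf (nat_lit 0xd27a))) (.node (.leaf (nat_lit 0x1004010)) (.leaf (nat_lit 0x0)))) (.node (.node (.leaf (nat_lit 0x100810e)) (.leaf (nat_lit 0x702d))) (.node (.leaf (nat_lit 0xd1)) (.leaf (nat_lit 0x0)))))))) (.node (.node (.node (.node (.node (.node (.leaf (nat_lit 0x4042)) (.leaf (nat_lit 0x100c0ed))) (.node (.leaf (nat_lit 0x100a10c)) (.leaf (nat_lit 0x1009287)))) (.node (.node (.leaf (nat_lit 0xd0ee)) (.leaf (nat_lit 0x10001e4))) (.node (.leaf (nat_lit 0xb8)) (.leaf (nat_lit 0x0))))) (.node (.node (.node (.leaf (nat_lit 0xb083)) (.leaf (nat_lit 0x22a2)))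 (.node (.leaf (nat_lit 0x60e8)) (.leaf (nat_lit 0x10011ce)))) (.node (.node (.leaf (nat_lit 0x7075)) (.leaf (nat_lit 0x1009064))) (.node (.leaf (nat_lit 0x100a052)) (.leaf (nat_lit 0x0)))))) (.node (.node (.node (.node (.leaf (nat_lit 0xc0e3)) (.leaf (nat_lit 0x8297))) (.node (.leaf (nat_lit 0x100d2ac)) (.leaf (nat_lit 0xc26d)))) (.node (.node (.leaf (nat_lit 0x100500e)) (.leaf (nat_lit 0xd246))) (.node (.leaf (nat_lit 0x7b)) (.leaf (nat_lit 0x0))))) (.node (.node (.node (.leaf (nat_lit 0xb217)) (.leaf (nat_lit 0x60a5))) (.node (.leaf (nat_lit 0x219)) (.leaf (nat_lit 0x0)))) (.node (.node (.leaf (nat_lit 0x100220b)) (.leaf (nat_lit 0x1003221))) (.node (.leaf (nat_lit 0xe138)) (.leaf (nat_lit 0x0))))))) (.node (.node (.node (.node (.node (.leaf (nat_lit 0x9198)) (.leaf (nat_lit 0x2288))) (.node (.leaf (nat_lit 0x10061b4)) (.leaf (nat_lit 0x90c4)))) (.node (.node (.leaf (nat_lit 0x1007198)) (.leaf (nat_lit 0x100a0a5)))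 (.node (.leaf (nat_lit 0x100b07d)) (.leaf (nat_lit 0x0))))) (.node (.node (.node (.leaf (nat_lit 0x1007117)) (.leaf (nat_lit 0x100721b))) (.node (.leaf (nat_lit 0x100001e)) (.leaf (nat_lit 0x0)))) (.node (.node (.leaf (nat_lit 0x1009114)) (.leaf (nat_lit 0x100704d))) (.node (.leaf (nat_lit 0xb0dc)) (.leaf (nat_lit 0x0)))))) (.node (.node (.node (.node (.leaf (nat_lit 0xd0e6)) (.leaf (nat_lit 0x100802d))) (.node (.leaf (nat_lit 0x31c3)) (.leaf (nat_lit 0x80e0)))) (.node (.node (.leaf (nat_lit 0x108f)) (.leaf (nat_lit 0xc26b))) (.node (.leaf (nat_lit 0x100007b)) (.leaf (nat_lit 0x0))))) (.node (.node (.node (.leaf (nat_lit 0x245)) (.leaf (nat_lit 0x1000136))) (.node (.leaf (nat_lit 0x1c4)) (.leaf (nat_lit 0x0)))) (.node (.node (.leaf (nat_lit 0x1002080)) (.leaf (nat_lit 0x3337))) (.node (.leaf (nat_lit 0x80cd)) (.leaf (nat_lit 0x0))))))))) (.node (.node (.node (.node (.node (.node (.node (.leaf (nat_lit 0x3008))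 (.leaf (nat_lit 0x621f))) (.node (.leaf (nat_lit 0x1009220)) (.leaf (nat_lit 0x31c9)))) (.node (.node (.leaf (nat_lit 0x2048)) (.leaf (nat_lit 0x61ab))) (.node (.leaf (nat_lit 0x10010fc)) (.leaf (nat_lit 0x0))))) (.node (.node (.node (.leaf (nat_lit 0x6117)) (.leaf (nat_lit 0x30ad))) (.node (.leaf (nat_lit 0x807b)) (.leaf (nat_lit 0x71ed)))) (.node (.node (.leaf (nat_lit 0x1004205)) (.leaf (nat_lit 0x1028))) (.node (.leaf (nat_lit 0xb06f)) (.leaf (nat_lit 0x0)))))) (.node (.node (.node (.node (.leaf (nat_lit 0x10001a6)) (.leaf (nat_lit 0xd138))) (.node (.leaf (nat_lit 0x100a29e)) (.leaf (nat_lit 0x3248)))) (.node (.node (.leaf (nat_lit 0xb0f4)) (.leaf (nat_lit 0x100207a))) (.node (.leaf (nat_lit 0x100621c)) (.leaf (nat_lit 0x0))))) (.node (.node (.node (.leaf (nat_lit 0x1000065)) (.leaf (nat_lit 0x1001064))) (.node (.leaf (nat_lit 0x29199)) (.leaf (nat_lit 0x0)))) (.node (.node (.leaf (nat_lit 0x328e)) (.leaf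 (nat_lit 0x5221))) (.node (.leaf (nat_lit 0x100300c)) (.leaf (nat_lit 0x0))))))) (.node (.node (.node (.node (.node (.leaf (nat_lit 0xd27c)) (.leaf (nat_lit 0x1006102))) (.node (.leaf (nat_lit 0x1000102)) (.leaf (nat_lit 0x1003157)))) (.node (.node (.leaf (nat_lit 0x1007272)) (.leaf (nat_lit 0x1007116))) (.node (.leaf (nat_lit 0x713b)) (.leaf (nat_lit 0x0))))) (.node (.node (.node (.leaf (nat_lit 0x1003102)) (.leaf (nat_lit 0x80af))) (.node (.leaf (nat_lit 0x1ae)) (.leaf (nat_lit 0xa295)))) (.node (.node (.leaf (nat_lit 0xb2ad)) (.leaf (nat_lit 0x10040ea))) (.node (.leaf (nat_lit 0x51f1)) (.leaf (nat_lit 0x0)))))) (.node (.node (.node (.node (.leaf (nat_lit 0x10040fc)) (.leaf (nat_lit 0x100b0fa))) (.node (.leaf (nat_lit 0xc273)) (.leaf (nat_lit 0x22ac)))) (.node (.node (.leaf (nat_lit 0x11a5)) (.leaf (nat_lit 0x100b2fe))) (.node (.leaf (nat_lit 0x8306)) (.leaf (nat_lit 0x0))))) (.node (.node (.node (.leaf (nat_lit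 0x6081)) (.leaf (nat_lit 0x10001ce))) (.node (.leaf (nat_lit 0x1002217)) (.leaf (nat_lit 0x0)))) (.node (.node (.leaf (nat_lit 0x100507d)) (.leaf (nat_lit 0x9049))) (.node (.leaf (nat_lit 0x100d0dc)) (.leaf (nat_lit 0x0)))))))) (.node (.node (.node (.node (.node (.node (.leaf (nat_lit 0x1002193)) (.leaf (nat_lit 0x210f))) (.node (.leaf (nat_lit 0x100127f)) (.leaf (nat_lit 0xa05c)))) (.node (.node (.leaf (nat_lit 0x22b2)) (.leaf (nat_lit 0x100a2eb))) (.node (.leaf (nat_lit 0x1004070)) (.leaf (nat_lit 0x0))))) (.node (.node (.node (.leaf (nat_lit 0x10011a5)) (.leaf (nat_lit 0x1004011))) (.node (.leaf (nat_lit 0x1000070)) (.leaf (nat_lit 0x7119)))) (.node (.node (.leaf (nat_lit 0x1e)) (.leaf (nat_lit 0x1009290))) (.node (.leaf (nat_lit 0x52f4)) (.leaf (nat_lit 0x0)))))) (.node (.node (.node (.node (.leaf (nat_lit 0x10050ff)) (.leaf (nat_lit 0x2018))) (.node (.leaf (nat_lit 0x1008065)) (.leaf (nat_lit 0x1008075))))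 (.node (.node (.leaf (nat_lit 0x331)) (.leaf (nat_lit 0x4087))) (.node (.leaf (nat_lit 0xa170)) (.leaf (nat_lit 0x0))))) (.node (.node (.node (.leaf (nat_lit 0x10060fd)) (.leaf (nat_lit 0x100b29e))) (.node (.leaf (nat_lit 0x2107)) (.leaf (nat_lit 0x0)))) (.node (.node (.leaf (nat_lit 0x50f4)) (.leaf (nat_lit 0x10001fe))) (.node (.leaf (nat_lit 0x100727b)) (.leaf (nat_lit 0x0))))))) (.node (.node (.node (.node (.node (.leaf (nat_lit 0x1026)) (.leaf (nat_lit 0x10042b5))) (.node (.leaf (nat_lit 0x1004027)) (.leaf (nat_lit 0x1043)))) (.node (.node (.leaf (nat_lit 0x31a7)) (.leaf (nat_lit 0x1004066))) (.node (.leaf (nat_lit 0x4039)) (.leaf (nat_lit 0x0))))) (.node (.node (.node (.leaf (nat_lit 0x401e)) (.leaf (nat_lit 0xa299))) (.node (.leaf (nat_lit 0x30e8)) (.leaf (nat_lit 0x0)))) (.node (.node (.leaf (nat_lit 0x806b)) (.leaf (nat_lit 0x6035))) (.node (.leaf (nat_lit 0x100b04d)) (.leaf (nat_lit 0x0)))))) (.node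 (.node (.node (.node (.leaf (nat_lit 0x1000073)) (.leaf (nat_lit 0x70d1))) (.node (.leaf (nat_lit 0x1003201)) (.leaf (nat_lit 0xa0b3)))) (.node (.node (.leaf (nat_lit 0x1002295)) (.leaf (nat_lit 0x10050a2))) (.node (.leaf (nat_lit 0xc274)) (.leaf (nat_lit 0x0))))) (.node (.node (.node (.leaf (nat_lit 0x1080)) (.leaf (nat_lit 0x100505e))) (.node (.leaf (nat_lit 0x3070)) (.leaf (nat_lit 0x0)))) (.node (.node (.leaf (nat_lit 0x10080ef)) (.leaf (nat_lit 0x4073))) (.node (.leaf (nat_lit 0x10001ea)) (.leaf (nat_lit 0x0)))))))))) (.node (.node (.node (.node (.node (.node (.node (.node (.leaf (nat_lit 0x4339)) (.leaf (nat_lit 0x3042))) (.node (.leaf (nat_lit 0x100a0bb)) (.leaf (nat_lit 0x90cd)))) (.node (.node (.leaf (nat_lit 0x128b)) (.leaf (nat_lit 0x9211))) (.node (.leaf (nat_lit 0x10032fe)) (.leaf (nat_lit 0x0))))) (.node (.node (.node (.leaf (nat_lit 0x7103)) (.leaf (nat_lit 0x1009337))) (.node (.leaf (nat_lit 0x9112))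 (.leaf (nat_lit 0x51ab)))) (.node (.node (.leaf (nat_lit 0xd2aa)) (.leaf (nat_lit 0x1002207))) (.node (.leaf (nat_lit 0x1b8)) (.leaf (nat_lit 0x0)))))) (.node (.node (.node (.node (.leaf (nat_lit 0x100907e)) (.leaf (nat_lit 0xa0c3))) (.node (.leaf (nat_lit 0xa20a)) (.leaf (nat_lit 0x8051)))) (.node (.node (.leaf (nat_lit 0xb073)) (.leaf (nat_lit 0x101a337))) (.node (.leaf (nat_lit 0x1004104)) (.leaf (nat_lit 0x0))))) (.node (.node (.node (.leaf (nat_lit 0x303a)) (.leaf (nat_lit 0x1000077))) (.node (.leaf (nat_lit 0x100b220)) (.leaf (nat_lit 0x0)))) (.node (.node (.leaf (nat_lit 0x50f3)) (.leaf (nat_lit 0x102b337))) (.node (.leaf (nat_lit 0x5066)) (.leaf (nat_lit 0x0))))))) (.node (.node (.node (.node (.node (.leaf (nat_lit 0xb20e)) (.leaf (nat_lit 0x1004138))) (.node (.leaf (nat_lit 0x502c)) (.leaf (nat_lit 0x100806a)))) (.node (.node (.leaf (nat_lit 0x1007110)) (.leaf (nat_lit 0x100704a))) (.node (.leaf (nat_lit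 0x605c)) (.leaf (nat_lit 0x0))))) (.node (.node (.node (.leaf (nat_lit 0x100333a)) (.leaf (nat_lit 0xa053))) (.node (.leaf (nat_lit 0xb048)) (.leaf (nat_lit 0x40fb)))) (.node (.node (.leaf (nat_lit 0x51a0)) (.leaf (nat_lit 0x329f))) (.node (.leaf (nat_lit 0x307b)) (.leaf (nat_lit 0x0)))))) (.node (.node (.node (.node (.leaf (nat_lit 0x902c)) (.leaf (nat_lit 0x1001112))) (.node (.leaf (nat_lit 0x100029e)) (.leaf (nat_lit 0x1001287)))) (.node (.node (.leaf (nat_lit 0x20ee)) (.leaf (nat_lit 0x100330e))) (.node (.leaf (nat_lit 0xd)) (.leaf (nat_lit 0x0))))) (.node (.node (.node (.leaf (nat_lit 0xb04d)) (.leaf (nat_lit 0x6036))) (.node (.leaf (nat_lit 0x61c2)) (.leaf (nat_lit 0x0)))) (.node (.node (.leaf (nat_lit 0x100628e)) (.leaf (nat_lit 0xa150))) (.node (.leaf (nat_lit 0x21d3)) (.leaf (nat_lit 0x0)))))))) (.node (.node (.node (.node (.node (.node (.leaf (nat_lit 0x3016)) (.leaf (nat_lit 0x1079))) (.node (.leaf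 (nat_lit 0x200e)) (.leaf (nat_lit 0x100e185)))) (.node (.node (.leaf (nat_lit 0x1006069)) (.leaf (nat_lit 0x7015))) (.node (.leaf (nat_lit 0x100002d)) (.leaf (nat_lit 0x0))))) (.node (.node (.node (.leaf (nat_lit 0x10030fa)) (.leaf (nat_lit 0x81c8))) (.node (.leaf (nat_lit 0x1009065)) (.leaf (nat_lit 0x50b1)))) (.node (.node (.leaf (nat_lit 0x100a2d8)) (.leaf (nat_lit 0x8061))) (.node (.leaf (nat_lit 0x1203)) (.leaf (nat_lit 0x0)))))) (.node (.node (.node (.node (.leaf (nat_lit 0x707e)) (.leaf (nat_lit 0x1005298))) (.node (.leaf (nat_lit 0x100a28c)) (.leaf (nat_lit 0x916a)))) (.node (.node (.leaf (nat_lit 0x506d)) (.leaf (nat_lit 0x100c27f))) (.node (.leaf (nat_lit 0x6015)) (.leaf (nat_lit 0x0))))) (.node (.node (.node (.leaf (nat_lit 0xd199)) (.leaf (nat_lit 0x100c0f4))) (.node (.leaf (nat_lit 0x100029a)) (.leaf (nat_lit 0x0)))) (.node (.node (.leaf (nat_lit 0x32ac)) (.leaf (nat_lit 0x50b3))) (.node (.leaf (nat_lit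 0x100402e)) (.leaf (nat_lit 0x0))))))) (.node (.node (.node (.node (.node (.leaf (nat_lit 0x8063)) (.leaf (nat_lit 0x71eb))) (.node (.leaf (nat_lit 0x90f8)) (.leaf (nat_lit 0x1004157)))) (.node (.node (.leaf (nat_lit 0x10041b2)) (.leaf (nat_lit 0x1000060))) (.node (.leaf (nat_lit 0x13199)) (.leaf (nat_lit 0x0))))) (.node (.node (.node (.leaf (nat_lit 0x100610c)) (.leaf (nat_lit 0xa2a2))) (.node (.leaf (nat_lit 0x9188)) (.leaf (nat_lit 0x0)))) (.node (.node (.leaf (nat_lit 0x136)) (.leaf (nat_lit 0x128d))) (.node (.leaf (nat_lit 0xc0e4)) (.leaf (nat_lit 0x0)))))) (.node (.node (.node (.node (.leaf (nat_lit 0xa062)) (.leaf (nat_lit 0xb16f))) (.node (.leaf (nat_lit 0x10022ac)) (.leaf (nat_lit 0x30c3)))) (.node (.node (.leaf (nat_lit 0x6093)) (.leaf (nat_lit 0x1007060))) (.node (.leaf (nat_lit 0x100401e)) (.leaf (nat_lit 0x0))))) (.node (.node (.node (.leaf (nat_lit 0x620e)) (.leaf (nat_lit 0x100004d))) (.node (.leaf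 (nat_lit 0x100400c)) (.leaf (nat_lit 0x0)))) (.node (.node (.leaf (nat_lit 0xa132)) (.leaf (nat_lit 0x1002210))) (.node (.leaf (nat_lit 0x100b28f)) (.leaf (nat_lit 0x0))))))))) (.node (.node (.node (.node (.node (.node (.node (.leaf (nat_lit 0xb220)) (.leaf (nat_lit 0x70d5))) (.node (.leaf (nat_lit 0x100610a)) (.leaf (nat_lit 0xa0c7)))) (.node (.node (.leaf (nat_lit 0x3082)) (.leaf (nat_lit 0x4152))) (.node (.leaf (nat_lit 0x10002b0)) (.leaf (nat_lit 0x0))))) (.node (.node (.node (.leaf (nat_lit 0x810e)) (.leaf (nat_lit 0x522a))) (.node (.leaf (nat_lit 0x8044)) (.leaf (nat_lit 0x4181)))) (.node (.node (.leaf (nat_lit 0x21c4)) (.leaf (nat_lit 0x71e5))) (.node (.leaf (nat_lit 0x80d6)) (.leaf (nat_lit 0x0)))))) (.node (.node (.node (.node (.leaf (nat_lit 0x2111)) (.leaf (nat_lit 0x10090e3))) (.node (.leaf (nat_lit 0x1007100)) (.leaf (nat_lit 0x71b8)))) (.node (.node (.leaf (nat_lit 0x70fe)) (.leaf (nat_lit 0x1006010)))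 (.node (.leaf (nat_lit 0x1001273)) (.leaf (nat_lit 0x0))))) (.node (.node (.node (.leaf (nat_lit 0xc0a1)) (.leaf (nat_lit 0x10090fc))) (.node (.leaf (nat_lit 0x727e)) (.leaf (nat_lit 0x0)))) (.node (.node (.leaf (nat_lit 0x520e)) (.leaf (nat_lit 0x30a2))) (.node (.leaf (nat_lit 0x100825d)) (.leaf (nat_lit 0x0))))))) (.node (.node (.node (.node (.node (.leaf (nat_lit 0x5138)) (.leaf (nat_lit 0x91c2))) (.node (.leaf (nat_lit 0x1003067)) (.leaf (nat_lit 0x100707c)))) (.node (.node (.leaf (nat_lit 0x1000339)) (.leaf (nat_lit 0x31b2))) (.node (.leaf (nat_lit 0xc092)) (.leaf (nat_lit 0x0))))) (.node (.node (.node (.leaf (nat_lit 0x31ab)) (.leaf (nat_lit 0xc2b5))) (.node (.leaf (nat_lit 0x60ea)) (.leaf (nat_lit 0x1021)))) (.node (.node (.leaf (nat_lit 0x92a2)) (.leaf (nat_lit 0x3224))) (.node (.leaf (nat_lit 0x100c2b1)) (.leaf (nat_lit 0x0)))))) (.node (.node (.node (.node (.leaf (nat_lit 0x3117)) (.leaf (nat_lit 0x7090)))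 (.node (.leaf (nat_lit 0x8132)) (.leaf (nat_lit 0x90a5)))) (.node (.node (.leaf (nat_lit 0x10070ff)) (.leaf (nat_lit 0x100a1e3))) (.node (.leaf (nat_lit 0x100000b)) (.leaf (nat_lit 0x0))))) (.node (.node (.node (.leaf (nat_lit 0xd285)) (.leaf (nat_lit 0x5201))) (.node (.leaf (nat_lit 0x1001284)) (.leaf (nat_lit 0x0)))) (.node (.node (.leaf (nat_lit 0x3218)) (.leaf (nat_lit 0x907c))) (.node (.leaf (nat_lit 0x204c)) (.leaf (nat_lit 0x0)))))))) (.node (.node (.node (.node (.node (.node (.leaf (nat_lit 0x60fd)) (.leaf (nat_lit 0x4293))) (.node (.leaf (nat_lit 0x10082fd)) (.leaf (nat_lit 0x2245)))) (.node (.node (.leaf (nat_lit 0xb067)) (.leaf (nat_lit 0x5261))) (.node (.leaf (nat_lit 0x1003112)) (.leaf (nat_lit 0x0))))) (.node (.node (.node (.leaf (nat_lit 0x41a7)) (.leaf (nat_lit 0x1007113))) (.node (.leaf (nat_lit 0x100700f)) (.leaf (nat_lit 0xa119)))) (.node (.node (.leaf (nat_lit 0x104d)) (.leaf (nat_lit 0x901a)))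 (.node (.leaf (nat_lit 0x6102)) (.leaf (nat_lit 0x0)))))) (.node (.node (.node (.node (.leaf (nat_lit 0x6079)) (.leaf (nat_lit 0x4189))) (.node (.leaf (nat_lit 0x100c29e)) (.leaf (nat_lit 0x10011e3)))) (.node (.node (.leaf (nat_lit 0xe160)) (.leaf (nat_lit 0x308b))) (.node (.leaf (nat_lit 0x52d3)) (.leaf (nat_lit 0x0))))) (.node (.node (.node (.leaf (nat_lit 0x700f)) (.leaf (nat_lit 0x731d))) (.node (.leaf (nat_lit 0x90ff)) (.leaf (nat_lit 0x0)))) (.node (.node (.leaf (nat_lit 0x5333)) (.leaf (nat_lit 0x1001206))) (.node (.leaf (nat_lit 0x1007207)) (.leaf (nat_lit 0x0))))))) (.node (.node (.node (.node (.node (.leaf (nat_lit 0x100a0fe)) (.leaf (nat_lit 0x10040dd))) (.node (.leaf (nat_lit 0x30f6)) (.leaf (nat_lit 0x1003138)))) (.node (.node (.leaf (nat_lit 0xb1d7)) (.leaf (nat_lit 0x228c))) (.node (.leaf (nat_lit 0x100121c)) (.leaf (nat_lit 0x0))))) (.node (.node (.node (.leaf (nat_lit 0x327f)) (.leaf (nat_lit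 0xb281))) (.node (.leaf (nat_lit 0x100a1ea)) (.leaf (nat_lit 0x0)))) (.node (.node (.leaf (nat_lit 0x41f8)) (.leaf (nat_lit 0x100d2a0))) (.node (.leaf (nat_lit 0x5023)) (.leaf (nat_lit 0x0)))))) (.node (.node (.node (.node (.leaf (nat_lit 0x705b)) (.leaf (nat_lit 0x1a6))) (.node (.leaf (nat_lit 0x1004218)) (.leaf (nat_lit 0x1012)))) (.node (.node (.leaf (nat_lit 0x3006)) (.leaf (nat_lit 0x90b1))) (.node (.leaf (nat_lit 0x5017)) (.leaf (nat_lit 0x0))))) (.node (.node (.node (.leaf (nat_lit 0xa07d)) (.leaf (nat_lit 0x25199))) (.node (.leaf (nat_lit 0x806d)) (.leaf (nat_lit 0x0)))) (.node (.node (.leaf (nat_lit 0x100010d)) (.leaf (nat_lit 0xb09d))) (.node (.leaf (nat_lit 0xf322)) (.leaf (nat_lit 0x0)))))))))))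

end Cfsg.Agent.TcData.HN.I1539000
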