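import Cfsg.Agent.Lib.TcFacts

set_option autoImplicit false
set_option Elab.async false
set_option maxRecDepth 100000
set_option linter.all false

namespace Cfsg.Agent.TcData.HN.I1539000

open Cfsg.Agent.Lib.TcFacts

/-- A part of a table. -/
noncomputable def PW0 : Tr := (.node (.node (.node (.node (.node (.node (.node (.node (.node (.leaf (nat_lit 0x12)) (.leaf (nat_lit 0x253154523514))) (.node (.leaf (nat_lit 0x1353532245454525)) (.leaf (nat_lit 0x35154131423241)))) (.node (.node (.leaf (nat_lit 0x45323323541441)) (.leaf (nat_lit 0x2235452513548))) (.node (.leaf (nat_lit 0x5324235413148)) (.leaf (nat_lit 0x0))))) (.node (.node (.node (.leaf (nat_lit 0x242354525314538)) (.leaf (nat_lit 0x2442515332))) (.node (.leaf (nat_lit 0x54411323545324538)) (.leaf (nat_lit 0x51533541135442)))) (.node (.node (.leaf (nat_lit 0x3114453542354532)) (.leaf (nat_lit 0x53241354525324))) (.node (.leaf (nat_lit 0x411333511544)) (.leaf (nat_lit 0x0)))))) (.node (.node (.node (.node (.leaf (nat_lit 0x2241138)) (.leaf (nat_lit 0x53331144454113)))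 (.node (.leaf (nat_lit 0x32224535423545)) (.leaf (nat_lit 0x53331144454223)))) (.node (.node (.leaf (nat_lit 0x54223511)) (.leaf (nat_lit 0x5352451325418))) (.node (.leaf (nat_lit 0x513245325453148)) (.leaf (nat_lit 0x0))))) (.node (.node (.node (.leaf (nat_lit 0x45354523545315)) (.leaf (nat_lit 0x44424242531313335444242423131333544424242313133358))) (.node (.leaf (nat_lit 0x235241324253248)) (.leaf (nat_lit 0x0)))) (.node (.node (.leaf (nat_lit 0x53141314231452)) (.leaf (nat_lit 0x25135452253545))) (.node (.leaf (nat_lit 0x411354511535)) (.leaf (nat_lit 0x0))))))) (.node (.node (.node (.node (.node (.leaf (nat_lit 0x53545152354511)) (.leaf (nat_lit 0x3154253254528))) (.node (.leaf (nat_lit 0x154532413541358)) (.leaf (nat_lit 0x32453145153541)))) (.node (.node (.leaf (nat_lit 0x14535245314253)) (.leaf (nat_lit 0x44545411353533118))) (.node (.leaf (nat_lit 0x3114535251458)) (.leaf (nat_lit 0x0))))) (.node (.node (.node (.leaf (nat_lit 0x51354422335452)) (.leaf (nat_lit 0x4231453142358))) (.node (.leaf (nat_lit 0x5152331144))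 (.leaf (nat_lit 0x453224533224)))) (.node (.node (.leaf (nat_lit 0x13542424423115413313)) (.leaf (nat_lit 0x354232453515428))) (.node (.leaf (nat_lit 0x32423525413142)) (.leaf (nat_lit 0x0)))))) (.node (.node (.node (.node (.leaf (nat_lit 0x1141138)) (.leaf (nat_lit 0x153541324531458))) (.node (.leaf (nat_lit 0x535245354153548)) (.leaf (nat_lit 0x5354235453311424)))) (.node (.node (.leaf (nat_lit 0x54132452314132)) (.leaf (nat_lit 0x51154544411333538))) (.node (.leaf (nat_lit 0x5115354541135354)) (.leaf (nat_lit 0x0))))) (.node (.node (.node (.leaf (nat_lit 0x145311453525)) (.leaf (nat_lit 0x451523541135))) (.node (.leaf (nat_lit 0x4523154253258)) (.leaf (nat_lit 0x0)))) (.node (.node (.leaf (nat_lit 0x25413541314535)) (.leaf (nat_lit 0x2453542354533224))) (.node (.leaf (nat_lit 0x53224251)) (.leaf (nat_lit 0x0)))))))) (.node (.node (.node (.node (.node (.node (.leaf (nat_lit 0x251115)) (.leaf (nat_lit 0x5115351524))) (.node (.leaf (nat_lit 0x545324235423518)) (.leaf (nat_lit 0x422333532245448)))) (.node (.node (.leaf (nat_lit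 0x771728)) (.leaf (nat_lit 0x32453142354525))) (.node (.leaf (nat_lit 0x2453531145453515)) (.leaf (nat_lit 0x0))))) (.node (.node (.node (.leaf (nat_lit 0x331354244245318)) (.leaf (nat_lit 0x54441525333511))) (.node (.leaf (nat_lit 0x51331144528)) (.leaf (nat_lit 0x22454531145353)))) (.node (.node (.leaf (nat_lit 0x532423524132428)) (.leaf (nat_lit 0x522535422354))) (.node (.leaf (nat_lit 0x33322444228)) (.leaf (nat_lit 0x0)))))) (.node (.node (.node (.node (.leaf (nat_lit 0x5445322453353114)) (.leaf (nat_lit 0x453511545311))) (.node (.leaf (nat_lit 0x3114442233)) (.leaf (nat_lit 0x2445441133533515)))) (.node (.node (.leaf (nat_lit 0x351451352415)) (.leaf (nat_lit 0x524253514523))) (.node (.leaf (nat_lit 0x451532453141358)) (.leaf (nat_lit 0x0))))) (.node (.node (.node (.leaf (nat_lit 0x35245314253145)) (.leaf (nat_lit 0x253145324235458))) (.node (.leaf (nat_lit 0x3541135451158)) (.leaf (nat_lit 0x0)))) (.node (.node (.leaf (nat_lit 0x5131313335444242413131333544424241313133354442424)) (.leaf (nat_lit 0x5133544113354452))) (.node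 (.leaf (nat_lit 0x411353511545)) (.leaf (nat_lit 0x0))))))) (.node (.node (.node (.node (.node (.leaf (nat_lit 0x31331354144145)) (.leaf (nat_lit 0x2514511535))) (.node (.leaf (nat_lit 0x514513524153)) (.leaf (nat_lit 0x541324535254238)))) (.node (.node (.leaf (nat_lit 0x15158)) (.leaf (nat_lit 0x3542515354541135))) (.node (.leaf (nat_lit 0x545324135413518)) (.leaf (nat_lit 0x0))))) (.node (.node (.node (.leaf (nat_lit 0x53322424535423548)) (.leaf (nat_lit 0x5145353114545352))) (.node (.leaf (nat_lit 0x354231542354518)) (.leaf (nat_lit 0x0)))) (.node (.node (.leaf (nat_lit 0x244424244424244424244424)) (.leaf (nat_lit 0x54442515333511))) (.node (.leaf (nat_lit 0x352254441133)) (.leaf (nat_lit 0x0)))))) (.node (.node (.node (.node (.leaf (nat_lit 0x413541535413518)) (.leaf (nat_lit 0x545314135423518))) (.node (.leaf (nat_lit 0x413514131425318)) (.leaf (nat_lit 0x531545131542)))) (.node (.node (.leaf (nat_lit 0x45354513545325)) (.leaf (nat_lit 0x13545314535441138))) (.node (.leaf (nat_lit 0x5354111354535254)) (.leaf (nat_lit 0x0)))))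 (.node (.node (.node (.leaf (nat_lit 0x514153524513)) (.leaf (nat_lit 0x425325451325))) (.node (.leaf (nat_lit 0x4411335453114535)) (.leaf (nat_lit 0x0)))) (.node (.node (.leaf (nat_lit 0x314135141324158)) (.leaf (nat_lit 0x251445225335))) (.node (.leaf (nat_lit 0x35152451158)) (.leaf (nat_lit 0x0))))))))) (.node (.node (.node (.node (.node (.node (.node (.leaf (nat_lit 0x77172)) (.leaf (nat_lit 0x3535311454545115))) (.node (.leaf (nat_lit 0x351545354135458)) (.leaf (nat_lit 0x454223535322458)))) (.node (.node (.leaf (nat_lit 0x22413313135424244235)) (.leaf (nat_lit 0x5451351425328))) (.node (.leaf (nat_lit 0x5315425351418)) (.leaf (nat_lit 0x0))))) (.node (.node (.node (.leaf (nat_lit 0x3542314531428)) (.leaf (nat_lit 0x15253544113354))) (.node (.leaf (nat_lit 0x354144245323318)) (.leaf (nat_lit 0x45353114545352518)))) (.node (.node (.leaf (nat_lit 0x13545325453545)) (.leaf (nat_lit 0x524223518))) (.node (.leaf (nat_lit 0x453515245311)) (.leaf (nat_lit 0x0)))))) (.node (.node (.node (.node (.leaf (nat_lit 0x2231148)) (.leaf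 (nat_lit 0x3242314132418))) (.node (.leaf (nat_lit 0x354523545315458)) (.leaf (nat_lit 0x351415325452)))) (.node (.node (.leaf (nat_lit 0x24535115453515)) (.leaf (nat_lit 0x245354222354538))) (.node (.leaf (nat_lit 0x35245324253245)) (.leaf (nat_lit 0x0))))) (.node (.node (.node (.leaf (nat_lit 0x53354113544522)) (.leaf (nat_lit 0x54532453542411338))) (.node (.leaf (nat_lit 0x325423245231428)) (.leaf (nat_lit 0x0)))) (.node (.node (.leaf (nat_lit 0x154253154513)) (.leaf (nat_lit 0x131542535245))) (.node (.leaf (nat_lit 0x513154153514)) (.leaf (nat_lit 0x0))))))) (.node (.node (.node (.node (.node (.leaf (nat_lit 0x524153514513)) (.leaf (nat_lit 0x22535415253545))) (.node (.leaf (nat_lit 0x451354132542358)) (.leaf (nat_lit 0x1144535322454533)))) (.node (.node (.leaf (nat_lit 0x3531145453515245)) (.leaf (nat_lit 0x5322453224))) (.node (.leaf (nat_lit 0x3133354442424131313335444242451313133354442424131)) (.leaf (nat_lit 0x0))))) (.node (.node (.node (.leaf (nat_lit 0x131453141354)) (.leaf (nat_lit 0x153141314232458))) (.node (.leaf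 (nat_lit 0x42354513541325)) (.leaf (nat_lit 0x32245445422353358)))) (.node (.node (.leaf (nat_lit 0x53224522)) (.leaf (nat_lit 0x4451523331148))) (.node (.leaf (nat_lit 0x32452535423145)) (.leaf (nat_lit 0x0)))))) (.node (.node (.node (.node (.leaf (nat_lit 0x54535451354532)) (.leaf (nat_lit 0x235451354132548))) (.node (.leaf (nat_lit 0x41314253142352)) (.leaf (nat_lit 0x13525141)))) (.node (.node (.leaf (nat_lit 0x44245313323541)) (.leaf (nat_lit 0x54535154535422238))) (.node (.leaf (nat_lit 0x352413542535418)) (.leaf (nat_lit 0x0))))) (.node (.node (.node (.leaf (nat_lit 0x51535451153542)) (.leaf (nat_lit 0x5451351451328))) (.node (.leaf (nat_lit 0x314532413542)) (.leaf (nat_lit 0x0)))) (.node (.node (.leaf (nat_lit 0x15453145131453)) (.leaf (nat_lit 0x333114441525))) (.node (.leaf (nat_lit 0x25452253158)) (.leaf (nat_lit 0x0)))))))) (.node (.node (.node (.node (.node (.node (.leaf (nat_lit 0x324131423142)) (.leaf (nat_lit 0x425352415325))) (.node (.leaf (nat_lit 0x44223351158)) (.leaf (nat_lit 0x4523514153258)))) (.node (.node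 (.leaf (nat_lit 0x45152351158)) (.leaf (nat_lit 0x31525454411335))) (.node (.leaf (nat_lit 0x5425351415318)) (.leaf (nat_lit 0x0))))) (.node (.node (.node (.leaf (nat_lit 0x325452351415)) (.leaf (nat_lit 0x31452535413145))) (.node (.leaf (nat_lit 0x41314535154235)) (.leaf (nat_lit 0x5154454411335332)))) (.node (.node (.leaf (nat_lit 0x354513545325458)) (.leaf (nat_lit 0x514235425354138))) (.node (.leaf (nat_lit 0x254131451314138)) (.leaf (nat_lit 0x0)))))) (.node (.node (.node (.node (.leaf (nat_lit 0x2453242354238)) (.leaf (nat_lit 0x532541535141))) (.node (.leaf (nat_lit 0x53133135424424)) (.leaf (nat_lit 0x3533311444544113)))) (.node (.node (.leaf (nat_lit 0x235453154535458)) (.leaf (nat_lit 0x1535145135248))) (.node (.leaf (nat_lit 0x5354411335453114)) (.leaf (nat_lit 0x0))))) (.node (.node (.node (.leaf (nat_lit 0x51324231541324)) (.leaf (nat_lit 0x52535115418))) (.node (.leaf (nat_lit 0x54222354532453)) (.leaf (nat_lit 0x0)))) (.node (.node (.leaf (nat_lit 0x4113351154)) (.leaf (nat_lit 0x331144454223538))) (.node (.leaf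 (nat_lit 0x532453141354518)) (.leaf (nat_lit 0x0))))))) (.node (.node (.node (.node (.node (.leaf (nat_lit 0x42442352241331313542)) (.leaf (nat_lit 0x324513242315418))) (.node (.leaf (nat_lit 0x235414424531338)) (.leaf (nat_lit 0x114454113533)))) (.node (.node (.leaf (nat_lit 0x41354153541351)) (.leaf (nat_lit 0x542314132413518))) (.node (.leaf (nat_lit 0x42324535154235)) (.leaf (nat_lit 0x0))))) (.node (.node (.node (.leaf (nat_lit 0x235141324153248)) (.leaf (nat_lit 0x14152531))) (.node (.leaf (nat_lit 0x51452253528)) (.leaf (nat_lit 0x0)))) (.node (.node (.leaf (nat_lit 0x41453133235424)) (.leaf (nat_lit 0x5115335441133544))) (.node (.leaf (nat_lit 0x5352425315428)) (.leaf (nat_lit 0x0)))))) (.node (.node (.node (.node (.leaf (nat_lit 0x541535245132)) (.leaf (nat_lit 0x141531542535))) (.node (.leaf (nat_lit 0x54244245323323)) (.leaf (nat_lit 0x35311454452253)))) (.node (.node (.leaf (nat_lit 0x3114451153)) (.leaf (nat_lit 0x4235453145358))) (.node (.leaf (nat_lit 0x41325423245131)) (.leaf (nat_lit 0x0))))) (.node (.node (.node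 (.leaf (nat_lit 0x13254235451354)) (.leaf (nat_lit 0x542235351154))) (.node (.leaf (nat_lit 0x5352451315428)) (.leaf (nat_lit 0x0)))) (.node (.node (.leaf (nat_lit 0x354244245323328)) (.leaf (nat_lit 0x3545115354441133))) (.node (.leaf (nat_lit 0x453114535152)) (.leaf (nat_lit 0x0)))))))))) (.node (.node (.node (.node (.node (.node (.node (.node (.leaf (nat_lit 0x575757)) (.leaf (nat_lit 0x5235142531548))) (.node (.leaf (nat_lit 0x5154422332)) (.leaf (nat_lit 0x4525133354113544)))) (.node (.node (.leaf (nat_lit 0x52253114)) (.leaf (nat_lit 0x354232453245158))) (.node (.leaf (nat_lit 0x23514132415324)) (.leaf (nat_lit 0x0))))) (.node (.node (.node (.leaf (nat_lit 0x35453222453542)) (.leaf (nat_lit 0x224535251453))) (.node (.leaf (nat_lit 0x3311444113)) (.leaf (nat_lit 0x354132542354518)))) (.node (.node (.leaf (nat_lit 0x23335225444515)) (.leaf (nat_lit 0x545225354113))) (.node (.leaf (nat_lit 0x531452314532548)) (.leaf (nat_lit 0x0)))))) (.node (.node (.node (.node (.leaf (nat_lit 0x42453133135424)) (.leaf (nat_lit 0x42325423145131)))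 (.node (.leaf (nat_lit 0x354515324531418)) (.leaf (nat_lit 0x33354442424131313335444242451313133354442424131318)))) (.node (.node (.leaf (nat_lit 0x535141531542)) (.leaf (nat_lit 0x1423242324238))) (.node (.leaf (nat_lit 0x314235241314258)) (.leaf (nat_lit 0x0))))) (.node (.node (.node (.leaf (nat_lit 0x535451354532548)) (.leaf (nat_lit 0x5354113545331144))) (.node (.leaf (nat_lit 0x5351154531148)) (.leaf (nat_lit 0x0)))) (.node (.node (.leaf (nat_lit 0x5322453114)) (.leaf (nat_lit 0x2235453311445354))) (.node (.leaf (nat_lit 0x523524253514)) (.leaf (nat_lit 0x0))))))) (.node (.node (.node (.node (.node (.leaf (nat_lit 0x52513114)) (.leaf (nat_lit 0x45354411335453118))) (.node (.leaf (nat_lit 0x541325413545238)) (.leaf (nat_lit 0x3545411353545115)))) (.node (.node (.leaf (nat_lit 0x4253524153258)) (.leaf (nat_lit 0x535425153545228))) (.node (.leaf (nat_lit 0x244245313313548)) (.leaf (nat_lit 0x0))))) (.node (.node (.node (.leaf (nat_lit 0x45253241324231)) (.leaf (nat_lit 0x35251453522545))) (.node (.leaf (nat_lit 0x1545115325))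 (.leaf (nat_lit 0x25444152533352)))) (.node (.node (.leaf (nat_lit 0x351415352451)) (.leaf (nat_lit 0x3545331141453541))) (.node (.leaf (nat_lit 0x324253145351458)) (.leaf (nat_lit 0x0)))))) (.node (.node (.node (.node (.leaf (nat_lit 0x14545115353525)) (.leaf (nat_lit 0x5241535245238))) (.node (.leaf (nat_lit 0x3531145453525145)) (.leaf (nat_lit 0x42314232423515)))) (.node (.node (.leaf (nat_lit 0x14532545314523)) (.leaf (nat_lit 0x45115335311454))) (.node (.leaf (nat_lit 0x13353114544525)) (.leaf (nat_lit 0x0))))) (.node (.node (.node (.leaf (nat_lit 0x545311453522)) (.leaf (nat_lit 0x5441133544511533))) (.node (.leaf (nat_lit 0x354251535411)) (.leaf (nat_lit 0x0)))) (.node (.node (.leaf (nat_lit 0x24535225453515)) (.leaf (nat_lit 0x53142352413142))) (.node (.leaf (nat_lit 0x535442233542518)) (.leaf (nat_lit 0x0)))))))) (.node (.node (.node (.node (.node (.node (.leaf (nat_lit 0x3746)) (.leaf (nat_lit 0x254253514513))) (.node (.leaf (nat_lit 0x322453515245)) (.leaf (nat_lit 0x5251354223548)))) (.node (.node (.leaf (nat_lit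 0x54535245354153)) (.leaf (nat_lit 0x425315452325))) (.node (.leaf (nat_lit 0x251422358)) (.leaf (nat_lit 0x0))))) (.node (.node (.node (.leaf (nat_lit 0x31141525)) (.leaf (nat_lit 0x541135452253))) (.node (.leaf (nat_lit 0x53133235424414)) (.leaf (nat_lit 0x152445115335)))) (.node (.node (.leaf (nat_lit 0x531451314531548)) (.leaf (nat_lit 0x451324232541318))) (.node (.leaf (nat_lit 0x4113354532453542)) (.leaf (nat_lit 0x0)))))) (.node (.node (.node (.node (.leaf (nat_lit 0x541314513242328)) (.leaf (nat_lit 0x253542351413548))) (.node (.leaf (nat_lit 0x311445322453)) (.leaf (nat_lit 0x444113335225)))) (.node (.node (.leaf (nat_lit 0x23545115354515)) (.leaf (nat_lit 0x531413545153248))) (.node (.leaf (nat_lit 0x5352415315418)) (.leaf (nat_lit 0x0))))) (.node (.node (.node (.leaf (nat_lit 0x13354411335441)) (.leaf (nat_lit 0x153541351413548))) (.node (.leaf (nat_lit 0x2513354411335445)) (.leaf (nat_lit 0x0)))) (.node (.node (.leaf (nat_lit 0x13541325423545)) (.leaf (nat_lit 0x32413142324525))) (.node (.leaf (nat_lit 0x351423241532418))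 (.leaf (nat_lit 0x0))))))) (.node (.node (.node (.node (.node (.leaf (nat_lit 0x23544515233542)) (.leaf (nat_lit 0x52535225418))) (.node (.leaf (nat_lit 0x545235423254238)) (.leaf (nat_lit 0x41354135254531)))) (.node (.node (.leaf (nat_lit 0x3245324135418)) (.leaf (nat_lit 0x115354152535458))) (.node (.leaf (nat_lit 0x514535425354538)) (.leaf (nat_lit 0x0))))) (.node (.node (.node (.leaf (nat_lit 0x542235228)) (.leaf (nat_lit 0x45454223535311))) (.node (.leaf (nat_lit 0x54133131354242442311)) (.leaf (nat_lit 0x0)))) (.node (.node (.leaf (nat_lit 0x25135351154545)) (.leaf (nat_lit 0x22533541135445))) (.node (.leaf (nat_lit 0x44242423131333544424242313133354442424253131333548)) (.leaf (nat_lit 0x0)))))) (.node (.node (.node (.node (.leaf (nat_lit 0x242442352241331313548)) (.leaf (nat_lit 0x535311454522))) (.node (.leaf (nat_lit 0x352254531145)) (.leaf (nat_lit 0x2544533114453315)))) (.node (.node (.leaf (nat_lit 0x4131413141328)) (.leaf (nat_lit 0x35453114535441138))) (.node (.leaf (nat_lit 0x4513514153528)) (.leaf (nat_lit 0x0)))))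 (.node (.node (.node (.leaf (nat_lit 0x1144544522533533)) (.leaf (nat_lit 0x3114245354235453))) (.node (.leaf (nat_lit 0x5354541135354522)) (.leaf (nat_lit 0x0)))) (.node (.node (.leaf (nat_lit 0x532451535423248)) (.leaf (nat_lit 0x5325415351418))) (.node (.leaf (nat_lit 0x24532545314513)) (.leaf (nat_lit 0x0))))))))) (.node (.node (.node (.node (.node (.node (.node (.leaf (nat_lit 0x2244411333)) (.leaf (nat_lit 0x4441133322))) (.node (.leaf (nat_lit 0x3322445115)) (.leaf (nat_lit 0x3114452513)))) (.node (.node (.leaf (nat_lit 0x514523514153)) (.leaf (nat_lit 0x3545314535414223))) (.node (.leaf (nat_lit 0x2545454223535315)) (.leaf (nat_lit 0x0))))) (.node (.node (.node (.leaf (nat_lit 0x35142324153241)) (.leaf (nat_lit 0x145331144531))) (.node (.leaf (nat_lit 0x145351542354138)) (.leaf (nat_lit 0x41352413242531)))) (.node (.node (.leaf (nat_lit 0x13131313131313138)) (.leaf (nat_lit 0x52544113318))) (.node (.leaf (nat_lit 0x542535245131)) (.leaf (nat_lit 0x0)))))) (.node (.node (.node (.node (.leaf (nat_lit 0x231423254131458))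 (.leaf (nat_lit 0x3545314535442231))) (.node (.leaf (nat_lit 0x5313224453541354)) (.leaf (nat_lit 0x322453311445)))) (.node (.node (.leaf (nat_lit 0x31413541352545)) (.leaf (nat_lit 0x545322453152))) (.node (.leaf (nat_lit 0x4245131313335444242413131333544424241313133354442)) (.leaf (nat_lit 0x0))))) (.node (.node (.node (.leaf (nat_lit 0x352241331313542424428)) (.leaf (nat_lit 0x453142354231))) (.node (.leaf (nat_lit 0x444541135333118)) (.leaf (nat_lit 0x0)))) (.node (.node (.leaf (nat_lit 0x453114535115)) (.leaf (nat_lit 0x4113353541135454))) (.node (.leaf (nat_lit 0x333114442515)) (.leaf (nat_lit 0x0))))))) (.node (.node (.node (.node (.node (.leaf (nat_lit 0x145314135413)) (.leaf (nat_lit 0x1313335444242413131333544424241313133354442424513))) (.node (.leaf (nat_lit 0x42235225)) (.leaf (nat_lit 0x2454541135353515)))) (.node (.node (.leaf (nat_lit 0x154523154153)) (.leaf (nat_lit 0x5445411353353114))) (.node (.leaf (nat_lit 0x525423542314538)) (.leaf (nat_lit 0x0))))) (.node (.node (.node (.leaf (nat_lit 0x153514513524)) (.leaf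 (nat_lit 0x2532545132548))) (.node (.leaf (nat_lit 0x54525135118)) (.leaf (nat_lit 0x5154454422335332)))) (.node (.node (.leaf (nat_lit 0x54235141354253)) (.leaf (nat_lit 0x45315254535115))) (.node (.leaf (nat_lit 0x423545135423158)) (.leaf (nat_lit 0x0)))))) (.node (.node (.node (.node (.leaf (nat_lit 0x35352254542515)) (.leaf (nat_lit 0x51413241532423))) (.node (.leaf (nat_lit 0x11354541135354)) (.leaf (nat_lit 0x545422353542238)))) (.node (.node (.leaf (nat_lit 0x5325154511)) (.leaf (nat_lit 0x5152445225338))) (.node (.leaf (nat_lit 0x23533152544542)) (.leaf (nat_lit 0x0))))) (.node (.node (.node (.leaf (nat_lit 0x42351545314135)) (.leaf (nat_lit 0x54522531528))) (.node (.leaf (nat_lit 0x452352425351)) (.leaf (nat_lit 0x0)))) (.node (.node (.leaf (nat_lit 0x14515314132423)) (.leaf (nat_lit 0x5453245354242233))) (.node (.leaf (nat_lit 0x4535315254545311)) (.leaf (nat_lit 0x0)))))))) (.node (.node (.node (.node (.node (.node (.leaf (nat_lit 0x3241314131418)) (.leaf (nat_lit 0x35141314253242))) (.node (.leaf (nat_lit 0x44541135333114))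 (.leaf (nat_lit 0x3351154445311453)))) (.node (.node (.leaf (nat_lit 0x23514232415314)) (.leaf (nat_lit 0x2354533114245354))) (.node (.leaf (nat_lit 0x35154131413242)) (.leaf (nat_lit 0x0))))) (.node (.node (.node (.leaf (nat_lit 0x11331144)) (.leaf (nat_lit 0x532423541352548))) (.node (.leaf (nat_lit 0x331144228)) (.leaf (nat_lit 0x11353331144454)))) (.node (.node (.leaf (nat_lit 0x4523154513518)) (.leaf (nat_lit 0x2354541135354515))) (.node (.leaf (nat_lit 0x25324532413545)) (.leaf (nat_lit 0x0)))))) (.node (.node (.node (.node (.leaf (nat_lit 0x114535115453)) (.leaf (nat_lit 0x41135445115335))) (.node (.leaf (nat_lit 0x5254453311445331)) (.leaf (nat_lit 0x535411354152)))) (.node (.node (.leaf (nat_lit 0x2253152545)) (.leaf (nat_lit 0x45353114545315258))) (.node (.leaf (nat_lit 0x2313133354442424253131333544424242313133354442424)) (.leaf (nat_lit 0x0))))) (.node (.node (.node (.leaf (nat_lit 0x13241531413514)) (.leaf (nat_lit 0x2354232453248))) (.node (.leaf (nat_lit 0x324235452531458)) (.leaf (nat_lit 0x0)))) (.node (.node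 (.leaf (nat_lit 0x245314135423)) (.leaf (nat_lit 0x324132413241))) (.node (.leaf (nat_lit 0x242532413514138)) (.leaf (nat_lit 0x0))))))) (.node (.node (.node (.node (.node (.leaf (nat_lit 0x5441133511)) (.leaf (nat_lit 0x15413542314535))) (.node (.leaf (nat_lit 0x531331354244248)) (.leaf (nat_lit 0x2445335152445332)))) (.node (.node (.leaf (nat_lit 0x452351415351)) (.leaf (nat_lit 0x535254535423548))) (.node (.leaf (nat_lit 0x51542232)) (.leaf (nat_lit 0x0))))) (.node (.node (.node (.leaf (nat_lit 0x324135423145)) (.leaf (nat_lit 0x1311445354135453))) (.node (.leaf (nat_lit 0x324135241314258)) (.leaf (nat_lit 0x0)))) (.node (.node (.leaf (nat_lit 0x354232453141)) (.leaf (nat_lit 0x35251454411335))) (.node (.leaf (nat_lit 0x3114532245)) (.leaf (nat_lit 0x0)))))) (.node (.node (.node (.node (.leaf (nat_lit 0x2531545235148)) (.leaf (nat_lit 0x411353515245))) (.node (.leaf (nat_lit 0x25422315)) (.leaf (nat_lit 0x242532541535)))) (.node (.node (.leaf (nat_lit 0x14535225453525)) (.leaf (nat_lit 0x235245132545))) (.node (.leaf (nat_lit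 0x53141324232452)) (.leaf (nat_lit 0x0))))) (.node (.node (.node (.leaf (nat_lit 0x135411354525)) (.leaf (nat_lit 0x31144251538))) (.node (.leaf (nat_lit 0x15354132453145)) (.leaf (nat_lit 0x0)))) (.node (.node (.leaf (nat_lit 0x45315453245132)) (.leaf (nat_lit 0x5354411313545314))) (.node (.leaf (nat_lit 0x245131423154238)) (.leaf (nat_lit 0x0)))))))))))

end Cfsg.Agent.TcData.HN.I1539000
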