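import Cfsg.Agent.Lib.TcFacts

set_option autoImplicit false
set_option Elab.async false
set_option maxRecDepth 100000
set_option linter.all false

namespace Cfsg.Agent.TcData.HN.I1539000

open Cfsg.Agent.Lib.TcFacts

/-- A part of a table. -/
noncomputable def PW1 : Tr := (.node (.node (.node (.node (.node (.node (.node (.node (.node (.leaf (nat_lit 0x34)) (.leaf (nat_lit 0x4532245325158))) (.node (.leaf (nat_lit 0x2353532245454515)) (.leaf (nat_lit 0x35413245314515)))) (.node (.node (.leaf (nat_lit 0x24424531331354)) (.leaf (nat_lit 0x45324135451531))) (.node (.leaf (nat_lit 0x531413514132418)) (.leaf (nat_lit 0x0))))) (.node (.node (.node (.leaf (nat_lit 0x542315423545138)) (.leaf (nat_lit 0x533224454113))) (.node (.leaf (nat_lit 0x5442233541138)) (.leaf (nat_lit 0x253154523254)))) (.node (.node (.leaf (nat_lit 0x2235411354)) (.leaf (nat_lit 0x5444223335441133))) (.node (.leaf (nat_lit 0x453142354515318)) (.leaf (nat_lit 0x0)))))) (.node (.node (.node (.node (.leaf (nat_lit 0x244414424441442444144)) (.leaf (nat_lit 0x3353511545444113)))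 (.node (.leaf (nat_lit 0x3224531145)) (.leaf (nat_lit 0x3322444533114453)))) (.node (.node (.leaf (nat_lit 0x54223522)) (.leaf (nat_lit 0x5115454113538))) (.node (.leaf (nat_lit 0x532453524532428)) (.leaf (nat_lit 0x0))))) (.node (.node (.node (.leaf (nat_lit 0x1133311444)) (.leaf (nat_lit 0x5314535423548))) (.node (.leaf (nat_lit 0x135241324253148)) (.leaf (nat_lit 0x0)))) (.node (.node (.leaf (nat_lit 0x53241314231451)) (.leaf (nat_lit 0x22353541135454))) (.node (.leaf (nat_lit 0x35422354441133)) (.leaf (nat_lit 0x0))))))) (.node (.node (.node (.node (.node (.leaf (nat_lit 0x54535152453511)) (.leaf (nat_lit 0x35142354253541))) (.node (.leaf (nat_lit 0x24235154131413)) (.leaf (nat_lit 0x4235453231144535)))) (.node (.node (.leaf (nat_lit 0x235242535145)) (.leaf (nat_lit 0x135413525453148))) (.node (.leaf (nat_lit 0x1535251451)) (.leaf (nat_lit 0x0))))) (.node (.node (.node (.leaf (nat_lit 0x52354422335451)) (.leaf (nat_lit 0x13515241))) (.node (.leaf (nat_lit 0x54531452314532)) (.leaf (nat_lit 0x153154253514)))) (.node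 (.node (.leaf (nat_lit 0x535413545311148)) (.leaf (nat_lit 0x2515331144))) (.node (.leaf (nat_lit 0x32413515423141)) (.leaf (nat_lit 0x0)))))) (.node (.node (.node (.node (.leaf (nat_lit 0x145313313541448)) (.leaf (nat_lit 0x251322458))) (.node (.leaf (nat_lit 0x1454531145353525)) (.leaf (nat_lit 0x45253245324135)))) (.node (.node (.leaf (nat_lit 0x14513242325413)) (.leaf (nat_lit 0x4451523335311454))) (.node (.leaf (nat_lit 0x532545324513148)) (.leaf (nat_lit 0x0))))) (.node (.node (.node (.leaf (nat_lit 0x245322453515)) (.leaf (nat_lit 0x514223528))) (.node (.leaf (nat_lit 0x411354411335)) (.leaf (nat_lit 0x0)))) (.node (.node (.leaf (nat_lit 0x33542515354411)) (.leaf (nat_lit 0x2515453224538))) (.node (.leaf (nat_lit 0x22415253)) (.leaf (nat_lit 0x0)))))))) (.node (.node (.node (.node (.node (.node (.leaf (nat_lit 0x111525)) (.leaf (nat_lit 0x4253154523258))) (.node (.leaf (nat_lit 0x423542535413518)) (.leaf (nat_lit 0x52533351154441)))) (.node (.node (.leaf (nat_lit 0x511541138)) (.leaf (nat_lit 0x2235311454))) (.node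 (.leaf (nat_lit 0x314515354231458)) (.leaf (nat_lit 0x0))))) (.node (.node (.node (.leaf (nat_lit 0x422331148)) (.leaf (nat_lit 0x531145331144))) (.node (.leaf (nat_lit 0x53224542238)) (.leaf (nat_lit 0x35441133544113)))) (.node (.node (.leaf (nat_lit 0x153254153514)) (.leaf (nat_lit 0x4113235453245354))) (.node (.leaf (nat_lit 0x5311454113)) (.leaf (nat_lit 0x0)))))) (.node (.node (.node (.node (.leaf (nat_lit 0x24453515245332)) (.leaf (nat_lit 0x453511545322))) (.node (.leaf (nat_lit 0x35423514135425)) (.leaf (nat_lit 0x5311454223)))) (.node (.node (.leaf (nat_lit 0x233235414414538)) (.leaf (nat_lit 0x413142532423518))) (.node (.leaf (nat_lit 0x4152535411358)) (.leaf (nat_lit 0x0))))) (.node (.node (.node (.leaf (nat_lit 0x13514132415314)) (.leaf (nat_lit 0x153145324135458))) (.node (.leaf (nat_lit 0x54113531148)) (.leaf (nat_lit 0x0)))) (.node (.node (.leaf (nat_lit 0x324153141351418)) (.leaf (nat_lit 0x5233544113354451))) (.node (.leaf (nat_lit 0x3531145411)) (.leaf (nat_lit 0x0))))))) (.node (.node (.node (.node (.node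 (.leaf (nat_lit 0x3114531145)) (.leaf (nat_lit 0x51153311448))) (.node (.leaf (nat_lit 0x241324253242358)) (.leaf (nat_lit 0x13353224544525)))) (.node (.node (.leaf (nat_lit 0x45131423154131)) (.leaf (nat_lit 0x5441133533311444))) (.node (.leaf (nat_lit 0x4422333114)) (.leaf (nat_lit 0x0))))) (.node (.node (.node (.leaf (nat_lit 0x413141314231)) (.leaf (nat_lit 0x5245353114545351))) (.node (.leaf (nat_lit 0x354232541354518)) (.leaf (nat_lit 0x0)))) (.node (.node (.leaf (nat_lit 0x1354131453148)) (.leaf (nat_lit 0x23145253141314))) (.node (.leaf (nat_lit 0x3354223544531145)) (.leaf (nat_lit 0x0)))))) (.node (.node (.node (.node (.leaf (nat_lit 0x423541535423518)) (.leaf (nat_lit 0x154135423145358))) (.node (.leaf (nat_lit 0x423514131425328)) (.leaf (nat_lit 0x44223354411335)))) (.node (.node (.leaf (nat_lit 0x254132452314138)) (.leaf (nat_lit 0x35315254545115))) (.node (.leaf (nat_lit 0x4535441131354531)) (.leaf (nat_lit 0x0))))) (.node (.node (.node (.leaf (nat_lit 0x35141324153141)) (.leaf (nat_lit 0x453224535251))) (.node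 (.leaf (nat_lit 0x514232415324138)) (.leaf (nat_lit 0x0)))) (.node (.node (.leaf (nat_lit 0x324135142324158)) (.leaf (nat_lit 0x445251335115))) (.node (.leaf (nat_lit 0x24535423545331148)) (.leaf (nat_lit 0x0))))))))) (.node (.node (.node (.node (.node (.node (.node (.leaf (nat_lit 0x71727)) (.leaf (nat_lit 0x452352451325))) (.node (.leaf (nat_lit 0x53245153541314)) (.leaf (nat_lit 0x31144544113353)))) (.node (.node (.leaf (nat_lit 0x425153531145)) (.leaf (nat_lit 0x5452351425318))) (.node (.leaf (nat_lit 0x5325425352418)) (.leaf (nat_lit 0x0))))) (.node (.node (.node (.leaf (nat_lit 0x3542324531418)) (.leaf (nat_lit 0x5454441133353522))) (.node (.leaf (nat_lit 0x1333114441)) (.leaf (nat_lit 0x5311145354525354)))) (.node (.node (.leaf (nat_lit 0x542442453233238)) (.leaf (nat_lit 0x422325158))) (.node (.leaf (nat_lit 0x453515245322)) (.leaf (nat_lit 0x0)))))) (.node (.node (.node (.node (.leaf (nat_lit 0x24423522413313135424)) (.leaf (nat_lit 0x145324253145358))) (.node (.leaf (nat_lit 0x3224535251458)) (.leaf (nat_lit 0x315415325451))))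 (.node (.node (.leaf (nat_lit 0x53241354135154)) (.leaf (nat_lit 0x452513331144))) (.node (.leaf (nat_lit 0x53141352413242)) (.leaf (nat_lit 0x0))))) (.node (.node (.node (.leaf (nat_lit 0x5335411354454113)) (.leaf (nat_lit 0x2533114452))) (.node (.leaf (nat_lit 0x325423245131418)) (.leaf (nat_lit 0x0)))) (.node (.node (.leaf (nat_lit 0x154153514513)) (.leaf (nat_lit 0x53114544422333))) (.node (.leaf (nat_lit 0x513254253514)) (.leaf (nat_lit 0x0))))))) (.node (.node (.node (.node (.node (.leaf (nat_lit 0x325451351451)) (.leaf (nat_lit 0x514232425314138))) (.node (.leaf (nat_lit 0x2354132453148)) (.leaf (nat_lit 0x4451153322)))) (.node (.node (.leaf (nat_lit 0x231423254232458)) (.leaf (nat_lit 0x453224532515))) (.node (.leaf (nat_lit 0x32541354523541)) (.leaf (nat_lit 0x0))))) (.node (.node (.node (.leaf (nat_lit 0x1131148)) (.leaf (nat_lit 0x253141314231458))) (.node (.leaf (nat_lit 0x31154133131354242442)) (.leaf (nat_lit 0x54535254535423)))) (.node (.node (.leaf (nat_lit 0x25354152535452)) (.leaf (nat_lit 0x422354522535)))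 (.node (.leaf (nat_lit 0x5241532542538)) (.leaf (nat_lit 0x0)))))) (.node (.node (.node (.node (.leaf (nat_lit 0x332354244145318)) (.leaf (nat_lit 0x2531545131548))) (.node (.leaf (nat_lit 0x525141138)) (.leaf (nat_lit 0x2314232423248)))) (.node (.node (.leaf (nat_lit 0x2354113542)) (.leaf (nat_lit 0x4445152333228))) (.node (.leaf (nat_lit 0x24244231154133131354)) (.leaf (nat_lit 0x0))))) (.node (.node (.node (.leaf (nat_lit 0x154513514523)) (.leaf (nat_lit 0x5411354525138))) (.node (.leaf (nat_lit 0x45314535451535)) (.leaf (nat_lit 0x0)))) (.node (.node (.leaf (nat_lit 0x41133224)) (.leaf (nat_lit 0x3331144411))) (.node (.leaf (nat_lit 0x35452513545115)) (.leaf (nat_lit 0x0)))))))) (.node (.node (.node (.node (.node (.node (.leaf (nat_lit 0x13542424423522413313)) (.leaf (nat_lit 0x44152533118))) (.node (.leaf (nat_lit 0x4451523311)) (.leaf (nat_lit 0x531541535241)))) (.node (.node (.leaf (nat_lit 0x5225452513)) (.leaf (nat_lit 0x11354441133354))) (.node (.leaf (nat_lit 0x54131413242351)) (.leaf (nat_lit 0x0))))) (.node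 (.node (.node (.leaf (nat_lit 0x515423141324138)) (.leaf (nat_lit 0x53142532453514))) (.node (.leaf (nat_lit 0x5453542223545351)) (.leaf (nat_lit 0x145314253245358)))) (.node (.node (.leaf (nat_lit 0x3545253545311145)) (.leaf (nat_lit 0x513141325423248))) (.node (.leaf (nat_lit 0x254415253352)) (.leaf (nat_lit 0x0)))))) (.node (.node (.node (.node (.leaf (nat_lit 0x2453241354138)) (.leaf (nat_lit 0x13142315423245))) (.node (.leaf (nat_lit 0x3514523514158)) (.leaf (nat_lit 0x5225454542235353)))) (.node (.node (.leaf (nat_lit 0x225354525135458)) (.leaf (nat_lit 0x4223545225358))) (.node (.leaf (nat_lit 0x453154531451318)) (.leaf (nat_lit 0x0))))) (.node (.node (.node (.leaf (nat_lit 0x5453145354422313)) (.leaf (nat_lit 0x1133351154448))) (.node (.leaf (nat_lit 0x542235441133)) (.leaf (nat_lit 0x0)))) (.node (.node (.leaf (nat_lit 0x2423242324138)) (.leaf (nat_lit 0x1423541324538))) (.node (.leaf (nat_lit 0x325453545135458)) (.leaf (nat_lit 0x0))))))) (.node (.node (.node (.node (.node (.leaf (nat_lit 0x44113322)) (.leaf (nat_lit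 0x132541314513148))) (.node (.leaf (nat_lit 0x532245118)) (.leaf (nat_lit 0x232453515423548)))) (.node (.node (.leaf (nat_lit 0x41354253541352)) (.leaf (nat_lit 0x52542314132423))) (.node (.leaf (nat_lit 0x352541354131458)) (.leaf (nat_lit 0x0))))) (.node (.node (.node (.leaf (nat_lit 0x453541535453528)) (.leaf (nat_lit 0x24152532))) (.node (.leaf (nat_lit 0x35423245314525)) (.leaf (nat_lit 0x0)))) (.node (.node (.leaf (nat_lit 0x25135441133545)) (.leaf (nat_lit 0x54522532518))) (.node (.leaf (nat_lit 0x4422313545314535)) (.leaf (nat_lit 0x0)))))) (.node (.node (.node (.node (.leaf (nat_lit 0x5425153511)) (.leaf (nat_lit 0x52254223))) (.node (.leaf (nat_lit 0x5235242535148)) (.leaf (nat_lit 0x11445354135453138)))) (.node (.node (.leaf (nat_lit 0x424531331354248)) (.leaf (nat_lit 0x5352254535311454))) (.node (.leaf (nat_lit 0x25413145231423)) (.leaf (nat_lit 0x0))))) (.node (.node (.node (.leaf (nat_lit 0x35245354153545)) (.leaf (nat_lit 0x13542441453233))) (.node (.leaf (nat_lit 0x235411354515)) (.leaf (nat_lit 0x0))))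 (.node (.node (.leaf (nat_lit 0x35422354118)) (.leaf (nat_lit 0x51524422338))) (.node (.leaf (nat_lit 0x354253541352418)) (.leaf (nat_lit 0x0)))))))))) (.node (.node (.node (.node (.node (.node (.node (.node (.leaf (nat_lit 0x5151)) (.leaf (nat_lit 0x423525453241358))) (.node (.leaf (nat_lit 0x5254422331)) (.leaf (nat_lit 0x1535145131548)))) (.node (.node (.leaf (nat_lit 0x52542231)) (.leaf (nat_lit 0x5452253251))) (.node (.leaf (nat_lit 0x24513142315423)) (.leaf (nat_lit 0x0))))) (.node (.node (.node (.leaf (nat_lit 0x354532453541)) (.leaf (nat_lit 0x451315425352))) (.node (.leaf (nat_lit 0x41352541314132)) (.leaf (nat_lit 0x354451153354118)))) (.node (.node (.leaf (nat_lit 0x2445331525445332)) (.leaf (nat_lit 0x4135453245358))) (.node (.leaf (nat_lit 0x315415351425)) (.leaf (nat_lit 0x0)))))) (.node (.node (.node (.node (.leaf (nat_lit 0x14513142315413)) (.leaf (nat_lit 0x13145231423254))) (.node (.leaf (nat_lit 0x4223545152358)) (.leaf (nat_lit 0x253524513524)))) (.node (.node (.leaf (nat_lit 0x535241531541)) (.leaf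 (nat_lit 0x411354152535))) (.node (.leaf (nat_lit 0x523514153254)) (.leaf (nat_lit 0x0))))) (.node (.node (.node (.leaf (nat_lit 0x351453542535458)) (.leaf (nat_lit 0x3311444525138))) (.node (.leaf (nat_lit 0x4153524253258)) (.leaf (nat_lit 0x0)))) (.node (.node (.leaf (nat_lit 0x52413242531413)) (.leaf (nat_lit 0x4113533114458))) (.node (.leaf (nat_lit 0x523514523254)) (.leaf (nat_lit 0x0))))))) (.node (.node (.node (.node (.node (.leaf (nat_lit 0x54531453541113)) (.leaf (nat_lit 0x53145253541314))) (.node (.leaf (nat_lit 0x542325413545138)) (.leaf (nat_lit 0x422354541135358)))) (.node (.node (.leaf (nat_lit 0x4253514153158)) (.leaf (nat_lit 0x24231541324513))) (.node (.leaf (nat_lit 0x535415354535248)) (.leaf (nat_lit 0x0))))) (.node (.node (.node (.leaf (nat_lit 0x45253241314232)) (.leaf (nat_lit 0x4531453544113135))) (.node (.leaf (nat_lit 0x2545115315)) (.leaf (nat_lit 0x41133535115454)))) (.node (.node (.leaf (nat_lit 0x354515235452258)) (.leaf (nat_lit 0x31144511538))) (.node (.leaf (nat_lit 0x33114451158)) (.leaf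 (nat_lit 0x0)))))) (.node (.node (.node (.node (.leaf (nat_lit 0x24545115353515)) (.leaf (nat_lit 0x5242535245138))) (.node (.leaf (nat_lit 0x42314525314131)) (.leaf (nat_lit 0x411354422335)))) (.node (.node (.leaf (nat_lit 0x3542324532428)) (.leaf (nat_lit 0x531145415253))) (.node (.leaf (nat_lit 0x23353114544515)) (.leaf (nat_lit 0x0))))) (.node (.node (.node (.leaf (nat_lit 0x45132423154231)) (.leaf (nat_lit 0x2254251535))) (.node (.leaf (nat_lit 0x354251535422)) (.leaf (nat_lit 0x0)))) (.node (.node (.leaf (nat_lit 0x53541525354511)) (.leaf (nat_lit 0x25145351154535))) (.node (.leaf (nat_lit 0x535441133545118)) (.leaf (nat_lit 0x0)))))))) (.node (.node (.node (.node (.node (.node (.leaf (nat_lit 0x15444251533351)) (.leaf (nat_lit 0x354253542351418))) (.node (.leaf (nat_lit 0x532415324535148)) (.leaf (nat_lit 0x4241313133354442424131313335444242451313133354442)))) (.node (.node (.leaf (nat_lit 0x42314523141325)) (.leaf (nat_lit 0x14513245325453))) (.node (.leaf (nat_lit 0x535145132542)) (.leaf (nat_lit 0x0))))) (.node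 (.node (.node (.leaf (nat_lit 0x135141535245)) (.leaf (nat_lit 0x5331144541138))) (.node (.leaf (nat_lit 0x45313323541442)) (.leaf (nat_lit 0x5311453544113354)))) (.node (.node (.leaf (nat_lit 0x324523142325428)) (.leaf (nat_lit 0x4523254523518))) (.node (.leaf (nat_lit 0x54515235118)) (.leaf (nat_lit 0x0)))))) (.node (.node (.node (.node (.leaf (nat_lit 0x542314513242318)) (.leaf (nat_lit 0x15453311445351))) (.node (.leaf (nat_lit 0x35145324253145)) (.leaf (nat_lit 0x545235242532)))) (.node (.node (.leaf (nat_lit 0x451354232541358)) (.leaf (nat_lit 0x4535152453118))) (.node (.leaf (nat_lit 0x525131148)) (.leaf (nat_lit 0x0))))) (.node (.node (.node (.leaf (nat_lit 0x5441133522)) (.leaf (nat_lit 0x33542235444525138))) (.node (.leaf (nat_lit 0x3141324131418)) (.leaf (nat_lit 0x0)))) (.node (.node (.leaf (nat_lit 0x1453141354138)) (.leaf (nat_lit 0x45253541324532))) (.node (.leaf (nat_lit 0x451325452352)) (.leaf (nat_lit 0x0))))))) (.node (.node (.node (.node (.node (.leaf (nat_lit 0x535145131541)) (.leaf (nat_lit 0x25135225458)))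 (.node (.leaf (nat_lit 0x45411353331144)) (.leaf (nat_lit 0x3522541525)))) (.node (.node (.leaf (nat_lit 0x424423115413313135428)) (.leaf (nat_lit 0x25153511548))) (.node (.leaf (nat_lit 0x524535415354538)) (.leaf (nat_lit 0x0))))) (.node (.node (.node (.leaf (nat_lit 0x41113545314535)) (.leaf (nat_lit 0x322453152545))) (.node (.leaf (nat_lit 0x232425314135148)) (.leaf (nat_lit 0x0)))) (.node (.node (.leaf (nat_lit 0x535145324253148)) (.leaf (nat_lit 0x35423545323114458))) (.node (.leaf (nat_lit 0x531145444113338)) (.leaf (nat_lit 0x0)))))) (.node (.node (.node (.node (.leaf (nat_lit 0x524132425314138)) (.leaf (nat_lit 0x3235453245354422))) (.node (.leaf (nat_lit 0x522545411353)) (.leaf (nat_lit 0x1544533224453325)))) (.node (.node (.leaf (nat_lit 0x4113531145)) (.leaf (nat_lit 0x254541135352))) (.node (.leaf (nat_lit 0x4523514153518)) (.leaf (nat_lit 0x0))))) (.node (.node (.node (.leaf (nat_lit 0x25145441133535)) (.leaf (nat_lit 0x15423245131423))) (.node (.leaf (nat_lit 0x35145324153245)) (.leaf (nat_lit 0x0)))) (.node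 (.node (.leaf (nat_lit 0x53114251)) (.leaf (nat_lit 0x45353114545311))) (.node (.leaf (nat_lit 0x45354113545331148)) (.leaf (nat_lit 0x0))))))))) (.node (.node (.node (.node (.node (.node (.node (.leaf (nat_lit 0x311422)) (.leaf (nat_lit 0x35154135423145))) (.node (.leaf (nat_lit 0x5153322442)) (.leaf (nat_lit 0x145131413254138)))) (.node (.node (.leaf (nat_lit 0x524523524153)) (.leaf (nat_lit 0x351154442233))) (.node (.leaf (nat_lit 0x244415253332)) (.leaf (nat_lit 0x0))))) (.node (.node (.node (.leaf (nat_lit 0x31453514532425)) (.leaf (nat_lit 0x54131453245153))) (.node (.leaf (nat_lit 0x245351541354138)) (.leaf (nat_lit 0x41352413142532)))) (.node (.node (.leaf (nat_lit 0x352514118)) (.leaf (nat_lit 0x23145314515354))) (.node (.leaf (nat_lit 0x1352415351458)) (.leaf (nat_lit 0x0)))))) (.node (.node (.node (.node (.leaf (nat_lit 0x531423514232418)) (.leaf (nat_lit 0x135254531413548))) (.node (.leaf (nat_lit 0x45323224453542358)) (.leaf (nat_lit 0x45324135423525)))) (.node (.node (.leaf (nat_lit 0x35413145352541)) (.leaf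 (nat_lit 0x3533511544544113))) (.node (.leaf (nat_lit 0x531545354523548)) (.leaf (nat_lit 0x0))))) (.node (.node (.node (.leaf (nat_lit 0x1313331313331313331313338)) (.leaf (nat_lit 0x453242354232))) (.node (.leaf (nat_lit 0x2542535142538)) (.leaf (nat_lit 0x0)))) (.node (.node (.leaf (nat_lit 0x24135141324253)) (.leaf (nat_lit 0x41135354113545))) (.node (.leaf (nat_lit 0x422351528)) (.leaf (nat_lit 0x0))))))) (.node (.node (.node (.node (.node (.leaf (nat_lit 0x513514153154)) (.leaf (nat_lit 0x324535413545))) (.node (.leaf (nat_lit 0x25354135241354)) (.leaf (nat_lit 0x54223545332244538)))) (.node (.node (.leaf (nat_lit 0x131545135245)) (.leaf (nat_lit 0x3354511535444113))) (.node (.leaf (nat_lit 0x451354532545358)) (.leaf (nat_lit 0x0))))) (.node (.node (.node (.leaf (nat_lit 0x411135453145358)) (.leaf (nat_lit 0x4223531145))) (.node (.leaf (nat_lit 0x135245131545)) (.leaf (nat_lit 0x42425313133354442424231313335444242423131333544428)))) (.node (.node (.leaf (nat_lit 0x13353311445441)) (.leaf (nat_lit 0x331354244145328)))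 (.node (.leaf (nat_lit 0x3511544223)) (.leaf (nat_lit 0x0)))))) (.node (.node (.node (.node (.leaf (nat_lit 0x141354131453)) (.leaf (nat_lit 0x2453535152454532))) (.node (.leaf (nat_lit 0x354242442311541331318)) (.leaf (nat_lit 0x2424231313335444242425313133354442424231313335444)))) (.node (.node (.leaf (nat_lit 0x5325154522)) (.leaf (nat_lit 0x5413245314238))) (.node (.leaf (nat_lit 0x1353531145454525)) (.leaf (nat_lit 0x0))))) (.node (.node (.node (.leaf (nat_lit 0x314232542324528)) (.leaf (nat_lit 0x133511544525))) (.node (.leaf (nat_lit 0x452352425325)) (.leaf (nat_lit 0x0)))) (.node (.node (.leaf (nat_lit 0x24515314131423)) (.leaf (nat_lit 0x22544541135335))) (.node (.leaf (nat_lit 0x31145335251445)) (.leaf (nat_lit 0x0)))))))) (.node (.node (.node (.node (.node (.node (.leaf (nat_lit 0x2525)) (.leaf (nat_lit 0x35241314253241))) (.node (.leaf (nat_lit 0x311541331313542424428)) (.leaf (nat_lit 0x5351452325418)))) (.node (.node (.leaf (nat_lit 0x14532425314535)) (.leaf (nat_lit 0x11354531453541))) (.node (.leaf (nat_lit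 0x25354235141354)) (.leaf (nat_lit 0x0))))) (.node (.node (.node (.leaf (nat_lit 0x422311)) (.leaf (nat_lit 0x441525333114))) (.node (.leaf (nat_lit 0x2424442424442424442424448)) (.leaf (nat_lit 0x11453331144453)))) (.node (.node (.leaf (nat_lit 0x415351451315)) (.leaf (nat_lit 0x4253154253528))) (.node (.leaf (nat_lit 0x325154228)) (.leaf (nat_lit 0x0)))))) (.node (.node (.node (.node (.leaf (nat_lit 0x53142531453524)) (.leaf (nat_lit 0x3515244113))) (.node (.leaf (nat_lit 0x54531451314531)) (.leaf (nat_lit 0x223354113544)))) (.node (.node (.leaf (nat_lit 0x53154535452354)) (.leaf (nat_lit 0x45352254535251))) (.node (.leaf (nat_lit 0x354223541525)) (.leaf (nat_lit 0x0))))) (.node (.node (.node (.leaf (nat_lit 0x23141324135154)) (.leaf (nat_lit 0x453245253542318))) (.node (.leaf (nat_lit 0x1535422354258)) (.leaf (nat_lit 0x0)))) (.node (.node (.leaf (nat_lit 0x2445152332)) (.leaf (nat_lit 0x544113354113))) (.node (.leaf (nat_lit 0x314231542324518)) (.leaf (nat_lit 0x0))))))) (.node (.node (.node (.node (.node (.leaf (nat_lit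 0x54113511)) (.leaf (nat_lit 0x35422354541135))) (.node (.leaf (nat_lit 0x313323542441458)) (.leaf (nat_lit 0x52513354113544)))) (.node (.node (.leaf (nat_lit 0x54231453145153)) (.leaf (nat_lit 0x5352254531148))) (.node (.leaf (nat_lit 0x45314513245325)) (.leaf (nat_lit 0x0))))) (.node (.node (.node (.leaf (nat_lit 0x535411354522)) (.leaf (nat_lit 0x1133354511535444))) (.node (.leaf (nat_lit 0x31413254131451)) (.leaf (nat_lit 0x0)))) (.node (.node (.leaf (nat_lit 0x235224133131354242448)) (.leaf (nat_lit 0x42354132453525))) (.node (.leaf (nat_lit 0x154541135351)) (.leaf (nat_lit 0x0)))))) (.node (.node (.node (.node (.leaf (nat_lit 0x5232545235148)) (.leaf (nat_lit 0x4532423541318))) (.node (.leaf (nat_lit 0x2515351154)) (.leaf (nat_lit 0x542535241532)))) (.node (.node (.leaf (nat_lit 0x135451153541)) (.leaf (nat_lit 0x253254513514))) (.node (.leaf (nat_lit 0x53241324232451)) (.leaf (nat_lit 0x0))))) (.node (.node (.node (.leaf (nat_lit 0x235422354515)) (.leaf (nat_lit 0x32244251538))) (.node (.leaf (nat_lit 0x3331332333133233313328))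 (.leaf (nat_lit 0x0)))) (.node (.node (.leaf (nat_lit 0x242354135254538)) (.leaf (nat_lit 0x5411354223))) (.node (.leaf (nat_lit 0x245132423154138)) (.leaf (nat_lit 0x0)))))))))))

end Cfsg.Agent.TcData.HN.I1539000
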