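import Cfsg.Agent.Lib.TcFacts

set_option autoImplicit false
set_option Elab.async false
set_option maxRecDepth 100000
set_option linter.all false

namespace Cfsg.Agent.TcData.HN.I1539000

open Cfsg.Agent.Lib.TcFacts

/-- A part of a table. -/
noncomputable def PW10 : Tr := (.node (.node (.node (.node (.node (.node (.node (.node (.node (.leaf (nat_lit 0x224113)) (.leaf (nat_lit 0x2513354422335445))) (.node (.leaf (nat_lit 0x23145351541354)) (.leaf (nat_lit 0x33541135445251)))) (.node (.node (.leaf (nat_lit 0x5353322445454113)) (.leaf (nat_lit 0x32425324535245))) (.node (.leaf (nat_lit 0x451535413145328)) (.leaf (nat_lit 0x0))))) (.node (.node (.node (.leaf (nat_lit 0x5251331144)) (.leaf (nat_lit 0x5423545323114453))) (.node (.leaf (nat_lit 0x451532413142318)) (.leaf (nat_lit 0x24132423145253)))) (.node (.node (.leaf (nat_lit 0x41535413514135)) (.leaf (nat_lit 0x354511535411))) (.node (.leaf (nat_lit 0x352453142531458)) (.leaf (nat_lit 0x0)))))) (.node (.node (.node (.node (.leaf (nat_lit 0x444144244414424441442)) (.leaf (nat_lit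 0x544223354113))) (.node (.leaf (nat_lit 0x45311453544223358)) (.leaf (nat_lit 0x451325425351)))) (.node (.node (.leaf (nat_lit 0x331144118)) (.leaf (nat_lit 0x224251538))) (.node (.leaf (nat_lit 0x513514253514)) (.leaf (nat_lit 0x0))))) (.node (.node (.node (.leaf (nat_lit 0x54223152)) (.leaf (nat_lit 0x33541135444113))) (.node (.leaf (nat_lit 0x542354531453)) (.leaf (nat_lit 0x0)))) (.node (.node (.leaf (nat_lit 0x5231545135148)) (.leaf (nat_lit 0x3354411335445225))) (.node (.leaf (nat_lit 0x5453531145453522)) (.leaf (nat_lit 0x0))))))) (.node (.node (.node (.node (.node (.leaf (nat_lit 0x51541132)) (.leaf (nat_lit 0x413145131423158))) (.node (.leaf (nat_lit 0x411352518)) (.leaf (nat_lit 0x11335453145354148)))) (.node (.node (.leaf (nat_lit 0x42531453514532)) (.leaf (nat_lit 0x41324535154135))) (.node (.leaf (nat_lit 0x3335444242413131333544424245131313335444242413131)) (.leaf (nat_lit 0x0))))) (.node (.node (.node (.leaf (nat_lit 0x35254231423241)) (.leaf (nat_lit 0x13545253145314))) (.node (.leaf (nat_lit 0x33135414424532))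 (.leaf (nat_lit 0x1523354411335445)))) (.node (.node (.leaf (nat_lit 0x31451314132541)) (.leaf (nat_lit 0x153541135425))) (.node (.leaf (nat_lit 0x145314235423)) (.leaf (nat_lit 0x0)))))) (.node (.node (.node (.node (.leaf (nat_lit 0x11351524)) (.leaf (nat_lit 0x351415315425))) (.node (.leaf (nat_lit 0x4132413141318)) (.leaf (nat_lit 0x25322452)))) (.node (.node (.leaf (nat_lit 0x45251354511535)) (.leaf (nat_lit 0x5232541535148))) (.node (.leaf (nat_lit 0x531145451153)) (.leaf (nat_lit 0x0))))) (.node (.node (.node (.leaf (nat_lit 0x24414531332354)) (.leaf (nat_lit 0x5311454535251453))) (.node (.leaf (nat_lit 0x311444541135338)) (.leaf (nat_lit 0x0)))) (.node (.node (.leaf (nat_lit 0x542351413542538)) (.leaf (nat_lit 0x5411354511538))) (.node (.leaf (nat_lit 0x222453542354538)) (.leaf (nat_lit 0x0)))))))) (.node (.node (.node (.node (.node (.node (.leaf (nat_lit 0x25444515233352)) (.leaf (nat_lit 0x11545325154535))) (.node (.leaf (nat_lit 0x541354513542328)) (.leaf (nat_lit 0x51153353114544)))) (.node (.node (.leaf (nat_lit 0x53254531451324))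 (.leaf (nat_lit 0x25133351154445))) (.node (.leaf (nat_lit 0x314232541314528)) (.leaf (nat_lit 0x0))))) (.node (.node (.node (.leaf (nat_lit 0x3525145225)) (.leaf (nat_lit 0x22335451523544))) (.node (.leaf (nat_lit 0x52513311448)) (.leaf (nat_lit 0x5453522545353114)))) (.node (.node (.leaf (nat_lit 0x42535423514135)) (.leaf (nat_lit 0x415324235141328))) (.node (.leaf (nat_lit 0x425324235141318)) (.leaf (nat_lit 0x0)))))) (.node (.node (.node (.node (.leaf (nat_lit 0x413254235451358)) (.leaf (nat_lit 0x232415324135148))) (.node (.leaf (nat_lit 0x22352514)) (.leaf (nat_lit 0x5451153544411333)))) (.node (.node (.leaf (nat_lit 0x524113518)) (.leaf (nat_lit 0x414532331354248))) (.node (.leaf (nat_lit 0x35152454411335)) (.leaf (nat_lit 0x0))))) (.node (.node (.node (.leaf (nat_lit 0x42314132413515)) (.leaf (nat_lit 0x453142531453528))) (.node (.leaf (nat_lit 0x1445332244533525)) (.leaf (nat_lit 0x0)))) (.node (.node (.leaf (nat_lit 0x424414531332358)) (.leaf (nat_lit 0x52513353114544))) (.node (.leaf (nat_lit 0x4535423545323114)) (.leaf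 (nat_lit 0x0))))))) (.node (.node (.node (.node (.node (.leaf (nat_lit 0x544411333522)) (.leaf (nat_lit 0x5332244511))) (.node (.leaf (nat_lit 0x2245325154538)) (.leaf (nat_lit 0x135415253541)))) (.node (.node (.leaf (nat_lit 0x2242238)) (.leaf (nat_lit 0x3514153154258))) (.node (.leaf (nat_lit 0x5144223352)) (.leaf (nat_lit 0x0))))) (.node (.node (.node (.leaf (nat_lit 0x45323114453542358)) (.leaf (nat_lit 0x223322448))) (.node (.leaf (nat_lit 0x4232423142328)) (.leaf (nat_lit 0x0)))) (.node (.node (.leaf (nat_lit 0x535245324253248)) (.leaf (nat_lit 0x2535411354158))) (.node (.leaf (nat_lit 0x311445411353)) (.leaf (nat_lit 0x0)))))) (.node (.node (.node (.node (.leaf (nat_lit 0x52314132542314)) (.leaf (nat_lit 0x4411335251))) (.node (.leaf (nat_lit 0x35311454531145)) (.leaf (nat_lit 0x24453322445332)))) (.node (.node (.leaf (nat_lit 0x24453525145332)) (.leaf (nat_lit 0x415315451351))) (.node (.leaf (nat_lit 0x145231453254538)) (.leaf (nat_lit 0x0))))) (.node (.node (.node (.leaf (nat_lit 0x1144533511544533)) (.leaf (nat_lit 0x15335411354451)))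 (.node (.leaf (nat_lit 0x514153254153)) (.leaf (nat_lit 0x0)))) (.node (.node (.leaf (nat_lit 0x53251545353224548)) (.leaf (nat_lit 0x22313545314535448))) (.node (.leaf (nat_lit 0x25353511545415)) (.leaf (nat_lit 0x0))))))))) (.node (.node (.node (.node (.node (.node (.node (.leaf (nat_lit 0x52333511544451)) (.leaf (nat_lit 0x31451324532545))) (.node (.leaf (nat_lit 0x453222453542358)) (.leaf (nat_lit 0x5322453544113354)))) (.node (.node (.leaf (nat_lit 0x1133354411335444)) (.leaf (nat_lit 0x45351545354222358))) (.node (.leaf (nat_lit 0x242325423245138)) (.leaf (nat_lit 0x0))))) (.node (.node (.node (.leaf (nat_lit 0x5323114453542354)) (.leaf (nat_lit 0x411335311454))) (.node (.leaf (nat_lit 0x4424242531313335444242423131333544424242313133354)) (.leaf (nat_lit 0x5242535145238)))) (.node (.node (.leaf (nat_lit 0x24253141351423)) (.leaf (nat_lit 0x53133235414424))) (.node (.leaf (nat_lit 0x54231453515413)) (.leaf (nat_lit 0x0)))))) (.node (.node (.node (.node (.leaf (nat_lit 0x514132415314138)) (.leaf (nat_lit 0x13541324535154)))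 (.node (.leaf (nat_lit 0x1144453322445333)) (.leaf (nat_lit 0x4545322453535251)))) (.node (.node (.leaf (nat_lit 0x522413313135424244238)) (.leaf (nat_lit 0x4253514523528))) (.node (.leaf (nat_lit 0x25354131453145)) (.leaf (nat_lit 0x0))))) (.node (.node (.node (.leaf (nat_lit 0x513142315423248)) (.leaf (nat_lit 0x453145132453258))) (.node (.leaf (nat_lit 0x44531145333114)) (.leaf (nat_lit 0x0)))) (.node (.node (.leaf (nat_lit 0x13514131425314)) (.leaf (nat_lit 0x35333114445442238))) (.node (.leaf (nat_lit 0x3545251354118)) (.leaf (nat_lit 0x0))))))) (.node (.node (.node (.node (.node (.leaf (nat_lit 0x32425314135142)) (.leaf (nat_lit 0x242531453514538))) (.node (.leaf (nat_lit 0x52253545411353548)) (.leaf (nat_lit 0x152354223545)))) (.node (.node (.leaf (nat_lit 0x541442453233138)) (.leaf (nat_lit 0x532245352514))) (.node (.leaf (nat_lit 0x4445322453335115)) (.leaf (nat_lit 0x0))))) (.node (.node (.node (.leaf (nat_lit 0x523545315453548)) (.leaf (nat_lit 0x31453241354515))) (.node (.leaf (nat_lit 0x453311445351158)) (.leaf (nat_lit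 0x2233354511535444)))) (.node (.node (.leaf (nat_lit 0x3541135453311445)) (.leaf (nat_lit 0x3254153514158))) (.node (.leaf (nat_lit 0x524542235351)) (.leaf (nat_lit 0x0)))))) (.node (.node (.node (.node (.leaf (nat_lit 0x32413514232415)) (.leaf (nat_lit 0x314253142352418))) (.node (.leaf (nat_lit 0x31313335444242423131333544424242531313335444242428)) (.leaf (nat_lit 0x15331144258)))) (.node (.node (.leaf (nat_lit 0x53145354111354)) (.leaf (nat_lit 0x41525333511544))) (.node (.leaf (nat_lit 0x1333544424241313133354442424513131333544424241313)) (.leaf (nat_lit 0x0))))) (.node (.node (.node (.leaf (nat_lit 0x1532542535248)) (.leaf (nat_lit 0x5351425315418))) (.node (.leaf (nat_lit 0x14535145324253)) (.leaf (nat_lit 0x0)))) (.node (.node (.leaf (nat_lit 0x23542535413514)) (.leaf (nat_lit 0x32415324235141))) (.node (.leaf (nat_lit 0x232451531413148)) (.leaf (nat_lit 0x0)))))))) (.node (.node (.node (.node (.node (.node (.leaf (nat_lit 0x3114118)) (.leaf (nat_lit 0x51545354135453))) (.node (.leaf (nat_lit 0x242535245135)) (.leaf (nat_lit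 0x3354422335445225)))) (.node (.node (.leaf (nat_lit 0x542235451153)) (.leaf (nat_lit 0x4535311454535251))) (.node (.leaf (nat_lit 0x5232542531548)) (.leaf (nat_lit 0x0))))) (.node (.node (.node (.leaf (nat_lit 0x52514511538)) (.leaf (nat_lit 0x2532542535148))) (.node (.leaf (nat_lit 0x44223352518)) (.leaf (nat_lit 0x35333114445422)))) (.node (.node (.leaf (nat_lit 0x3514513514258)) (.leaf (nat_lit 0x245351453241538))) (.node (.leaf (nat_lit 0x514235415354238)) (.leaf (nat_lit 0x0)))))) (.node (.node (.node (.node (.leaf (nat_lit 0x3145314135418)) (.leaf (nat_lit 0x32244223))) (.node (.leaf (nat_lit 0x3524513154518)) (.leaf (nat_lit 0x135322454525)))) (.node (.node (.leaf (nat_lit 0x351542354131458)) (.leaf (nat_lit 0x4532311445354235))) (.node (.leaf (nat_lit 0x5453114532518)) (.leaf (nat_lit 0x0))))) (.node (.node (.node (.leaf (nat_lit 0x13224525)) (.leaf (nat_lit 0x525322418))) (.node (.leaf (nat_lit 0x31413545153245)) (.leaf (nat_lit 0x0)))) (.node (.node (.leaf (nat_lit 0x542314532413)) (.leaf (nat_lit 0x5314535442231354)))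 (.node (.leaf (nat_lit 0x231451324231548)) (.leaf (nat_lit 0x0))))))) (.node (.node (.node (.node (.node (.leaf (nat_lit 0x15311451)) (.leaf (nat_lit 0x514453114533528))) (.node (.leaf (nat_lit 0x14535413545331148)) (.leaf (nat_lit 0x245325154532)))) (.node (.node (.leaf (nat_lit 0x1332244525)) (.leaf (nat_lit 0x5132541535248))) (.node (.leaf (nat_lit 0x42424231313335444242423131333544424242531313335448)) (.leaf (nat_lit 0x0))))) (.node (.node (.node (.leaf (nat_lit 0x11451153)) (.leaf (nat_lit 0x42235411358))) (.node (.leaf (nat_lit 0x2231354531453544)) (.leaf (nat_lit 0x0)))) (.node (.node (.leaf (nat_lit 0x14223525)) (.leaf (nat_lit 0x2542531545238))) (.node (.leaf (nat_lit 0x5414223354531453)) (.leaf (nat_lit 0x0)))))) (.node (.node (.node (.node (.leaf (nat_lit 0x5452325425318)) (.leaf (nat_lit 0x35451531453142))) (.node (.leaf (nat_lit 0x4535251453118)) (.leaf (nat_lit 0x1333544424242313133354442424253131333544424242313)))) (.node (.node (.leaf (nat_lit 0x145351154531)) (.leaf (nat_lit 0x42315423245131))) (.node (.leaf (nat_lit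 0x35444242425313133354442424231313335444242423131338)) (.leaf (nat_lit 0x0))))) (.node (.node (.node (.leaf (nat_lit 0x141314132413)) (.leaf (nat_lit 0x2413142314238))) (.node (.leaf (nat_lit 0x1354223541)) (.leaf (nat_lit 0x0)))) (.node (.node (.leaf (nat_lit 0x232451314231548)) (.leaf (nat_lit 0x1535353114545451))) (.node (.leaf (nat_lit 0x453251545351158)) (.leaf (nat_lit 0x0)))))))))) (.node (.node (.node (.node (.node (.node (.node (.node (.leaf (nat_lit 0x656565)) (.leaf (nat_lit 0x511535452513548))) (.node (.leaf (nat_lit 0x545135145231)) (.leaf (nat_lit 0x253154153514)))) (.node (.node (.leaf (nat_lit 0x135142535145)) (.leaf (nat_lit 0x535142532542))) (.node (.leaf (nat_lit 0x5441133541138)) (.leaf (nat_lit 0x0))))) (.node (.node (.node (.leaf (nat_lit 0x223545251354)) (.leaf (nat_lit 0x525145322453))) (.node (.leaf (nat_lit 0x35425354135241)) (.leaf (nat_lit 0x153542235425)))) (.node (.node (.leaf (nat_lit 0x51545331144532)) (.leaf (nat_lit 0x114445322453338))) (.node (.leaf (nat_lit 0x42531453524531)) (.leaf (nat_lit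 0x0)))))) (.node (.node (.node (.node (.leaf (nat_lit 0x4223118)) (.leaf (nat_lit 0x3254153524258))) (.node (.leaf (nat_lit 0x235413245314)) (.leaf (nat_lit 0x2514533322444535)))) (.node (.node (.leaf (nat_lit 0x452325452351)) (.leaf (nat_lit 0x315452351425))) (.node (.leaf (nat_lit 0x451351425325)) (.leaf (nat_lit 0x0))))) (.node (.node (.node (.leaf (nat_lit 0x45325453545135)) (.leaf (nat_lit 0x311454511535))) (.node (.leaf (nat_lit 0x3335444242451313133354442424131313335444242413131)) (.leaf (nat_lit 0x0)))) (.node (.node (.leaf (nat_lit 0x1332333133233313323338)) (.leaf (nat_lit 0x541135333114448))) (.node (.leaf (nat_lit 0x415315415352)) (.leaf (nat_lit 0x0))))))) (.node (.node (.node (.node (.node (.leaf (nat_lit 0x452351451315)) (.leaf (nat_lit 0x35453224535441138))) (.node (.leaf (nat_lit 0x3514513524158)) (.leaf (nat_lit 0x25422352)))) (.node (.node (.leaf (nat_lit 0x354244145323318)) (.leaf (nat_lit 0x5235411354518))) (.node (.leaf (nat_lit 0x454113535115)) (.leaf (nat_lit 0x0))))) (.node (.node (.node (.leaf (nat_lit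 0x53545115354152)) (.leaf (nat_lit 0x3254253514518))) (.node (.leaf (nat_lit 0x324235413525458)) (.leaf (nat_lit 0x4453322445333224)))) (.node (.node (.leaf (nat_lit 0x2335441525335442)) (.leaf (nat_lit 0x413241324132))) (.node (.leaf (nat_lit 0x241532542535)) (.leaf (nat_lit 0x0)))))) (.node (.node (.node (.node (.leaf (nat_lit 0x53514535425354)) (.leaf (nat_lit 0x4153254253528))) (.node (.leaf (nat_lit 0x323541442453138)) (.leaf (nat_lit 0x53522545352514)))) (.node (.node (.leaf (nat_lit 0x31453254531452)) (.leaf (nat_lit 0x444223335322458))) (.node (.leaf (nat_lit 0x4522532515)) (.leaf (nat_lit 0x0))))) (.node (.node (.node (.leaf (nat_lit 0x423145153241318)) (.leaf (nat_lit 0x453311445322))) (.node (.leaf (nat_lit 0x5453511545353114)) (.leaf (nat_lit 0x0)))) (.node (.node (.leaf (nat_lit 0x54223542238)) (.leaf (nat_lit 0x5254535311454531))) (.node (.leaf (nat_lit 0x53145324135451)) (.leaf (nat_lit 0x0)))))))) (.node (.node (.node (.node (.node (.node (.leaf (nat_lit 0x414424441442444144244)) (.leaf (nat_lit 0x35452513544223)))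 (.node (.leaf (nat_lit 0x311453525145)) (.leaf (nat_lit 0x44113315258)))) (.node (.node (.leaf (nat_lit 0x5452315415318)) (.leaf (nat_lit 0x4535423545323224))) (.node (.leaf (nat_lit 0x351524118)) (.leaf (nat_lit 0x0))))) (.node (.node (.node (.leaf (nat_lit 0x535453514535428)) (.leaf (nat_lit 0x135413145352548))) (.node (.leaf (nat_lit 0x53515453541354)) (.leaf (nat_lit 0x5422353114)))) (.node (.node (.leaf (nat_lit 0x14533224453525)) (.leaf (nat_lit 0x423241314231))) (.node (.leaf (nat_lit 0x514153154513)) (.leaf (nat_lit 0x0)))))) (.node (.node (.node (.node (.leaf (nat_lit 0x3545314535441131)) (.leaf (nat_lit 0x1535245135148))) (.node (.leaf (nat_lit 0x324535145324158)) (.leaf (nat_lit 0x2533544223354415)))) (.node (.node (.leaf (nat_lit 0x451315451352)) (.leaf (nat_lit 0x245235142535))) (.node (.leaf (nat_lit 0x354531114535418)) (.leaf (nat_lit 0x0))))) (.node (.node (.node (.leaf (nat_lit 0x514232425324238)) (.leaf (nat_lit 0x254135451354238))) (.node (.leaf (nat_lit 0x1413241314138)) (.leaf (nat_lit 0x0)))) (.node (.node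 (.leaf (nat_lit 0x44145323313542)) (.leaf (nat_lit 0x35154535422235458))) (.node (.leaf (nat_lit 0x51541354132453)) (.leaf (nat_lit 0x0))))))) (.node (.node (.node (.node (.node (.leaf (nat_lit 0x1453114531)) (.leaf (nat_lit 0x1135354422335454))) (.node (.leaf (nat_lit 0x22451523)) (.leaf (nat_lit 0x44113354531145358)))) (.node (.node (.leaf (nat_lit 0x332244118)) (.leaf (nat_lit 0x51453522545352))) (.node (.leaf (nat_lit 0x2423131333544424242531313335444242423131333544424)) (.leaf (nat_lit 0x0))))) (.node (.node (.node (.leaf (nat_lit 0x35154231413241)) (.leaf (nat_lit 0x4513154153258))) (.node (.leaf (nat_lit 0x44535413545313118)) (.leaf (nat_lit 0x0)))) (.node (.node (.leaf (nat_lit 0x1335445251335441)) (.leaf (nat_lit 0x1544544113353351))) (.node (.leaf (nat_lit 0x545135142532)) (.leaf (nat_lit 0x0)))))) (.node (.node (.node (.node (.leaf (nat_lit 0x324232413141)) (.leaf (nat_lit 0x5451523541138))) (.node (.leaf (nat_lit 0x35331144545115)) (.leaf (nat_lit 0x35115454411335)))) (.node (.node (.leaf (nat_lit 0x313541442453238))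 (.leaf (nat_lit 0x545352254532518))) (.node (.leaf (nat_lit 0x5423145314238)) (.leaf (nat_lit 0x0))))) (.node (.node (.node (.leaf (nat_lit 0x245135141535)) (.leaf (nat_lit 0x45354111354535258))) (.node (.leaf (nat_lit 0x153545115354258)) (.leaf (nat_lit 0x0)))) (.node (.node (.leaf (nat_lit 0x5453245354411323)) (.leaf (nat_lit 0x1154531145358))) (.node (.leaf (nat_lit 0x131423154232458)) (.leaf (nat_lit 0x0))))))))) (.node (.node (.node (.node (.node (.node (.node (.leaf (nat_lit 0x77777)) (.leaf (nat_lit 0x354244245313318))) (.node (.leaf (nat_lit 0x315451352451)) (.leaf (nat_lit 0x31145445115335)))) (.node (.node (.leaf (nat_lit 0x354235141354258)) (.leaf (nat_lit 0x1333532245444525))) (.node (.leaf (nat_lit 0x4232453242358)) (.leaf (nat_lit 0x0))))) (.node (.node (.node (.leaf (nat_lit 0x23323541441453)) (.leaf (nat_lit 0x23533224454515))) (.node (.leaf (nat_lit 0x525453114531)) (.leaf (nat_lit 0x3114533351154445)))) (.node (.node (.leaf (nat_lit 0x224531525453)) (.leaf (nat_lit 0x1544533114453351))) (.node (.leaf (nat_lit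 0x423145351541358)) (.leaf (nat_lit 0x0)))))) (.node (.node (.node (.node (.leaf (nat_lit 0x542354513542318)) (.leaf (nat_lit 0x442233228))) (.node (.leaf (nat_lit 0x422315258)) (.leaf (nat_lit 0x325415352425)))) (.node (.node (.leaf (nat_lit 0x45323313542441)) (.leaf (nat_lit 0x15245351154535))) (.node (.leaf (nat_lit 0x41133354113544)) (.leaf (nat_lit 0x0))))) (.node (.node (.node (.leaf (nat_lit 0x5453545354538)) (.leaf (nat_lit 0x31145333114445))) (.node (.leaf (nat_lit 0x25314131423145)) (.leaf (nat_lit 0x0)))) (.node (.node (.leaf (nat_lit 0x25133224458)) (.leaf (nat_lit 0x4113335451153544))) (.node (.leaf (nat_lit 0x25314531413545)) (.leaf (nat_lit 0x0))))))) (.node (.node (.node (.node (.node (.leaf (nat_lit 0x4244414424441442444148)) (.leaf (nat_lit 0x44424242313133354442424253131333544424242313133358))) (.node (.leaf (nat_lit 0x2315451351458)) (.leaf (nat_lit 0x322453332244458)))) (.node (.node (.leaf (nat_lit 0x535452535453248)) (.leaf (nat_lit 0x5332244152))) (.node (.leaf (nat_lit 0x53145132453254)) (.leaf (nat_lit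 0x0))))) (.node (.node (.node (.leaf (nat_lit 0x24531331354244)) (.leaf (nat_lit 0x54113544411333))) (.node (.leaf (nat_lit 0x35423145351541)) (.leaf (nat_lit 0x1145445322453353)))) (.node (.node (.leaf (nat_lit 0x54532451324531)) (.leaf (nat_lit 0x254231452314138))) (.node (.leaf (nat_lit 0x54532515453532248)) (.leaf (nat_lit 0x0)))))) (.node (.node (.node (.node (.leaf (nat_lit 0x541441453133138)) (.leaf (nat_lit 0x545331144535118))) (.node (.leaf (nat_lit 0x4525135411358)) (.leaf (nat_lit 0x14545411353531)))) (.node (.node (.leaf (nat_lit 0x322452258)) (.leaf (nat_lit 0x13142324135154))) (.node (.leaf (nat_lit 0x324131423241)) (.leaf (nat_lit 0x0))))) (.node (.node (.node (.leaf (nat_lit 0x45131423154232)) (.leaf (nat_lit 0x525314532423548))) (.node (.leaf (nat_lit 0x331144541135)) (.leaf (nat_lit 0x0)))) (.node (.node (.leaf (nat_lit 0x414424532331358)) (.leaf (nat_lit 0x35452253545422358))) (.node (.leaf (nat_lit 0x5335322454454113)) (.leaf (nat_lit 0x0)))))))) (.node (.node (.node (.node (.node (.node (.leaf (nat_lit 0x54242442352241331313))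 (.leaf (nat_lit 0x41135354223545))) (.node (.leaf (nat_lit 0x531453241354518)) (.leaf (nat_lit 0x4425153331148)))) (.node (.node (.leaf (nat_lit 0x51535453145354)) (.leaf (nat_lit 0x32244152538))) (.node (.leaf (nat_lit 0x33224452258)) (.leaf (nat_lit 0x0))))) (.node (.node (.node (.leaf (nat_lit 0x5757578)) (.leaf (nat_lit 0x115353114545))) (.node (.leaf (nat_lit 0x5422354251538)) (.leaf (nat_lit 0x5235333114445451)))) (.node (.node (.leaf (nat_lit 0x235425153542)) (.leaf (nat_lit 0x45322453331144))) (.node (.leaf (nat_lit 0x511532248)) (.leaf (nat_lit 0x0)))))) (.node (.node (.node (.node (.leaf (nat_lit 0x42453542354533118)) (.leaf (nat_lit 0x351413142531418))) (.node (.leaf (nat_lit 0x1325451351458)) (.leaf (nat_lit 0x4513514253258)))) (.node (.node (.leaf (nat_lit 0x313135424244231154138)) (.leaf (nat_lit 0x2515452253))) (.node (.leaf (nat_lit 0x322453511545)) (.leaf (nat_lit 0x0))))) (.node (.node (.node (.leaf (nat_lit 0x3544424245131313335444242413131333544424241313133)) (.leaf (nat_lit 0x2535354223545415))) (.node (.leaf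 (nat_lit 0x5354223545331144)) (.leaf (nat_lit 0x0)))) (.node (.node (.leaf (nat_lit 0x45314513145315)) (.leaf (nat_lit 0x235141314253248))) (.node (.leaf (nat_lit 0x2245445411353353)) (.leaf (nat_lit 0x0))))))) (.node (.node (.node (.node (.node (.leaf (nat_lit 0x331332333133233313323)) (.leaf (nat_lit 0x415351452351))) (.node (.leaf (nat_lit 0x51154223)) (.leaf (nat_lit 0x454113533114)))) (.node (.node (.leaf (nat_lit 0x53542354532224)) (.leaf (nat_lit 0x5415325452328))) (.node (.leaf (nat_lit 0x4513514153158)) (.leaf (nat_lit 0x0))))) (.node (.node (.node (.leaf (nat_lit 0x545135423254138)) (.leaf (nat_lit 0x524153524523))) (.node (.leaf (nat_lit 0x11533224458)) (.leaf (nat_lit 0x0)))) (.node (.node (.leaf (nat_lit 0x544522533152)) (.leaf (nat_lit 0x145352254535258))) (.node (.leaf (nat_lit 0x5454511535354113)) (.leaf (nat_lit 0x0)))))) (.node (.node (.node (.node (.leaf (nat_lit 0x544525133511)) (.leaf (nat_lit 0x51154515238))) (.node (.leaf (nat_lit 0x41314513242325)) (.leaf (nat_lit 0x351423241531428)))) (.node (.node (.leaf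 (nat_lit 0x31145152)) (.leaf (nat_lit 0x53245352453242))) (.node (.leaf (nat_lit 0x33311444541135)) (.leaf (nat_lit 0x0))))) (.node (.node (.node (.leaf (nat_lit 0x35415354535245)) (.leaf (nat_lit 0x313542441453238))) (.node (.leaf (nat_lit 0x352452315452)) (.leaf (nat_lit 0x0)))) (.node (.node (.leaf (nat_lit 0x142531413514138)) (.leaf (nat_lit 0x3224145354135453))) (.node (.leaf (nat_lit 0x5233224451)) (.leaf (nat_lit 0x0)))))))))))

end Cfsg.Agent.TcData.HN.I1539000
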