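import Cfsg.Agent.Lib.TcFacts

set_option autoImplicit false
set_option Elab.async false
set_option maxRecDepth 100000
set_option linter.all false

namespace Cfsg.Agent.TcData.HN.I1539000

open Cfsg.Agent.Lib.TcFacts

/-- A part of a table. -/
noncomputable def PW11 : Tr := (.node (.node (.node (.node (.node (.node (.node (.node (.node (.leaf (nat_lit 0x55)) (.leaf (nat_lit 0x35145314253245))) (.node (.leaf (nat_lit 0x3132244535413545)) (.leaf (nat_lit 0x52533541135441)))) (.node (.node (.leaf (nat_lit 0x5353322445453114)) (.leaf (nat_lit 0x53544113354511))) (.node (.leaf (nat_lit 0x45225315258)) (.leaf (nat_lit 0x0))))) (.node (.node (.node (.leaf (nat_lit 0x4444448)) (.leaf (nat_lit 0x14522531))) (.node (.leaf (nat_lit 0x415253118)) (.leaf (nat_lit 0x52535423245314)))) (.node (.node (.leaf (nat_lit 0x13545235413254)) (.leaf (nat_lit 0x23353511545442))) (.node (.leaf (nat_lit 0x41354131453525)) (.leaf (nat_lit 0x0)))))) (.node (.node (.node (.node (.leaf (nat_lit 0x535245131542)) (.leaf (nat_lit 0x153524153154))) (.node (.leaf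 (nat_lit 0x3544223354531145)) (.leaf (nat_lit 0x451325415352)))) (.node (.node (.leaf (nat_lit 0x225354113545)) (.leaf (nat_lit 0x145253542324538))) (.node (.leaf (nat_lit 0x354253541351428)) (.leaf (nat_lit 0x0))))) (.node (.node (.node (.leaf (nat_lit 0x13515453241354)) (.leaf (nat_lit 0x411353522545))) (.node (.leaf (nat_lit 0x425324535145318)) (.leaf (nat_lit 0x0)))) (.node (.node (.leaf (nat_lit 0x132415314135148)) (.leaf (nat_lit 0x45411353351154))) (.node (.leaf (nat_lit 0x54453114533511)) (.leaf (nat_lit 0x0))))))) (.node (.node (.node (.node (.node (.leaf (nat_lit 0x314132413242)) (.leaf (nat_lit 0x423145131423258))) (.node (.leaf (nat_lit 0x41314132423515)) (.leaf (nat_lit 0x525354131453148)))) (.node (.node (.leaf (nat_lit 0x314231413141)) (.leaf (nat_lit 0x42324535254135))) (.node (.leaf (nat_lit 0x2541535242538)) (.leaf (nat_lit 0x0))))) (.node (.node (.node (.leaf (nat_lit 0x35254231413242)) (.leaf (nat_lit 0x324153245351458))) (.node (.leaf (nat_lit 0x33235414424531)) (.leaf (nat_lit 0x5452351452328)))) (.node (.node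 (.leaf (nat_lit 0x31413142324515)) (.leaf (nat_lit 0x31145422358))) (.node (.leaf (nat_lit 0x245314235413)) (.leaf (nat_lit 0x0)))))) (.node (.node (.node (.node (.leaf (nat_lit 0x23145153241314)) (.leaf (nat_lit 0x23141325413245))) (.node (.leaf (nat_lit 0x131425314135148)) (.leaf (nat_lit 0x3531145453152545)))) (.node (.node (.leaf (nat_lit 0x15354135141354)) (.leaf (nat_lit 0x13142314515324))) (.node (.leaf (nat_lit 0x4153514523258)) (.leaf (nat_lit 0x0))))) (.node (.node (.node (.leaf (nat_lit 0x11335451153544)) (.leaf (nat_lit 0x4251533311448))) (.node (.leaf (nat_lit 0x5444242423131333544424242531313335444242423131333)) (.leaf (nat_lit 0x0)))) (.node (.node (.leaf (nat_lit 0x545235413254138)) (.leaf (nat_lit 0x35152441138))) (.node (.leaf (nat_lit 0x114525138)) (.leaf (nat_lit 0x0)))))))) (.node (.node (.node (.node (.node (.node (.leaf (nat_lit 0x423141314131)) (.leaf (nat_lit 0x25453251545352))) (.node (.leaf (nat_lit 0x3254253524158)) (.leaf (nat_lit 0x52533531145441)))) (.node (.node (.leaf (nat_lit 0x535453545354)) (.leaf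 (nat_lit 0x33351154445152))) (.node (.leaf (nat_lit 0x15413313135424244231)) (.leaf (nat_lit 0x0))))) (.node (.node (.node (.leaf (nat_lit 0x535322454541138)) (.leaf (nat_lit 0x42235445422353358))) (.node (.leaf (nat_lit 0x52531453141354)) (.leaf (nat_lit 0x44223354532245358)))) (.node (.node (.leaf (nat_lit 0x45354515354531)) (.leaf (nat_lit 0x52253152548))) (.node (.leaf (nat_lit 0x351413541535418)) (.leaf (nat_lit 0x0)))))) (.node (.node (.node (.node (.leaf (nat_lit 0x5314235413248)) (.leaf (nat_lit 0x453542223545328))) (.node (.leaf (nat_lit 0x4424441442444144244418)) (.leaf (nat_lit 0x2531313335444242423131333544424242313133354442424)))) (.node (.node (.leaf (nat_lit 0x5354235453231144)) (.leaf (nat_lit 0x425351451325))) (.node (.leaf (nat_lit 0x13142314525314)) (.leaf (nat_lit 0x0))))) (.node (.node (.node (.leaf (nat_lit 0x31144223)) (.leaf (nat_lit 0x41352413542535))) (.node (.leaf (nat_lit 0x532245451153)) (.leaf (nat_lit 0x0)))) (.node (.node (.leaf (nat_lit 0x4411313545314535)) (.leaf (nat_lit 0x35413545313114458)))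 (.node (.leaf (nat_lit 0x13524131425324)) (.leaf (nat_lit 0x0))))))) (.node (.node (.node (.node (.node (.leaf (nat_lit 0x25141135)) (.leaf (nat_lit 0x4411332515))) (.node (.leaf (nat_lit 0x1545311453258)) (.leaf (nat_lit 0x351154228)))) (.node (.node (.leaf (nat_lit 0x33224411)) (.leaf (nat_lit 0x541352545314138))) (.node (.leaf (nat_lit 0x5244223351)) (.leaf (nat_lit 0x0))))) (.node (.node (.node (.leaf (nat_lit 0x141325413145138)) (.leaf (nat_lit 0x35411354228))) (.node (.leaf (nat_lit 0x32451314532545)) (.leaf (nat_lit 0x0)))) (.node (.node (.leaf (nat_lit 0x3135453145354422)) (.leaf (nat_lit 0x152411358))) (.node (.leaf (nat_lit 0x54235413145351)) (.leaf (nat_lit 0x0)))))) (.node (.node (.node (.node (.leaf (nat_lit 0x44424242313133354442424231313335444242425313133358)) (.leaf (nat_lit 0x53542235453311448))) (.node (.leaf (nat_lit 0x25453245131453)) (.leaf (nat_lit 0x5413545331141453)))) (.node (.node (.leaf (nat_lit 0x45115311)) (.leaf (nat_lit 0x425315451352))) (.node (.leaf (nat_lit 0x245132453154538)) (.leaf (nat_lit 0x0)))))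 (.node (.node (.node (.leaf (nat_lit 0x14533251544531)) (.leaf (nat_lit 0x45411353541135))) (.node (.leaf (nat_lit 0x54232451314132)) (.leaf (nat_lit 0x0)))) (.node (.node (.leaf (nat_lit 0x54113251)) (.leaf (nat_lit 0x4113352514))) (.node (.leaf (nat_lit 0x1135353511545454)) (.leaf (nat_lit 0x0))))))))) (.node (.node (.node (.node (.node (.node (.node (.leaf (nat_lit 0x333333)) (.leaf (nat_lit 0x154153154523))) (.node (.leaf (nat_lit 0x5414113354531453)) (.leaf (nat_lit 0x32244544422333538)))) (.node (.node (.leaf (nat_lit 0x235145131545)) (.leaf (nat_lit 0x453525453542358))) (.node (.leaf (nat_lit 0x515453142354138)) (.leaf (nat_lit 0x0))))) (.node (.node (.node (.leaf (nat_lit 0x1133533511544544)) (.leaf (nat_lit 0x22315254))) (.node (.leaf (nat_lit 0x52254535322454538)) (.leaf (nat_lit 0x311454525135)))) (.node (.node (.leaf (nat_lit 0x35141324253142)) (.leaf (nat_lit 0x22531525458))) (.node (.leaf (nat_lit 0x5253545311145354)) (.leaf (nat_lit 0x0)))))) (.node (.node (.node (.node (.leaf (nat_lit 0x141314253242358)) (.leaf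 (nat_lit 0x23541324535254))) (.node (.leaf (nat_lit 0x251354223545)) (.leaf (nat_lit 0x4545322453535152)))) (.node (.node (.leaf (nat_lit 0x141354232453)) (.leaf (nat_lit 0x45325154535225))) (.node (.leaf (nat_lit 0x24531545324513)) (.leaf (nat_lit 0x0))))) (.node (.node (.node (.leaf (nat_lit 0x523141325423148)) (.leaf (nat_lit 0x135141354153548))) (.node (.leaf (nat_lit 0x3352514422)) (.leaf (nat_lit 0x0)))) (.node (.node (.leaf (nat_lit 0x23514131425324)) (.leaf (nat_lit 0x1535333224445425))) (.node (.leaf (nat_lit 0x44223322)) (.leaf (nat_lit 0x0))))))) (.node (.node (.node (.node (.node (.leaf (nat_lit 0x25354515235452)) (.leaf (nat_lit 0x23514235415354))) (.node (.leaf (nat_lit 0x451351425351)) (.leaf (nat_lit 0x45441133535115)))) (.node (.node (.leaf (nat_lit 0x35451354232541)) (.leaf (nat_lit 0x3114535441133545))) (.node (.leaf (nat_lit 0x1324131413148)) (.leaf (nat_lit 0x0))))) (.node (.node (.node (.leaf (nat_lit 0x11541135)) (.leaf (nat_lit 0x51545314235413))) (.node (.leaf (nat_lit 0x42424131313335444242413131333544424245131313335448))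 (.leaf (nat_lit 0x2244454251535333)))) (.node (.node (.leaf (nat_lit 0x4442424131313335444242451313133354442424131313335)) (.leaf (nat_lit 0x1444544113353331))) (.node (.leaf (nat_lit 0x545422353511)) (.leaf (nat_lit 0x0)))))) (.node (.node (.node (.node (.leaf (nat_lit 0x31423154131451)) (.leaf (nat_lit 0x324253142351418))) (.node (.leaf (nat_lit 0x54442424131313335444242451313133354442424131313338)) (.leaf (nat_lit 0x154513154253)))) (.node (.node (.leaf (nat_lit 0x23145132423154)) (.leaf (nat_lit 0x4525354531114535))) (.node (.leaf (nat_lit 0x44424241313133354442424513131333544424241313133358)) (.leaf (nat_lit 0x0))))) (.node (.node (.node (.leaf (nat_lit 0x242352413242538)) (.leaf (nat_lit 0x531453514532428))) (.node (.leaf (nat_lit 0x24535145324153)) (.leaf (nat_lit 0x0)))) (.node (.node (.leaf (nat_lit 0x141324153141358)) (.leaf (nat_lit 0x32425324235142))) (.node (.leaf (nat_lit 0x314135452531458)) (.leaf (nat_lit 0x0)))))))) (.node (.node (.node (.node (.node (.node (.leaf (nat_lit 0x15413145131423)) (.leaf (nat_lit 0x5353114545351524)))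 (.node (.leaf (nat_lit 0x135241354253548)) (.leaf (nat_lit 0x2335445152335442)))) (.node (.node (.leaf (nat_lit 0x352453242532458)) (.leaf (nat_lit 0x4535311454535152))) (.node (.leaf (nat_lit 0x453154532451328)) (.leaf (nat_lit 0x0))))) (.node (.node (.node (.leaf (nat_lit 0x4525135115)) (.leaf (nat_lit 0x52253545251354))) (.node (.leaf (nat_lit 0x35451535453145)) (.leaf (nat_lit 0x454113535251)))) (.node (.node (.leaf (nat_lit 0x4532245322)) (.leaf (nat_lit 0x131541535145))) (.node (.leaf (nat_lit 0x5245235241538)) (.leaf (nat_lit 0x0)))))) (.node (.node (.node (.node (.leaf (nat_lit 0x3245314135428)) (.leaf (nat_lit 0x5453311414535413))) (.node (.leaf (nat_lit 0x13245315453245)) (.leaf (nat_lit 0x235322454515)))) (.node (.node (.leaf (nat_lit 0x352542354231458)) (.leaf (nat_lit 0x15314531423545))) (.node (.leaf (nat_lit 0x5453224535118)) (.leaf (nat_lit 0x0))))) (.node (.node (.node (.leaf (nat_lit 0x413245324135)) (.leaf (nat_lit 0x54223533352254448))) (.node (.leaf (nat_lit 0x32413545153145)) (.leaf (nat_lit 0x0)))) (.node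 (.node (.leaf (nat_lit 0x41314132413525)) (.leaf (nat_lit 0x13142325423145))) (.node (.leaf (nat_lit 0x14422331)) (.leaf (nat_lit 0x0))))))) (.node (.node (.node (.node (.node (.leaf (nat_lit 0x33135414414531)) (.leaf (nat_lit 0x524453114533518))) (.node (.leaf (nat_lit 0x35413545313224458)) (.leaf (nat_lit 0x1145453251545353)))) (.node (.node (.leaf (nat_lit 0x23322442)) (.leaf (nat_lit 0x142354132453))) (.node (.leaf (nat_lit 0x45251333541135448)) (.leaf (nat_lit 0x0))))) (.node (.node (.node (.leaf (nat_lit 0x11145354135453)) (.leaf (nat_lit 0x5354141133545314))) (.node (.leaf (nat_lit 0x41133545311453548)) (.leaf (nat_lit 0x0)))) (.node (.node (.leaf (nat_lit 0x24223515)) (.leaf (nat_lit 0x224152538))) (.node (.leaf (nat_lit 0x5424223354532453)) (.leaf (nat_lit 0x0)))))) (.node (.node (.node (.node (.leaf (nat_lit 0x153242351413248)) (.leaf (nat_lit 0x541535423514238))) (.node (.leaf (nat_lit 0x14235142324153)) (.leaf (nat_lit 0x35452253545251)))) (.node (.node (.leaf (nat_lit 0x254531145315)) (.leaf (nat_lit 0x42325423245132)))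 (.node (.leaf (nat_lit 0x35444242451313133354442424131313335444242413131338)) (.leaf (nat_lit 0x0))))) (.node (.node (.node (.leaf (nat_lit 0x544411333511)) (.leaf (nat_lit 0x4152535422358))) (.node (.leaf (nat_lit 0x2354223542)) (.leaf (nat_lit 0x0)))) (.node (.node (.leaf (nat_lit 0x453524535415358)) (.leaf (nat_lit 0x14531423545153))) (.node (.leaf (nat_lit 0x5352254251)) (.leaf (nat_lit 0x0)))))))))) (.node (.node (.node (.node (.node (.node (.node (.node (.leaf (nat_lit 0x1111)) (.leaf (nat_lit 0x5453145354411313))) (.node (.leaf (nat_lit 0x141535145235)) (.leaf (nat_lit 0x51153533114454)))) (.node (.node (.leaf (nat_lit 0x5315451325418)) (.leaf (nat_lit 0x311442238))) (.node (.leaf (nat_lit 0x3354532453542422)) (.leaf (nat_lit 0x0))))) (.node (.node (.node (.leaf (nat_lit 0x4242451313133354442424131313335444242413131333544)) (.leaf (nat_lit 0x253114158))) (.node (.leaf (nat_lit 0x53542223545324)) (.leaf (nat_lit 0x3224532515458)))) (.node (.node (.leaf (nat_lit 0x22545331144535)) (.leaf (nat_lit 0x545324135423528))) (.node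 (.leaf (nat_lit 0x42532453524532)) (.leaf (nat_lit 0x0)))))) (.node (.node (.node (.node (.leaf (nat_lit 0x14231541314513)) (.leaf (nat_lit 0x352254532515458))) (.node (.leaf (nat_lit 0x13542442453133)) (.leaf (nat_lit 0x4533322444532515)))) (.node (.node (.leaf (nat_lit 0x452325451352)) (.leaf (nat_lit 0x511544425153338))) (.node (.leaf (nat_lit 0x41324253241351)) (.leaf (nat_lit 0x0))))) (.node (.node (.node (.leaf (nat_lit 0x41331313542424423115)) (.leaf (nat_lit 0x253541135452))) (.node (.leaf (nat_lit 0x52531413142314)) (.leaf (nat_lit 0x0)))) (.node (.node (.leaf (nat_lit 0x453245131453258)) (.leaf (nat_lit 0x531545135242))) (.node (.leaf (nat_lit 0x1351425351458)) (.leaf (nat_lit 0x0))))))) (.node (.node (.node (.node (.node (.leaf (nat_lit 0x52514113)) (.leaf (nat_lit 0x41535453524535))) (.node (.leaf (nat_lit 0x3515244223)) (.leaf (nat_lit 0x23241531423514)))) (.node (.node (.leaf (nat_lit 0x331313542424423522418)) (.leaf (nat_lit 0x52253515248))) (.node (.leaf (nat_lit 0x331144531145)) (.leaf (nat_lit 0x0))))) (.node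 (.node (.node (.leaf (nat_lit 0x162668)) (.leaf (nat_lit 0x5425153542238))) (.node (.leaf (nat_lit 0x33131354242442311541)) (.leaf (nat_lit 0x425351425325)))) (.node (.node (.leaf (nat_lit 0x23545315453545)) (.leaf (nat_lit 0x423241324131))) (.node (.leaf (nat_lit 0x541532545131)) (.leaf (nat_lit 0x0)))))) (.node (.node (.node (.node (.leaf (nat_lit 0x53524535415354)) (.leaf (nat_lit 0x25354251535452))) (.node (.leaf (nat_lit 0x35413145314525)) (.leaf (nat_lit 0x253531145415)))) (.node (.node (.leaf (nat_lit 0x35444242413131333544424245131313335444242413131338)) (.leaf (nat_lit 0x45323323542442))) (.node (.leaf (nat_lit 0x13242325413145)) (.leaf (nat_lit 0x0))))) (.node (.node (.node (.leaf (nat_lit 0x31451535423145)) (.leaf (nat_lit 0x354411335411))) (.node (.leaf (nat_lit 0x511535311454)) (.leaf (nat_lit 0x0)))) (.node (.node (.leaf (nat_lit 0x542441453233138)) (.leaf (nat_lit 0x515244511533))) (.node (.leaf (nat_lit 0x53245324135452)) (.leaf (nat_lit 0x0)))))))) (.node (.node (.node (.node (.node (.node (.leaf (nat_lit 0x4113331144))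 (.leaf (nat_lit 0x1114535452535453))) (.node (.leaf (nat_lit 0x51351154528)) (.leaf (nat_lit 0x5115325154)))) (.node (.node (.leaf (nat_lit 0x2232248)) (.leaf (nat_lit 0x13242531423514))) (.node (.leaf (nat_lit 0x422354525135)) (.leaf (nat_lit 0x0))))) (.node (.node (.node (.leaf (nat_lit 0x535453524535418)) (.leaf (nat_lit 0x351453142532458))) (.node (.leaf (nat_lit 0x14535411135453)) (.leaf (nat_lit 0x5444113335452253)))) (.node (.node (.leaf (nat_lit 0x3145354142233545)) (.leaf (nat_lit 0x525135451153548))) (.node (.leaf (nat_lit 0x514253254513)) (.leaf (nat_lit 0x0)))))) (.node (.node (.node (.node (.leaf (nat_lit 0x413313135424244231158)) (.leaf (nat_lit 0x152311458))) (.node (.leaf (nat_lit 0x1135422354)) (.leaf (nat_lit 0x1331525441)))) (.node (.node (.leaf (nat_lit 0x2254525135)) (.leaf (nat_lit 0x54535154535413))) (.node (.leaf (nat_lit 0x545115354113)) (.leaf (nat_lit 0x0))))) (.node (.node (.node (.leaf (nat_lit 0x11453351154453)) (.leaf (nat_lit 0x3545115354541135))) (.node (.leaf (nat_lit 0x22535454223535458)) (.leaf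 (nat_lit 0x0)))) (.node (.node (.leaf (nat_lit 0x333511544411)) (.leaf (nat_lit 0x352545354235458))) (.node (.leaf (nat_lit 0x5353114545352514)) (.leaf (nat_lit 0x0))))))) (.node (.node (.node (.node (.node (.leaf (nat_lit 0x15411351)) (.leaf (nat_lit 0x31144454113533))) (.node (.leaf (nat_lit 0x113545251354)) (.leaf (nat_lit 0x35351154544411338)))) (.node (.node (.leaf (nat_lit 0x52331144518)) (.leaf (nat_lit 0x423254131451328))) (.node (.leaf (nat_lit 0x23542325423545)) (.leaf (nat_lit 0x0))))) (.node (.node (.node (.leaf (nat_lit 0x35154531413542)) (.leaf (nat_lit 0x4535322454535115))) (.node (.leaf (nat_lit 0x5422354113)) (.leaf (nat_lit 0x0)))) (.node (.node (.leaf (nat_lit 0x1413141314238)) (.leaf (nat_lit 0x45352254535322458))) (.node (.leaf (nat_lit 0x545235142531)) (.leaf (nat_lit 0x0)))))) (.node (.node (.node (.node (.leaf (nat_lit 0x324232423142)) (.leaf (nat_lit 0x242354515324538))) (.node (.leaf (nat_lit 0x35423515453141)) (.leaf (nat_lit 0x545225354525138)))) (.node (.node (.leaf (nat_lit 0x314131423141)) (.leaf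 (nat_lit 0x545351154531528))) (.node (.leaf (nat_lit 0x35424424531331)) (.leaf (nat_lit 0x0))))) (.node (.node (.node (.leaf (nat_lit 0x245315254532)) (.leaf (nat_lit 0x453541354535158))) (.node (.leaf (nat_lit 0x4113545331144535)) (.leaf (nat_lit 0x0)))) (.node (.node (.leaf (nat_lit 0x52545314135413)) (.leaf (nat_lit 0x4453351154453322))) (.node (.leaf (nat_lit 0x2324232413248)) (.leaf (nat_lit 0x0))))))))) (.node (.node (.node (.node (.node (.node (.node (.leaf (nat_lit 0x424441442444144244414)) (.leaf (nat_lit 0x24422332))) (.node (.leaf (nat_lit 0x325451352452)) (.leaf (nat_lit 0x54232452314232)))) (.node (.node (.leaf (nat_lit 0x54253545351453)) (.leaf (nat_lit 0x2333532245444515))) (.node (.leaf (nat_lit 0x4132453241358)) (.leaf (nat_lit 0x0))))) (.node (.node (.node (.leaf (nat_lit 0x535251453224)) (.leaf (nat_lit 0x535332244545118))) (.node (.leaf (nat_lit 0x44251533351154)) (.leaf (nat_lit 0x522535311454)))) (.node (.node (.leaf (nat_lit 0x33545152354411)) (.leaf (nat_lit 0x51423242531413))) (.node (.leaf (nat_lit 0x253514513254))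 (.leaf (nat_lit 0x0)))))) (.node (.node (.node (.node (.leaf (nat_lit 0x11353351154454)) (.leaf (nat_lit 0x44113351158))) (.node (.leaf (nat_lit 0x35453245354241138)) (.leaf (nat_lit 0x513524253524)))) (.node (.node (.leaf (nat_lit 0x3351524411)) (.leaf (nat_lit 0x245351154532))) (.node (.leaf (nat_lit 0x352451315425)) (.leaf (nat_lit 0x0))))) (.node (.node (.node (.leaf (nat_lit 0x545411353541138)) (.leaf (nat_lit 0x53544223235453248))) (.node (.leaf (nat_lit 0x314235142324158)) (.leaf (nat_lit 0x0)))) (.node (.node (.leaf (nat_lit 0x13545314535411)) (.leaf (nat_lit 0x132541531545))) (.node (.leaf (nat_lit 0x31413542351545)) (.leaf (nat_lit 0x0))))))) (.node (.node (.node (.node (.node (.leaf (nat_lit 0x411331148)) (.leaf (nat_lit 0x452532453241358))) (.node (.leaf (nat_lit 0x41441453233235)) (.leaf (nat_lit 0x2545132542538)))) (.node (.node (.leaf (nat_lit 0x135452253545258)) (.leaf (nat_lit 0x35441133545311458))) (.node (.leaf (nat_lit 0x423245132423258)) (.leaf (nat_lit 0x0))))) (.node (.node (.node (.leaf (nat_lit 0x51422352))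 (.leaf (nat_lit 0x4223542235))) (.node (.leaf (nat_lit 0x25314535145324)) (.leaf (nat_lit 0x2454445152333532)))) (.node (.node (.leaf (nat_lit 0x14132415324235)) (.leaf (nat_lit 0x144541135331))) (.node (.leaf (nat_lit 0x41314232413515)) (.leaf (nat_lit 0x0)))))) (.node (.node (.node (.node (.leaf (nat_lit 0x542442453133138)) (.leaf (nat_lit 0x1453142354238))) (.node (.leaf (nat_lit 0x351154118)) (.leaf (nat_lit 0x2253544411333545)))) (.node (.node (.leaf (nat_lit 0x235424414531338)) (.leaf (nat_lit 0x541324513242318))) (.node (.leaf (nat_lit 0x235453145354)) (.leaf (nat_lit 0x0))))) (.node (.node (.node (.leaf (nat_lit 0x541354531114538)) (.leaf (nat_lit 0x13131333544424245131313335444242413131333544424248))) (.node (.leaf (nat_lit 0x52314532545314)) (.leaf (nat_lit 0x0)))) (.node (.node (.leaf (nat_lit 0x351425351451)) (.leaf (nat_lit 0x53531145453152548))) (.node (.leaf (nat_lit 0x31451314232542)) (.leaf (nat_lit 0x0)))))))) (.node (.node (.node (.node (.node (.node (.leaf (nat_lit 0x51153114)) (.leaf (nat_lit 0x2453141354238)))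 (.node (.leaf (nat_lit 0x532453514532418)) (.leaf (nat_lit 0x324253141351428)))) (.node (.node (.leaf (nat_lit 0x54523545315453)) (.leaf (nat_lit 0x513254523524))) (.node (.leaf (nat_lit 0x45153141314232)) (.leaf (nat_lit 0x0))))) (.node (.node (.node (.leaf (nat_lit 0x5656568)) (.leaf (nat_lit 0x44113335411354))) (.node (.leaf (nat_lit 0x351545324135418)) (.leaf (nat_lit 0x3245354241133545)))) (.node (.node (.leaf (nat_lit 0x11535425153545)) (.leaf (nat_lit 0x324235451532458))) (.node (.leaf (nat_lit 0x15322425)) (.leaf (nat_lit 0x0)))))) (.node (.node (.node (.node (.leaf (nat_lit 0x22354532453542)) (.leaf (nat_lit 0x232542324513248))) (.node (.leaf (nat_lit 0x15413245132423)) (.leaf (nat_lit 0x4523514253158)))) (.node (.node (.leaf (nat_lit 0x354153541351418)) (.leaf (nat_lit 0x422353332244458))) (.node (.leaf (nat_lit 0x332244531145)) (.leaf (nat_lit 0x0))))) (.node (.node (.node (.leaf (nat_lit 0x5251441133)) (.leaf (nat_lit 0x5454113535351154))) (.node (.leaf (nat_lit 0x31354244145323)) (.leaf (nat_lit 0x0)))) (.node (.node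 (.leaf (nat_lit 0x4135413145318)) (.leaf (nat_lit 0x53542354532322448))) (.node (.leaf (nat_lit 0x254535423545358)) (.leaf (nat_lit 0x0))))))) (.node (.node (.node (.node (.node (.leaf (nat_lit 0x414531331354148)) (.leaf (nat_lit 0x425351452352))) (.node (.leaf (nat_lit 0x133135424424538)) (.leaf (nat_lit 0x53145354141133548)))) (.node (.node (.leaf (nat_lit 0x3545313224453541)) (.leaf (nat_lit 0x15242235))) (.node (.leaf (nat_lit 0x535145324153248)) (.leaf (nat_lit 0x0))))) (.node (.node (.node (.leaf (nat_lit 0x453542354531)) (.leaf (nat_lit 0x45354235453525))) (.node (.leaf (nat_lit 0x13311445258)) (.leaf (nat_lit 0x0)))) (.node (.node (.leaf (nat_lit 0x45314135452531)) (.leaf (nat_lit 0x245352254535158))) (.node (.leaf (nat_lit 0x3545451153535422)) (.leaf (nat_lit 0x0)))))) (.node (.node (.node (.node (.leaf (nat_lit 0x544525133522)) (.leaf (nat_lit 0x32515451158))) (.node (.leaf (nat_lit 0x42314513242315)) (.leaf (nat_lit 0x3535411354545115)))) (.node (.node (.leaf (nat_lit 0x14532415324535)) (.leaf (nat_lit 0x32311445354235458)))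 (.node (.leaf (nat_lit 0x53335115444152)) (.leaf (nat_lit 0x0))))) (.node (.node (.node (.leaf (nat_lit 0x453545354535)) (.leaf (nat_lit 0x41354515324531))) (.node (.leaf (nat_lit 0x42354523542325)) (.leaf (nat_lit 0x0)))) (.node (.node (.leaf (nat_lit 0x541351423542538)) (.leaf (nat_lit 0x141135258))) (.node (.leaf (nat_lit 0x533311444152)) (.leaf (nat_lit 0x0)))))))))))

end Cfsg.Agent.TcData.HN.I1539000
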