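import Cfsg.Agent.Lib.TcFacts

set_option autoImplicit false
set_option Elab.async false
set_option maxRecDepth 100000
set_option linter.all false

namespace Cfsg.Agent.TcData.HN.I1539000

open Cfsg.Agent.Lib.TcFacts

/-- A part of a table. -/
noncomputable def PW13 : Tr := (.node (.node (.node (.node (.node (.node (.node (.node (.node (.leaf (nat_lit 0x66666)) (.leaf (nat_lit 0x532423545253148))) (.node (.leaf (nat_lit 0x4422335251)) (.leaf (nat_lit 0x54515324531413)))) (.node (.node (.leaf (nat_lit 0x154513514153)) (.leaf (nat_lit 0x51545441133532))) (.node (.leaf (nat_lit 0x53542351423541)) (.leaf (nat_lit 0x0))))) (.node (.node (.node (.leaf (nat_lit 0x45314515354132)) (.leaf (nat_lit 0x2452352415358))) (.node (.leaf (nat_lit 0x54251535118)) (.leaf (nat_lit 0x333511544422)))) (.node (.node (.leaf (nat_lit 0x5154522532)) (.leaf (nat_lit 0x3511544422338))) (.node (.leaf (nat_lit 0x24513141325423)) (.leaf (nat_lit 0x0)))))) (.node (.node (.node (.node (.leaf (nat_lit 0x32425314535145)) (.leaf (nat_lit 0x531413542324))) (.node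 (.leaf (nat_lit 0x42423131333544424242531313335444242423131333544428)) (.leaf (nat_lit 0x452325425352)))) (.node (.node (.leaf (nat_lit 0x53131144535413548)) (.leaf (nat_lit 0x31144545311453538))) (.node (.leaf (nat_lit 0x453242354235158)) (.leaf (nat_lit 0x0))))) (.node (.node (.node (.leaf (nat_lit 0x35453515453541)) (.leaf (nat_lit 0x523224518))) (.node (.leaf (nat_lit 0x532425324535248)) (.leaf (nat_lit 0x0)))) (.node (.node (.leaf (nat_lit 0x235241314253148)) (.leaf (nat_lit 0x4445251333118))) (.node (.leaf (nat_lit 0x53311445451153)) (.leaf (nat_lit 0x0))))))) (.node (.node (.node (.node (.node (.leaf (nat_lit 0x24132425314135)) (.leaf (nat_lit 0x3224453541354531))) (.node (.leaf (nat_lit 0x41354132453515)) (.leaf (nat_lit 0x23354223544515)))) (.node (.node (.leaf (nat_lit 0x4422332515)) (.leaf (nat_lit 0x52254535251453))) (.node (.leaf (nat_lit 0x4523254253158)) (.leaf (nat_lit 0x0))))) (.node (.node (.node (.leaf (nat_lit 0x24135452532453)) (.leaf (nat_lit 0x513332244452))) (.node (.leaf (nat_lit 0x235413145324)) (.leaf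 (nat_lit 0x4411335335115445)))) (.node (.node (.leaf (nat_lit 0x32425314135241)) (.leaf (nat_lit 0x5445115335331144))) (.node (.leaf (nat_lit 0x451315415325)) (.leaf (nat_lit 0x0)))))) (.node (.node (.node (.node (.leaf (nat_lit 0x5135115452)) (.leaf (nat_lit 0x54411335451153))) (.node (.leaf (nat_lit 0x324515354131458)) (.leaf (nat_lit 0x54522535452513)))) (.node (.node (.leaf (nat_lit 0x11542235)) (.leaf (nat_lit 0x35115445311453))) (.node (.leaf (nat_lit 0x24453114533515)) (.leaf (nat_lit 0x0))))) (.node (.node (.node (.leaf (nat_lit 0x42315423145132)) (.leaf (nat_lit 0x32453241354525))) (.node (.leaf (nat_lit 0x45225311)) (.leaf (nat_lit 0x0)))) (.node (.node (.leaf (nat_lit 0x545352453541538)) (.leaf (nat_lit 0x524253524513))) (.node (.leaf (nat_lit 0x53545253545311148)) (.leaf (nat_lit 0x0)))))))) (.node (.node (.node (.node (.node (.node (.leaf (nat_lit 0x1444113331)) (.leaf (nat_lit 0x3154513254158))) (.node (.leaf (nat_lit 0x532332354144148)) (.leaf (nat_lit 0x54523542325423)))) (.node (.node (.leaf (nat_lit 0x14511531))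 (.leaf (nat_lit 0x233352254442))) (.node (.leaf (nat_lit 0x235141354253548)) (.leaf (nat_lit 0x0))))) (.node (.node (.node (.leaf (nat_lit 0x42535413524135)) (.leaf (nat_lit 0x311453322445))) (.node (.leaf (nat_lit 0x4531145322)) (.leaf (nat_lit 0x4231313335444242425313133354442424231313335444242)))) (.node (.node (.leaf (nat_lit 0x315452351451)) (.leaf (nat_lit 0x254441133352))) (.node (.leaf (nat_lit 0x254232451324238)) (.leaf (nat_lit 0x0)))))) (.node (.node (.node (.node (.leaf (nat_lit 0x413142314131)) (.leaf (nat_lit 0x35411354451153))) (.node (.leaf (nat_lit 0x142324135254238)) (.leaf (nat_lit 0x244522533515)))) (.node (.node (.leaf (nat_lit 0x45153542314531)) (.leaf (nat_lit 0x5333114442518))) (.node (.leaf (nat_lit 0x154223258)) (.leaf (nat_lit 0x0))))) (.node (.node (.node (.leaf (nat_lit 0x1313131313131313)) (.leaf (nat_lit 0x32542314523141))) (.node (.leaf (nat_lit 0x414532332354148)) (.leaf (nat_lit 0x0)))) (.node (.node (.leaf (nat_lit 0x541535413514138)) (.leaf (nat_lit 0x1135453311445354))) (.node (.leaf (nat_lit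 0x245354135453)) (.leaf (nat_lit 0x0))))))) (.node (.node (.node (.node (.node (.leaf (nat_lit 0x52513545115354)) (.leaf (nat_lit 0x45131413254232))) (.node (.leaf (nat_lit 0x453133135424428)) (.leaf (nat_lit 0x511544515233)))) (.node (.node (.leaf (nat_lit 0x23254131451324)) (.leaf (nat_lit 0x1313335444242423131333544424242313133354442424253))) (.node (.leaf (nat_lit 0x352413142532418)) (.leaf (nat_lit 0x0))))) (.node (.node (.node (.leaf (nat_lit 0x54135413145352)) (.leaf (nat_lit 0x413542535413528))) (.node (.leaf (nat_lit 0x442453133235418)) (.leaf (nat_lit 0x0)))) (.node (.node (.leaf (nat_lit 0x5452315425328)) (.leaf (nat_lit 0x35311454541135))) (.node (.leaf (nat_lit 0x11454531145353)) (.leaf (nat_lit 0x0)))))) (.node (.node (.node (.node (.leaf (nat_lit 0x31423254232452)) (.leaf (nat_lit 0x314132542324518))) (.node (.leaf (nat_lit 0x524513154253)) (.leaf (nat_lit 0x15453152545351)))) (.node (.node (.leaf (nat_lit 0x3532245411)) (.leaf (nat_lit 0x5331144535411354))) (.node (.leaf (nat_lit 0x513245315453248)) (.leaf (nat_lit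 0x0))))) (.node (.node (.node (.leaf (nat_lit 0x1333544424241313133354442424131313335444242451313)) (.leaf (nat_lit 0x32451314132542))) (.node (.leaf (nat_lit 0x453114533114)) (.leaf (nat_lit 0x0)))) (.node (.node (.leaf (nat_lit 0x1314231413148)) (.leaf (nat_lit 0x1525441133))) (.node (.leaf (nat_lit 0x51353522545452)) (.leaf (nat_lit 0x0))))))))) (.node (.node (.node (.node (.node (.node (.node (.leaf (nat_lit 0x42531413514131)) (.leaf (nat_lit 0x3133354442424231313335444242423131333544424242531))) (.node (.leaf (nat_lit 0x423145324135)) (.leaf (nat_lit 0x3251544511538)))) (.node (.node (.leaf (nat_lit 0x51354232541354)) (.leaf (nat_lit 0x331354144245328))) (.node (.leaf (nat_lit 0x132425324235248)) (.leaf (nat_lit 0x0))))) (.node (.node (.node (.leaf (nat_lit 0x32541314513242)) (.leaf (nat_lit 0x5311453525148))) (.node (.leaf (nat_lit 0x154153524153)) (.leaf (nat_lit 0x54541135354113)))) (.node (.node (.leaf (nat_lit 0x352514531145)) (.leaf (nat_lit 0x2352425351458))) (.node (.leaf (nat_lit 0x3133354442424131313335444242413131333544424245131))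 (.leaf (nat_lit 0x0)))))) (.node (.node (.node (.node (.leaf (nat_lit 0x545314513245328)) (.leaf (nat_lit 0x22535251458))) (.node (.leaf (nat_lit 0x53242351413142)) (.leaf (nat_lit 0x5254545322453531)))) (.node (.node (.leaf (nat_lit 0x25258)) (.leaf (nat_lit 0x42233354522535448))) (.node (.leaf (nat_lit 0x235413254135458)) (.leaf (nat_lit 0x0))))) (.node (.node (.node (.leaf (nat_lit 0x513142315413148)) (.leaf (nat_lit 0x53141351423242))) (.node (.leaf (nat_lit 0x44113135453145358)) (.leaf (nat_lit 0x0)))) (.node (.node (.leaf (nat_lit 0x51542314132413)) (.leaf (nat_lit 0x54422335228))) (.node (.leaf (nat_lit 0x15453241354135)) (.leaf (nat_lit 0x0))))))) (.node (.node (.node (.node (.node (.leaf (nat_lit 0x42325413545135)) (.leaf (nat_lit 0x45235423254235))) (.node (.leaf (nat_lit 0x15453142354135)) (.leaf (nat_lit 0x45353224545351158)))) (.node (.node (.leaf (nat_lit 0x35451354532545)) (.leaf (nat_lit 0x4241313133354442424513131333544424241313133354442))) (.node (.leaf (nat_lit 0x142354153542358)) (.leaf (nat_lit 0x0)))))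 (.node (.node (.node (.leaf (nat_lit 0x325452351452)) (.leaf (nat_lit 0x531453542354))) (.node (.leaf (nat_lit 0x4525135422358)) (.leaf (nat_lit 0x5152333541135444)))) (.node (.node (.leaf (nat_lit 0x52411351)) (.leaf (nat_lit 0x511542238))) (.node (.leaf (nat_lit 0x53354223544532248)) (.leaf (nat_lit 0x0)))))) (.node (.node (.node (.node (.leaf (nat_lit 0x135352254541)) (.leaf (nat_lit 0x544113353114))) (.node (.leaf (nat_lit 0x145322453525)) (.leaf (nat_lit 0x3311441525)))) (.node (.node (.leaf (nat_lit 0x131545235145)) (.leaf (nat_lit 0x541135331144))) (.node (.leaf (nat_lit 0x5425315451318)) (.leaf (nat_lit 0x0))))) (.node (.node (.node (.leaf (nat_lit 0x14513145315453)) (.leaf (nat_lit 0x22535452513545))) (.node (.leaf (nat_lit 0x5235142535248)) (.leaf (nat_lit 0x0)))) (.node (.node (.leaf (nat_lit 0x14131425314135)) (.leaf (nat_lit 0x254523254153))) (.node (.leaf (nat_lit 0x1313335444242451313133354442424131313335444242413)) (.leaf (nat_lit 0x0)))))))) (.node (.node (.node (.node (.node (.node (.leaf (nat_lit 0x314131413142))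 (.leaf (nat_lit 0x5453114535118))) (.node (.leaf (nat_lit 0x514523154513)) (.leaf (nat_lit 0x54223544511533)))) (.node (.node (.leaf (nat_lit 0x525422318)) (.leaf (nat_lit 0x53114544411333))) (.node (.leaf (nat_lit 0x5441132354532453)) (.leaf (nat_lit 0x0))))) (.node (.node (.node (.leaf (nat_lit 0x33135424414532)) (.leaf (nat_lit 0x14445411353331))) (.node (.leaf (nat_lit 0x1144411333)) (.leaf (nat_lit 0x335225444113)))) (.node (.node (.leaf (nat_lit 0x135424424531338)) (.leaf (nat_lit 0x33224453532245458))) (.node (.leaf (nat_lit 0x422354152535)) (.leaf (nat_lit 0x0)))))) (.node (.node (.node (.node (.leaf (nat_lit 0x53545135453254)) (.leaf (nat_lit 0x2333114442))) (.node (.leaf (nat_lit 0x1542535242538)) (.leaf (nat_lit 0x5251354541135354)))) (.node (.node (.leaf (nat_lit 0x3242354131458)) (.leaf (nat_lit 0x42235354422335458))) (.node (.leaf (nat_lit 0x1145444515233353)) (.leaf (nat_lit 0x0))))) (.node (.node (.node (.leaf (nat_lit 0x32413142314515)) (.leaf (nat_lit 0x153241314231458))) (.node (.leaf (nat_lit 0x5354532224535451))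 (.leaf (nat_lit 0x0)))) (.node (.node (.leaf (nat_lit 0x15453545235453)) (.leaf (nat_lit 0x53242351423242))) (.node (.leaf (nat_lit 0x31145322458)) (.leaf (nat_lit 0x0))))))) (.node (.node (.node (.node (.node (.leaf (nat_lit 0x354131453141)) (.leaf (nat_lit 0x3514513254518))) (.node (.leaf (nat_lit 0x541441453233238)) (.leaf (nat_lit 0x542314535154138)))) (.node (.node (.leaf (nat_lit 0x541354523541328)) (.leaf (nat_lit 0x5225454531145353))) (.node (.leaf (nat_lit 0x153545352453548)) (.leaf (nat_lit 0x0))))) (.node (.node (.node (.leaf (nat_lit 0x25311452)) (.leaf (nat_lit 0x415324535145328))) (.node (.leaf (nat_lit 0x524131425324138)) (.leaf (nat_lit 0x0)))) (.node (.node (.leaf (nat_lit 0x32331354144245)) (.leaf (nat_lit 0x354513541325428))) (.node (.leaf (nat_lit 0x25354135142354)) (.leaf (nat_lit 0x0)))))) (.node (.node (.node (.node (.leaf (nat_lit 0x5135241535148)) (.leaf (nat_lit 0x3351154422))) (.node (.leaf (nat_lit 0x3525144223)) (.leaf (nat_lit 0x51535452253542)))) (.node (.node (.leaf (nat_lit 0x31423514132425))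 (.leaf (nat_lit 0x311452518))) (.node (.leaf (nat_lit 0x32451324531545)) (.leaf (nat_lit 0x0))))) (.node (.node (.node (.leaf (nat_lit 0x35413514135415)) (.leaf (nat_lit 0x2244535413545313))) (.node (.leaf (nat_lit 0x4535441133545311)) (.leaf (nat_lit 0x0)))) (.node (.node (.leaf (nat_lit 0x51332244528)) (.leaf (nat_lit 0x535423145324528))) (.node (.leaf (nat_lit 0x35423525453241)) (.leaf (nat_lit 0x0)))))))))) (.node (.node (.node (.node (.node (.node (.node (.node (.leaf (nat_lit 0x2222)) (.leaf (nat_lit 0x541324531423))) (.node (.leaf (nat_lit 0x513145325453248)) (.leaf (nat_lit 0x53311445452513)))) (.node (.node (.leaf (nat_lit 0x14135415354135)) (.leaf (nat_lit 0x325452315425))) (.node (.leaf (nat_lit 0x423254232452318)) (.leaf (nat_lit 0x0))))) (.node (.node (.node (.leaf (nat_lit 0x53245131453254)) (.leaf (nat_lit 0x224545115353))) (.node (.leaf (nat_lit 0x354222354532458)) (.leaf (nat_lit 0x51314232542314)))) (.node (.node (.leaf (nat_lit 0x42441453233135)) (.leaf (nat_lit 0x524523154523))) (.node (.leaf (nat_lit 0x541352413542538))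 (.leaf (nat_lit 0x0)))))) (.node (.node (.node (.node (.leaf (nat_lit 0x4131453141358)) (.leaf (nat_lit 0x32453525413542))) (.node (.leaf (nat_lit 0x235424424532338)) (.leaf (nat_lit 0x52531453242354)))) (.node (.node (.leaf (nat_lit 0x532453541354)) (.leaf (nat_lit 0x53511545331144))) (.node (.leaf (nat_lit 0x531525453114)) (.leaf (nat_lit 0x0))))) (.node (.node (.node (.leaf (nat_lit 0x535251453114)) (.leaf (nat_lit 0x4411335225))) (.node (.leaf (nat_lit 0x231154133131354242448)) (.leaf (nat_lit 0x0)))) (.node (.node (.leaf (nat_lit 0x41351413242532)) (.leaf (nat_lit 0x24525132))) (.node (.leaf (nat_lit 0x425354135241358)) (.leaf (nat_lit 0x0))))))) (.node (.node (.node (.node (.node (.leaf (nat_lit 0x35425354535145)) (.leaf (nat_lit 0x54131453515423))) (.node (.leaf (nat_lit 0x424424532332358)) (.leaf (nat_lit 0x35411354533224458)))) (.node (.node (.leaf (nat_lit 0x114223)) (.leaf (nat_lit 0x35251442238))) (.node (.leaf (nat_lit 0x53545314535451)) (.leaf (nat_lit 0x0))))) (.node (.node (.node (.leaf (nat_lit 0x535241532542))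 (.leaf (nat_lit 0x133351154441))) (.node (.leaf (nat_lit 0x53545352453541)) (.leaf (nat_lit 0x1533544223354425)))) (.node (.node (.leaf (nat_lit 0x45231423254131)) (.leaf (nat_lit 0x3114545315254535))) (.node (.leaf (nat_lit 0x542532545231)) (.leaf (nat_lit 0x0)))))) (.node (.node (.node (.node (.leaf (nat_lit 0x524513154513)) (.leaf (nat_lit 0x11533541135445))) (.node (.leaf (nat_lit 0x324532413541)) (.leaf (nat_lit 0x411325158)))) (.node (.node (.leaf (nat_lit 0x415314135141328)) (.leaf (nat_lit 0x2354231453148))) (.node (.leaf (nat_lit 0x35225411)) (.leaf (nat_lit 0x0))))) (.node (.node (.node (.leaf (nat_lit 0x35453254535451)) (.leaf (nat_lit 0x5141535145238))) (.node (.leaf (nat_lit 0x5115332244)) (.leaf (nat_lit 0x0)))) (.node (.node (.leaf (nat_lit 0x425314135141318)) (.leaf (nat_lit 0x1532545232548))) (.node (.leaf (nat_lit 0x542314535254238)) (.leaf (nat_lit 0x0)))))))) (.node (.node (.node (.node (.node (.node (.leaf (nat_lit 0x444444)) (.leaf (nat_lit 0x1425325425358))) (.node (.leaf (nat_lit 0x1451315452358)) (.leaf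 (nat_lit 0x325425315452)))) (.node (.node (.leaf (nat_lit 0x545354535453)) (.leaf (nat_lit 0x314535423545))) (.node (.leaf (nat_lit 0x325154531145)) (.leaf (nat_lit 0x0))))) (.node (.node (.node (.leaf (nat_lit 0x131413142314)) (.leaf (nat_lit 0x324132423141))) (.node (.leaf (nat_lit 0x4231413142328)) (.leaf (nat_lit 0x15354152535451)))) (.node (.node (.leaf (nat_lit 0x53541354535154)) (.leaf (nat_lit 0x52545451153531))) (.node (.leaf (nat_lit 0x3114535152458)) (.leaf (nat_lit 0x0)))))) (.node (.node (.node (.node (.leaf (nat_lit 0x131413141324)) (.leaf (nat_lit 0x325453245131458))) (.node (.leaf (nat_lit 0x3242324232418)) (.leaf (nat_lit 0x5322454113)))) (.node (.node (.leaf (nat_lit 0x32451531413142)) (.leaf (nat_lit 0x542352545324138))) (.node (.leaf (nat_lit 0x33525144118)) (.leaf (nat_lit 0x0))))) (.node (.node (.node (.leaf (nat_lit 0x3544424241313133354442424131313335444242451313133)) (.leaf (nat_lit 0x115413313135424244238))) (.node (.leaf (nat_lit 0x54132541354523)) (.leaf (nat_lit 0x0)))) (.node (.node (.leaf (nat_lit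 0x3323331332333133233318)) (.leaf (nat_lit 0x25133541135445))) (.node (.leaf (nat_lit 0x541314523142328)) (.leaf (nat_lit 0x0))))))) (.node (.node (.node (.node (.node (.leaf (nat_lit 0x44145313313541)) (.leaf (nat_lit 0x3241314132428))) (.node (.leaf (nat_lit 0x5451153152)) (.leaf (nat_lit 0x145351524531)))) (.node (.node (.leaf (nat_lit 0x52311451)) (.leaf (nat_lit 0x4223544223358))) (.node (.leaf (nat_lit 0x315254228)) (.leaf (nat_lit 0x0))))) (.node (.node (.node (.leaf (nat_lit 0x35251411)) (.leaf (nat_lit 0x235453222453548))) (.node (.leaf (nat_lit 0x22454451153353)) (.leaf (nat_lit 0x0)))) (.node (.node (.leaf (nat_lit 0x41351423241532)) (.leaf (nat_lit 0x542535141531))) (.node (.leaf (nat_lit 0x4253254513258)) (.leaf (nat_lit 0x0)))))) (.node (.node (.node (.node (.leaf (nat_lit 0x141535245135)) (.leaf (nat_lit 0x35453515453542228))) (.node (.leaf (nat_lit 0x53542411335453248)) (.leaf (nat_lit 0x14135413525453)))) (.node (.node (.leaf (nat_lit 0x5331144511)) (.leaf (nat_lit 0x3224541135))) (.node (.leaf (nat_lit 0x4135453132244535))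 (.leaf (nat_lit 0x0))))) (.node (.node (.node (.leaf (nat_lit 0x52528)) (.leaf (nat_lit 0x453241532453518))) (.node (.leaf (nat_lit 0x13545351545354)) (.leaf (nat_lit 0x0)))) (.node (.node (.leaf (nat_lit 0x324235413145)) (.leaf (nat_lit 0x2445442233533515))) (.node (.leaf (nat_lit 0x2324531413548)) (.leaf (nat_lit 0x0))))))))) (.node (.node (.node (.node (.node (.node (.node (.leaf (nat_lit 0x515222)) (.leaf (nat_lit 0x53311445351154))) (.node (.leaf (nat_lit 0x3224535441133545)) (.leaf (nat_lit 0x154451153325)))) (.node (.node (.leaf (nat_lit 0x145231545135)) (.leaf (nat_lit 0x3224535115458))) (.node (.leaf (nat_lit 0x251453224535)) (.leaf (nat_lit 0x0))))) (.node (.node (.node (.leaf (nat_lit 0x542324532423)) (.leaf (nat_lit 0x523154253254))) (.node (.leaf (nat_lit 0x3544113354118)) (.leaf (nat_lit 0x325415352451)))) (.node (.node (.leaf (nat_lit 0x35115411)) (.leaf (nat_lit 0x5142535145138))) (.node (.leaf (nat_lit 0x41354531322445358)) (.leaf (nat_lit 0x0)))))) (.node (.node (.node (.node (.leaf (nat_lit 0x23224515)) (.leaf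 (nat_lit 0x451535423145318))) (.node (.leaf (nat_lit 0x1153311445)) (.leaf (nat_lit 0x453525145351158)))) (.node (.node (.leaf (nat_lit 0x45135423154235)) (.leaf (nat_lit 0x33535115454441138))) (.node (.leaf (nat_lit 0x51354522535452)) (.leaf (nat_lit 0x0))))) (.node (.node (.node (.leaf (nat_lit 0x5225354113548)) (.leaf (nat_lit 0x154235423245358))) (.node (.leaf (nat_lit 0x3114145354135453)) (.leaf (nat_lit 0x0)))) (.node (.node (.leaf (nat_lit 0x232242)) (.leaf (nat_lit 0x515324131423148))) (.node (.leaf (nat_lit 0x515453224532)) (.leaf (nat_lit 0x0))))))) (.node (.node (.node (.node (.node (.leaf (nat_lit 0x32542354513541)) (.leaf (nat_lit 0x2514545411353535))) (.node (.leaf (nat_lit 0x135413254235458)) (.leaf (nat_lit 0x3154153514518)))) (.node (.node (.leaf (nat_lit 0x31451314531545)) (.leaf (nat_lit 0x2245354411335453))) (.node (.leaf (nat_lit 0x441133541135)) (.leaf (nat_lit 0x0))))) (.node (.node (.node (.leaf (nat_lit 0x335115444113)) (.leaf (nat_lit 0x54531525453511))) (.node (.leaf (nat_lit 0x335251445115)) (.leaf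 (nat_lit 0x5445441133533522)))) (.node (.node (.leaf (nat_lit 0x11545315254535)) (.leaf (nat_lit 0x5115315254))) (.node (.leaf (nat_lit 0x511545352514538)) (.leaf (nat_lit 0x0)))))) (.node (.node (.node (.node (.leaf (nat_lit 0x42314535154135)) (.leaf (nat_lit 0x45322453531145))) (.node (.leaf (nat_lit 0x22235453245354)) (.leaf (nat_lit 0x453311445331148)))) (.node (.node (.leaf (nat_lit 0x3114228)) (.leaf (nat_lit 0x4513524253528))) (.node (.leaf (nat_lit 0x42235453322445358)) (.leaf (nat_lit 0x0))))) (.node (.node (.node (.leaf (nat_lit 0x2451153515)) (.leaf (nat_lit 0x423245351542358))) (.node (.leaf (nat_lit 0x5451153542238)) (.leaf (nat_lit 0x0)))) (.node (.node (.leaf (nat_lit 0x352425351452)) (.leaf (nat_lit 0x42352541314232))) (.node (.leaf (nat_lit 0x145411353525)) (.leaf (nat_lit 0x0)))))))) (.node (.node (.node (.node (.node (.node (.leaf (nat_lit 0x54445152333511)) (.leaf (nat_lit 0x314532545324518))) (.node (.leaf (nat_lit 0x42233224)) (.leaf (nat_lit 0x4452513335311454)))) (.node (.node (.leaf (nat_lit 0x54513542325413))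 (.leaf (nat_lit 0x425325451351))) (.node (.leaf (nat_lit 0x41135422358)) (.leaf (nat_lit 0x0))))) (.node (.node (.node (.leaf (nat_lit 0x314132413141)) (.leaf (nat_lit 0x531413514131428))) (.node (.leaf (nat_lit 0x2511158)) (.leaf (nat_lit 0x11445441133533)))) (.node (.node (.leaf (nat_lit 0x5413545313114453)) (.leaf (nat_lit 0x4523254153258))) (.node (.leaf (nat_lit 0x542535423514138)) (.leaf (nat_lit 0x0)))))) (.node (.node (.node (.node (.leaf (nat_lit 0x4525133224)) (.leaf (nat_lit 0x45153141324231))) (.node (.leaf (nat_lit 0x15354531453545)) (.leaf (nat_lit 0x52253353114544)))) (.node (.node (.leaf (nat_lit 0x142325413245138)) (.leaf (nat_lit 0x542232518))) (.node (.leaf (nat_lit 0x35413145324515)) (.leaf (nat_lit 0x0))))) (.node (.node (.node (.leaf (nat_lit 0x25411315)) (.leaf (nat_lit 0x5313133354442424231313335444242423131333544424242))) (.node (.leaf (nat_lit 0x515232248)) (.leaf (nat_lit 0x0)))) (.node (.node (.leaf (nat_lit 0x423245314135)) (.leaf (nat_lit 0x4131413241318))) (.node (.leaf (nat_lit 0x22545315254535))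 (.leaf (nat_lit 0x0))))))) (.node (.node (.node (.node (.node (.leaf (nat_lit 0x442444144244414424441)) (.leaf (nat_lit 0x1445333114445331))) (.node (.leaf (nat_lit 0x52335422354451)) (.leaf (nat_lit 0x4113545441133535)))) (.node (.node (.leaf (nat_lit 0x4142233545314535)) (.leaf (nat_lit 0x333224441525))) (.node (.leaf (nat_lit 0x542324531452538)) (.leaf (nat_lit 0x0))))) (.node (.node (.node (.leaf (nat_lit 0x1454454223533531)) (.leaf (nat_lit 0x415325451315))) (.node (.leaf (nat_lit 0x242532423524138)) (.leaf (nat_lit 0x0)))) (.node (.node (.leaf (nat_lit 0x14515231)) (.leaf (nat_lit 0x5253542235418))) (.node (.leaf (nat_lit 0x4535351154545322)) (.leaf (nat_lit 0x0)))))) (.node (.node (.node (.node (.leaf (nat_lit 0x542223545324538)) (.leaf (nat_lit 0x3511544411338))) (.node (.leaf (nat_lit 0x42324153241351)) (.leaf (nat_lit 0x53154532451324)))) (.node (.node (.leaf (nat_lit 0x413142314232)) (.leaf (nat_lit 0x5415253542238))) (.node (.leaf (nat_lit 0x514153154253)) (.leaf (nat_lit 0x0))))) (.node (.node (.node (.leaf (nat_lit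 0x15231145)) (.leaf (nat_lit 0x42354515314531))) (.node (.leaf (nat_lit 0x11445352514533)) (.leaf (nat_lit 0x0)))) (.node (.node (.leaf (nat_lit 0x352425325415)) (.leaf (nat_lit 0x515235311454))) (.node (.leaf (nat_lit 0x3354531453541422)) (.leaf (nat_lit 0x0)))))))))))

end Cfsg.Agent.TcData.HN.I1539000
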