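import Cfsg.Agent.Lib.TcFacts

set_option autoImplicit false
set_option Elab.async false
set_option maxRecDepth 100000
set_option linter.all false

namespace Cfsg.Agent.TcData.HN.I1539000

open Cfsg.Agent.Lib.TcFacts

/-- A part of a table. -/
noncomputable def PW14 : Tr := (.node (.node (.node (.node (.node (.node (.node (.node (.node (.leaf (nat_lit 0x626618)) (.leaf (nat_lit 0x23511542))) (.node (.leaf (nat_lit 0x4422335152)) (.leaf (nat_lit 0x2424513131333544424241313133354442424131313335444)))) (.node (.node (.leaf (nat_lit 0x351451351425)) (.leaf (nat_lit 0x35454113535422))) (.node (.leaf (nat_lit 0x225444113335)) (.leaf (nat_lit 0x0))))) (.node (.node (.node (.leaf (nat_lit 0x45324515354131)) (.leaf (nat_lit 0x3545311145354525))) (.node (.leaf (nat_lit 0x513514523154)) (.leaf (nat_lit 0x225354411335458)))) (.node (.node (.leaf (nat_lit 0x2233511544)) (.leaf (nat_lit 0x3311445152))) (.node (.leaf (nat_lit 0x3524153154158)) (.leaf (nat_lit 0x0)))))) (.node (.node (.node (.node (.leaf (nat_lit 0x14531331354144)) (.leaf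 (nat_lit 0x15423541314535))) (.node (.leaf (nat_lit 0x42413131333544424245131313335444242413131333544428)) (.leaf (nat_lit 0x3251545411358)))) (.node (.node (.leaf (nat_lit 0x313542424423522413318)) (.leaf (nat_lit 0x1133544511533544))) (.node (.leaf (nat_lit 0x5425325451328)) (.leaf (nat_lit 0x0))))) (.node (.node (.node (.leaf (nat_lit 0x251522)) (.leaf (nat_lit 0x3254523154258))) (.node (.leaf (nat_lit 0x5352514531148)) (.leaf (nat_lit 0x0)))) (.node (.node (.leaf (nat_lit 0x4253524253158)) (.leaf (nat_lit 0x153514523514))) (.node (.leaf (nat_lit 0x52453242532453)) (.leaf (nat_lit 0x0))))))) (.node (.node (.node (.node (.node (.leaf (nat_lit 0x523154513514)) (.leaf (nat_lit 0x3224453542354532))) (.node (.leaf (nat_lit 0x42354131453515)) (.leaf (nat_lit 0x5444113335331144)))) (.node (.node (.leaf (nat_lit 0x31413142314525)) (.leaf (nat_lit 0x5133533114454452))) (.node (.leaf (nat_lit 0x4513524513158)) (.leaf (nat_lit 0x0))))) (.node (.node (.node (.leaf (nat_lit 0x13114525)) (.leaf (nat_lit 0x523332244451))) (.node (.leaf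 (nat_lit 0x4144244414424441442448)) (.leaf (nat_lit 0x5235141532548)))) (.node (.node (.leaf (nat_lit 0x5153522542)) (.leaf (nat_lit 0x31144454251535338))) (.node (.leaf (nat_lit 0x415315451325)) (.leaf (nat_lit 0x0)))))) (.node (.node (.node (.node (.leaf (nat_lit 0x5351154251)) (.leaf (nat_lit 0x45351545354135))) (.node (.leaf (nat_lit 0x3544113354532245)) (.leaf (nat_lit 0x4533114145354135)))) (.node (.node (.leaf (nat_lit 0x52514223)) (.leaf (nat_lit 0x31413254232451))) (.node (.leaf (nat_lit 0x135141314253148)) (.leaf (nat_lit 0x0))))) (.node (.node (.node (.leaf (nat_lit 0x5253511541)) (.leaf (nat_lit 0x453145153542318))) (.node (.leaf (nat_lit 0x45225322)) (.leaf (nat_lit 0x0)))) (.node (.node (.leaf (nat_lit 0x245231423254238)) (.leaf (nat_lit 0x4535251453331144))) (.node (.leaf (nat_lit 0x145352453142538)) (.leaf (nat_lit 0x0)))))))) (.node (.node (.node (.node (.node (.node (.leaf (nat_lit 0x5254511531)) (.leaf (nat_lit 0x13541314535254))) (.node (.leaf (nat_lit 0x5225354223548)) (.leaf (nat_lit 0x13145132423254))))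 (.node (.node (.leaf (nat_lit 0x13542325413545)) (.leaf (nat_lit 0x4251535422358))) (.node (.leaf (nat_lit 0x54231542354513)) (.leaf (nat_lit 0x0))))) (.node (.node (.node (.leaf (nat_lit 0x3114545352514535)) (.leaf (nat_lit 0x532245351154))) (.node (.leaf (nat_lit 0x45311453331144)) (.leaf (nat_lit 0x3351154411)))) (.node (.node (.leaf (nat_lit 0x54131451314231)) (.leaf (nat_lit 0x515235411354))) (.node (.leaf (nat_lit 0x3541354531311445)) (.leaf (nat_lit 0x0)))))) (.node (.node (.node (.node (.leaf (nat_lit 0x423142324131)) (.leaf (nat_lit 0x3114453541135453))) (.node (.leaf (nat_lit 0x142324235254138)) (.leaf (nat_lit 0x3541135454411335)))) (.node (.node (.leaf (nat_lit 0x45153245314135)) (.leaf (nat_lit 0x2333224445158))) (.node (.leaf (nat_lit 0x4531145351158)) (.leaf (nat_lit 0x0))))) (.node (.node (.node (.leaf (nat_lit 0x1135454422335354)) (.leaf (nat_lit 0x25423145231413))) (.node (.leaf (nat_lit 0x233311444515)) (.leaf (nat_lit 0x0)))) (.node (.node (.leaf (nat_lit 0x3514513154158)) (.leaf (nat_lit 0x5415253511)))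 (.node (.leaf (nat_lit 0x2245411353)) (.leaf (nat_lit 0x0))))))) (.node (.node (.node (.node (.node (.leaf (nat_lit 0x52535451153541)) (.leaf (nat_lit 0x5225441133))) (.node (.leaf (nat_lit 0x42442453133135)) (.leaf (nat_lit 0x351451325425)))) (.node (.node (.leaf (nat_lit 0x31451314231541)) (.leaf (nat_lit 0x1132354532453544))) (.node (.leaf (nat_lit 0x351452325452)) (.leaf (nat_lit 0x0))))) (.node (.node (.node (.leaf (nat_lit 0x54132542354513)) (.leaf (nat_lit 0x5325451325428))) (.node (.leaf (nat_lit 0x35413545351545)) (.leaf (nat_lit 0x0)))) (.node (.node (.leaf (nat_lit 0x5352415325428)) (.leaf (nat_lit 0x251533351154448))) (.node (.leaf (nat_lit 0x14131423145253)) (.leaf (nat_lit 0x0)))))) (.node (.node (.node (.node (.leaf (nat_lit 0x141351423242538)) (.leaf (nat_lit 0x1451351425358))) (.node (.leaf (nat_lit 0x5135225452)) (.leaf (nat_lit 0x24513131333544424241313133354442424131313335444248)))) (.node (.node (.leaf (nat_lit 0x3532245422)) (.leaf (nat_lit 0x45453322445353118))) (.node (.leaf (nat_lit 0x4513254253258))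 (.leaf (nat_lit 0x0))))) (.node (.node (.node (.leaf (nat_lit 0x13541535413514)) (.leaf (nat_lit 0x35454223535452258))) (.node (.leaf (nat_lit 0x45351154533114)) (.leaf (nat_lit 0x0)))) (.node (.node (.leaf (nat_lit 0x2314131413148)) (.leaf (nat_lit 0x415253331144))) (.node (.leaf (nat_lit 0x52353522545451)) (.leaf (nat_lit 0x0))))))))) (.node (.node (.node (.node (.node (.node (.node (.leaf (nat_lit 0x1135333511544454)) (.leaf (nat_lit 0x3541324532418))) (.node (.leaf (nat_lit 0x45253145314135)) (.leaf (nat_lit 0x531542535141)))) (.node (.node (.leaf (nat_lit 0x52354132541354)) (.leaf (nat_lit 0x452315425325))) (.node (.leaf (nat_lit 0x232425324235148)) (.leaf (nat_lit 0x0))))) (.node (.node (.node (.leaf (nat_lit 0x3354442424131313335444242451313133354442424131313)) (.leaf (nat_lit 0x31145453114535))) (.node (.leaf (nat_lit 0x254153514153)) (.leaf (nat_lit 0x44511533531145)))) (.node (.node (.leaf (nat_lit 0x41351542314132)) (.leaf (nat_lit 0x314132542314528))) (.node (.leaf (nat_lit 0x4131313335444242413131333544424245131313335444242))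 (.leaf (nat_lit 0x0)))))) (.node (.node (.node (.node (.leaf (nat_lit 0x545324513245318)) (.leaf (nat_lit 0x4223354531453541))) (.node (.leaf (nat_lit 0x5241535145138)) (.leaf (nat_lit 0x5322454422338)))) (.node (.node (.leaf (nat_lit 0x535145135241)) (.leaf (nat_lit 0x153145314235458))) (.node (.leaf (nat_lit 0x4242413131333544424245131313335444242413131333544)) (.leaf (nat_lit 0x0))))) (.node (.node (.node (.leaf (nat_lit 0x523142325413148)) (.leaf (nat_lit 0x133522544525))) (.node (.leaf (nat_lit 0x441133118)) (.leaf (nat_lit 0x0)))) (.node (.node (.leaf (nat_lit 0x22351524)) (.leaf (nat_lit 0x251353311445458))) (.node (.leaf (nat_lit 0x42235152)) (.leaf (nat_lit 0x0))))))) (.node (.node (.node (.node (.node (.leaf (nat_lit 0x4113541135)) (.leaf (nat_lit 0x5351451351428))) (.node (.leaf (nat_lit 0x25453142354235)) (.leaf (nat_lit 0x232541314513248)))) (.node (.node (.leaf (nat_lit 0x35452354232542)) (.leaf (nat_lit 0x5324535424223354))) (.node (.leaf (nat_lit 0x515423541314538)) (.leaf (nat_lit 0x0))))) (.node (.node (.node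 (.leaf (nat_lit 0x51532242)) (.leaf (nat_lit 0x41532453514532))) (.node (.leaf (nat_lit 0x24231542314513)) (.leaf (nat_lit 0x15235441133545)))) (.node (.node (.leaf (nat_lit 0x1145333511544453)) (.leaf (nat_lit 0x4422335322458))) (.node (.leaf (nat_lit 0x314535145324258)) (.leaf (nat_lit 0x0)))))) (.node (.node (.node (.node (.leaf (nat_lit 0x25135352254545)) (.leaf (nat_lit 0x35311454535115458))) (.node (.leaf (nat_lit 0x11453531145453)) (.leaf (nat_lit 0x31452314132542)))) (.node (.node (.leaf (nat_lit 0x531545135141)) (.leaf (nat_lit 0x41135453311445358))) (.node (.leaf (nat_lit 0x2425315451358)) (.leaf (nat_lit 0x0))))) (.node (.node (.node (.leaf (nat_lit 0x532515453114)) (.leaf (nat_lit 0x13335311454441))) (.node (.leaf (nat_lit 0x451352425352)) (.leaf (nat_lit 0x0)))) (.node (.node (.leaf (nat_lit 0x24131425324135)) (.leaf (nat_lit 0x145132542535))) (.node (.leaf (nat_lit 0x15422351)) (.leaf (nat_lit 0x0)))))))) (.node (.node (.node (.node (.node (.node (.leaf (nat_lit 0x114113)) (.leaf (nat_lit 0x14523141325423)))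 (.node (.leaf (nat_lit 0x4223335225448)) (.leaf (nat_lit 0x354223545152)))) (.node (.node (.leaf (nat_lit 0x413145231423258)) (.leaf (nat_lit 0x3322441525))) (.node (.leaf (nat_lit 0x2333224442)) (.leaf (nat_lit 0x0))))) (.node (.node (.node (.leaf (nat_lit 0x33235424414531)) (.leaf (nat_lit 0x514232415314238))) (.node (.leaf (nat_lit 0x25154113)) (.leaf (nat_lit 0x444223335115)))) (.node (.node (.leaf (nat_lit 0x351452351415)) (.leaf (nat_lit 0x4251533354113544))) (.node (.leaf (nat_lit 0x54422332518)) (.leaf (nat_lit 0x0)))))) (.node (.node (.node (.node (.leaf (nat_lit 0x45235413254135)) (.leaf (nat_lit 0x53245354241133548))) (.node (.leaf (nat_lit 0x2542535241538)) (.leaf (nat_lit 0x51541314132423)))) (.node (.node (.leaf (nat_lit 0x542424423115413313138)) (.leaf (nat_lit 0x51154453114533))) (.node (.leaf (nat_lit 0x53545225354541138)) (.leaf (nat_lit 0x0))))) (.node (.node (.node (.leaf (nat_lit 0x53241314232452)) (.leaf (nat_lit 0x253241324231458))) (.node (.leaf (nat_lit 0x51354511535452)) (.leaf (nat_lit 0x0)))) (.node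 (.node (.leaf (nat_lit 0x25453545135453)) (.leaf (nat_lit 0x4454411335333114))) (.node (.leaf (nat_lit 0x241532413514238)) (.leaf (nat_lit 0x0))))))) (.node (.node (.node (.node (.node (.leaf (nat_lit 0x413141324232)) (.leaf (nat_lit 0x35453145354141138))) (.node (.leaf (nat_lit 0x5423145324138)) (.leaf (nat_lit 0x542515354223)))) (.node (.node (.leaf (nat_lit 0x51354132542354)) (.leaf (nat_lit 0x5145135142538))) (.node (.leaf (nat_lit 0x22354533224453548)) (.leaf (nat_lit 0x0))))) (.node (.node (.node (.leaf (nat_lit 0x5411354113)) (.leaf (nat_lit 0x5225415253))) (.node (.leaf (nat_lit 0x45324535422235)) (.leaf (nat_lit 0x0)))) (.node (.node (.leaf (nat_lit 0x1133545314535414)) (.leaf (nat_lit 0x415325415351))) (.node (.leaf (nat_lit 0x2533224415)) (.leaf (nat_lit 0x0)))))) (.node (.node (.node (.node (.leaf (nat_lit 0x5235241535248)) (.leaf (nat_lit 0x3224532245))) (.node (.leaf (nat_lit 0x15422325)) (.leaf (nat_lit 0x52535452253541)))) (.node (.node (.leaf (nat_lit 0x451315425315)) (.leaf (nat_lit 0x3522545422358))) (.node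 (.leaf (nat_lit 0x545311453511)) (.leaf (nat_lit 0x0))))) (.node (.node (.node (.leaf (nat_lit 0x4453311445335115)) (.leaf (nat_lit 0x4522535422358))) (.node (.leaf (nat_lit 0x4535441133545322)) (.leaf (nat_lit 0x0)))) (.node (.node (.leaf (nat_lit 0x425324235241328)) (.leaf (nat_lit 0x415351415325))) (.node (.leaf (nat_lit 0x35423525453142)) (.leaf (nat_lit 0x0)))))))))) (.node (.node (.node (.node (.node (.node (.node (.node (.leaf (nat_lit 0x141131)) (.leaf (nat_lit 0x532423541314))) (.node (.leaf (nat_lit 0x5225315254)) (.leaf (nat_lit 0x4532515453531145)))) (.node (.node (.leaf (nat_lit 0x453224533114)) (.leaf (nat_lit 0x24532413545253))) (.node (.leaf (nat_lit 0x5315451352428)) (.leaf (nat_lit 0x0))))) (.node (.node (.node (.leaf (nat_lit 0x453133135414418)) (.leaf (nat_lit 0x1524422335))) (.node (.leaf (nat_lit 0x451523331144)) (.leaf (nat_lit 0x54131423242352)))) (.node (.node (.leaf (nat_lit 0x5324135423148)) (.leaf (nat_lit 0x535225453224))) (.node (.leaf (nat_lit 0x5324235423248)) (.leaf (nat_lit 0x0)))))) (.node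 (.node (.node (.node (.leaf (nat_lit 0x4232453141358)) (.leaf (nat_lit 0x35413515453241))) (.node (.leaf (nat_lit 0x14532332354144)) (.leaf (nat_lit 0x41133353114544)))) (.node (.node (.leaf (nat_lit 0x5441133545322453)) (.leaf (nat_lit 0x251531148))) (.node (.leaf (nat_lit 0x514532425314538)) (.leaf (nat_lit 0x0))))) (.node (.node (.node (.leaf (nat_lit 0x242444242444242444242444)) (.leaf (nat_lit 0x4135413245328))) (.node (.leaf (nat_lit 0x223311448)) (.leaf (nat_lit 0x0)))) (.node (.node (.leaf (nat_lit 0x42351413242531)) (.leaf (nat_lit 0x411354541135358))) (.node (.leaf (nat_lit 0x32245453511545358)) (.leaf (nat_lit 0x0))))))) (.node (.node (.node (.node (.node (.leaf (nat_lit 0x32541314513141)) (.leaf (nat_lit 0x45251331148))) (.node (.leaf (nat_lit 0x24535145314253)) (.leaf (nat_lit 0x45411353531145)))) (.node (.node (.leaf (nat_lit 0x35154532413541)) (.leaf (nat_lit 0x54531145354411338))) (.node (.leaf (nat_lit 0x1135333522544454)) (.leaf (nat_lit 0x0))))) (.node (.node (.node (.leaf (nat_lit 0x46378)) (.leaf (nat_lit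 0x531145441133))) (.node (.leaf (nat_lit 0x25135451153545)) (.leaf (nat_lit 0x3522544113)))) (.node (.node (.leaf (nat_lit 0x45231413254132)) (.leaf (nat_lit 0x52253525148))) (.node (.leaf (nat_lit 0x542532545132)) (.leaf (nat_lit 0x0)))))) (.node (.node (.node (.node (.leaf (nat_lit 0x41354513542325)) (.leaf (nat_lit 0x525335115441))) (.node (.leaf (nat_lit 0x1335453145354141)) (.leaf (nat_lit 0x23525142)))) (.node (.node (.leaf (nat_lit 0x15324131423145)) (.leaf (nat_lit 0x14544223353525))) (.node (.leaf (nat_lit 0x3522542515)) (.leaf (nat_lit 0x0))))) (.node (.node (.node (.leaf (nat_lit 0x35453154535452)) (.leaf (nat_lit 0x25154223))) (.node (.leaf (nat_lit 0x31144453114533)) (.leaf (nat_lit 0x0)))) (.node (.node (.leaf (nat_lit 0x1324232423248)) (.leaf (nat_lit 0x15245331144535))) (.node (.leaf (nat_lit 0x542324535254138)) (.leaf (nat_lit 0x0)))))))) (.node (.node (.node (.node (.node (.node (.leaf (nat_lit 0x132413141314)) (.leaf (nat_lit 0x4113535451153545))) (.node (.leaf (nat_lit 0x453245354135)) (.leaf (nat_lit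 0x41351423542535)))) (.node (.node (.leaf (nat_lit 0x5353114545351154)) (.leaf (nat_lit 0x51153525148))) (.node (.leaf (nat_lit 0x23254135451354)) (.leaf (nat_lit 0x0))))) (.node (.node (.node (.leaf (nat_lit 0x231413142324)) (.leaf (nat_lit 0x324132423242))) (.node (.leaf (nat_lit 0x41442453133235)) (.leaf (nat_lit 0x513514253254)))) (.node (.node (.leaf (nat_lit 0x35413525453141)) (.leaf (nat_lit 0x51545451153532))) (.node (.leaf (nat_lit 0x32423254131451)) (.leaf (nat_lit 0x0)))))) (.node (.node (.node (.node (.leaf (nat_lit 0x44113352258)) (.leaf (nat_lit 0x3525145311458))) (.node (.leaf (nat_lit 0x5253311441)) (.leaf (nat_lit 0x33532245444525138)))) (.node (.node (.leaf (nat_lit 0x32451535413145)) (.leaf (nat_lit 0x4441525333228))) (.node (.leaf (nat_lit 0x251532248)) (.leaf (nat_lit 0x0))))) (.node (.node (.node (.leaf (nat_lit 0x545231542532)) (.leaf (nat_lit 0x15235115458))) (.node (.leaf (nat_lit 0x41135333114445)) (.leaf (nat_lit 0x0)))) (.node (.node (.leaf (nat_lit 0x35453245354242238)) (.leaf (nat_lit 0x444152533311)))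 (.node (.leaf (nat_lit 0x15253511548)) (.leaf (nat_lit 0x0))))))) (.node (.node (.node (.node (.node (.leaf (nat_lit 0x41135115)) (.leaf (nat_lit 0x4113352254))) (.node (.leaf (nat_lit 0x54223541138)) (.leaf (nat_lit 0x245351524532)))) (.node (.node (.leaf (nat_lit 0x514513514253)) (.leaf (nat_lit 0x4513154153518))) (.node (.leaf (nat_lit 0x35115441138)) (.leaf (nat_lit 0x0))))) (.node (.node (.node (.leaf (nat_lit 0x35251422)) (.leaf (nat_lit 0x4522535251))) (.node (.leaf (nat_lit 0x14544251533531)) (.leaf (nat_lit 0x0)))) (.node (.node (.leaf (nat_lit 0x42351423541535)) (.leaf (nat_lit 0x4442233354422335))) (.node (.leaf (nat_lit 0x4442424231313335444242423131333544424242531313335)) (.leaf (nat_lit 0x0)))))) (.node (.node (.node (.node (.leaf (nat_lit 0x241535145135)) (.leaf (nat_lit 0x354535254535428))) (.node (.leaf (nat_lit 0x42354153542351)) (.leaf (nat_lit 0x24135413515453)))) (.node (.node (.leaf (nat_lit 0x5314135423248)) (.leaf (nat_lit 0x51413542535423))) (.node (.leaf (nat_lit 0x45332244535115)) (.leaf (nat_lit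 0x0))))) (.node (.node (.node (.leaf (nat_lit 0x52254113)) (.leaf (nat_lit 0x11354113548))) (.node (.leaf (nat_lit 0x1453541354533114)) (.leaf (nat_lit 0x0)))) (.node (.node (.leaf (nat_lit 0x111354531453548)) (.leaf (nat_lit 0x1335331144544525))) (.node (.leaf (nat_lit 0x22354223548)) (.leaf (nat_lit 0x0))))))))) (.node (.node (.node (.node (.node (.node (.node (.leaf (nat_lit 0x565656)) (.leaf (nat_lit 0x515242238))) (.node (.leaf (nat_lit 0x3541135411)) (.leaf (nat_lit 0x25324535245324)))) (.node (.node (.leaf (nat_lit 0x245232545135)) (.leaf (nat_lit 0x5251332244))) (.node (.leaf (nat_lit 0x251453114535)) (.leaf (nat_lit 0x0))))) (.node (.node (.node (.leaf (nat_lit 0x1413541314538)) (.leaf (nat_lit 0x1153545411353545))) (.node (.leaf (nat_lit 0x232453141354)) (.leaf (nat_lit 0x325415351452)))) (.node (.node (.leaf (nat_lit 0x35115422)) (.leaf (nat_lit 0x413141324235158))) (.node (.leaf (nat_lit 0x42235453311445358)) (.leaf (nat_lit 0x0)))))) (.node (.node (.node (.node (.leaf (nat_lit 0x222515)) (.leaf (nat_lit 0x145131453154538)))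 (.node (.leaf (nat_lit 0x324253245352458)) (.leaf (nat_lit 0x245131542535)))) (.node (.node (.leaf (nat_lit 0x54513541325423)) (.leaf (nat_lit 0x3524523524158))) (.node (.leaf (nat_lit 0x514131425314138)) (.leaf (nat_lit 0x0))))) (.node (.node (.node (.leaf (nat_lit 0x3354442424513131333544424241313133354442424131313)) (.leaf (nat_lit 0x254235423145358))) (.node (.leaf (nat_lit 0x4411333114)) (.leaf (nat_lit 0x0)))) (.node (.node (.leaf (nat_lit 0x141314131423)) (.leaf (nat_lit 0x45331141453541358))) (.node (.leaf (nat_lit 0x525453224531)) (.leaf (nat_lit 0x0))))))) (.node (.node (.node (.node (.node (.leaf (nat_lit 0x32541354513542)) (.leaf (nat_lit 0x4545411353535115))) (.node (.leaf (nat_lit 0x4535411354533114)) (.leaf (nat_lit 0x325413545235418)))) (.node (.node (.leaf (nat_lit 0x541351545324138)) (.leaf (nat_lit 0x15354535245354))) (.node (.leaf (nat_lit 0x44223135453145358)) (.leaf (nat_lit 0x0))))) (.node (.node (.node (.leaf (nat_lit 0x114445152333)) (.leaf (nat_lit 0x15445411353351))) (.node (.leaf (nat_lit 0x53152545351154))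 (.leaf (nat_lit 0x4535414223354531)))) (.node (.node (.leaf (nat_lit 0x452352415352)) (.leaf (nat_lit 0x25445311453352))) (.node (.leaf (nat_lit 0x425314535145328)) (.leaf (nat_lit 0x0)))))) (.node (.node (.node (.node (.leaf (nat_lit 0x52541354131453)) (.leaf (nat_lit 0x145441133531))) (.node (.leaf (nat_lit 0x3511544454113533)) (.leaf (nat_lit 0x25133353224544458)))) (.node (.node (.leaf (nat_lit 0x54135453131144538)) (.leaf (nat_lit 0x223152548))) (.node (.leaf (nat_lit 0x5441133545311453)) (.leaf (nat_lit 0x0))))) (.node (.node (.node (.leaf (nat_lit 0x5152228)) (.leaf (nat_lit 0x1454532245353525))) (.node (.leaf (nat_lit 0x24411332)) (.leaf (nat_lit 0x0)))) (.node (.node (.leaf (nat_lit 0x32245251)) (.leaf (nat_lit 0x13545411353541))) (.node (.leaf (nat_lit 0x53514531425324)) (.leaf (nat_lit 0x0)))))))) (.node (.node (.node (.node (.node (.node (.leaf (nat_lit 0x13313135424244231154)) (.leaf (nat_lit 0x324532545314518))) (.node (.leaf (nat_lit 0x3511542515)) (.leaf (nat_lit 0x4251535411358)))) (.node (.node (.leaf (nat_lit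 0x54523541325413)) (.leaf (nat_lit 0x425325452352))) (.node (.leaf (nat_lit 0x41535423514235)) (.leaf (nat_lit 0x0))))) (.node (.node (.node (.leaf (nat_lit 0x242324131413)) (.leaf (nat_lit 0x235141324253148))) (.node (.leaf (nat_lit 0x5254522531)) (.leaf (nat_lit 0x4535311454535225)))) (.node (.node (.leaf (nat_lit 0x514153514523)) (.leaf (nat_lit 0x2233545314535414))) (.node (.leaf (nat_lit 0x4513514253518)) (.leaf (nat_lit 0x0)))))) (.node (.node (.node (.node (.leaf (nat_lit 0x413142324132)) (.leaf (nat_lit 0x45253141314231))) (.node (.leaf (nat_lit 0x425354235141358)) (.leaf (nat_lit 0x11454441133353)))) (.node (.node (.leaf (nat_lit 0x545322245354238)) (.leaf (nat_lit 0x135423145324))) (.node (.leaf (nat_lit 0x35423145324525)) (.leaf (nat_lit 0x0))))) (.node (.node (.node (.leaf (nat_lit 0x45324513245315)) (.leaf (nat_lit 0x452253118))) (.node (.leaf (nat_lit 0x3354442424231313335444242425313133354442424231313)) (.leaf (nat_lit 0x0)))) (.node (.node (.leaf (nat_lit 0x511545311453)) (.leaf (nat_lit 0x4451153311))) (.node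 (.leaf (nat_lit 0x451535423245328)) (.leaf (nat_lit 0x0))))))) (.node (.node (.node (.node (.node (.leaf (nat_lit 0x35414414531331)) (.leaf (nat_lit 0x2445333114445332))) (.node (.leaf (nat_lit 0x53354223544511)) (.leaf (nat_lit 0x41314535254135)))) (.node (.node (.leaf (nat_lit 0x4242233545324535)) (.leaf (nat_lit 0x533322444531148))) (.node (.leaf (nat_lit 0x532413545153148)) (.leaf (nat_lit 0x0))))) (.node (.node (.node (.leaf (nat_lit 0x4535452535453111)) (.leaf (nat_lit 0x425325452315))) (.node (.leaf (nat_lit 0x142532423514138)) (.leaf (nat_lit 0x0)))) (.node (.node (.leaf (nat_lit 0x24515232)) (.leaf (nat_lit 0x1353114541))) (.node (.leaf (nat_lit 0x2254454411335335)) (.leaf (nat_lit 0x0)))))) (.node (.node (.node (.node (.leaf (nat_lit 0x4223545251358)) (.leaf (nat_lit 0x14135142324253))) (.node (.leaf (nat_lit 0x41314253241352)) (.leaf (nat_lit 0x44533224453311)))) (.node (.node (.leaf (nat_lit 0x54411335351154)) (.leaf (nat_lit 0x1354113545258))) (.node (.leaf (nat_lit 0x4253254153528)) (.leaf (nat_lit 0x0)))))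 (.node (.node (.node (.leaf (nat_lit 0x114453114533)) (.leaf (nat_lit 0x42354515324532))) (.node (.leaf (nat_lit 0x411315258)) (.leaf (nat_lit 0x0)))) (.node (.node (.leaf (nat_lit 0x535423545314)) (.leaf (nat_lit 0x45314235413515))) (.node (.leaf (nat_lit 0x225411358)) (.leaf (nat_lit 0x0)))))))))))

end Cfsg.Agent.TcData.HN.I1539000
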