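import Cfsg.Agent.Lib.TcFacts

set_option autoImplicit false
set_option Elab.async false
set_option maxRecDepth 100000
set_option linter.all false

namespace Cfsg.Agent.TcData.HN.I1539000

open Cfsg.Agent.Lib.TcFacts

/-- A part of a table. -/
noncomputable def PW15 : Tr := (.node (.node (.node (.node (.node (.node (.node (.node (.node (.leaf (nat_lit 0x62661)) (.leaf (nat_lit 0x5135142532548))) (.node (.leaf (nat_lit 0x4422335115)) (.leaf (nat_lit 0x2424253131333544424242313133354442424231313335444)))) (.node (.node (.leaf (nat_lit 0x235415253542)) (.leaf (nat_lit 0x35422354228))) (.node (.leaf (nat_lit 0x1315452351458)) (.leaf (nat_lit 0x0))))) (.node (.node (.node (.leaf (nat_lit 0x45324515354232)) (.leaf (nat_lit 0x4533114453531145))) (.node (.leaf (nat_lit 0x52254251538)) (.leaf (nat_lit 0x254523514523)))) (.node (.node (.leaf (nat_lit 0x41131525)) (.leaf (nat_lit 0x44223354441133358))) (.node (.leaf (nat_lit 0x4513154523518)) (.leaf (nat_lit 0x0)))))) (.node (.node (.node (.node (.leaf (nat_lit 0x13145131423154)) (.leaf (nat_lit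 0x453224535152))) (.node (.leaf (nat_lit 0x413515423141328)) (.leaf (nat_lit 0x54531453541411338)))) (.node (.node (.leaf (nat_lit 0x235141535145)) (.leaf (nat_lit 0x242314132413))) (.node (.leaf (nat_lit 0x445411353331148)) (.leaf (nat_lit 0x0))))) (.node (.node (.node (.leaf (nat_lit 0x35453525453542)) (.leaf (nat_lit 0x1422318))) (.node (.leaf (nat_lit 0x4531311445354135)) (.leaf (nat_lit 0x0)))) (.node (.node (.leaf (nat_lit 0x1144454411335333)) (.leaf (nat_lit 0x253514523524))) (.node (.leaf (nat_lit 0x541314532423)) (.leaf (nat_lit 0x0))))))) (.node (.node (.node (.node (.node (.leaf (nat_lit 0x24113515)) (.leaf (nat_lit 0x35453145354411318))) (.node (.leaf (nat_lit 0x513242315423148)) (.leaf (nat_lit 0x322453322445)))) (.node (.node (.leaf (nat_lit 0x11532515458)) (.leaf (nat_lit 0x5233533114454451))) (.node (.leaf (nat_lit 0x42235115)) (.leaf (nat_lit 0x0))))) (.node (.node (.node (.leaf (nat_lit 0x423242314131)) (.leaf (nat_lit 0x533322444251))) (.node (.leaf (nat_lit 0x35411354118)) (.leaf (nat_lit 0x45131423254231))))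 (.node (.node (.leaf (nat_lit 0x5225453224538)) (.leaf (nat_lit 0x54511535331144))) (.node (.leaf (nat_lit 0x354135453245)) (.leaf (nat_lit 0x0)))))) (.node (.node (.node (.node (.leaf (nat_lit 0x5351154152)) (.leaf (nat_lit 0x532545314513248))) (.node (.leaf (nat_lit 0x3525453541113545)) (.leaf (nat_lit 0x22544223358)))) (.node (.node (.leaf (nat_lit 0x424244231154133131358)) (.leaf (nat_lit 0x32452314132541))) (.node (.leaf (nat_lit 0x324135154231418)) (.leaf (nat_lit 0x0))))) (.node (.node (.node (.leaf (nat_lit 0x5153511542)) (.leaf (nat_lit 0x453245153541318))) (.node (.leaf (nat_lit 0x453233235414418)) (.leaf (nat_lit 0x0)))) (.node (.node (.leaf (nat_lit 0x245231413254138)) (.leaf (nat_lit 0x35251453311445))) (.node (.leaf (nat_lit 0x515411328)) (.leaf (nat_lit 0x0)))))))) (.node (.node (.node (.node (.node (.node (.leaf (nat_lit 0x5154511532)) (.leaf (nat_lit 0x154253524513))) (.node (.leaf (nat_lit 0x35154235413145)) (.leaf (nat_lit 0x5354522535454113)))) (.node (.node (.leaf (nat_lit 0x425315451315)) (.leaf (nat_lit 0x5311453224)))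 (.node (.leaf (nat_lit 0x53541354531311448)) (.leaf (nat_lit 0x0))))) (.node (.node (.node (.leaf (nat_lit 0x4441133311)) (.leaf (nat_lit 0x54411335453224538))) (.node (.leaf (nat_lit 0x42325413145231)) (.leaf (nat_lit 0x3335444242423131333544424242531313335444242423131)))) (.node (.node (.leaf (nat_lit 0x545131542531)) (.leaf (nat_lit 0x525145351154538))) (.node (.leaf (nat_lit 0x54235142354153)) (.leaf (nat_lit 0x0)))))) (.node (.node (.node (.node (.leaf (nat_lit 0x11454454223533538)) (.leaf (nat_lit 0x153542351423548))) (.node (.leaf (nat_lit 0x241324231413)) (.leaf (nat_lit 0x11333541135444)))) (.node (.node (.leaf (nat_lit 0x422354515235)) (.leaf (nat_lit 0x5452535453111453))) (.node (.leaf (nat_lit 0x5315452315418)) (.leaf (nat_lit 0x0))))) (.node (.node (.node (.leaf (nat_lit 0x14453311445331)) (.leaf (nat_lit 0x511545315254538))) (.node (.leaf (nat_lit 0x133322444525)) (.leaf (nat_lit 0x0)))) (.node (.node (.leaf (nat_lit 0x41325413545235)) (.leaf (nat_lit 0x5415253522))) (.node (.leaf (nat_lit 0x1351415352458)) (.leaf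 (nat_lit 0x0))))))) (.node (.node (.node (.node (.node (.leaf (nat_lit 0x132241)) (.leaf (nat_lit 0x25135115458))) (.node (.leaf (nat_lit 0x545324535422238)) (.leaf (nat_lit 0x4242423131333544424242313133354442424253131333544)))) (.node (.node (.leaf (nat_lit 0x31451324231542)) (.leaf (nat_lit 0x53114533311444))) (.node (.leaf (nat_lit 0x5232541532548)) (.leaf (nat_lit 0x0))))) (.node (.node (.node (.leaf (nat_lit 0x254535451354538)) (.leaf (nat_lit 0x153245351453248))) (.node (.leaf (nat_lit 0x3133354442424231313335444242425313133354442424231)) (.leaf (nat_lit 0x0)))) (.node (.node (.leaf (nat_lit 0x541331313542424423118)) (.leaf (nat_lit 0x44113354411335))) (.node (.leaf (nat_lit 0x3545152354118)) (.leaf (nat_lit 0x0)))))) (.node (.node (.node (.node (.leaf (nat_lit 0x452351425315)) (.leaf (nat_lit 0x535311454511))) (.node (.leaf (nat_lit 0x5235225451)) (.leaf (nat_lit 0x515314132423148)))) (.node (.node (.leaf (nat_lit 0x31413514131425)) (.leaf (nat_lit 0x45331144535411358))) (.node (.leaf (nat_lit 0x142324253141358)) (.leaf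 (nat_lit 0x0))))) (.node (.node (.node (.leaf (nat_lit 0x11454452253353)) (.leaf (nat_lit 0x444251533351158))) (.node (.leaf (nat_lit 0x5354541135354511)) (.leaf (nat_lit 0x0)))) (.node (.node (.leaf (nat_lit 0x525411318)) (.leaf (nat_lit 0x53311424535423548))) (.node (.leaf (nat_lit 0x53541351423542)) (.leaf (nat_lit 0x0))))))))) (.node (.node (.node (.node (.node (.node (.node (.leaf (nat_lit 0x31354242442352241331)) (.leaf (nat_lit 0x513242325423248))) (.node (.leaf (nat_lit 0x3322445152)) (.leaf (nat_lit 0x531542535242)))) (.node (.node (.leaf (nat_lit 0x3531145453511545)) (.leaf (nat_lit 0x253241352413148))) (.node (.leaf (nat_lit 0x1545454223535325)) (.leaf (nat_lit 0x0))))) (.node (.node (.node (.leaf (nat_lit 0x525133311444)) (.leaf (nat_lit 0x152422358))) (.node (.leaf (nat_lit 0x423154235451358)) (.leaf (nat_lit 0x54113535451153548)))) (.node (.node (.leaf (nat_lit 0x42351541314132)) (.leaf (nat_lit 0x11353332244454))) (.node (.leaf (nat_lit 0x2544113352)) (.leaf (nat_lit 0x0)))))) (.node (.node (.node (.node (.leaf (nat_lit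 0x131423154131458)) (.leaf (nat_lit 0x4223354532453542))) (.node (.leaf (nat_lit 0x223525148)) (.leaf (nat_lit 0x154235451354238)))) (.node (.node (.leaf (nat_lit 0x535245135242)) (.leaf (nat_lit 0x545322453251))) (.node (.leaf (nat_lit 0x13254135452354)) (.leaf (nat_lit 0x0))))) (.node (.node (.node (.leaf (nat_lit 0x315451351415)) (.leaf (nat_lit 0x233522544515))) (.node (.leaf (nat_lit 0x54113541138)) (.leaf (nat_lit 0x0)))) (.node (.node (.leaf (nat_lit 0x5131545135248)) (.leaf (nat_lit 0x225353322445458))) (.node (.leaf (nat_lit 0x235241535245)) (.leaf (nat_lit 0x0))))))) (.node (.node (.node (.node (.node (.leaf (nat_lit 0x323331332333133233313)) (.leaf (nat_lit 0x2253311445))) (.node (.leaf (nat_lit 0x4132413242318)) (.leaf (nat_lit 0x1454541135353525)))) (.node (.node (.leaf (nat_lit 0x35452354531545)) (.leaf (nat_lit 0x22453351524453))) (.node (.leaf (nat_lit 0x423254235452358)) (.leaf (nat_lit 0x0))))) (.node (.node (.node (.leaf (nat_lit 0x22532245)) (.leaf (nat_lit 0x2352452315458))) (.node (.leaf (nat_lit 0x14132542314523))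 (.leaf (nat_lit 0x1524453322445335)))) (.node (.node (.leaf (nat_lit 0x23313542441453)) (.leaf (nat_lit 0x4411333544113354))) (.node (.leaf (nat_lit 0x423545235423258)) (.leaf (nat_lit 0x0)))))) (.node (.node (.node (.node (.leaf (nat_lit 0x353522545422)) (.leaf (nat_lit 0x13335225444525))) (.node (.leaf (nat_lit 0x1314132413148)) (.leaf (nat_lit 0x3542235454411335)))) (.node (.node (.leaf (nat_lit 0x531545235142)) (.leaf (nat_lit 0x3251545225))) (.node (.leaf (nat_lit 0x225422358)) (.leaf (nat_lit 0x0))))) (.node (.node (.node (.leaf (nat_lit 0x324235154131418)) (.leaf (nat_lit 0x32244535413545318))) (.node (.leaf (nat_lit 0x451352425315)) (.leaf (nat_lit 0x0)))) (.node (.node (.leaf (nat_lit 0x323323541441458)) (.leaf (nat_lit 0x245132541535))) (.node (.leaf (nat_lit 0x4535325154545322)) (.leaf (nat_lit 0x0)))))))) (.node (.node (.node (.node (.node (.node (.leaf (nat_lit 0x3141314131428)) (.leaf (nat_lit 0x53241532453514))) (.node (.leaf (nat_lit 0x24531332354144)) (.leaf (nat_lit 0x44113353311445)))) (.node (.node (.leaf (nat_lit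 0x423145231413258)) (.leaf (nat_lit 0x1354533114145354))) (.node (.leaf (nat_lit 0x53322445451153)) (.leaf (nat_lit 0x0))))) (.node (.node (.node (.leaf (nat_lit 0x33235424424532)) (.leaf (nat_lit 0x2253545411353545))) (.node (.leaf (nat_lit 0x53241351423241)) (.leaf (nat_lit 0x4223542515358)))) (.node (.node (.leaf (nat_lit 0x2513311445)) (.leaf (nat_lit 0x1354541135354525))) (.node (.leaf (nat_lit 0x15324531413545)) (.leaf (nat_lit 0x0)))))) (.node (.node (.node (.node (.leaf (nat_lit 0x53545235453154)) (.leaf (nat_lit 0x411352258))) (.node (.leaf (nat_lit 0x23541535423514)) (.leaf (nat_lit 0x535411354251)))) (.node (.node (.leaf (nat_lit 0x5232542535248)) (.leaf (nat_lit 0x233351154442))) (.node (.leaf (nat_lit 0x2515354223548)) (.leaf (nat_lit 0x0))))) (.node (.node (.node (.leaf (nat_lit 0x63748)) (.leaf (nat_lit 0x231423242351548))) (.node (.leaf (nat_lit 0x32415324535145)) (.leaf (nat_lit 0x0)))) (.node (.node (.leaf (nat_lit 0x451351452315)) (.leaf (nat_lit 0x54153542351423))) (.node (.leaf (nat_lit 0x25324135241314)) (.leaf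 (nat_lit 0x0))))))) (.node (.node (.node (.node (.node (.leaf (nat_lit 0x22331144)) (.leaf (nat_lit 0x15453245132453))) (.node (.leaf (nat_lit 0x542324532451538)) (.leaf (nat_lit 0x5333114445441133)))) (.node (.node (.leaf (nat_lit 0x451351415352)) (.leaf (nat_lit 0x5441131354531453))) (.node (.leaf (nat_lit 0x13242532413514)) (.leaf (nat_lit 0x0))))) (.node (.node (.node (.leaf (nat_lit 0x1453224531)) (.leaf (nat_lit 0x5115353541135454))) (.node (.leaf (nat_lit 0x314135241324258)) (.leaf (nat_lit 0x0)))) (.node (.node (.leaf (nat_lit 0x354132453142)) (.leaf (nat_lit 0x54113545441133538))) (.node (.leaf (nat_lit 0x451153531145)) (.leaf (nat_lit 0x0)))))) (.node (.node (.node (.node (.leaf (nat_lit 0x5235245231548)) (.leaf (nat_lit 0x1133515244))) (.node (.leaf (nat_lit 0x22542235)) (.leaf (nat_lit 0x254523154253)))) (.node (.node (.leaf (nat_lit 0x3354422335445115)) (.leaf (nat_lit 0x3114535115458))) (.node (.leaf (nat_lit 0x53141324231451)) (.leaf (nat_lit 0x0))))) (.node (.node (.node (.leaf (nat_lit 0x324231423141)) (.leaf (nat_lit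 0x41351545324135))) (.node (.leaf (nat_lit 0x251541138)) (.leaf (nat_lit 0x0)))) (.node (.node (.leaf (nat_lit 0x425324135241318)) (.leaf (nat_lit 0x415354235142358))) (.node (.leaf (nat_lit 0x514531145352)) (.leaf (nat_lit 0x0)))))))))) (.node (.node (.node (.node (.node (.node (.node (.node (.leaf (nat_lit 0x14253141351413)) (.leaf (nat_lit 0x5352451352428))) (.node (.leaf (nat_lit 0x351453241532458)) (.leaf (nat_lit 0x54531525453522)))) (.node (.node (.leaf (nat_lit 0x324531413542)) (.leaf (nat_lit 0x14523145325453))) (.node (.leaf (nat_lit 0x324253141352418)) (.leaf (nat_lit 0x0))))) (.node (.node (.node (.leaf (nat_lit 0x33131354242442352241)) (.leaf (nat_lit 0x5454223535118))) (.node (.leaf (nat_lit 0x4132423242328)) (.leaf (nat_lit 0x54231423242351)))) (.node (.node (.leaf (nat_lit 0x1135354511535454)) (.leaf (nat_lit 0x453511545325158))) (.node (.leaf (nat_lit 0x224533114453)) (.leaf (nat_lit 0x0)))))) (.node (.node (.node (.node (.leaf (nat_lit 0x244235224133131354248)) (.leaf (nat_lit 0x51314231542324))) (.node (.leaf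 (nat_lit 0x32245225)) (.leaf (nat_lit 0x31144533114453)))) (.node (.node (.leaf (nat_lit 0x14535115453525)) (.leaf (nat_lit 0x353114545311458))) (.node (.leaf (nat_lit 0x225454113535)) (.leaf (nat_lit 0x0))))) (.node (.node (.node (.leaf (nat_lit 0x33541135445115)) (.leaf (nat_lit 0x45251332248))) (.node (.leaf (nat_lit 0x4545322453533114)) (.leaf (nat_lit 0x0)))) (.node (.node (.leaf (nat_lit 0x242232)) (.leaf (nat_lit 0x45354525354531118))) (.node (.leaf (nat_lit 0x154531451314538)) (.leaf (nat_lit 0x0))))))) (.node (.node (.node (.node (.node (.leaf (nat_lit 0x31541314513142)) (.leaf (nat_lit 0x2452325451358))) (.node (.leaf (nat_lit 0x5352514522)) (.leaf (nat_lit 0x152453224535)))) (.node (.node (.leaf (nat_lit 0x35154535413545)) (.leaf (nat_lit 0x2354535154535422))) (.node (.leaf (nat_lit 0x2325425315458)) (.leaf (nat_lit 0x0))))) (.node (.node (.node (.leaf (nat_lit 0x47368)) (.leaf (nat_lit 0x31145411358))) (.node (.leaf (nat_lit 0x5324135413248)) (.leaf (nat_lit 0x53322445351154)))) (.node (.node (.leaf (nat_lit 0x53224511))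 (.leaf (nat_lit 0x322444542235338))) (.node (.leaf (nat_lit 0x115354113545)) (.leaf (nat_lit 0x0)))))) (.node (.node (.node (.node (.leaf (nat_lit 0x42354513542315)) (.leaf (nat_lit 0x515335115442))) (.node (.leaf (nat_lit 0x42324153142351)) (.leaf (nat_lit 0x354515235422)))) (.node (.node (.leaf (nat_lit 0x44145313323542)) (.leaf (nat_lit 0x4113532245))) (.node (.leaf (nat_lit 0x351413542535428)) (.leaf (nat_lit 0x0))))) (.node (.node (.node (.leaf (nat_lit 0x11535452513545)) (.leaf (nat_lit 0x3545251354228))) (.node (.leaf (nat_lit 0x351154541135)) (.leaf (nat_lit 0x0)))) (.node (.node (.leaf (nat_lit 0x332354144245318)) (.leaf (nat_lit 0x333114445152))) (.node (.leaf (nat_lit 0x15452253258)) (.leaf (nat_lit 0x0)))))))) (.node (.node (.node (.node (.node (.node (.leaf (nat_lit 0x223114)) (.leaf (nat_lit 0x54535225453532248))) (.node (.leaf (nat_lit 0x44113235453245358)) (.leaf (nat_lit 0x4424242313133354442424231313335444242425313133354)))) (.node (.node (.leaf (nat_lit 0x4153514513158)) (.leaf (nat_lit 0x44223332248))) (.node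 (.leaf (nat_lit 0x132453241354)) (.leaf (nat_lit 0x0))))) (.node (.node (.node (.leaf (nat_lit 0x2333133233313323331338)) (.leaf (nat_lit 0x324232423241))) (.node (.leaf (nat_lit 0x42231525)) (.leaf (nat_lit 0x5254454411335331)))) (.node (.node (.leaf (nat_lit 0x35413525453242)) (.leaf (nat_lit 0x23541314535154))) (.node (.leaf (nat_lit 0x154131451314238)) (.leaf (nat_lit 0x0)))))) (.node (.node (.node (.node (.leaf (nat_lit 0x52241331313542424423)) (.leaf (nat_lit 0x531541535142))) (.node (.leaf (nat_lit 0x5153311442)) (.leaf (nat_lit 0x5251453114538)))) (.node (.node (.leaf (nat_lit 0x53114152)) (.leaf (nat_lit 0x224535152453))) (.node (.leaf (nat_lit 0x14535451535453)) (.leaf (nat_lit 0x0))))) (.node (.node (.node (.leaf (nat_lit 0x52541314132413)) (.leaf (nat_lit 0x53511542518))) (.node (.leaf (nat_lit 0x32242453542354538)) (.leaf (nat_lit 0x0)))) (.node (.node (.leaf (nat_lit 0x3242324231428)) (.leaf (nat_lit 0x4531114535452535))) (.node (.leaf (nat_lit 0x531453141354528)) (.leaf (nat_lit 0x0))))))) (.node (.node (.node (.node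 (.node (.leaf (nat_lit 0x453141354131)) (.leaf (nat_lit 0x35444242413131333544424241313133354442424513131338))) (.node (.leaf (nat_lit 0x135414424532338)) (.leaf (nat_lit 0x3524523254258)))) (.node (.node (.leaf (nat_lit 0x545235145232)) (.leaf (nat_lit 0x541314132413528))) (.node (.leaf (nat_lit 0x351541354231458)) (.leaf (nat_lit 0x0))))) (.node (.node (.node (.leaf (nat_lit 0x135141324153148)) (.leaf (nat_lit 0x45253542314532))) (.node (.leaf (nat_lit 0x514531425324538)) (.leaf (nat_lit 0x0)))) (.node (.node (.leaf (nat_lit 0x51453511545352)) (.leaf (nat_lit 0x33354442424231313335444242423131333544424242531318))) (.node (.leaf (nat_lit 0x153154513514)) (.leaf (nat_lit 0x0)))))) (.node (.node (.node (.node (.leaf (nat_lit 0x541535145131)) (.leaf (nat_lit 0x54442424131313335444242413131333544424245131313338))) (.node (.leaf (nat_lit 0x54144245323313)) (.leaf (nat_lit 0x45314135451532)))) (.node (.node (.leaf (nat_lit 0x2513522545)) (.leaf (nat_lit 0x525132248))) (.node (.leaf (nat_lit 0x25413145132423)) (.leaf (nat_lit 0x0)))))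 (.node (.node (.node (.leaf (nat_lit 0x451351451325)) (.leaf (nat_lit 0x54532515453531148))) (.node (.leaf (nat_lit 0x1313133354442424131313335444242413131333544424245)) (.leaf (nat_lit 0x0)))) (.node (.node (.leaf (nat_lit 0x3545324535424113)) (.leaf (nat_lit 0x2335331144544515))) (.node (.leaf (nat_lit 0x453114535251)) (.leaf (nat_lit 0x0))))))))) (.node (.node (.node (.node (.node (.node (.node (.leaf (nat_lit 0x26616)) (.leaf (nat_lit 0x31453141354525))) (.node (.leaf (nat_lit 0x545314235423528)) (.leaf (nat_lit 0x14445311453331)))) (.node (.node (.leaf (nat_lit 0x535245235241)) (.leaf (nat_lit 0x31453142354515))) (.node (.leaf (nat_lit 0x1453531145453525)) (.leaf (nat_lit 0x0))))) (.node (.node (.node (.leaf (nat_lit 0x2413542314538)) (.leaf (nat_lit 0x5311453335115444))) (.node (.leaf (nat_lit 0x113311448)) (.leaf (nat_lit 0x35451153545251)))) (.node (.node (.leaf (nat_lit 0x531423524131428)) (.leaf (nat_lit 0x423141324235258))) (.node (.leaf (nat_lit 0x253242351423248)) (.leaf (nat_lit 0x0)))))) (.node (.node (.node (.node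 (.leaf (nat_lit 0x44532245335115)) (.leaf (nat_lit 0x245131453254538))) (.node (.leaf (nat_lit 0x314253245351458)) (.leaf (nat_lit 0x1445441133533525)))) (.node (.node (.leaf (nat_lit 0x135145132545)) (.leaf (nat_lit 0x3114445325154533))) (.node (.leaf (nat_lit 0x42532413514132)) (.leaf (nat_lit 0x0))))) (.node (.node (.node (.leaf (nat_lit 0x133233313323331332333)) (.leaf (nat_lit 0x4445152333118))) (.node (.leaf (nat_lit 0x5444242423131333544424242313133354442424253131333)) (.leaf (nat_lit 0x0)))) (.node (.node (.leaf (nat_lit 0x1135311454)) (.leaf (nat_lit 0x52253354113544))) (.node (.leaf (nat_lit 0x311445311453)) (.leaf (nat_lit 0x0))))))) (.node (.node (.node (.node (.node (.leaf (nat_lit 0x23541441453233)) (.leaf (nat_lit 0x142315413145138))) (.node (.leaf (nat_lit 0x5152351154)) (.leaf (nat_lit 0x22444541135333)))) (.node (.node (.leaf (nat_lit 0x1115258)) (.leaf (nat_lit 0x44425153335311458))) (.node (.leaf (nat_lit 0x545314135413528)) (.leaf (nat_lit 0x0))))) (.node (.node (.node (.leaf (nat_lit 0x3541135422)) (.leaf (nat_lit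 0x225353114545))) (.node (.leaf (nat_lit 0x5254535411135453)) (.leaf (nat_lit 0x35453245354422328)))) (.node (.node (.leaf (nat_lit 0x3114545331144535)) (.leaf (nat_lit 0x1154454411335335))) (.node (.leaf (nat_lit 0x441133228)) (.leaf (nat_lit 0x0)))))) (.node (.node (.node (.node (.leaf (nat_lit 0x133135414414538)) (.leaf (nat_lit 0x241352542314238))) (.node (.leaf (nat_lit 0x535225453114)) (.leaf (nat_lit 0x5451153535411354)))) (.node (.node (.leaf (nat_lit 0x5423245324238)) (.leaf (nat_lit 0x1445335115445331))) (.node (.leaf (nat_lit 0x322425158)) (.leaf (nat_lit 0x0))))) (.node (.node (.node (.leaf (nat_lit 0x242442311541331313548)) (.leaf (nat_lit 0x353351154454118))) (.node (.leaf (nat_lit 0x524153154153)) (.leaf (nat_lit 0x0)))) (.node (.node (.leaf (nat_lit 0x32245115)) (.leaf (nat_lit 0x13542535423514))) (.node (.leaf (nat_lit 0x3154513514158)) (.leaf (nat_lit 0x0)))))))) (.node (.node (.node (.node (.node (.node (.leaf (nat_lit 0x22351154)) (.leaf (nat_lit 0x23115413313135424244))) (.node (.leaf (nat_lit 0x135423154235458))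 (.leaf (nat_lit 0x31453145153542)))) (.node (.node (.leaf (nat_lit 0x522541138)) (.leaf (nat_lit 0x24454511535332))) (.node (.leaf (nat_lit 0x3145354235458)) (.leaf (nat_lit 0x0))))) (.node (.node (.node (.leaf (nat_lit 0x51313133354442424131313335444242413131333544424248)) (.leaf (nat_lit 0x531413142314528))) (.node (.leaf (nat_lit 0x5152441133)) (.leaf (nat_lit 0x2253354411335445)))) (.node (.node (.leaf (nat_lit 0x24242424242424248)) (.leaf (nat_lit 0x532245315254))) (.node (.leaf (nat_lit 0x32423515413141)) (.leaf (nat_lit 0x0)))))) (.node (.node (.node (.node (.leaf (nat_lit 0x423142314132)) (.leaf (nat_lit 0x511535422354))) (.node (.leaf (nat_lit 0x531145352514)) (.leaf (nat_lit 0x25354231453245)))) (.node (.node (.leaf (nat_lit 0x413242314132)) (.leaf (nat_lit 0x23145131423254))) (.node (.leaf (nat_lit 0x411353352514458)) (.leaf (nat_lit 0x0))))) (.node (.node (.node (.leaf (nat_lit 0x35452354132541)) (.leaf (nat_lit 0x1313335444242425313133354442424231313335444242423))) (.node (.leaf (nat_lit 0x453154535452358)) (.leaf (nat_lit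 0x0)))) (.node (.node (.leaf (nat_lit 0x535411135453148)) (.leaf (nat_lit 0x45332244535411358))) (.node (.leaf (nat_lit 0x11451523)) (.leaf (nat_lit 0x0))))))) (.node (.node (.node (.node (.node (.leaf (nat_lit 0x131354242442311541338)) (.leaf (nat_lit 0x33531145444113))) (.node (.leaf (nat_lit 0x53354223544522)) (.leaf (nat_lit 0x42314535254235)))) (.node (.node (.leaf (nat_lit 0x145354253545358)) (.leaf (nat_lit 0x5225453114538))) (.node (.leaf (nat_lit 0x5422354515238)) (.leaf (nat_lit 0x0))))) (.node (.node (.node (.leaf (nat_lit 0x45354525354532)) (.leaf (nat_lit 0x2451313133354442424131313335444242413131333544424))) (.node (.leaf (nat_lit 0x4422333522548)) (.leaf (nat_lit 0x0)))) (.node (.node (.leaf (nat_lit 0x53141314232451)) (.leaf (nat_lit 0x115311458))) (.node (.leaf (nat_lit 0x1333544424242313133354442424231313335444242425313)) (.leaf (nat_lit 0x0)))))) (.node (.node (.node (.node (.leaf (nat_lit 0x142354515314538)) (.leaf (nat_lit 0x3332244411))) (.node (.leaf (nat_lit 0x41324253242352)) (.leaf (nat_lit 0x4152535322458))))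 (.node (.node (.leaf (nat_lit 0x13542535413524)) (.leaf (nat_lit 0x2354113545158))) (.node (.leaf (nat_lit 0x423242532423518)) (.leaf (nat_lit 0x0))))) (.node (.node (.node (.leaf (nat_lit 0x14424532331354)) (.leaf (nat_lit 0x42354532224535))) (.node (.leaf (nat_lit 0x4223545331144535)) (.leaf (nat_lit 0x0)))) (.node (.node (.leaf (nat_lit 0x532451535413148)) (.leaf (nat_lit 0x24131423245253))) (.node (.leaf (nat_lit 0x4511531525)) (.leaf (nat_lit 0x0)))))))))))

end Cfsg.Agent.TcData.HN.I1539000
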