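import Cfsg.Agent.Lib.TcFacts

set_option autoImplicit false
set_option Elab.async false
set_option maxRecDepth 100000
set_option linter.all false

namespace Cfsg.Agent.TcData.HN.I1539000

open Cfsg.Agent.Lib.TcFacts

/-- A part of a table. -/
noncomputable def PW2 : Tr := (.node (.node (.node (.node (.node (.node (.node (.node (.node (.leaf (nat_lit 0x67)) (.leaf (nat_lit 0x3545324535442232))) (.node (.leaf (nat_lit 0x514532245352)) (.leaf (nat_lit 0x53541354531322448)))) (.node (.node (.leaf (nat_lit 0x413254232451318)) (.leaf (nat_lit 0x53311445331144))) (.node (.leaf (nat_lit 0x51535413145324)) (.leaf (nat_lit 0x0))))) (.node (.node (.node (.leaf (nat_lit 0x354232542354528)) (.leaf (nat_lit 0x442233118))) (.node (.leaf (nat_lit 0x25413545135423)) (.leaf (nat_lit 0x52514545115353)))) (.node (.node (.leaf (nat_lit 0x13511541)) (.leaf (nat_lit 0x24131313335444242413131333544424245131313335444248))) (.node (.leaf (nat_lit 0x13545153245314)) (.leaf (nat_lit 0x0)))))) (.node (.node (.node (.node (.leaf (nat_lit 0x42352241331313542424))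 (.leaf (nat_lit 0x1542532545238))) (.node (.leaf (nat_lit 0x4535424223354532)) (.leaf (nat_lit 0x533322444532248)))) (.node (.node (.leaf (nat_lit 0x245354153545358)) (.leaf (nat_lit 0x225311458))) (.node (.leaf (nat_lit 0x51451153528)) (.leaf (nat_lit 0x0))))) (.node (.node (.node (.leaf (nat_lit 0x5444242451313133354442424131313335444242413131333)) (.leaf (nat_lit 0x41133311448))) (.node (.leaf (nat_lit 0x3322444525138)) (.leaf (nat_lit 0x0)))) (.node (.node (.leaf (nat_lit 0x35254531413541)) (.leaf (nat_lit 0x153154153524))) (.node (.leaf (nat_lit 0x53525413541314)) (.leaf (nat_lit 0x0))))))) (.node (.node (.node (.node (.node (.leaf (nat_lit 0x52453511545351)) (.leaf (nat_lit 0x135423254135458))) (.node (.leaf (nat_lit 0x45351542354131)) (.leaf (nat_lit 0x3335451153544411)))) (.node (.node (.leaf (nat_lit 0x545235245231)) (.leaf (nat_lit 0x5453131144535413))) (.node (.leaf (nat_lit 0x15413142324135)) (.leaf (nat_lit 0x0))))) (.node (.node (.node (.leaf (nat_lit 0x53544223354511)) (.leaf (nat_lit 0x2513541135458))) (.node (.leaf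 (nat_lit 0x14414532332354)) (.leaf (nat_lit 0x2514535322454535)))) (.node (.node (.leaf (nat_lit 0x54513542315423)) (.leaf (nat_lit 0x53544113354251))) (.node (.leaf (nat_lit 0x32423515423142)) (.leaf (nat_lit 0x0)))))) (.node (.node (.node (.node (.leaf (nat_lit 0x533322444152)) (.leaf (nat_lit 0x4511533114))) (.node (.leaf (nat_lit 0x2454531145353515)) (.leaf (nat_lit 0x4544411333533114)))) (.node (.node (.leaf (nat_lit 0x24513242315413)) (.leaf (nat_lit 0x525135311454))) (.node (.leaf (nat_lit 0x442453233235428)) (.leaf (nat_lit 0x0))))) (.node (.node (.node (.leaf (nat_lit 0x52514535115453)) (.leaf (nat_lit 0x1452253525))) (.node (.leaf (nat_lit 0x241535245235)) (.leaf (nat_lit 0x0)))) (.node (.node (.leaf (nat_lit 0x145323323541448)) (.leaf (nat_lit 0x5135141531548))) (.node (.leaf (nat_lit 0x4513131333544424241313133354442424131313335444242)) (.leaf (nat_lit 0x0)))))))) (.node (.node (.node (.node (.node (.node (.leaf (nat_lit 0x15354251535451)) (.leaf (nat_lit 0x53142351423241))) (.node (.leaf (nat_lit 0x25153224)) (.leaf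 (nat_lit 0x51533351154442)))) (.node (.node (.leaf (nat_lit 0x24135425354135)) (.leaf (nat_lit 0x51324232541314))) (.node (.leaf (nat_lit 0x44231154133131354242)) (.leaf (nat_lit 0x0))))) (.node (.node (.node (.leaf (nat_lit 0x44145323323541)) (.leaf (nat_lit 0x32244411338))) (.node (.leaf (nat_lit 0x3154523254258)) (.leaf (nat_lit 0x4535442231354531)))) (.node (.node (.leaf (nat_lit 0x545131541532)) (.leaf (nat_lit 0x1142238))) (.node (.leaf (nat_lit 0x13245132423154)) (.leaf (nat_lit 0x0)))))) (.node (.node (.node (.node (.leaf (nat_lit 0x331354144145318)) (.leaf (nat_lit 0x322451158))) (.node (.leaf (nat_lit 0x42233114)) (.leaf (nat_lit 0x42351423242532)))) (.node (.node (.leaf (nat_lit 0x542324513142318)) (.leaf (nat_lit 0x4531322445354135))) (.node (.leaf (nat_lit 0x251353114545)) (.leaf (nat_lit 0x0))))) (.node (.node (.node (.leaf (nat_lit 0x135413145314)) (.leaf (nat_lit 0x53542422335453248))) (.node (.leaf (nat_lit 0x4442515333118)) (.leaf (nat_lit 0x0)))) (.node (.node (.leaf (nat_lit 0x51423241531423)) (.leaf (nat_lit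 0x5335441133544511))) (.node (.leaf (nat_lit 0x42311541331313542424)) (.leaf (nat_lit 0x0))))))) (.node (.node (.node (.node (.node (.leaf (nat_lit 0x545135141531)) (.leaf (nat_lit 0x2533114415))) (.node (.leaf (nat_lit 0x141324253241358)) (.leaf (nat_lit 0x23353224544515)))) (.node (.node (.leaf (nat_lit 0x45132423154132)) (.leaf (nat_lit 0x15445311453351))) (.node (.leaf (nat_lit 0x5245131545138)) (.leaf (nat_lit 0x0))))) (.node (.node (.node (.leaf (nat_lit 0x423141314232)) (.leaf (nat_lit 0x54511535444113338))) (.node (.leaf (nat_lit 0x24135254131413)) (.leaf (nat_lit 0x0)))) (.node (.node (.leaf (nat_lit 0x54535145354253)) (.leaf (nat_lit 0x451314231542328))) (.node (.leaf (nat_lit 0x5115453114538)) (.leaf (nat_lit 0x0)))))) (.node (.node (.node (.node (.leaf (nat_lit 0x2411335453245354)) (.leaf (nat_lit 0x1453542354538))) (.node (.leaf (nat_lit 0x31453145253541)) (.leaf (nat_lit 0x335311454441138)))) (.node (.node (.leaf (nat_lit 0x154132451324238)) (.leaf (nat_lit 0x2535245232548))) (.node (.leaf (nat_lit 0x4453114533541135))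 (.leaf (nat_lit 0x0))))) (.node (.node (.node (.leaf (nat_lit 0x35142324153142)) (.leaf (nat_lit 0x413242314515318))) (.node (.leaf (nat_lit 0x513154253154)) (.leaf (nat_lit 0x0)))) (.node (.node (.leaf (nat_lit 0x523542325423548)) (.leaf (nat_lit 0x45331144535422358))) (.node (.leaf (nat_lit 0x3131333544424242313133354442424253131333544424242)) (.leaf (nat_lit 0x0))))))))) (.node (.node (.node (.node (.node (.node (.node (.leaf (nat_lit 0x6374)) (.leaf (nat_lit 0x113544113354))) (.node (.leaf (nat_lit 0x545153245314138)) (.leaf (nat_lit 0x35225442238)))) (.node (.node (.leaf (nat_lit 0x41135251)) (.leaf (nat_lit 0x114445411353338))) (.node (.leaf (nat_lit 0x4253254253518)) (.leaf (nat_lit 0x0))))) (.node (.node (.node (.leaf (nat_lit 0x35152411)) (.leaf (nat_lit 0x515354223542))) (.node (.leaf (nat_lit 0x42235422358)) (.leaf (nat_lit 0x51541354231453)))) (.node (.node (.leaf (nat_lit 0x535145235141)) (.leaf (nat_lit 0x145325453145238))) (.node (.leaf (nat_lit 0x45325453245131)) (.leaf (nat_lit 0x0)))))) (.node (.node (.node (.node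 (.leaf (nat_lit 0x53114511)) (.leaf (nat_lit 0x245314253145358))) (.node (.leaf (nat_lit 0x13145325453245)) (.leaf (nat_lit 0x45441133535225)))) (.node (.node (.leaf (nat_lit 0x5314135413148)) (.leaf (nat_lit 0x13533114454525))) (.node (.leaf (nat_lit 0x53241352413142)) (.leaf (nat_lit 0x0))))) (.node (.node (.node (.leaf (nat_lit 0x13311441)) (.leaf (nat_lit 0x142354253541358))) (.node (.leaf (nat_lit 0x32453141354515)) (.leaf (nat_lit 0x0)))) (.node (.node (.leaf (nat_lit 0x4113228)) (.leaf (nat_lit 0x4533114453331144))) (.node (.leaf (nat_lit 0x3131333544424241313133354442424131313335444242451)) (.leaf (nat_lit 0x0))))))) (.node (.node (.node (.node (.node (.leaf (nat_lit 0x315451351452)) (.leaf (nat_lit 0x35311454442233))) (.node (.leaf (nat_lit 0x33114441138)) (.leaf (nat_lit 0x15335311454451)))) (.node (.node (.leaf (nat_lit 0x35141354153541)) (.leaf (nat_lit 0x3544113354441133))) (.node (.leaf (nat_lit 0x32542354523542)) (.leaf (nat_lit 0x0))))) (.node (.node (.node (.leaf (nat_lit 0x14132541314513)) (.leaf (nat_lit 0x241314232413)))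 (.node (.leaf (nat_lit 0x513154523514)) (.leaf (nat_lit 0x53545253545324)))) (.node (.node (.leaf (nat_lit 0x4242444242444242444242448)) (.leaf (nat_lit 0x154541135325))) (.node (.leaf (nat_lit 0x4532453542411335)) (.leaf (nat_lit 0x0)))))) (.node (.node (.node (.node (.leaf (nat_lit 0x54535452354531)) (.leaf (nat_lit 0x235423254235458))) (.node (.leaf (nat_lit 0x423515413141328)) (.leaf (nat_lit 0x454113535422358)))) (.node (.node (.leaf (nat_lit 0x533311444251)) (.leaf (nat_lit 0x44424241313133354442424131313335444242451313133358))) (.node (.leaf (nat_lit 0x4113542515358)) (.leaf (nat_lit 0x0))))) (.node (.node (.node (.leaf (nat_lit 0x254513514513)) (.leaf (nat_lit 0x453141354515328))) (.node (.leaf (nat_lit 0x415253541135)) (.leaf (nat_lit 0x0)))) (.node (.node (.leaf (nat_lit 0x53245132453154)) (.leaf (nat_lit 0x33114454152535))) (.node (.leaf (nat_lit 0x22453544113354538)) (.leaf (nat_lit 0x0)))))))) (.node (.node (.node (.node (.node (.node (.leaf (nat_lit 0x13254131451314)) (.leaf (nat_lit 0x53525145228))) (.node (.leaf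 (nat_lit 0x4451523322)) (.leaf (nat_lit 0x532541535242)))) (.node (.node (.leaf (nat_lit 0x31453524531425)) (.leaf (nat_lit 0x52535441133541))) (.node (.leaf (nat_lit 0x54231413242352)) (.leaf (nat_lit 0x0))))) (.node (.node (.node (.leaf (nat_lit 0x525423142324138)) (.leaf (nat_lit 0x32245311458))) (.node (.leaf (nat_lit 0x42535413514235)) (.leaf (nat_lit 0x52253544113354)))) (.node (.node (.leaf (nat_lit 0x145354111354538)) (.leaf (nat_lit 0x25314132423245))) (.node (.leaf (nat_lit 0x542314523141328)) (.leaf (nat_lit 0x0)))))) (.node (.node (.node (.node (.leaf (nat_lit 0x13541442453233)) (.leaf (nat_lit 0x54141133545314538))) (.node (.leaf (nat_lit 0x53241351413242)) (.leaf (nat_lit 0x1453331144453525)))) (.node (.node (.leaf (nat_lit 0x354113545251)) (.leaf (nat_lit 0x53544113354522))) (.node (.leaf (nat_lit 0x453254531451328)) (.leaf (nat_lit 0x0))))) (.node (.node (.node (.leaf (nat_lit 0x33114422)) (.leaf (nat_lit 0x5154532245328))) (.node (.leaf (nat_lit 0x423245324515358)) (.leaf (nat_lit 0x0)))) (.node (.node (.leaf (nat_lit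 0x451314231541318)) (.leaf (nat_lit 0x2515453114538))) (.node (.leaf (nat_lit 0x4453311445335152)) (.leaf (nat_lit 0x0))))))) (.node (.node (.node (.node (.node (.leaf (nat_lit 0x524513514153)) (.leaf (nat_lit 0x231541314513148))) (.node (.leaf (nat_lit 0x452315452352)) (.leaf (nat_lit 0x14544411333531)))) (.node (.node (.leaf (nat_lit 0x42354253541351)) (.leaf (nat_lit 0x45253141324232))) (.node (.leaf (nat_lit 0x531413142324518)) (.leaf (nat_lit 0x0))))) (.node (.node (.node (.leaf (nat_lit 0x45153241314231)) (.leaf (nat_lit 0x452253228))) (.node (.leaf (nat_lit 0x5225331144)) (.leaf (nat_lit 0x0)))) (.node (.node (.leaf (nat_lit 0x354411335422)) (.leaf (nat_lit 0x2413242314138))) (.node (.leaf (nat_lit 0x254541135315)) (.leaf (nat_lit 0x0)))))) (.node (.node (.node (.node (.leaf (nat_lit 0x5425153522)) (.leaf (nat_lit 0x44424245131313335444242413131333544424241313133358))) (.node (.leaf (nat_lit 0x45352453242532)) (.leaf (nat_lit 0x523154523524)))) (.node (.node (.leaf (nat_lit 0x42453233135414)) (.leaf (nat_lit 0x5115454541135353)))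 (.node (.leaf (nat_lit 0x542535413524138)) (.leaf (nat_lit 0x0))))) (.node (.node (.node (.leaf (nat_lit 0x154531145351)) (.leaf (nat_lit 0x54235452354232))) (.node (.leaf (nat_lit 0x135422354525)) (.leaf (nat_lit 0x0)))) (.node (.node (.leaf (nat_lit 0x323313541442458)) (.leaf (nat_lit 0x1453544113135453))) (.node (.leaf (nat_lit 0x441133351154)) (.leaf (nat_lit 0x0)))))))))) (.node (.node (.node (.node (.node (.node (.node (.node (.leaf (nat_lit 0x253351524452)) (.leaf (nat_lit 0x52254515238))) (.node (.leaf (nat_lit 0x54531114535413)) (.leaf (nat_lit 0x51523511548)))) (.node (.node (.leaf (nat_lit 0x14253245351453)) (.leaf (nat_lit 0x5452253152))) (.node (.leaf (nat_lit 0x53245354222354)) (.leaf (nat_lit 0x0))))) (.node (.node (.node (.leaf (nat_lit 0x5133544223354452)) (.leaf (nat_lit 0x45322453228))) (.node (.leaf (nat_lit 0x411354525135)) (.leaf (nat_lit 0x515233311444)))) (.node (.node (.leaf (nat_lit 0x532413541324)) (.leaf (nat_lit 0x51154535152453))) (.node (.leaf (nat_lit 0x532423514232428)) (.leaf (nat_lit 0x0))))))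 (.node (.node (.node (.node (.leaf (nat_lit 0x41441453133135)) (.leaf (nat_lit 0x23145231413254))) (.node (.leaf (nat_lit 0x53251545351154)) (.leaf (nat_lit 0x515314532413548)))) (.node (.node (.leaf (nat_lit 0x532453542223548)) (.leaf (nat_lit 0x53224531148))) (.node (.leaf (nat_lit 0x145325453245138)) (.leaf (nat_lit 0x0))))) (.node (.node (.node (.leaf (nat_lit 0x352453541535458)) (.leaf (nat_lit 0x22332244))) (.node (.leaf (nat_lit 0x352415352452)) (.leaf (nat_lit 0x0)))) (.node (.node (.leaf (nat_lit 0x32415314235142)) (.leaf (nat_lit 0x41314231451532))) (.node (.leaf (nat_lit 0x31425314535245)) (.leaf (nat_lit 0x0))))))) (.node (.node (.node (.node (.node (.leaf (nat_lit 0x22531145)) (.leaf (nat_lit 0x2235425153548))) (.node (.leaf (nat_lit 0x2253525145)) (.leaf (nat_lit 0x1153515245)))) (.node (.node (.leaf (nat_lit 0x35415354235142)) (.leaf (nat_lit 0x14132541324523))) (.node (.leaf (nat_lit 0x153254513154)) (.leaf (nat_lit 0x0))))) (.node (.node (.node (.leaf (nat_lit 0x13145352541354)) (.leaf (nat_lit 0x415354135141358)))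 (.node (.leaf (nat_lit 0x5452253542238)) (.leaf (nat_lit 0x3332244454411335)))) (.node (.node (.leaf (nat_lit 0x33544113354422)) (.leaf (nat_lit 0x3545411353545251))) (.node (.leaf (nat_lit 0x13142531413514)) (.leaf (nat_lit 0x0)))))) (.node (.node (.node (.node (.leaf (nat_lit 0x114515238)) (.leaf (nat_lit 0x4535251453228))) (.node (.leaf (nat_lit 0x42314525324132)) (.leaf (nat_lit 0x35423245324515)))) (.node (.node (.leaf (nat_lit 0x53245351453241)) (.leaf (nat_lit 0x524523514253))) (.node (.leaf (nat_lit 0x41354231453515)) (.leaf (nat_lit 0x0))))) (.node (.node (.node (.leaf (nat_lit 0x35411135453145)) (.leaf (nat_lit 0x144511533525))) (.node (.leaf (nat_lit 0x1545135145238)) (.leaf (nat_lit 0x0)))) (.node (.node (.leaf (nat_lit 0x5442231354531453)) (.leaf (nat_lit 0x45351524535115))) (.node (.leaf (nat_lit 0x3254253254518)) (.leaf (nat_lit 0x0)))))))) (.node (.node (.node (.node (.node (.node (.leaf (nat_lit 0x52532241)) (.leaf (nat_lit 0x2353542235454515))) (.node (.leaf (nat_lit 0x532425314535148)) (.leaf (nat_lit 0x11533531145445))))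 (.node (.node (.leaf (nat_lit 0x5354135453131144)) (.leaf (nat_lit 0x45313323542441))) (.node (.leaf (nat_lit 0x535245132541)) (.leaf (nat_lit 0x0))))) (.node (.node (.node (.leaf (nat_lit 0x535141532541)) (.leaf (nat_lit 0x223335422354448))) (.node (.leaf (nat_lit 0x2514535311454535)) (.leaf (nat_lit 0x53542515354511)))) (.node (.node (.leaf (nat_lit 0x13145351542354)) (.leaf (nat_lit 0x22335453145354148))) (.node (.leaf (nat_lit 0x132453154532458)) (.leaf (nat_lit 0x0)))))) (.node (.node (.node (.node (.leaf (nat_lit 0x141324153242358)) (.leaf (nat_lit 0x525353114541))) (.node (.leaf (nat_lit 0x535145235242)) (.leaf (nat_lit 0x454113531525)))) (.node (.node (.leaf (nat_lit 0x452354132541358)) (.leaf (nat_lit 0x453242532453528))) (.node (.leaf (nat_lit 0x5351415325418)) (.leaf (nat_lit 0x0))))) (.node (.node (.node (.leaf (nat_lit 0x5331144522)) (.leaf (nat_lit 0x154532451324538))) (.node (.leaf (nat_lit 0x3544424241313133354442424513131333544424241313133)) (.leaf (nat_lit 0x0)))) (.node (.node (.leaf (nat_lit 0x323323542442458))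 (.leaf (nat_lit 0x54532245354422338))) (.node (.leaf (nat_lit 0x4411335453224535)) (.leaf (nat_lit 0x0))))))) (.node (.node (.node (.node (.node (.leaf (nat_lit 0x52513224)) (.leaf (nat_lit 0x3254523514158))) (.node (.leaf (nat_lit 0x4532245354411335)) (.leaf (nat_lit 0x354411335451158)))) (.node (.node (.leaf (nat_lit 0x324535422235458)) (.leaf (nat_lit 0x13524135425354))) (.node (.leaf (nat_lit 0x245311453515)) (.leaf (nat_lit 0x0))))) (.node (.node (.node (.leaf (nat_lit 0x41325423545135)) (.leaf (nat_lit 0x3354442424253131333544424242313133354442424231313))) (.node (.leaf (nat_lit 0x3544424242313133354442424231313335444242425313133)) (.leaf (nat_lit 0x0)))) (.node (.node (.leaf (nat_lit 0x35424244231154133131)) (.leaf (nat_lit 0x15413541324535))) (.node (.leaf (nat_lit 0x4453351524453311)) (.leaf (nat_lit 0x0)))))) (.node (.node (.node (.node (.leaf (nat_lit 0x51154251538)) (.leaf (nat_lit 0x35452531453141))) (.node (.leaf (nat_lit 0x325415351415)) (.leaf (nat_lit 0x141314232451538)))) (.node (.node (.leaf (nat_lit 0x314135423245))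 (.leaf (nat_lit 0x52514411338))) (.node (.leaf (nat_lit 0x533114454113)) (.leaf (nat_lit 0x0))))) (.node (.node (.node (.leaf (nat_lit 0x45442233535115)) (.leaf (nat_lit 0x25423245131413))) (.node (.leaf (nat_lit 0x1533114425)) (.leaf (nat_lit 0x0)))) (.node (.node (.leaf (nat_lit 0x35333522544454228)) (.leaf (nat_lit 0x45353114545322))) (.node (.leaf (nat_lit 0x2423241324238)) (.leaf (nat_lit 0x0))))))))) (.node (.node (.node (.node (.node (.node (.node (.leaf (nat_lit 0x41531413514132)) (.leaf (nat_lit 0x232545235145))) (.node (.leaf (nat_lit 0x5253322441)) (.leaf (nat_lit 0x245131413254238)))) (.node (.node (.leaf (nat_lit 0x31114535413545)) (.leaf (nat_lit 0x3254513514258))) (.node (.leaf (nat_lit 0x314531545314518)) (.leaf (nat_lit 0x0))))) (.node (.node (.node (.leaf (nat_lit 0x32453514532415)) (.leaf (nat_lit 0x54231453245253))) (.node (.leaf (nat_lit 0x5235242532548)) (.leaf (nat_lit 0x324253242351428)))) (.node (.node (.leaf (nat_lit 0x424244235224133131358)) (.leaf (nat_lit 0x4513254153158))) (.node (.leaf (nat_lit 0x324232542324518))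 (.leaf (nat_lit 0x0)))))) (.node (.node (.node (.node (.leaf (nat_lit 0x532423514132418)) (.leaf (nat_lit 0x354231453515418))) (.node (.leaf (nat_lit 0x45324513145325)) (.leaf (nat_lit 0x4242531313335444242423131333544424242313133354442)))) (.node (.node (.leaf (nat_lit 0x35423145352542)) (.leaf (nat_lit 0x53224152))) (.node (.leaf (nat_lit 0x25453145231453)) (.leaf (nat_lit 0x0))))) (.node (.node (.node (.leaf (nat_lit 0x11454454113533538)) (.leaf (nat_lit 0x532453514531428))) (.node (.leaf (nat_lit 0x131423141314)) (.leaf (nat_lit 0x0)))) (.node (.node (.leaf (nat_lit 0x23311442)) (.leaf (nat_lit 0x322453532245458))) (.node (.leaf (nat_lit 0x4253131333544424242313133354442424231313335444242)) (.leaf (nat_lit 0x0))))))) (.node (.node (.node (.node (.node (.leaf (nat_lit 0x41453133135414)) (.leaf (nat_lit 0x35453322445354118))) (.node (.leaf (nat_lit 0x545135245131)) (.leaf (nat_lit 0x3535425153545411)))) (.node (.node (.leaf (nat_lit 0x5315452325428)) (.leaf (nat_lit 0x54411335453114538))) (.node (.leaf (nat_lit 0x5145232541538))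 (.leaf (nat_lit 0x0))))) (.node (.node (.node (.leaf (nat_lit 0x413254131451318)) (.leaf (nat_lit 0x1322445354135453))) (.node (.leaf (nat_lit 0x2324532423548)) (.leaf (nat_lit 0x314132423142)))) (.node (.node (.leaf (nat_lit 0x542354513541328)) (.leaf (nat_lit 0x53515423541314))) (.node (.leaf (nat_lit 0x5145131545238)) (.leaf (nat_lit 0x0)))))) (.node (.node (.node (.node (.leaf (nat_lit 0x241354231453)) (.leaf (nat_lit 0x5453145354238))) (.node (.leaf (nat_lit 0x535413545324)) (.leaf (nat_lit 0x445115335311458)))) (.node (.node (.leaf (nat_lit 0x2245311453)) (.leaf (nat_lit 0x31451324232541))) (.node (.leaf (nat_lit 0x2353531145454515)) (.leaf (nat_lit 0x0))))) (.node (.node (.node (.leaf (nat_lit 0x45351154535251)) (.leaf (nat_lit 0x233511544515))) (.node (.leaf (nat_lit 0x25153114)) (.leaf (nat_lit 0x0)))) (.node (.node (.leaf (nat_lit 0x45324153245351)) (.leaf (nat_lit 0x4425153335411354))) (.node (.leaf (nat_lit 0x415352415315)) (.leaf (nat_lit 0x0)))))))) (.node (.node (.node (.node (.node (.node (.leaf (nat_lit 0x14411331))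 (.leaf (nat_lit 0x4453224533118))) (.node (.leaf (nat_lit 0x322422)) (.leaf (nat_lit 0x254531145352)))) (.node (.node (.leaf (nat_lit 0x24532425324535)) (.leaf (nat_lit 0x14135451532453))) (.node (.leaf (nat_lit 0x253141351413148)) (.leaf (nat_lit 0x0))))) (.node (.node (.node (.leaf (nat_lit 0x422322)) (.leaf (nat_lit 0x4531145352258))) (.node (.leaf (nat_lit 0x5322453251548)) (.leaf (nat_lit 0x35445152335411)))) (.node (.node (.leaf (nat_lit 0x313135424244235224138)) (.leaf (nat_lit 0x235142354153548))) (.node (.leaf (nat_lit 0x2452325425358)) (.leaf (nat_lit 0x0)))))) (.node (.node (.node (.node (.leaf (nat_lit 0x53242531453514)) (.leaf (nat_lit 0x5144113352))) (.node (.leaf (nat_lit 0x54532451314532)) (.leaf (nat_lit 0x45231423254232)))) (.node (.node (.leaf (nat_lit 0x53141354135254)) (.leaf (nat_lit 0x45352254535152))) (.node (.leaf (nat_lit 0x2254441133358)) (.leaf (nat_lit 0x0))))) (.node (.node (.node (.leaf (nat_lit 0x15254113)) (.leaf (nat_lit 0x113533114454))) (.node (.leaf (nat_lit 0x2535422354158)) (.leaf (nat_lit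 0x0)))) (.node (.node (.leaf (nat_lit 0x3141314231418)) (.leaf (nat_lit 0x1353114545258))) (.node (.leaf (nat_lit 0x5444113335351154)) (.leaf (nat_lit 0x0))))))) (.node (.node (.node (.node (.node (.leaf (nat_lit 0x5254411331)) (.leaf (nat_lit 0x5333511544453114))) (.node (.leaf (nat_lit 0x2535453111453545)) (.leaf (nat_lit 0x52514533114453)))) (.node (.node (.leaf (nat_lit 0x53525145118)) (.leaf (nat_lit 0x3311444223))) (.node (.leaf (nat_lit 0x3131333544424245131313335444242413131333544424241)) (.leaf (nat_lit 0x0))))) (.node (.node (.node (.leaf (nat_lit 0x135154231413248)) (.leaf (nat_lit 0x3524513524258))) (.node (.leaf (nat_lit 0x31423254231451)) (.leaf (nat_lit 0x0)))) (.node (.node (.leaf (nat_lit 0x425314135142328)) (.leaf (nat_lit 0x514132415324238))) (.node (.leaf (nat_lit 0x2454532245353515)) (.leaf (nat_lit 0x0)))))) (.node (.node (.node (.node (.leaf (nat_lit 0x53233135424414)) (.leaf (nat_lit 0x251533311444))) (.node (.leaf (nat_lit 0x451535453145358)) (.leaf (nat_lit 0x42314232413525)))) (.node (.node (.leaf (nat_lit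 0x253541135415)) (.leaf (nat_lit 0x132453142354))) (.node (.leaf (nat_lit 0x53241324231452)) (.leaf (nat_lit 0x0))))) (.node (.node (.node (.leaf (nat_lit 0x4453322445333114)) (.leaf (nat_lit 0x5351524511))) (.node (.leaf (nat_lit 0x3335444242423131333544424242313133354442424253131)) (.leaf (nat_lit 0x0)))) (.node (.node (.leaf (nat_lit 0x2245351524538)) (.leaf (nat_lit 0x523524153524))) (.node (.leaf (nat_lit 0x154452513351)) (.leaf (nat_lit 0x0)))))))))))

end Cfsg.Agent.TcData.HN.I1539000
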