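import Cfsg.Agent.Lib.TcFacts

set_option autoImplicit false
set_option Elab.async false
set_option maxRecDepth 100000
set_option linter.all false

namespace Cfsg.Agent.TcData.HN.I1539000

open Cfsg.Agent.Lib.TcFacts

/-- A part of a table. -/
noncomputable def PW4 : Tr := (.node (.node (.node (.node (.node (.node (.node (.node (.node (.leaf (nat_lit 0x76)) (.leaf (nat_lit 0x4531145333511544))) (.node (.leaf (nat_lit 0x54533224453511)) (.leaf (nat_lit 0x33353311445444118)))) (.node (.node (.leaf (nat_lit 0x14531425324535)) (.leaf (nat_lit 0x22545251358))) (.node (.leaf (nat_lit 0x54131452314232)) (.leaf (nat_lit 0x0))))) (.node (.node (.node (.leaf (nat_lit 0x413241531413518)) (.leaf (nat_lit 0x14531332354244))) (.node (.leaf (nat_lit 0x51353511545452)) (.leaf (nat_lit 0x2325452351458)))) (.node (.node (.leaf (nat_lit 0x253514513514)) (.leaf (nat_lit 0x3354442424231313335444242423131333544424242531313))) (.node (.leaf (nat_lit 0x335411354441138)) (.leaf (nat_lit 0x0)))))) (.node (.node (.node (.node (.leaf (nat_lit 0x14135141324153))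 (.leaf (nat_lit 0x251311458))) (.node (.leaf (nat_lit 0x131453242354)) (.leaf (nat_lit 0x322454532245358)))) (.node (.node (.leaf (nat_lit 0x542324523142328)) (.leaf (nat_lit 0x11315254))) (.node (.leaf (nat_lit 0x5354525354531114)) (.leaf (nat_lit 0x0))))) (.node (.node (.node (.leaf (nat_lit 0x351154441133)) (.leaf (nat_lit 0x54113544511533))) (.node (.leaf (nat_lit 0x35423145314515)) (.leaf (nat_lit 0x0)))) (.node (.node (.leaf (nat_lit 0x132423515413148)) (.leaf (nat_lit 0x4442515333541135))) (.node (.leaf (nat_lit 0x5351524531148)) (.leaf (nat_lit 0x0))))))) (.node (.node (.node (.node (.node (.leaf (nat_lit 0x23114515)) (.leaf (nat_lit 0x31354244245313))) (.node (.leaf (nat_lit 0x542354535254538)) (.leaf (nat_lit 0x33114453541135458)))) (.node (.node (.leaf (nat_lit 0x1145311453)) (.leaf (nat_lit 0x415253228))) (.node (.leaf (nat_lit 0x4425153335311454)) (.leaf (nat_lit 0x0))))) (.node (.node (.node (.leaf (nat_lit 0x51454422335352)) (.leaf (nat_lit 0x135141531545))) (.node (.leaf (nat_lit 0x4153254523258)) (.leaf (nat_lit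 0x2545251352)))) (.node (.node (.leaf (nat_lit 0x541314531413)) (.leaf (nat_lit 0x54532224535451538))) (.node (.leaf (nat_lit 0x3111453545253545)) (.leaf (nat_lit 0x0)))))) (.node (.node (.node (.node (.leaf (nat_lit 0x31114535452535458)) (.leaf (nat_lit 0x31541324513242))) (.node (.leaf (nat_lit 0x42351413542535)) (.leaf (nat_lit 0x315425351415)))) (.node (.node (.leaf (nat_lit 0x542314513142328)) (.leaf (nat_lit 0x13541351545324))) (.node (.leaf (nat_lit 0x4535254535411135)) (.leaf (nat_lit 0x0))))) (.node (.node (.node (.leaf (nat_lit 0x52545351154531)) (.leaf (nat_lit 0x251542238))) (.node (.leaf (nat_lit 0x54532423542351)) (.leaf (nat_lit 0x0)))) (.node (.node (.leaf (nat_lit 0x535245314253148)) (.leaf (nat_lit 0x53114545351154538))) (.node (.leaf (nat_lit 0x153351524451)) (.leaf (nat_lit 0x0)))))))) (.node (.node (.node (.node (.node (.node (.leaf (nat_lit 0x523514513154)) (.leaf (nat_lit 0x413245314235))) (.node (.leaf (nat_lit 0x354135254531418)) (.leaf (nat_lit 0x42235454113535)))) (.node (.node (.leaf (nat_lit 0x4523514513158))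 (.leaf (nat_lit 0x533114454223))) (.node (.leaf (nat_lit 0x142315423245138)) (.leaf (nat_lit 0x0))))) (.node (.node (.node (.leaf (nat_lit 0x44245323323542)) (.leaf (nat_lit 0x54223251))) (.node (.leaf (nat_lit 0x23254231451314)) (.leaf (nat_lit 0x35453111453545258)))) (.node (.node (.leaf (nat_lit 0x352415351451)) (.leaf (nat_lit 0x2353114542))) (.node (.leaf (nat_lit 0x3311445354113545)) (.leaf (nat_lit 0x0)))))) (.node (.node (.node (.node (.leaf (nat_lit 0x5354241133545324)) (.leaf (nat_lit 0x52254152538))) (.node (.leaf (nat_lit 0x413145131413258)) (.leaf (nat_lit 0x154153254513)))) (.node (.node (.leaf (nat_lit 0x241324253141358)) (.leaf (nat_lit 0x42324135154131))) (.node (.leaf (nat_lit 0x131451314231548)) (.leaf (nat_lit 0x0))))) (.node (.node (.node (.leaf (nat_lit 0x25131145)) (.leaf (nat_lit 0x524513254523))) (.node (.leaf (nat_lit 0x245313323541448)) (.leaf (nat_lit 0x0)))) (.node (.node (.leaf (nat_lit 0x231413241324)) (.leaf (nat_lit 0x4153154523158))) (.node (.leaf (nat_lit 0x541135441133)) (.leaf (nat_lit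 0x0))))))) (.node (.node (.node (.node (.node (.leaf (nat_lit 0x25453515245352)) (.leaf (nat_lit 0x52441133518))) (.node (.leaf (nat_lit 0x453525145322)) (.leaf (nat_lit 0x5354411335453224)))) (.node (.node (.leaf (nat_lit 0x45324135413515)) (.leaf (nat_lit 0x231545235245))) (.node (.leaf (nat_lit 0x51532413142314)) (.leaf (nat_lit 0x0))))) (.node (.node (.node (.leaf (nat_lit 0x64738)) (.leaf (nat_lit 0x445311453331148))) (.node (.leaf (nat_lit 0x135311454525)) (.leaf (nat_lit 0x0)))) (.node (.node (.leaf (nat_lit 0x1545235145138)) (.leaf (nat_lit 0x1325452352458))) (.node (.leaf (nat_lit 0x2254545422353535)) (.leaf (nat_lit 0x0)))))) (.node (.node (.node (.node (.leaf (nat_lit 0x52454411335351)) (.leaf (nat_lit 0x5135245131548))) (.node (.leaf (nat_lit 0x135451523541)) (.leaf (nat_lit 0x13251541)))) (.node (.node (.leaf (nat_lit 0x453242354131)) (.leaf (nat_lit 0x513531145452))) (.node (.leaf (nat_lit 0x45335411354453118)) (.leaf (nat_lit 0x0))))) (.node (.node (.node (.leaf (nat_lit 0x45131453254532)) (.leaf (nat_lit 0x33114445311453)))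 (.node (.leaf (nat_lit 0x5444113335118)) (.leaf (nat_lit 0x0)))) (.node (.node (.leaf (nat_lit 0x423514132415328)) (.leaf (nat_lit 0x1133354422335444))) (.node (.leaf (nat_lit 0x13514232425314)) (.leaf (nat_lit 0x0))))))))) (.node (.node (.node (.node (.node (.node (.node (.leaf (nat_lit 0x142314131413)) (.leaf (nat_lit 0x53245314135451))) (.node (.leaf (nat_lit 0x354144145313318)) (.leaf (nat_lit 0x223353114544)))) (.node (.node (.leaf (nat_lit 0x514541135352)) (.leaf (nat_lit 0x51153545152354))) (.node (.leaf (nat_lit 0x5352514532248)) (.leaf (nat_lit 0x0))))) (.node (.node (.node (.leaf (nat_lit 0x351524451153)) (.leaf (nat_lit 0x525354223541))) (.node (.leaf (nat_lit 0x3141314132418)) (.leaf (nat_lit 0x223533114454)))) (.node (.node (.leaf (nat_lit 0x545314523145328)) (.leaf (nat_lit 0x5225454113538))) (.node (.leaf (nat_lit 0x453514532415328)) (.leaf (nat_lit 0x0)))))) (.node (.node (.node (.node (.leaf (nat_lit 0x153141351413248)) (.leaf (nat_lit 0x5245453114535351))) (.node (.leaf (nat_lit 0x42411335453245358)) (.leaf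 (nat_lit 0x1415351452358)))) (.node (.node (.leaf (nat_lit 0x42532413524131)) (.leaf (nat_lit 0x45225325158))) (.node (.leaf (nat_lit 0x53545225354152)) (.leaf (nat_lit 0x0))))) (.node (.node (.node (.leaf (nat_lit 0x45335115445322)) (.leaf (nat_lit 0x2535142532548))) (.node (.leaf (nat_lit 0x54223544425153338)) (.leaf (nat_lit 0x0)))) (.node (.node (.leaf (nat_lit 0x442311541331313542428)) (.leaf (nat_lit 0x45352541354232))) (.node (.leaf (nat_lit 0x5453541113545352)) (.leaf (nat_lit 0x0))))))) (.node (.node (.node (.node (.node (.leaf (nat_lit 0x31145115)) (.leaf (nat_lit 0x2514422335))) (.node (.leaf (nat_lit 0x241314232452538)) (.leaf (nat_lit 0x223544113354)))) (.node (.node (.leaf (nat_lit 0x532413514232418)) (.leaf (nat_lit 0x4532245351158))) (.node (.leaf (nat_lit 0x354135241354258)) (.leaf (nat_lit 0x0))))) (.node (.node (.node (.leaf (nat_lit 0x32413514132425)) (.leaf (nat_lit 0x35451535453222458))) (.node (.leaf (nat_lit 0x45351453142532)) (.leaf (nat_lit 0x444525133311)))) (.node (.node (.leaf (nat_lit 0x51542354131453))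 (.leaf (nat_lit 0x53114532248))) (.node (.leaf (nat_lit 0x2532545231548)) (.leaf (nat_lit 0x0)))))) (.node (.node (.node (.node (.leaf (nat_lit 0x451314531545318)) (.leaf (nat_lit 0x1545131542538))) (.node (.leaf (nat_lit 0x51453142532453)) (.leaf (nat_lit 0x135452513541)))) (.node (.node (.leaf (nat_lit 0x13141325423245)) (.leaf (nat_lit 0x541135454113538))) (.node (.leaf (nat_lit 0x5141535245138)) (.leaf (nat_lit 0x0))))) (.node (.node (.node (.leaf (nat_lit 0x32451314231542)) (.leaf (nat_lit 0x53541314532451))) (.node (.leaf (nat_lit 0x1145333522544453)) (.leaf (nat_lit 0x0)))) (.node (.node (.leaf (nat_lit 0x131425324235148)) (.leaf (nat_lit 0x1332515441))) (.node (.leaf (nat_lit 0x45325154535115)) (.leaf (nat_lit 0x0)))))))) (.node (.node (.node (.node (.node (.node (.leaf (nat_lit 0x3322444113)) (.leaf (nat_lit 0x4532413541328))) (.node (.leaf (nat_lit 0x2441133515)) (.leaf (nat_lit 0x2514453322445335)))) (.node (.node (.leaf (nat_lit 0x277178)) (.leaf (nat_lit 0x3514523254528))) (.node (.leaf (nat_lit 0x45451153532515))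 (.leaf (nat_lit 0x0))))) (.node (.node (.node (.leaf (nat_lit 0x231545135145)) (.leaf (nat_lit 0x54111354535254538))) (.node (.leaf (nat_lit 0x423245352541358)) (.leaf (nat_lit 0x3524253154258)))) (.node (.node (.leaf (nat_lit 0x54131453145253)) (.leaf (nat_lit 0x15354532224535458))) (.node (.leaf (nat_lit 0x33224453542235458)) (.leaf (nat_lit 0x0)))))) (.node (.node (.node (.node (.leaf (nat_lit 0x324135413245)) (.leaf (nat_lit 0x3511544113))) (.node (.leaf (nat_lit 0x54235451354132)) (.leaf (nat_lit 0x5154533311444532)))) (.node (.node (.leaf (nat_lit 0x354113545115)) (.leaf (nat_lit 0x5354235453148))) (.node (.leaf (nat_lit 0x415354535245358)) (.leaf (nat_lit 0x0))))) (.node (.node (.node (.leaf (nat_lit 0x73648)) (.leaf (nat_lit 0x1145354411335453))) (.node (.leaf (nat_lit 0x452352452315)) (.leaf (nat_lit 0x0)))) (.node (.node (.leaf (nat_lit 0x53224532248)) (.leaf (nat_lit 0x423154232451318))) (.node (.leaf (nat_lit 0x25453542354535)) (.leaf (nat_lit 0x0))))))) (.node (.node (.node (.node (.node (.leaf (nat_lit 0x35415354135141))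 (.leaf (nat_lit 0x423245131423158))) (.node (.leaf (nat_lit 0x5152451153)) (.leaf (nat_lit 0x11545352514535)))) (.node (.node (.leaf (nat_lit 0x3145354141133545)) (.leaf (nat_lit 0x41525322))) (.node (.leaf (nat_lit 0x3114533541135445)) (.leaf (nat_lit 0x0))))) (.node (.node (.node (.leaf (nat_lit 0x453542535453518)) (.leaf (nat_lit 0x2451352425358))) (.node (.leaf (nat_lit 0x451153118)) (.leaf (nat_lit 0x0)))) (.node (.node (.leaf (nat_lit 0x2513322445)) (.leaf (nat_lit 0x41133515248))) (.node (.leaf (nat_lit 0x54132451324231)) (.leaf (nat_lit 0x0)))))) (.node (.node (.node (.node (.leaf (nat_lit 0x2453224535158)) (.leaf (nat_lit 0x5351451315418))) (.node (.leaf (nat_lit 0x52545352254531)) (.leaf (nat_lit 0x31453254532451)))) (.node (.node (.leaf (nat_lit 0x224411338)) (.leaf (nat_lit 0x253524153254))) (.node (.leaf (nat_lit 0x5453114535351154)) (.leaf (nat_lit 0x0))))) (.node (.node (.node (.leaf (nat_lit 0x5331144152)) (.leaf (nat_lit 0x4253524513158))) (.node (.leaf (nat_lit 0x525144511533)) (.leaf (nat_lit 0x0)))) (.node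 (.node (.leaf (nat_lit 0x52535413145314)) (.leaf (nat_lit 0x453254531452318))) (.node (.leaf (nat_lit 0x31332354244145)) (.leaf (nat_lit 0x0)))))))))) (.node (.node (.node (.node (.node (.node (.node (.node (.leaf (nat_lit 0x5235115451)) (.leaf (nat_lit 0x4442424231313335444242425313133354442424231313335))) (.node (.leaf (nat_lit 0x513154513524)) (.leaf (nat_lit 0x531145453114538)))) (.node (.node (.leaf (nat_lit 0x532331354244148)) (.leaf (nat_lit 0x4132423142318))) (.node (.leaf (nat_lit 0x425354135142358)) (.leaf (nat_lit 0x0))))) (.node (.node (.node (.leaf (nat_lit 0x5335442233544511)) (.leaf (nat_lit 0x15442233258))) (.node (.leaf (nat_lit 0x54531322445354138)) (.leaf (nat_lit 0x325413245231418)))) (.node (.node (.leaf (nat_lit 0x32541324523141)) (.leaf (nat_lit 0x53542235453322448))) (.node (.leaf (nat_lit 0x311453311445)) (.leaf (nat_lit 0x0)))))) (.node (.node (.node (.node (.leaf (nat_lit 0x231142)) (.leaf (nat_lit 0x115453114535))) (.node (.leaf (nat_lit 0x45314253145352)) (.leaf (nat_lit 0x141531545135)))) (.node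 (.node (.leaf (nat_lit 0x532224535423548)) (.leaf (nat_lit 0x154513524513))) (.node (.leaf (nat_lit 0x545325453545138)) (.leaf (nat_lit 0x0))))) (.node (.node (.node (.leaf (nat_lit 0x3545351545354222)) (.leaf (nat_lit 0x1453544223135453))) (.node (.leaf (nat_lit 0x241354132453)) (.leaf (nat_lit 0x0)))) (.node (.node (.leaf (nat_lit 0x324531423541)) (.leaf (nat_lit 0x33354442424513131333544424241313133354442424131318))) (.node (.leaf (nat_lit 0x411354522535)) (.leaf (nat_lit 0x0))))))) (.node (.node (.node (.node (.node (.leaf (nat_lit 0x5251351154)) (.leaf (nat_lit 0x535242532541))) (.node (.leaf (nat_lit 0x523154153154)) (.leaf (nat_lit 0x145231423254138)))) (.node (.node (.leaf (nat_lit 0x45135453254535)) (.leaf (nat_lit 0x523542235451))) (.node (.leaf (nat_lit 0x11325154)) (.leaf (nat_lit 0x0))))) (.node (.node (.node (.leaf (nat_lit 0x14113525)) (.leaf (nat_lit 0x1333531145444525))) (.node (.leaf (nat_lit 0x314232423515428)) (.leaf (nat_lit 0x4111354535254535)))) (.node (.node (.leaf (nat_lit 0x54531413541352)) (.leaf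 (nat_lit 0x5153545411353542))) (.node (.leaf (nat_lit 0x45351154532515)) (.leaf (nat_lit 0x0)))))) (.node (.node (.node (.node (.leaf (nat_lit 0x24515354131453)) (.leaf (nat_lit 0x2354542235354515))) (.node (.leaf (nat_lit 0x42324525314132)) (.leaf (nat_lit 0x315415351451)))) (.node (.node (.leaf (nat_lit 0x32545354513545)) (.leaf (nat_lit 0x3544424242531313335444242423131333544424242313133))) (.node (.leaf (nat_lit 0x231542324513148)) (.leaf (nat_lit 0x0))))) (.node (.node (.node (.leaf (nat_lit 0x513514153524)) (.leaf (nat_lit 0x4152535115))) (.node (.leaf (nat_lit 0x4513254513518)) (.leaf (nat_lit 0x0)))) (.node (.node (.leaf (nat_lit 0x51413142531413)) (.leaf (nat_lit 0x542235452253))) (.node (.leaf (nat_lit 0x1145322453)) (.leaf (nat_lit 0x0)))))))) (.node (.node (.node (.node (.node (.node (.leaf (nat_lit 0x51531142)) (.leaf (nat_lit 0x113152548))) (.node (.leaf (nat_lit 0x3542354531458)) (.leaf (nat_lit 0x3311442515)))) (.node (.node (.leaf (nat_lit 0x5415352425328)) (.leaf (nat_lit 0x14532545324513))) (.node (.leaf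 (nat_lit 0x3152545115)) (.leaf (nat_lit 0x0))))) (.node (.node (.node (.leaf (nat_lit 0x245323313541448)) (.leaf (nat_lit 0x135452354132548))) (.node (.leaf (nat_lit 0x545235141532)) (.leaf (nat_lit 0x242315413245138)))) (.node (.node (.leaf (nat_lit 0x3322445251)) (.leaf (nat_lit 0x5441133152))) (.node (.leaf (nat_lit 0x13535115454525)) (.leaf (nat_lit 0x0)))))) (.node (.node (.node (.node (.leaf (nat_lit 0x131354242442352241338)) (.leaf (nat_lit 0x51324532545314))) (.node (.leaf (nat_lit 0x23313541442453)) (.leaf (nat_lit 0x311415258)))) (.node (.node (.leaf (nat_lit 0x45351453542535)) (.leaf (nat_lit 0x2535115415))) (.node (.leaf (nat_lit 0x354522535411)) (.leaf (nat_lit 0x0))))) (.node (.node (.node (.leaf (nat_lit 0x4515233114)) (.leaf (nat_lit 0x1453541422335453))) (.node (.leaf (nat_lit 0x322442238)) (.leaf (nat_lit 0x0)))) (.node (.node (.leaf (nat_lit 0x452513541135)) (.leaf (nat_lit 0x45115331148))) (.node (.leaf (nat_lit 0x41531423514232)) (.leaf (nat_lit 0x0))))))) (.node (.node (.node (.node (.node (.leaf (nat_lit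 0x35413545311145)) (.leaf (nat_lit 0x354132453241))) (.node (.leaf (nat_lit 0x14454113533525)) (.leaf (nat_lit 0x135441133541)))) (.node (.node (.leaf (nat_lit 0x54242233545324538)) (.leaf (nat_lit 0x31144535413545318))) (.node (.leaf (nat_lit 0x524532425324538)) (.leaf (nat_lit 0x0))))) (.node (.node (.node (.leaf (nat_lit 0x314131413241)) (.leaf (nat_lit 0x453224531525))) (.node (.leaf (nat_lit 0x54532245353114)) (.leaf (nat_lit 0x0)))) (.node (.node (.leaf (nat_lit 0x22452513)) (.leaf (nat_lit 0x113251548))) (.node (.leaf (nat_lit 0x245135242535)) (.leaf (nat_lit 0x0)))))) (.node (.node (.node (.node (.leaf (nat_lit 0x245313313542448)) (.leaf (nat_lit 0x324253242352418))) (.node (.leaf (nat_lit 0x44411333118)) (.leaf (nat_lit 0x253141352413248)))) (.node (.node (.leaf (nat_lit 0x1453353114544531)) (.leaf (nat_lit 0x11118))) (.node (.leaf (nat_lit 0x32423154132451)) (.leaf (nat_lit 0x0))))) (.node (.node (.node (.leaf (nat_lit 0x11353352254454)) (.leaf (nat_lit 0x2515441133))) (.node (.leaf (nat_lit 0x4442424253131333544424242313133354442424231313335))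 (.leaf (nat_lit 0x0)))) (.node (.node (.leaf (nat_lit 0x3335115444118)) (.leaf (nat_lit 0x4535331144545322))) (.node (.leaf (nat_lit 0x2352425325458)) (.leaf (nat_lit 0x0))))))))) (.node (.node (.node (.node (.node (.node (.node (.leaf (nat_lit 0x324131413141)) (.leaf (nat_lit 0x5253522541))) (.node (.leaf (nat_lit 0x5452253545411353)) (.leaf (nat_lit 0x2254531145358)))) (.node (.node (.leaf (nat_lit 0x53514532425314)) (.leaf (nat_lit 0x425324535245328))) (.node (.leaf (nat_lit 0x152333114445)) (.leaf (nat_lit 0x0))))) (.node (.node (.node (.leaf (nat_lit 0x53541324532452)) (.leaf (nat_lit 0x35452531453242))) (.node (.leaf (nat_lit 0x2254411335)) (.leaf (nat_lit 0x3354532453542411)))) (.node (.node (.leaf (nat_lit 0x1311418)) (.leaf (nat_lit 0x423515453141358))) (.node (.leaf (nat_lit 0x325423545135418)) (.leaf (nat_lit 0x0)))))) (.node (.node (.node (.node (.leaf (nat_lit 0x4253254523158)) (.leaf (nat_lit 0x135452253541))) (.node (.leaf (nat_lit 0x54535251453522)) (.leaf (nat_lit 0x31333544424241313133354442424131313335444242451318))))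 (.node (.node (.leaf (nat_lit 0x532545314523148)) (.leaf (nat_lit 0x11453541354531))) (.node (.leaf (nat_lit 0x1133322444)) (.leaf (nat_lit 0x0))))) (.node (.node (.node (.leaf (nat_lit 0x33544424245131313335444242413131333544424241313138)) (.leaf (nat_lit 0x5115444531145333))) (.node (.leaf (nat_lit 0x51154411338)) (.leaf (nat_lit 0x0)))) (.node (.node (.leaf (nat_lit 0x453142354132)) (.leaf (nat_lit 0x44113335311454))) (.node (.leaf (nat_lit 0x2335442233544515)) (.leaf (nat_lit 0x0))))))) (.node (.node (.node (.node (.node (.leaf (nat_lit 0x241132)) (.leaf (nat_lit 0x2325415325458))) (.node (.leaf (nat_lit 0x541535453524538)) (.leaf (nat_lit 0x5332244531148)))) (.node (.node (.leaf (nat_lit 0x14232415324135)) (.leaf (nat_lit 0x441453233235418))) (.node (.leaf (nat_lit 0x3514153254158)) (.leaf (nat_lit 0x0))))) (.node (.node (.node (.leaf (nat_lit 0x25314135141314)) (.leaf (nat_lit 0x32245322458))) (.node (.leaf (nat_lit 0x4223541135)) (.leaf (nat_lit 0x5453511545353224)))) (.node (.node (.leaf (nat_lit 0x1425351451358))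 (.leaf (nat_lit 0x454113535225))) (.node (.leaf (nat_lit 0x54135254531413)) (.leaf (nat_lit 0x0)))))) (.node (.node (.node (.node (.leaf (nat_lit 0x23545135423154)) (.leaf (nat_lit 0x35311454531525458))) (.node (.leaf (nat_lit 0x24513245315453)) (.leaf (nat_lit 0x5411354544113353)))) (.node (.node (.leaf (nat_lit 0x22453224538)) (.leaf (nat_lit 0x311425158))) (.node (.leaf (nat_lit 0x51154535311454538)) (.leaf (nat_lit 0x0))))) (.node (.node (.node (.leaf (nat_lit 0x45352514535115)) (.leaf (nat_lit 0x14544113353525))) (.node (.leaf (nat_lit 0x352451325452)) (.leaf (nat_lit 0x0)))) (.node (.node (.leaf (nat_lit 0x545231541531)) (.leaf (nat_lit 0x5225451523))) (.node (.leaf (nat_lit 0x425351415315)) (.leaf (nat_lit 0x0)))))))) (.node (.node (.node (.node (.node (.node (.leaf (nat_lit 0x11352254)) (.leaf (nat_lit 0x33542235445115))) (.node (.leaf (nat_lit 0x3241354231458)) (.leaf (nat_lit 0x544511533152)))) (.node (.node (.leaf (nat_lit 0x5131545235148)) (.leaf (nat_lit 0x51153545251354))) (.node (.leaf (nat_lit 0x22425153))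 (.leaf (nat_lit 0x0))))) (.node (.node (.node (.leaf (nat_lit 0x241314132423)) (.leaf (nat_lit 0x251454223535))) (.node (.leaf (nat_lit 0x45314135413525)) (.leaf (nat_lit 0x2413131333544424241313133354442424513131333544424)))) (.node (.node (.leaf (nat_lit 0x453233235424428)) (.leaf (nat_lit 0x3531145453522545))) (.node (.leaf (nat_lit 0x1353541135454525)) (.leaf (nat_lit 0x0)))))) (.node (.node (.node (.node (.leaf (nat_lit 0x52453541535453)) (.leaf (nat_lit 0x1335115441))) (.node (.leaf (nat_lit 0x3524253254158)) (.leaf (nat_lit 0x314523145325458)))) (.node (.node (.leaf (nat_lit 0x145132545135)) (.leaf (nat_lit 0x54532322445354238))) (.node (.leaf (nat_lit 0x224525138)) (.leaf (nat_lit 0x0))))) (.node (.node (.node (.leaf (nat_lit 0x3152544113)) (.leaf (nat_lit 0x523514253154))) (.node (.leaf (nat_lit 0x5422354533114453)) (.leaf (nat_lit 0x0)))) (.node (.node (.leaf (nat_lit 0x1524411335)) (.leaf (nat_lit 0x1415325415358))) (.node (.leaf (nat_lit 0x144452513331)) (.leaf (nat_lit 0x0))))))) (.node (.node (.node (.node (.node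 (.leaf (nat_lit 0x14132415314135)) (.leaf (nat_lit 0x152531148))) (.node (.leaf (nat_lit 0x3545331144535422)) (.leaf (nat_lit 0x352514451153)))) (.node (.node (.leaf (nat_lit 0x32245152)) (.leaf (nat_lit 0x15354231453145))) (.node (.leaf (nat_lit 0x542324531413)) (.leaf (nat_lit 0x0))))) (.node (.node (.node (.leaf (nat_lit 0x453145253541318)) (.leaf (nat_lit 0x54113545411353))) (.node (.leaf (nat_lit 0x54525135451153)) (.leaf (nat_lit 0x0)))) (.node (.node (.leaf (nat_lit 0x31425314135141)) (.leaf (nat_lit 0x233322444515))) (.node (.leaf (nat_lit 0x4223545115358)) (.leaf (nat_lit 0x0)))))) (.node (.node (.node (.node (.leaf (nat_lit 0x4531413541318)) (.leaf (nat_lit 0x22453114538))) (.node (.leaf (nat_lit 0x53525145351154)) (.leaf (nat_lit 0x232413241314)))) (.node (.node (.leaf (nat_lit 0x41324513142325)) (.leaf (nat_lit 0x14424531332354))) (.node (.leaf (nat_lit 0x5242531542538)) (.leaf (nat_lit 0x0))))) (.node (.node (.node (.leaf (nat_lit 0x542424423522413313138)) (.leaf (nat_lit 0x32244535423545328))) (.node (.leaf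 (nat_lit 0x22453544223354538)) (.leaf (nat_lit 0x0)))) (.node (.node (.leaf (nat_lit 0x453251545322)) (.leaf (nat_lit 0x15232245))) (.node (.leaf (nat_lit 0x253245352453248)) (.leaf (nat_lit 0x0)))))))))))

end Cfsg.Agent.TcData.HN.I1539000
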