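import Cfsg.Agent.Lib.TcFacts

set_option autoImplicit false
set_option Elab.async false
set_option maxRecDepth 100000
set_option linter.all false

namespace Cfsg.Agent.TcData.HN.I1539000

open Cfsg.Agent.Lib.TcFacts

/-- A part of a table. -/
noncomputable def PW5 : Tr := (.node (.node (.node (.node (.node (.node (.node (.node (.node (.leaf (nat_lit 0x7463)) (.leaf (nat_lit 0x31545324513245))) (.node (.leaf (nat_lit 0x54533224453522)) (.leaf (nat_lit 0x135331144541)))) (.node (.node (.leaf (nat_lit 0x233235424424538)) (.leaf (nat_lit 0x2545135145138))) (.node (.leaf (nat_lit 0x45314523145325)) (.leaf (nat_lit 0x0))))) (.node (.node (.node (.leaf (nat_lit 0x423241532413518)) (.leaf (nat_lit 0x1335332244544525))) (.node (.leaf (nat_lit 0x52353511545451)) (.leaf (nat_lit 0x4242313133354442424253131333544424242313133354442)))) (.node (.node (.leaf (nat_lit 0x1544113325)) (.leaf (nat_lit 0x4511532515))) (.node (.leaf (nat_lit 0x132423154231458)) (.leaf (nat_lit 0x0)))))) (.node (.node (.node (.node (.leaf (nat_lit 0x22451153)) (.leaf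 (nat_lit 0x225322458))) (.node (.leaf (nat_lit 0x231453241354)) (.leaf (nat_lit 0x3311444544113353)))) (.node (.node (.leaf (nat_lit 0x413141324131)) (.leaf (nat_lit 0x453515413542318))) (.node (.leaf (nat_lit 0x354535145354258)) (.leaf (nat_lit 0x0))))) (.node (.node (.node (.leaf (nat_lit 0x354242442352241331318)) (.leaf (nat_lit 0x15314131423245))) (.node (.leaf (nat_lit 0x41453233235414)) (.leaf (nat_lit 0x0)))) (.node (.node (.leaf (nat_lit 0x232423515423148)) (.leaf (nat_lit 0x54441525333522))) (.node (.leaf (nat_lit 0x524513524253)) (.leaf (nat_lit 0x0))))))) (.node (.node (.node (.node (.node (.leaf (nat_lit 0x132545135145)) (.leaf (nat_lit 0x4541135333511544))) (.node (.leaf (nat_lit 0x254131413241358)) (.leaf (nat_lit 0x535115453114)))) (.node (.node (.leaf (nat_lit 0x54242442311541331313)) (.leaf (nat_lit 0x53141354525314))) (.node (.leaf (nat_lit 0x133311444525)) (.leaf (nat_lit 0x0))))) (.node (.node (.node (.leaf (nat_lit 0x52454422335351)) (.leaf (nat_lit 0x235141532545))) (.node (.leaf (nat_lit 0x33522544454223538))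 (.leaf (nat_lit 0x45335152445311)))) (.node (.node (.leaf (nat_lit 0x542314531423)) (.leaf (nat_lit 0x44242413131333544424245131313335444242413131333548))) (.node (.leaf (nat_lit 0x11535451523545)) (.leaf (nat_lit 0x0)))))) (.node (.node (.node (.node (.leaf (nat_lit 0x31313335444242423131333544424242313133354442424258)) (.leaf (nat_lit 0x4135423245318))) (.node (.leaf (nat_lit 0x42441453133235)) (.leaf (nat_lit 0x5311453251548)))) (.node (.node (.leaf (nat_lit 0x41351413241531)) (.leaf (nat_lit 0x53311445354113548))) (.node (.leaf (nat_lit 0x3544223135453145)) (.leaf (nat_lit 0x0))))) (.node (.node (.node (.leaf (nat_lit 0x53141351413241)) (.leaf (nat_lit 0x35442233545322458))) (.node (.leaf (nat_lit 0x3544424242313133354442424253131333544424242313133)) (.leaf (nat_lit 0x0)))) (.node (.node (.leaf (nat_lit 0x314513145315458)) (.leaf (nat_lit 0x4242423131333544424242531313335444242423131333544))) (.node (.leaf (nat_lit 0x22354451153354)) (.leaf (nat_lit 0x0)))))))) (.node (.node (.node (.node (.node (.node (.leaf (nat_lit 0x411322))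 (.leaf (nat_lit 0x525445115331))) (.node (.leaf (nat_lit 0x1451352415358)) (.leaf (nat_lit 0x515423542324538)))) (.node (.node (.leaf (nat_lit 0x31145225)) (.leaf (nat_lit 0x14232541324513))) (.node (.leaf (nat_lit 0x242315423145138)) (.leaf (nat_lit 0x0))))) (.node (.node (.node (.leaf (nat_lit 0x3333338)) (.leaf (nat_lit 0x532423545153248))) (.node (.leaf (nat_lit 0x5453114535441133)) (.leaf (nat_lit 0x145132453254538)))) (.node (.node (.leaf (nat_lit 0x245323323542448)) (.leaf (nat_lit 0x42233522548))) (.node (.leaf (nat_lit 0x5451351452318)) (.leaf (nat_lit 0x0)))))) (.node (.node (.node (.node (.leaf (nat_lit 0x3224228)) (.leaf (nat_lit 0x314535451535458))) (.node (.leaf (nat_lit 0x324235241324258)) (.leaf (nat_lit 0x42424131313335444242451313133354442424131313335448)))) (.node (.node (.leaf (nat_lit 0x24423115413313135424)) (.leaf (nat_lit 0x1333542235444525))) (.node (.leaf (nat_lit 0x3511545251)) (.leaf (nat_lit 0x0))))) (.node (.node (.node (.leaf (nat_lit 0x31423254131452)) (.leaf (nat_lit 0x253514153154))) (.node (.leaf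 (nat_lit 0x352451352425)) (.leaf (nat_lit 0x0)))) (.node (.node (.leaf (nat_lit 0x145324235413)) (.leaf (nat_lit 0x3311445354223545))) (.node (.leaf (nat_lit 0x42515333541135448)) (.leaf (nat_lit 0x0))))))) (.node (.node (.node (.node (.node (.leaf (nat_lit 0x313323331332333133233)) (.leaf (nat_lit 0x542235118))) (.node (.leaf (nat_lit 0x131423254231458)) (.leaf (nat_lit 0x5442233532248)))) (.node (.node (.leaf (nat_lit 0x35423545331142458)) (.leaf (nat_lit 0x142531423524138))) (.node (.leaf (nat_lit 0x4531453541411335)) (.leaf (nat_lit 0x0))))) (.node (.node (.node (.leaf (nat_lit 0x413145314135)) (.leaf (nat_lit 0x22444223338))) (.node (.leaf (nat_lit 0x235311454515)) (.leaf (nat_lit 0x0)))) (.node (.node (.leaf (nat_lit 0x42424242424242428)) (.leaf (nat_lit 0x3114545351154535))) (.node (.leaf (nat_lit 0x5254545422353531)) (.leaf (nat_lit 0x0)))))) (.node (.node (.node (.node (.leaf (nat_lit 0x54544113353511)) (.leaf (nat_lit 0x542235415253))) (.node (.leaf (nat_lit 0x235451523542)) (.leaf (nat_lit 0x23251542)))) (.node (.node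 (.leaf (nat_lit 0x2453224532)) (.leaf (nat_lit 0x523531145451))) (.node (.leaf (nat_lit 0x33322444541135)) (.leaf (nat_lit 0x0))))) (.node (.node (.node (.leaf (nat_lit 0x45231453254531)) (.leaf (nat_lit 0x32245354422335458))) (.node (.leaf (nat_lit 0x4531453544223135)) (.leaf (nat_lit 0x0)))) (.node (.node (.leaf (nat_lit 0x53233235414414)) (.leaf (nat_lit 0x44542235333522548))) (.node (.leaf (nat_lit 0x142531541535)) (.leaf (nat_lit 0x0))))))))) (.node (.node (.node (.node (.node (.node (.node (.leaf (nat_lit 0x4736)) (.leaf (nat_lit 0x11353541135454))) (.node (.leaf (nat_lit 0x325154118)) (.leaf (nat_lit 0x54532453542422338)))) (.node (.node (.leaf (nat_lit 0x524541135351)) (.leaf (nat_lit 0x14513242315423))) (.node (.leaf (nat_lit 0x22333224448)) (.leaf (nat_lit 0x0))))) (.node (.node (.node (.leaf (nat_lit 0x3351154441138)) (.leaf (nat_lit 0x41133545115354))) (.node (.leaf (nat_lit 0x31354144245323)) (.leaf (nat_lit 0x241351542314138)))) (.node (.node (.leaf (nat_lit 0x535413514135418)) (.leaf (nat_lit 0x324532413545258)))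 (.node (.leaf (nat_lit 0x453245132453158)) (.leaf (nat_lit 0x0)))))) (.node (.node (.node (.node (.leaf (nat_lit 0x354523542325428)) (.leaf (nat_lit 0x5454531145353511))) (.node (.leaf (nat_lit 0x5251354113548)) (.leaf (nat_lit 0x25144541135335)))) (.node (.node (.leaf (nat_lit 0x2513511545)) (.leaf (nat_lit 0x44544223353332248))) (.node (.leaf (nat_lit 0x32545324513145)) (.leaf (nat_lit 0x0))))) (.node (.node (.node (.leaf (nat_lit 0x4533511544533114)) (.leaf (nat_lit 0x352415325425))) (.node (.leaf (nat_lit 0x3354411335445115)) (.leaf (nat_lit 0x0)))) (.node (.node (.leaf (nat_lit 0x513514513254)) (.leaf (nat_lit 0x453241354515318))) (.node (.leaf (nat_lit 0x3541411335453145)) (.leaf (nat_lit 0x0))))))) (.node (.node (.node (.node (.node (.leaf (nat_lit 0x32415314135141)) (.leaf (nat_lit 0x41135454113535))) (.node (.leaf (nat_lit 0x224515238)) (.leaf (nat_lit 0x4535422235453515)))) (.node (.node (.leaf (nat_lit 0x35241354253541)) (.leaf (nat_lit 0x5354135453132244))) (.node (.leaf (nat_lit 0x14525131)) (.leaf (nat_lit 0x0)))))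 (.node (.node (.node (.leaf (nat_lit 0x132423154132458)) (.leaf (nat_lit 0x354525354532458))) (.node (.leaf (nat_lit 0x45325453145231)) (.leaf (nat_lit 0x51154453224533)))) (.node (.node (.leaf (nat_lit 0x52542354231453)) (.leaf (nat_lit 0x4442233354411335))) (.node (.leaf (nat_lit 0x541354532453)) (.leaf (nat_lit 0x0)))))) (.node (.node (.node (.node (.leaf (nat_lit 0x14231452531413)) (.leaf (nat_lit 0x2545131541538))) (.node (.leaf (nat_lit 0x52453142531453)) (.leaf (nat_lit 0x23545324535422)))) (.node (.node (.leaf (nat_lit 0x35241324253141)) (.leaf (nat_lit 0x23354422335442))) (.node (.leaf (nat_lit 0x13545115354525)) (.leaf (nat_lit 0x0))))) (.node (.node (.node (.leaf (nat_lit 0x35141324153242)) (.leaf (nat_lit 0x53542314531451))) (.node (.leaf (nat_lit 0x354153545352458)) (.leaf (nat_lit 0x0)))) (.node (.node (.leaf (nat_lit 0x25314135241324)) (.leaf (nat_lit 0x2332515442))) (.node (.leaf (nat_lit 0x13313542442453)) (.leaf (nat_lit 0x0)))))))) (.node (.node (.node (.node (.node (.node (.leaf (nat_lit 0x53114522)) (.leaf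 (nat_lit 0x15352254258))) (.node (.leaf (nat_lit 0x354523541325418)) (.leaf (nat_lit 0x53322414535413548)))) (.node (.node (.leaf (nat_lit 0x54235451354231)) (.leaf (nat_lit 0x253245351453148))) (.node (.leaf (nat_lit 0x2352451325458)) (.leaf (nat_lit 0x0))))) (.node (.node (.node (.leaf (nat_lit 0x525314131423148)) (.leaf (nat_lit 0x541354535154538))) (.node (.leaf (nat_lit 0x1545322453258)) (.leaf (nat_lit 0x41135353114545)))) (.node (.node (.leaf (nat_lit 0x41314232451531)) (.leaf (nat_lit 0x253545324535458))) (.node (.leaf (nat_lit 0x31453541422335458)) (.leaf (nat_lit 0x0)))))) (.node (.node (.node (.node (.leaf (nat_lit 0x413514235425358)) (.leaf (nat_lit 0x532423514131428))) (.node (.leaf (nat_lit 0x1154411335)) (.leaf (nat_lit 0x5254533311444531)))) (.node (.node (.leaf (nat_lit 0x515354113542)) (.leaf (nat_lit 0x523524523154))) (.node (.leaf (nat_lit 0x513524153514)) (.leaf (nat_lit 0x0))))) (.node (.node (.node (.leaf (nat_lit 0x74638)) (.leaf (nat_lit 0x522531148))) (.node (.leaf (nat_lit 0x415352451351)) (.leaf (nat_lit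 0x0)))) (.node (.node (.leaf (nat_lit 0x311145354135458)) (.leaf (nat_lit 0x545115353114))) (.node (.leaf (nat_lit 0x325451315415)) (.leaf (nat_lit 0x0))))))) (.node (.node (.node (.node (.node (.leaf (nat_lit 0x35425354135142)) (.leaf (nat_lit 0x542351423541538))) (.node (.leaf (nat_lit 0x145235141535)) (.leaf (nat_lit 0x1444533114453331)))) (.node (.node (.leaf (nat_lit 0x414414531331358)) (.leaf (nat_lit 0x23311445158))) (.node (.leaf (nat_lit 0x5425315452328)) (.leaf (nat_lit 0x0))))) (.node (.node (.node (.leaf (nat_lit 0x45251311)) (.leaf (nat_lit 0x315254541135))) (.node (.leaf (nat_lit 0x51532453141354)) (.leaf (nat_lit 0x0)))) (.node (.node (.leaf (nat_lit 0x442453233135418)) (.leaf (nat_lit 0x13354113544525))) (.node (.leaf (nat_lit 0x54132451314232)) (.leaf (nat_lit 0x0)))))) (.node (.node (.node (.node (.leaf (nat_lit 0x513141325413148)) (.leaf (nat_lit 0x54452513354113))) (.node (.leaf (nat_lit 0x325453145231458)) (.leaf (nat_lit 0x152354113545)))) (.node (.node (.leaf (nat_lit 0x2444242444242444242444248)) (.leaf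 (nat_lit 0x5441133533511544))) (.node (.leaf (nat_lit 0x42232354532453548)) (.leaf (nat_lit 0x0))))) (.node (.node (.node (.leaf (nat_lit 0x54532545354513)) (.leaf (nat_lit 0x31525451158))) (.node (.leaf (nat_lit 0x32354532453544228)) (.leaf (nat_lit 0x0)))) (.node (.node (.leaf (nat_lit 0x3133313133313133313133318)) (.leaf (nat_lit 0x232415314235148))) (.node (.leaf (nat_lit 0x53541314531452)) (.leaf (nat_lit 0x0)))))))))) (.node (.node (.node (.node (.node (.node (.node (.node (.leaf (nat_lit 0x3647)) (.leaf (nat_lit 0x3154253524258))) (.node (.leaf (nat_lit 0x141351413241538)) (.leaf (nat_lit 0x25423145131423)))) (.node (.node (.leaf (nat_lit 0x53233135414424)) (.leaf (nat_lit 0x423524131425318))) (.node (.leaf (nat_lit 0x535145354253548)) (.leaf (nat_lit 0x0))))) (.node (.node (.node (.leaf (nat_lit 0x5335442233544522)) (.leaf (nat_lit 0x25442233158))) (.node (.leaf (nat_lit 0x41354533114145358)) (.leaf (nat_lit 0x531145452513)))) (.node (.node (.leaf (nat_lit 0x254235452354238)) (.leaf (nat_lit 0x41133511548))) (.node (.leaf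 (nat_lit 0x32541324513142)) (.leaf (nat_lit 0x0)))))) (.node (.node (.node (.node (.leaf (nat_lit 0x31313542424423522413)) (.leaf (nat_lit 0x354532224535428))) (.node (.leaf (nat_lit 0x45324253145351)) (.leaf (nat_lit 0x13142532413524)))) (.node (.node (.leaf (nat_lit 0x25423545135413)) (.leaf (nat_lit 0x254513524523))) (.node (.leaf (nat_lit 0x2453142354138)) (.leaf (nat_lit 0x0))))) (.node (.node (.node (.leaf (nat_lit 0x35453524535415)) (.leaf (nat_lit 0x2541535141538))) (.node (.leaf (nat_lit 0x533251544522)) (.leaf (nat_lit 0x0)))) (.node (.node (.leaf (nat_lit 0x35414424531332)) (.leaf (nat_lit 0x44532245333522548))) (.node (.leaf (nat_lit 0x51153544113354)) (.leaf (nat_lit 0x0))))))) (.node (.node (.node (.node (.node (.leaf (nat_lit 0x45315453145131)) (.leaf (nat_lit 0x1351154525))) (.node (.leaf (nat_lit 0x5145225352)) (.leaf (nat_lit 0x254113528)))) (.node (.node (.leaf (nat_lit 0x135424244235224133138)) (.leaf (nat_lit 0x535422354511))) (.node (.leaf (nat_lit 0x11425153)) (.leaf (nat_lit 0x0))))) (.node (.node (.node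 (.leaf (nat_lit 0x24253131333544424242313133354442424231313335444248)) (.leaf (nat_lit 0x2333531145444515))) (.node (.leaf (nat_lit 0x314232413515418)) (.leaf (nat_lit 0x1144535423545323)))) (.node (.node (.leaf (nat_lit 0x54532413541351)) (.leaf (nat_lit 0x5253545411353541))) (.node (.leaf (nat_lit 0x4113545115358)) (.leaf (nat_lit 0x0)))))) (.node (.node (.node (.node (.leaf (nat_lit 0x54515354531453)) (.leaf (nat_lit 0x5425351425328))) (.node (.leaf (nat_lit 0x4515235225)) (.leaf (nat_lit 0x425325415352)))) (.node (.node (.leaf (nat_lit 0x41132515)) (.leaf (nat_lit 0x5225332244))) (.node (.leaf (nat_lit 0x423141324231)) (.leaf (nat_lit 0x0))))) (.node (.node (.node (.leaf (nat_lit 0x523514153514)) (.leaf (nat_lit 0x1422335453145354))) (.node (.leaf (nat_lit 0x4535423545331142)) (.leaf (nat_lit 0x0)))) (.node (.node (.leaf (nat_lit 0x52413142532413)) (.leaf (nat_lit 0x5453132244535413))) (.node (.leaf (nat_lit 0x5133224452)) (.leaf (nat_lit 0x0)))))))) (.node (.node (.node (.node (.node (.node (.leaf (nat_lit 0x15411325)) (.leaf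 (nat_lit 0x314523142325418))) (.node (.leaf (nat_lit 0x5453311445354113)) (.leaf (nat_lit 0x53114545315254538)))) (.node (.node (.leaf (nat_lit 0x5425352425318)) (.leaf (nat_lit 0x11333114448))) (.node (.leaf (nat_lit 0x51545225328)) (.leaf (nat_lit 0x0))))) (.node (.node (.node (.leaf (nat_lit 0x141354253542358)) (.leaf (nat_lit 0x413142314515328))) (.node (.leaf (nat_lit 0x42515311)) (.leaf (nat_lit 0x354131453245158)))) (.node (.node (.leaf (nat_lit 0x535423545322248)) (.leaf (nat_lit 0x254223158))) (.node (.leaf (nat_lit 0x23535115454515)) (.leaf (nat_lit 0x0)))))) (.node (.node (.node (.node (.leaf (nat_lit 0x3525144113)) (.leaf (nat_lit 0x53145324235452))) (.node (.leaf (nat_lit 0x525135411354)) (.leaf (nat_lit 0x5322454411338)))) (.node (.node (.leaf (nat_lit 0x45352453541535)) (.leaf (nat_lit 0x3515245115))) (.node (.leaf (nat_lit 0x354522535422)) (.leaf (nat_lit 0x0))))) (.node (.node (.node (.leaf (nat_lit 0x333133233313323331332)) (.leaf (nat_lit 0x5354422335453114))) (.node (.leaf (nat_lit 0x525145311453)) (.leaf (nat_lit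 0x0)))) (.node (.node (.leaf (nat_lit 0x4442424442424442424442428)) (.leaf (nat_lit 0x5411353535115454))) (.node (.leaf (nat_lit 0x42531423524131)) (.leaf (nat_lit 0x0))))))) (.node (.node (.node (.node (.node (.leaf (nat_lit 0x333131333131333131333131)) (.leaf (nat_lit 0x25413542324535))) (.node (.leaf (nat_lit 0x24454113533515)) (.leaf (nat_lit 0x3522545353114545)))) (.node (.node (.leaf (nat_lit 0x5153541135428)) (.leaf (nat_lit 0x1353331144454525))) (.node (.leaf (nat_lit 0x525133511544)) (.leaf (nat_lit 0x0))))) (.node (.node (.node (.leaf (nat_lit 0x324131413242)) (.leaf (nat_lit 0x254135423245358))) (.node (.leaf (nat_lit 0x42354135154531)) (.leaf (nat_lit 0x0)))) (.node (.node (.leaf (nat_lit 0x41351413142531)) (.leaf (nat_lit 0x5115445441133533))) (.node (.leaf (nat_lit 0x545135245232)) (.leaf (nat_lit 0x0)))))) (.node (.node (.node (.node (.leaf (nat_lit 0x531413541314)) (.leaf (nat_lit 0x314253242351418))) (.node (.leaf (nat_lit 0x322451528)) (.leaf (nat_lit 0x515423142324238)))) (.node (.node (.leaf (nat_lit 0x1353354113544541))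 (.leaf (nat_lit 0x2535141531548))) (.node (.leaf (nat_lit 0x31413254132452)) (.leaf (nat_lit 0x0))))) (.node (.node (.node (.leaf (nat_lit 0x1133533522544544)) (.leaf (nat_lit 0x53544223135453148))) (.node (.leaf (nat_lit 0x54442424231313335444242423131333544424242531313338)) (.leaf (nat_lit 0x0)))) (.node (.node (.leaf (nat_lit 0x324523141325418)) (.leaf (nat_lit 0x51533542235442))) (.node (.leaf (nat_lit 0x1352425315458)) (.leaf (nat_lit 0x0))))))))) (.node (.node (.node (.node (.node (.node (.node (.leaf (nat_lit 0x324132413142)) (.leaf (nat_lit 0x2233545324535424))) (.node (.leaf (nat_lit 0x42515333511544)) (.leaf (nat_lit 0x423542324535158)))) (.node (.node (.leaf (nat_lit 0x53524531425314)) (.leaf (nat_lit 0x33515244118))) (.node (.leaf (nat_lit 0x525333114441)) (.leaf (nat_lit 0x0))))) (.node (.node (.node (.leaf (nat_lit 0x53542324532451)) (.leaf (nat_lit 0x2445115332))) (.node (.leaf (nat_lit 0x3142324232428)) (.leaf (nat_lit 0x35423545322245)))) (.node (.node (.leaf (nat_lit 0x444515233311)) (.leaf (nat_lit 0x1354232453148)))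 (.node (.leaf (nat_lit 0x54113533322444)) (.leaf (nat_lit 0x0)))))) (.node (.node (.node (.node (.leaf (nat_lit 0x422352258)) (.leaf (nat_lit 0x235452253542))) (.node (.leaf (nat_lit 0x445152333114)) (.leaf (nat_lit 0x2253542235458)))) (.node (.node (.leaf (nat_lit 0x2225158)) (.leaf (nat_lit 0x4544113353331144))) (.node (.leaf (nat_lit 0x251333224445)) (.leaf (nat_lit 0x0))))) (.node (.node (.node (.leaf (nat_lit 0x422332248)) (.leaf (nat_lit 0x441133352254))) (.node (.leaf (nat_lit 0x454411335311)) (.leaf (nat_lit 0x0)))) (.node (.node (.leaf (nat_lit 0x4532245311)) (.leaf (nat_lit 0x54223532248))) (.node (.leaf (nat_lit 0x411335411354)) (.leaf (nat_lit 0x0))))))) (.node (.node (.node (.node (.node (.leaf (nat_lit 0x2233311444)) (.leaf (nat_lit 0x322454542235358))) (.node (.leaf (nat_lit 0x544113354411338)) (.leaf (nat_lit 0x3322444544113353)))) (.node (.node (.leaf (nat_lit 0x351451315452)) (.leaf (nat_lit 0x44515233118))) (.node (.leaf (nat_lit 0x354223545115)) (.leaf (nat_lit 0x0))))) (.node (.node (.node (.leaf (nat_lit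 0x241324132413)) (.leaf (nat_lit 0x5452513542238))) (.node (.leaf (nat_lit 0x5451523522)) (.leaf (nat_lit 0x1353545115354541)))) (.node (.node (.leaf (nat_lit 0x2415351451358)) (.leaf (nat_lit 0x45352514533114))) (.node (.leaf (nat_lit 0x4442233311)) (.leaf (nat_lit 0x0)))))) (.node (.node (.node (.node (.leaf (nat_lit 0x2444144244414424441448)) (.leaf (nat_lit 0x35413515453142))) (.node (.leaf (nat_lit 0x425352451315)) (.leaf (nat_lit 0x24253245352453)))) (.node (.node (.leaf (nat_lit 0x423541314532)) (.leaf (nat_lit 0x423545135413258))) (.node (.leaf (nat_lit 0x53145231453254)) (.leaf (nat_lit 0x0))))) (.node (.node (.node (.leaf (nat_lit 0x51545351154532)) (.leaf (nat_lit 0x24544113353515))) (.node (.leaf (nat_lit 0x352451325415)) (.leaf (nat_lit 0x0)))) (.node (.node (.leaf (nat_lit 0x245132545235)) (.leaf (nat_lit 0x23545235423254))) (.node (.leaf (nat_lit 0x145324135423)) (.leaf (nat_lit 0x0)))))))) (.node (.node (.node (.node (.node (.node (.leaf (nat_lit 0x52541131)) (.leaf (nat_lit 0x145324153245358))) (.node (.leaf (nat_lit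 0x513541135452)) (.leaf (nat_lit 0x3251545311458)))) (.node (.node (.leaf (nat_lit 0x23145325453145)) (.leaf (nat_lit 0x523514253524))) (.node (.leaf (nat_lit 0x3514253514518)) (.leaf (nat_lit 0x0))))) (.node (.node (.node (.leaf (nat_lit 0x4525135225)) (.leaf (nat_lit 0x454223535115))) (.node (.leaf (nat_lit 0x352452352415)) (.leaf (nat_lit 0x2423131333544424242313133354442424253131333544424)))) (.node (.node (.leaf (nat_lit 0x31545314513145)) (.leaf (nat_lit 0x25145352254535))) (.node (.leaf (nat_lit 0x2353541135454515)) (.leaf (nat_lit 0x0)))))) (.node (.node (.node (.node (.leaf (nat_lit 0x53111453541354)) (.leaf (nat_lit 0x31144453224533))) (.node (.leaf (nat_lit 0x3331313331313331313331318)) (.leaf (nat_lit 0x13542314535154)))) (.node (.node (.leaf (nat_lit 0x413241314131)) (.leaf (nat_lit 0x4453114533351154))) (.node (.leaf (nat_lit 0x251454113535)) (.leaf (nat_lit 0x0))))) (.node (.node (.node (.leaf (nat_lit 0x32423514132415)) (.leaf (nat_lit 0x222354532453548))) (.node (.leaf (nat_lit 0x514253514513)) (.leaf (nat_lit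 0x0)))) (.node (.node (.leaf (nat_lit 0x511544411333)) (.leaf (nat_lit 0x45331144535251))) (.node (.leaf (nat_lit 0x15254511538)) (.leaf (nat_lit 0x0))))))) (.node (.node (.node (.node (.node (.leaf (nat_lit 0x153325154451)) (.leaf (nat_lit 0x451523118))) (.node (.leaf (nat_lit 0x453141354232)) (.leaf (nat_lit 0x41133533114454)))) (.node (.node (.leaf (nat_lit 0x31423245153141)) (.leaf (nat_lit 0x15453532245453258))) (.node (.leaf (nat_lit 0x51524223)) (.leaf (nat_lit 0x0))))) (.node (.node (.node (.leaf (nat_lit 0x6565658)) (.leaf (nat_lit 0x324532451535428))) (.node (.leaf (nat_lit 0x14132413515423)) (.leaf (nat_lit 0x0)))) (.node (.node (.leaf (nat_lit 0x145153241314238)) (.leaf (nat_lit 0x544422333542238))) (.node (.leaf (nat_lit 0x53541535453524)) (.leaf (nat_lit 0x0)))))) (.node (.node (.node (.node (.leaf (nat_lit 0x513145315453148)) (.leaf (nat_lit 0x4145354135453311))) (.node (.leaf (nat_lit 0x35115452518)) (.leaf (nat_lit 0x335422354452258)))) (.node (.node (.leaf (nat_lit 0x42324513142315)) (.leaf (nat_lit 0x51441133528)))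 (.node (.leaf (nat_lit 0x52413542535413)) (.leaf (nat_lit 0x0))))) (.node (.node (.node (.leaf (nat_lit 0x154113258)) (.leaf (nat_lit 0x132542324513148))) (.node (.leaf (nat_lit 0x522545311453)) (.leaf (nat_lit 0x0)))) (.node (.node (.leaf (nat_lit 0x514135425354238)) (.leaf (nat_lit 0x32453542223545))) (.node (.leaf (nat_lit 0x253145352453148)) (.leaf (nat_lit 0x0)))))))))))

end Cfsg.Agent.TcData.HN.I1539000
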