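import Cfsg.Agent.Lib.TcFacts

set_option autoImplicit false
set_option Elab.async false
set_option maxRecDepth 100000
set_option linter.all false

namespace Cfsg.Agent.TcData.HN.I1539000

open Cfsg.Agent.Lib.TcFacts

/-- A part of a table. -/
noncomputable def PW6 : Tr := (.node (.node (.node (.node (.node (.node (.node (.node (.node (.leaf (nat_lit 0x16266)) (.leaf (nat_lit 0x532545135142))) (.node (.leaf (nat_lit 0x51423541535423)) (.leaf (nat_lit 0x52453522545351)))) (.node (.node (.leaf (nat_lit 0x133235424414538)) (.leaf (nat_lit 0x354515354531458))) (.node (.leaf (nat_lit 0x31542354513542)) (.leaf (nat_lit 0x0))))) (.node (.node (.node (.leaf (nat_lit 0x424424531331358)) (.leaf (nat_lit 0x2335332244544515))) (.node (.leaf (nat_lit 0x53535251454511)) (.leaf (nat_lit 0x33531145444223)))) (.node (.node (.leaf (nat_lit 0x545314535411138)) (.leaf (nat_lit 0x1523541135458))) (.node (.leaf (nat_lit 0x32453524532425)) (.leaf (nat_lit 0x0)))))) (.node (.node (.node (.node (.leaf (nat_lit 0x541135451153)) (.leaf (nat_lit 0x524523254513)))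 (.node (.leaf (nat_lit 0x31413524132425)) (.leaf (nat_lit 0x3531145453311445)))) (.node (.node (.leaf (nat_lit 0x41354535154535)) (.leaf (nat_lit 0x453525413541318))) (.node (.leaf (nat_lit 0x354535245354158)) (.leaf (nat_lit 0x0))))) (.node (.node (.node (.leaf (nat_lit 0x11351154)) (.leaf (nat_lit 0x522544411333))) (.node (.leaf (nat_lit 0x33224442238)) (.leaf (nat_lit 0x0)))) (.node (.node (.leaf (nat_lit 0x51411352)) (.leaf (nat_lit 0x53145354515354))) (.node (.leaf (nat_lit 0x3133233313323331332338)) (.leaf (nat_lit 0x0))))))) (.node (.node (.node (.node (.node (.leaf (nat_lit 0x11452253)) (.leaf (nat_lit 0x352413142531428))) (.node (.leaf (nat_lit 0x24235254231413)) (.leaf (nat_lit 0x54411335441133)))) (.node (.node (.leaf (nat_lit 0x245231545235)) (.leaf (nat_lit 0x5454542235353251))) (.node (.leaf (nat_lit 0x525454113531)) (.leaf (nat_lit 0x0))))) (.node (.node (.node (.leaf (nat_lit 0x54544223353511)) (.leaf (nat_lit 0x52253224))) (.node (.leaf (nat_lit 0x5353114545331144)) (.leaf (nat_lit 0x1145453322445353)))) (.node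 (.node (.leaf (nat_lit 0x14545225353525)) (.leaf (nat_lit 0x25145115358))) (.node (.leaf (nat_lit 0x42515351158)) (.leaf (nat_lit 0x0)))))) (.node (.node (.node (.node (.leaf (nat_lit 0x153224258)) (.leaf (nat_lit 0x531145352254))) (.node (.leaf (nat_lit 0x531332354244148)) (.leaf (nat_lit 0x525311418)))) (.node (.node (.leaf (nat_lit 0x41351413541535)) (.leaf (nat_lit 0x32451324232542))) (.node (.leaf (nat_lit 0x452253542515358)) (.leaf (nat_lit 0x0))))) (.node (.node (.node (.leaf (nat_lit 0x53141351413142)) (.leaf (nat_lit 0x42314515324131))) (.node (.leaf (nat_lit 0x45251333511544)) (.leaf (nat_lit 0x0)))) (.node (.node (.leaf (nat_lit 0x324513145325458)) (.leaf (nat_lit 0x133541135441))) (.node (.leaf (nat_lit 0x45231413254231)) (.leaf (nat_lit 0x0)))))))) (.node (.node (.node (.node (.node (.node (.leaf (nat_lit 0x1515)) (.leaf (nat_lit 0x515445115332))) (.node (.leaf (nat_lit 0x2451351415358)) (.leaf (nat_lit 0x41354135154532)))) (.node (.node (.leaf (nat_lit 0x54253541351423)) (.leaf (nat_lit 0x254513154153))) (.node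 (.leaf (nat_lit 0x45351453241532)) (.leaf (nat_lit 0x0))))) (.node (.node (.node (.leaf (nat_lit 0x3224445251338)) (.leaf (nat_lit 0x153245314135458))) (.node (.leaf (nat_lit 0x4532515453118)) (.leaf (nat_lit 0x224454113533)))) (.node (.node (.leaf (nat_lit 0x413313135424244235228)) (.leaf (nat_lit 0x411354515235))) (.node (.leaf (nat_lit 0x453251545352258)) (.leaf (nat_lit 0x0)))))) (.node (.node (.node (.node (.leaf (nat_lit 0x135414414531338)) (.leaf (nat_lit 0x5451153545411353))) (.node (.leaf (nat_lit 0x324235141324158)) (.leaf (nat_lit 0x314532545314528)))) (.node (.node (.leaf (nat_lit 0x35415253545115)) (.leaf (nat_lit 0x2333542235444515))) (.node (.leaf (nat_lit 0x3511545152)) (.leaf (nat_lit 0x0))))) (.node (.node (.node (.leaf (nat_lit 0x453241354132)) (.leaf (nat_lit 0x4223544113358))) (.node (.leaf (nat_lit 0x25453141354135)) (.leaf (nat_lit 0x0)))) (.node (.node (.leaf (nat_lit 0x245324135413)) (.leaf (nat_lit 0x135423245314))) (.node (.leaf (nat_lit 0x3251545115)) (.leaf (nat_lit 0x0))))))) (.node (.node (.node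 (.node (.node (.leaf (nat_lit 0x313133313133313133313133)) (.leaf (nat_lit 0x452314132541328))) (.node (.leaf (nat_lit 0x13242315413245)) (.leaf (nat_lit 0x54531114535452538)))) (.node (.node (.leaf (nat_lit 0x35413545331141458)) (.leaf (nat_lit 0x242531423514138))) (.node (.leaf (nat_lit 0x4113535441133545)) (.leaf (nat_lit 0x0))))) (.node (.node (.node (.leaf (nat_lit 0x423145314235)) (.leaf (nat_lit 0x54411335352254))) (.node (.leaf (nat_lit 0x5225353224548)) (.leaf (nat_lit 0x0)))) (.node (.node (.leaf (nat_lit 0x35413254235451)) (.leaf (nat_lit 0x5311453515248))) (.node (.leaf (nat_lit 0x4545425153535311)) (.leaf (nat_lit 0x0)))))) (.node (.node (.node (.node (.leaf (nat_lit 0x54544113353522)) (.leaf (nat_lit 0x5451325425328))) (.node (.leaf (nat_lit 0x1313335444242413131333544424245131313335444242413)) (.leaf (nat_lit 0x3354422335442515)))) (.node (.node (.leaf (nat_lit 0x545322453511)) (.leaf (nat_lit 0x535322454511))) (.node (.leaf (nat_lit 0x15453541354535)) (.leaf (nat_lit 0x0))))) (.node (.node (.node (.leaf (nat_lit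 0x45132453154532)) (.leaf (nat_lit 0x35254235423145))) (.node (.leaf (nat_lit 0x423254232451328)) (.leaf (nat_lit 0x0)))) (.node (.node (.leaf (nat_lit 0x453111453541358)) (.leaf (nat_lit 0x52513535115454))) (.node (.leaf (nat_lit 0x241531541535)) (.leaf (nat_lit 0x0))))))))) (.node (.node (.node (.node (.node (.node (.node (.leaf (nat_lit 0x31354144145313)) (.leaf (nat_lit 0x22424535423545338))) (.node (.leaf (nat_lit 0x322453525145)) (.leaf (nat_lit 0x45411353118)))) (.node (.node (.leaf (nat_lit 0x545411353511)) (.leaf (nat_lit 0x11415253))) (.node (.leaf (nat_lit 0x5133311444528)) (.leaf (nat_lit 0x0))))) (.node (.node (.node (.leaf (nat_lit 0x13335115444525)) (.leaf (nat_lit 0x425153228))) (.node (.leaf (nat_lit 0x45132423254131)) (.leaf (nat_lit 0x242351541314138)))) (.node (.node (.leaf (nat_lit 0x545314513145318)) (.leaf (nat_lit 0x22445354135453138))) (.node (.leaf (nat_lit 0x311454441133358)) (.leaf (nat_lit 0x0)))))) (.node (.node (.node (.node (.leaf (nat_lit 0x354513542325418)) (.leaf (nat_lit 0x5454531145353522)))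 (.node (.leaf (nat_lit 0x535425354535148)) (.leaf (nat_lit 0x44541135335115)))) (.node (.node (.leaf (nat_lit 0x423545322245358)) (.leaf (nat_lit 0x531332354144248))) (.node (.leaf (nat_lit 0x24533224453515)) (.leaf (nat_lit 0x0))))) (.node (.node (.node (.leaf (nat_lit 0x1445331144533525)) (.leaf (nat_lit 0x5115444113338))) (.node (.leaf (nat_lit 0x1335333114445441)) (.leaf (nat_lit 0x0)))) (.node (.node (.leaf (nat_lit 0x13545225354525)) (.leaf (nat_lit 0x5115352514))) (.node (.leaf (nat_lit 0x3542411335453245)) (.leaf (nat_lit 0x0))))))) (.node (.node (.node (.node (.node (.leaf (nat_lit 0x51314231541314)) (.leaf (nat_lit 0x314253145352458))) (.node (.leaf (nat_lit 0x33114245354235458)) (.leaf (nat_lit 0x525453542354538)))) (.node (.node (.leaf (nat_lit 0x35142354153542)) (.leaf (nat_lit 0x3224451153))) (.node (.leaf (nat_lit 0x11535441133545)) (.leaf (nat_lit 0x0))))) (.node (.node (.node (.leaf (nat_lit 0x453541354531118)) (.leaf (nat_lit 0x3545352545354111))) (.node (.leaf (nat_lit 0x4535411135453525)) (.leaf (nat_lit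 0x225444223335)))) (.node (.node (.leaf (nat_lit 0x5354511535454113)) (.leaf (nat_lit 0x3545225354118))) (.node (.leaf (nat_lit 0x154253514153)) (.leaf (nat_lit 0x0)))))) (.node (.node (.node (.node (.leaf (nat_lit 0x24231451531413)) (.leaf (nat_lit 0x5311454535115453))) (.node (.leaf (nat_lit 0x13135424244231154133)) (.leaf (nat_lit 0x454113533311448)))) (.node (.node (.leaf (nat_lit 0x2423142324238)) (.leaf (nat_lit 0x25324135141324))) (.node (.leaf (nat_lit 0x15423141324135)) (.leaf (nat_lit 0x0))))) (.node (.node (.node (.leaf (nat_lit 0x531453541113548)) (.leaf (nat_lit 0x53542314532452))) (.node (.leaf (nat_lit 0x15324535145324)) (.leaf (nat_lit 0x0)))) (.node (.node (.leaf (nat_lit 0x4525133114)) (.leaf (nat_lit 0x1133353311445444))) (.node (.leaf (nat_lit 0x5235145232548)) (.leaf (nat_lit 0x0)))))))) (.node (.node (.node (.node (.node (.node (.leaf (nat_lit 0x423241314132)) (.leaf (nat_lit 0x25352254158))) (.node (.leaf (nat_lit 0x413254135452358)) (.leaf (nat_lit 0x4531525453118)))) (.node (.node (.leaf (nat_lit 0x31142515))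 (.leaf (nat_lit 0x3114445352514533))) (.node (.leaf (nat_lit 0x1352451315458)) (.leaf (nat_lit 0x0))))) (.node (.node (.node (.leaf (nat_lit 0x545253145314138)) (.leaf (nat_lit 0x42232515))) (.node (.leaf (nat_lit 0x2545322453158)) (.leaf (nat_lit 0x13544223354525)))) (.node (.node (.leaf (nat_lit 0x41314232452532)) (.leaf (nat_lit 0x54525135441133))) (.node (.leaf (nat_lit 0x32245354411335458)) (.leaf (nat_lit 0x0)))))) (.node (.node (.node (.node (.leaf (nat_lit 0x423514235415358)) (.leaf (nat_lit 0x515322428))) (.node (.leaf (nat_lit 0x522251)) (.leaf (nat_lit 0x31145335115445)))) (.node (.node (.leaf (nat_lit 0x525354113541)) (.leaf (nat_lit 0x142324253242358))) (.node (.leaf (nat_lit 0x513254153154)) (.leaf (nat_lit 0x0))))) (.node (.node (.node (.leaf (nat_lit 0x453525145311)) (.leaf (nat_lit 0x3311445311458))) (.node (.leaf (nat_lit 0x415352452352)) (.leaf (nat_lit 0x0)))) (.node (.node (.leaf (nat_lit 0x54531545354523)) (.leaf (nat_lit 0x4523524513258))) (.node (.leaf (nat_lit 0x1313133354442424513131333544424241313133354442424))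 (.leaf (nat_lit 0x0))))))) (.node (.node (.node (.node (.node (.leaf (nat_lit 0x35424244235224133131)) (.leaf (nat_lit 0x113353224544))) (.node (.leaf (nat_lit 0x3131333544424241313133354442424513131333544424241)) (.leaf (nat_lit 0x4545115353228)))) (.node (.node (.leaf (nat_lit 0x51354411335452)) (.leaf (nat_lit 0x14523142325413))) (.node (.leaf (nat_lit 0x5415351451318)) (.leaf (nat_lit 0x0))))) (.node (.node (.node (.leaf (nat_lit 0x45251322)) (.leaf (nat_lit 0x24133131354242442352))) (.node (.leaf (nat_lit 0x542235451523)) (.leaf (nat_lit 0x0)))) (.node (.node (.leaf (nat_lit 0x513254513514)) (.leaf (nat_lit 0x23354113544515))) (.node (.leaf (nat_lit 0x2235451523548)) (.leaf (nat_lit 0x0)))))) (.node (.node (.node (.node (.leaf (nat_lit 0x535423514235418)) (.leaf (nat_lit 0x4113335115448))) (.node (.leaf (nat_lit 0x4513514523158)) (.leaf (nat_lit 0x3545441133535411)))) (.node (.node (.leaf (nat_lit 0x1442233525)) (.leaf (nat_lit 0x3154523154158))) (.node (.leaf (nat_lit 0x453525145331148)) (.leaf (nat_lit 0x0))))) (.node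 (.node (.node (.leaf (nat_lit 0x14135141314253)) (.leaf (nat_lit 0x45353114545351158))) (.node (.leaf (nat_lit 0x3133354442424513131333544424241313133354442424131)) (.leaf (nat_lit 0x0)))) (.node (.node (.leaf (nat_lit 0x4241133545324535)) (.leaf (nat_lit 0x35152445411353))) (.node (.leaf (nat_lit 0x2354131453248)) (.leaf (nat_lit 0x0)))))))))) (.node (.node (.node (.node (.node (.node (.node (.node (.leaf (nat_lit 0x4637)) (.leaf (nat_lit 0x453145354235))) (.node (.leaf (nat_lit 0x354131453242)) (.leaf (nat_lit 0x23245131413254)))) (.node (.node (.leaf (nat_lit 0x2324232423148)) (.leaf (nat_lit 0x232453525413548))) (.node (.leaf (nat_lit 0x51154544113353)) (.leaf (nat_lit 0x0))))) (.node (.node (.node (.leaf (nat_lit 0x223224)) (.leaf (nat_lit 0x1335445115335441))) (.node (.leaf (nat_lit 0x2514411335)) (.leaf (nat_lit 0x4535442233545311)))) (.node (.node (.leaf (nat_lit 0x254235451354138)) (.leaf (nat_lit 0x5311454535152453))) (.node (.leaf (nat_lit 0x32542324513141)) (.leaf (nat_lit 0x0)))))) (.node (.node (.node (.node (.leaf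 (nat_lit 0x311441138)) (.leaf (nat_lit 0x531451324532548))) (.node (.leaf (nat_lit 0x45324253245352)) (.leaf (nat_lit 0x542324535154238)))) (.node (.node (.leaf (nat_lit 0x2453114532)) (.leaf (nat_lit 0x44511533541135))) (.node (.leaf (nat_lit 0x54144145323323)) (.leaf (nat_lit 0x0))))) (.node (.node (.node (.leaf (nat_lit 0x11531145)) (.leaf (nat_lit 0x51153354113544))) (.node (.leaf (nat_lit 0x114535225453)) (.leaf (nat_lit 0x0)))) (.node (.node (.leaf (nat_lit 0x3542235411)) (.leaf (nat_lit 0x3224442233))) (.node (.leaf (nat_lit 0x154531145325)) (.leaf (nat_lit 0x0))))))) (.node (.node (.node (.node (.node (.leaf (nat_lit 0x45325453145132)) (.leaf (nat_lit 0x2351154515))) (.node (.leaf (nat_lit 0x452253541135)) (.leaf (nat_lit 0x53544223354531148)))) (.node (.node (.leaf (nat_lit 0x35414414532332)) (.leaf (nat_lit 0x535422354522))) (.node (.leaf (nat_lit 0x335115444223)) (.leaf (nat_lit 0x0))))) (.node (.node (.node (.leaf (nat_lit 0x5111528)) (.leaf (nat_lit 0x44525133118))) (.node (.leaf (nat_lit 0x41324135254131)) (.leaf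 (nat_lit 0x25354232453145)))) (.node (.node (.leaf (nat_lit 0x54535413545351)) (.leaf (nat_lit 0x5324535424113354))) (.node (.leaf (nat_lit 0x5451351415318)) (.leaf (nat_lit 0x0)))))) (.node (.node (.node (.node (.leaf (nat_lit 0x5325452315428)) (.leaf (nat_lit 0x3241324232428))) (.node (.leaf (nat_lit 0x2514453311445335)) (.leaf (nat_lit 0x44525133351154)))) (.node (.node (.leaf (nat_lit 0x313541441453138)) (.leaf (nat_lit 0x2444223332))) (.node (.leaf (nat_lit 0x3224441133)) (.leaf (nat_lit 0x0))))) (.node (.node (.node (.leaf (nat_lit 0x232452314232548)) (.leaf (nat_lit 0x2422335453245354))) (.node (.leaf (nat_lit 0x1525351154)) (.leaf (nat_lit 0x0)))) (.node (.node (.leaf (nat_lit 0x3541314531418)) (.leaf (nat_lit 0x5453232244535423))) (.node (.leaf (nat_lit 0x5332244522)) (.leaf (nat_lit 0x0)))))))) (.node (.node (.node (.node (.node (.node (.leaf (nat_lit 0x152225)) (.leaf (nat_lit 0x1135452513548))) (.node (.leaf (nat_lit 0x5411135453525453)) (.leaf (nat_lit 0x11453332244453)))) (.node (.node (.leaf (nat_lit 0x13242315423145))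 (.leaf (nat_lit 0x1533322444258))) (.node (.leaf (nat_lit 0x52545225318)) (.leaf (nat_lit 0x0))))) (.node (.node (.node (.leaf (nat_lit 0x545354513545328)) (.leaf (nat_lit 0x251354522535458))) (.node (.leaf (nat_lit 0x42515322)) (.leaf (nat_lit 0x354231453245258)))) (.node (.node (.leaf (nat_lit 0x441453133135418)) (.leaf (nat_lit 0x3531145422))) (.node (.leaf (nat_lit 0x45422353228)) (.leaf (nat_lit 0x0)))))) (.node (.node (.node (.node (.leaf (nat_lit 0x22441133)) (.leaf (nat_lit 0x53245324235451))) (.node (.leaf (nat_lit 0x24253145351453)) (.leaf (nat_lit 0x51531413142324)))) (.node (.node (.leaf (nat_lit 0x4535453545358)) (.leaf (nat_lit 0x53525145352254))) (.node (.leaf (nat_lit 0x35425153545115)) (.leaf (nat_lit 0x0))))) (.node (.node (.node (.leaf (nat_lit 0x7575758)) (.leaf (nat_lit 0x4113353331144454))) (.node (.leaf (nat_lit 0x45351154531525)) (.leaf (nat_lit 0x0)))) (.node (.node (.leaf (nat_lit 0x35423514235415)) (.leaf (nat_lit 0x22545441133535))) (.node (.leaf (nat_lit 0x42531423514132)) (.leaf (nat_lit 0x0)))))))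 (.node (.node (.node (.node (.node (.leaf (nat_lit 0x54535115453152)) (.leaf (nat_lit 0x354232453242))) (.node (.leaf (nat_lit 0x4511535251)) (.leaf (nat_lit 0x35411354544113358)))) (.node (.node (.leaf (nat_lit 0x5253541135418)) (.leaf (nat_lit 0x2353331144454515))) (.node (.leaf (nat_lit 0x42442311541331313542)) (.leaf (nat_lit 0x0))))) (.node (.node (.node (.leaf (nat_lit 0x411351158)) (.leaf (nat_lit 0x31413545253145))) (.node (.leaf (nat_lit 0x32451314232541)) (.leaf (nat_lit 0x0)))) (.node (.node (.leaf (nat_lit 0x145135142535)) (.leaf (nat_lit 0x33114454411335))) (.node (.leaf (nat_lit 0x235145232545)) (.leaf (nat_lit 0x0)))))) (.node (.node (.node (.node (.leaf (nat_lit 0x24135142324153)) (.leaf (nat_lit 0x4242413131333544424241313133354442424513131333544))) (.node (.leaf (nat_lit 0x314515324131428)) (.leaf (nat_lit 0x5241531541538)))) (.node (.node (.leaf (nat_lit 0x35453145354515)) (.leaf (nat_lit 0x13544113354525))) (.node (.leaf (nat_lit 0x45422353118)) (.leaf (nat_lit 0x0))))) (.node (.node (.node (.leaf (nat_lit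 0x354231453142)) (.leaf (nat_lit 0x413145324235))) (.node (.leaf (nat_lit 0x254131451324238)) (.leaf (nat_lit 0x0)))) (.node (.node (.leaf (nat_lit 0x324535145314258)) (.leaf (nat_lit 0x425153332244))) (.node (.leaf (nat_lit 0x1415352451358)) (.leaf (nat_lit 0x0))))))))) (.node (.node (.node (.node (.node (.node (.node (.leaf (nat_lit 0x45354135453111)) (.leaf (nat_lit 0x253224158))) (.node (.leaf (nat_lit 0x351415325415)) (.leaf (nat_lit 0x311454152535)))) (.node (.node (.leaf (nat_lit 0x354111354531458)) (.leaf (nat_lit 0x51353311445452))) (.node (.leaf (nat_lit 0x5413545313224453)) (.leaf (nat_lit 0x0))))) (.node (.node (.node (.leaf (nat_lit 0x53542324531452)) (.leaf (nat_lit 0x223545115354))) (.node (.leaf (nat_lit 0x32354532453544118)) (.leaf (nat_lit 0x51531453142354)))) (.node (.node (.leaf (nat_lit 0x42531413514232)) (.leaf (nat_lit 0x32451535423245))) (.node (.leaf (nat_lit 0x4454113533118)) (.leaf (nat_lit 0x0)))))) (.node (.node (.node (.node (.leaf (nat_lit 0x22452253)) (.leaf (nat_lit 0x35413514235425))) (.node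 (.leaf (nat_lit 0x14535154235413)) (.leaf (nat_lit 0x515324532423548)))) (.node (.node (.leaf (nat_lit 0x5251118)) (.leaf (nat_lit 0x532413514132428))) (.node (.leaf (nat_lit 0x251354113545)) (.leaf (nat_lit 0x0))))) (.node (.node (.node (.leaf (nat_lit 0x41354531114535)) (.leaf (nat_lit 0x4113335351154544))) (.node (.leaf (nat_lit 0x454411335322)) (.leaf (nat_lit 0x0)))) (.node (.node (.leaf (nat_lit 0x413541324532)) (.leaf (nat_lit 0x242535145235))) (.node (.leaf (nat_lit 0x242532453524538)) (.leaf (nat_lit 0x0))))))) (.node (.node (.node (.node (.node (.leaf (nat_lit 0x13313541441453)) (.leaf (nat_lit 0x5135145231548))) (.node (.leaf (nat_lit 0x253524513154)) (.leaf (nat_lit 0x254253524153)))) (.node (.node (.leaf (nat_lit 0x352451315451)) (.leaf (nat_lit 0x444113335115))) (.node (.leaf (nat_lit 0x13322445258)) (.leaf (nat_lit 0x0))))) (.node (.node (.node (.leaf (nat_lit 0x717278)) (.leaf (nat_lit 0x35115444541135338))) (.node (.leaf (nat_lit 0x13535411354541)) (.leaf (nat_lit 0x1453535115454531)))) (.node (.node (.leaf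 (nat_lit 0x244231154133131354248)) (.leaf (nat_lit 0x35225425158))) (.node (.leaf (nat_lit 0x1144515233)) (.leaf (nat_lit 0x0)))))) (.node (.node (.node (.node (.leaf (nat_lit 0x24244235224133131354)) (.leaf (nat_lit 0x45352545354111358))) (.node (.leaf (nat_lit 0x541135452513)) (.leaf (nat_lit 0x35311454451153)))) (.node (.node (.leaf (nat_lit 0x541324523141328)) (.leaf (nat_lit 0x53541135454411338))) (.node (.leaf (nat_lit 0x354513542315428)) (.leaf (nat_lit 0x0))))) (.node (.node (.node (.leaf (nat_lit 0x4153514513528)) (.leaf (nat_lit 0x42351413142532))) (.node (.leaf (nat_lit 0x2425352451358)) (.leaf (nat_lit 0x0)))) (.node (.node (.leaf (nat_lit 0x545132541531)) (.leaf (nat_lit 0x2532541535248))) (.node (.leaf (nat_lit 0x2425315425358)) (.leaf (nat_lit 0x0)))))))) (.node (.node (.node (.node (.node (.node (.leaf (nat_lit 0x133313133313133313133313)) (.leaf (nat_lit 0x231413254132458))) (.node (.leaf (nat_lit 0x523541135451)) (.leaf (nat_lit 0x23141324235254)))) (.node (.node (.leaf (nat_lit 0x545135413254238)) (.leaf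 (nat_lit 0x51445422353352))) (.node (.leaf (nat_lit 0x153142351423248)) (.leaf (nat_lit 0x0))))) (.node (.node (.node (.leaf (nat_lit 0x42235251)) (.leaf (nat_lit 0x53245314235452))) (.node (.leaf (nat_lit 0x452354232542358)) (.leaf (nat_lit 0x52254454113533)))) (.node (.node (.leaf (nat_lit 0x32545314513245)) (.leaf (nat_lit 0x3311445453114535))) (.node (.leaf (nat_lit 0x533525144511)) (.leaf (nat_lit 0x0)))))) (.node (.node (.node (.node (.leaf (nat_lit 0x453145354111358)) (.leaf (nat_lit 0x14532331354244))) (.node (.leaf (nat_lit 0x1314131413248)) (.leaf (nat_lit 0x51314232541324)))) (.node (.node (.leaf (nat_lit 0x32413524131425)) (.leaf (nat_lit 0x54411335331144))) (.node (.leaf (nat_lit 0x542535453514538)) (.leaf (nat_lit 0x0))))) (.node (.node (.node (.leaf (nat_lit 0x3544113354541135)) (.leaf (nat_lit 0x1135451153548))) (.node (.leaf (nat_lit 0x4424241313133354442424513131333544424241313133354)) (.leaf (nat_lit 0x0)))) (.node (.node (.leaf (nat_lit 0x32332354144145)) (.leaf (nat_lit 0x45331144535152))) (.node (.leaf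 (nat_lit 0x423241352542318)) (.leaf (nat_lit 0x0))))))) (.node (.node (.node (.node (.node (.leaf (nat_lit 0x331313331313331313331313)) (.leaf (nat_lit 0x2315425325458))) (.node (.leaf (nat_lit 0x453241354231)) (.leaf (nat_lit 0x52544531145331)))) (.node (.node (.leaf (nat_lit 0x32423245253141)) (.leaf (nat_lit 0x25453532245453158))) (.node (.leaf (nat_lit 0x41324135154231)) (.leaf (nat_lit 0x0))))) (.node (.node (.node (.leaf (nat_lit 0x32453514531425)) (.leaf (nat_lit 0x4453541354531322))) (.node (.leaf (nat_lit 0x14232413515413)) (.leaf (nat_lit 0x0)))) (.node (.node (.leaf (nat_lit 0x245153141314238)) (.leaf (nat_lit 0x322453331144458))) (.node (.leaf (nat_lit 0x441453133235428)) (.leaf (nat_lit 0x0)))))) (.node (.node (.node (.node (.leaf (nat_lit 0x523145325453148)) (.leaf (nat_lit 0x4145354135453322))) (.node (.leaf (nat_lit 0x352254118)) (.leaf (nat_lit 0x5351154535311454)))) (.node (.node (.leaf (nat_lit 0x511545411353)) (.leaf (nat_lit 0x353114545251))) (.node (.leaf (nat_lit 0x5251352254)) (.leaf (nat_lit 0x0)))))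 (.node (.node (.node (.leaf (nat_lit 0x3245354242233545)) (.leaf (nat_lit 0x41133545314535418))) (.node (.leaf (nat_lit 0x132423254232458)) (.leaf (nat_lit 0x0)))) (.node (.node (.leaf (nat_lit 0x524135425354138)) (.leaf (nat_lit 0x11535415253545))) (.node (.leaf (nat_lit 0x31145444113335)) (.leaf (nat_lit 0x0)))))))))))

end Cfsg.Agent.TcData.HN.I1539000
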