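import Cfsg.Agent.Lib.TcFacts

set_option autoImplicit false
set_option Elab.async false
set_option maxRecDepth 100000
set_option linter.all false

namespace Cfsg.Agent.TcData.HN.I1539000

open Cfsg.Agent.Lib.TcFacts

/-- A part of a table. -/
noncomputable def PW7 : Tr := (.node (.node (.node (.node (.node (.node (.node (.node (.node (.leaf (nat_lit 0x7364)) (.leaf (nat_lit 0x135453254535458))) (.node (.leaf (nat_lit 0x513545325453548)) (.leaf (nat_lit 0x113354223544)))) (.node (.node (.leaf (nat_lit 0x423141324132)) (.leaf (nat_lit 0x354525135451158))) (.node (.leaf (nat_lit 0x32515411)) (.leaf (nat_lit 0x0))))) (.node (.node (.node (.leaf (nat_lit 0x41135411358)) (.leaf (nat_lit 0x15322451))) (.node (.leaf (nat_lit 0x53535251454522)) (.leaf (nat_lit 0x2245453511545353)))) (.node (.node (.leaf (nat_lit 0x13535225454525)) (.leaf (nat_lit 0x31453544223135458))) (.node (.leaf (nat_lit 0x5322453515248)) (.leaf (nat_lit 0x0)))))) (.node (.node (.node (.node (.leaf (nat_lit 0x541135351154)) (.leaf (nat_lit 0x4232423241328))) (.node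 (.leaf (nat_lit 0x253541352413548)) (.leaf (nat_lit 0x1315425315458)))) (.node (.node (.leaf (nat_lit 0x44533114453322)) (.leaf (nat_lit 0x235245231545))) (.node (.leaf (nat_lit 0x531425324535148)) (.leaf (nat_lit 0x0))))) (.node (.node (.node (.leaf (nat_lit 0x4531453541422335)) (.leaf (nat_lit 0x513524253154))) (.node (.leaf (nat_lit 0x11545331144535)) (.leaf (nat_lit 0x0)))) (.node (.node (.leaf (nat_lit 0x4411333511548)) (.leaf (nat_lit 0x51423542535413))) (.node (.leaf (nat_lit 0x2325425352458)) (.leaf (nat_lit 0x0))))))) (.node (.node (.node (.node (.node (.leaf (nat_lit 0x52531141)) (.leaf (nat_lit 0x53145314135452))) (.node (.leaf (nat_lit 0x45352541354131)) (.leaf (nat_lit 0x242314131423)))) (.node (.node (.leaf (nat_lit 0x453152545311)) (.leaf (nat_lit 0x5454542235353152))) (.node (.leaf (nat_lit 0x515454113532)) (.leaf (nat_lit 0x0))))) (.node (.node (.node (.leaf (nat_lit 0x54544223353522)) (.leaf (nat_lit 0x531145452253))) (.node (.leaf (nat_lit 0x5323224453542354)) (.leaf (nat_lit 0x145235242535)))) (.node (.node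 (.leaf (nat_lit 0x24545225353515)) (.leaf (nat_lit 0x224445422353338))) (.node (.leaf (nat_lit 0x2324132423248)) (.leaf (nat_lit 0x0)))))) (.node (.node (.node (.node (.leaf (nat_lit 0x5453145354142233)) (.leaf (nat_lit 0x152322458))) (.node (.leaf (nat_lit 0x2335441133544515)) (.leaf (nat_lit 0x44545251353311)))) (.node (.node (.leaf (nat_lit 0x244245323323548)) (.leaf (nat_lit 0x51153545411353548))) (.node (.leaf (nat_lit 0x51354532545354)) (.leaf (nat_lit 0x0))))) (.node (.node (.node (.leaf (nat_lit 0x25311415)) (.leaf (nat_lit 0x42314515314132))) (.node (.leaf (nat_lit 0x5444242413131333544424245131313335444242413131333)) (.leaf (nat_lit 0x0)))) (.node (.node (.leaf (nat_lit 0x535452354531548)) (.leaf (nat_lit 0x233541135442))) (.node (.leaf (nat_lit 0x542535413514238)) (.leaf (nat_lit 0x0)))))))) (.node (.node (.node (.node (.node (.node (.leaf (nat_lit 0x453224535115)) (.leaf (nat_lit 0x5413145324238))) (.node (.leaf (nat_lit 0x5451352451318)) (.leaf (nat_lit 0x453522545311)))) (.node (.node (.leaf (nat_lit 0x54153545352453))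 (.leaf (nat_lit 0x31413242314515))) (.node (.leaf (nat_lit 0x253242351413148)) (.leaf (nat_lit 0x0))))) (.node (.node (.node (.leaf (nat_lit 0x14414531331354)) (.leaf (nat_lit 0x253245324135458))) (.node (.leaf (nat_lit 0x545322453522)) (.leaf (nat_lit 0x15354525135451)))) (.node (.node (.leaf (nat_lit 0x31331354244245)) (.leaf (nat_lit 0x354511535422))) (.node (.leaf (nat_lit 0x15453511545325)) (.leaf (nat_lit 0x0)))))) (.node (.node (.node (.node (.leaf (nat_lit 0x5354142233545314)) (.leaf (nat_lit 0x413545351545358))) (.node (.leaf (nat_lit 0x41135335311454458)) (.leaf (nat_lit 0x31425324235141)))) (.node (.node (.leaf (nat_lit 0x224133131354242442358)) (.leaf (nat_lit 0x53114544511533))) (.node (.leaf (nat_lit 0x314253141351418)) (.leaf (nat_lit 0x0))))) (.node (.node (.node (.leaf (nat_lit 0x11541331313542424423)) (.leaf (nat_lit 0x25144531145335))) (.node (.leaf (nat_lit 0x153541135451)) (.leaf (nat_lit 0x0)))) (.node (.node (.leaf (nat_lit 0x3224118)) (.leaf (nat_lit 0x31144535251453))) (.node (.leaf (nat_lit 0x545314535451538))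 (.leaf (nat_lit 0x0))))))) (.node (.node (.node (.node (.node (.leaf (nat_lit 0x4113354541135354)) (.leaf (nat_lit 0x45135413254235))) (.node (.leaf (nat_lit 0x424531332354148)) (.leaf (nat_lit 0x5352545354111354)))) (.node (.node (.leaf (nat_lit 0x513114528)) (.leaf (nat_lit 0x41314531452535))) (.node (.leaf (nat_lit 0x1445335251445331)) (.leaf (nat_lit 0x0))))) (.node (.node (.node (.leaf (nat_lit 0x131413241314)) (.leaf (nat_lit 0x35411354442233))) (.node (.leaf (nat_lit 0x4223228)) (.leaf (nat_lit 0x0)))) (.node (.node (.leaf (nat_lit 0x35413254135452)) (.leaf (nat_lit 0x53541135453311448))) (.node (.leaf (nat_lit 0x352452351425)) (.leaf (nat_lit 0x0)))))) (.node (.node (.node (.node (.leaf (nat_lit 0x3131144535413545)) (.leaf (nat_lit 0x2415325425358))) (.node (.leaf (nat_lit 0x4452513311)) (.leaf (nat_lit 0x1453532245453525)))) (.node (.node (.leaf (nat_lit 0x115251)) (.leaf (nat_lit 0x535322454522))) (.node (.leaf (nat_lit 0x25132245)) (.leaf (nat_lit 0x0))))) (.node (.node (.node (.leaf (nat_lit 0x14531545314513)) (.leaf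 (nat_lit 0x3114451523))) (.node (.leaf (nat_lit 0x423254231451318)) (.leaf (nat_lit 0x0)))) (.node (.node (.leaf (nat_lit 0x542441453133238)) (.leaf (nat_lit 0x5331144533511544))) (.node (.leaf (nat_lit 0x4513154253158)) (.leaf (nat_lit 0x0))))))))) (.node (.node (.node (.node (.node (.node (.node (.leaf (nat_lit 0x511152)) (.leaf (nat_lit 0x51453241532453))) (.node (.leaf (nat_lit 0x535245235142)) (.leaf (nat_lit 0x33251544118)))) (.node (.node (.leaf (nat_lit 0x545411353522)) (.leaf (nat_lit 0x53545225354251))) (.node (.leaf (nat_lit 0x5233311444518)) (.leaf (nat_lit 0x0))))) (.node (.node (.node (.leaf (nat_lit 0x23335115444515)) (.leaf (nat_lit 0x4253254523528))) (.node (.leaf (nat_lit 0x1325425325458)) (.leaf (nat_lit 0x135242535245)))) (.node (.node (.leaf (nat_lit 0x333224442515)) (.leaf (nat_lit 0x522545352514538))) (.node (.leaf (nat_lit 0x314535245314258)) (.leaf (nat_lit 0x0)))))) (.node (.node (.node (.node (.leaf (nat_lit 0x354135141354158)) (.leaf (nat_lit 0x413145352541358))) (.node (.leaf (nat_lit 0x42223545324535))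 (.leaf (nat_lit 0x453515453541358)))) (.node (.node (.leaf (nat_lit 0x422235453245358)) (.leaf (nat_lit 0x5331144535422354))) (.node (.leaf (nat_lit 0x541531545132)) (.leaf (nat_lit 0x0))))) (.node (.node (.node (.leaf (nat_lit 0x2445332244533515)) (.leaf (nat_lit 0x322454411335))) (.node (.leaf (nat_lit 0x42324253141351)) (.leaf (nat_lit 0x0)))) (.node (.node (.leaf (nat_lit 0x35225422)) (.leaf (nat_lit 0x54454113533522))) (.node (.leaf (nat_lit 0x5311454515238)) (.leaf (nat_lit 0x0))))))) (.node (.node (.node (.node (.node (.leaf (nat_lit 0x14132425324135)) (.leaf (nat_lit 0x3514153154518))) (.node (.leaf (nat_lit 0x33224451158)) (.leaf (nat_lit 0x11453114538)))) (.node (.node (.leaf (nat_lit 0x35145354253545)) (.leaf (nat_lit 0x411353331144458))) (.node (.leaf (nat_lit 0x54235453222453)) (.leaf (nat_lit 0x0))))) (.node (.node (.node (.leaf (nat_lit 0x541314513142318)) (.leaf (nat_lit 0x233135414424538))) (.node (.leaf (nat_lit 0x45354135453515)) (.leaf (nat_lit 0x142535245235)))) (.node (.node (.leaf (nat_lit 0x332354244245328))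 (.leaf (nat_lit 0x2514454411335335))) (.node (.leaf (nat_lit 0x1144535413545313)) (.leaf (nat_lit 0x0)))))) (.node (.node (.node (.node (.leaf (nat_lit 0x232413525423148)) (.leaf (nat_lit 0x32322445354235458))) (.node (.leaf (nat_lit 0x53145351453242)) (.leaf (nat_lit 0x1154544411333535)))) (.node (.node (.leaf (nat_lit 0x1423142324138)) (.leaf (nat_lit 0x31452314532545))) (.node (.leaf (nat_lit 0x24511532)) (.leaf (nat_lit 0x0))))) (.node (.node (.node (.leaf (nat_lit 0x25411352)) (.leaf (nat_lit 0x5115415253))) (.node (.leaf (nat_lit 0x4453311445333114)) (.leaf (nat_lit 0x0)))) (.node (.node (.leaf (nat_lit 0x323542442453238)) (.leaf (nat_lit 0x2235354511535454))) (.node (.leaf (nat_lit 0x235415354235148)) (.leaf (nat_lit 0x0)))))))) (.node (.node (.node (.node (.node (.node (.leaf (nat_lit 0x13135424244235224133)) (.leaf (nat_lit 0x542354131453518))) (.node (.leaf (nat_lit 0x423254135451358)) (.leaf (nat_lit 0x53141354235154)))) (.node (.node (.leaf (nat_lit 0x531145118)) (.leaf (nat_lit 0x3525145322458))) (.node (.leaf (nat_lit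 0x54235423145352)) (.leaf (nat_lit 0x0))))) (.node (.node (.node (.leaf (nat_lit 0x22331525448)) (.leaf (nat_lit 0x1133511544))) (.node (.leaf (nat_lit 0x25324535145314)) (.leaf (nat_lit 0x5115454531145353)))) (.node (.node (.leaf (nat_lit 0x3131333131333131333131338)) (.leaf (nat_lit 0x4223545441133535))) (.node (.leaf (nat_lit 0x3224531525458)) (.leaf (nat_lit 0x0)))))) (.node (.node (.node (.node (.leaf (nat_lit 0x423522413313135424248)) (.leaf (nat_lit 0x142352413142538))) (.node (.leaf (nat_lit 0x135424244231154133138)) (.leaf (nat_lit 0x3224535442233545)))) (.node (.node (.leaf (nat_lit 0x4235423145318)) (.leaf (nat_lit 0x5411353224))) (.node (.leaf (nat_lit 0x35441133545115)) (.leaf (nat_lit 0x0))))) (.node (.node (.node (.leaf (nat_lit 0x14132425314235)) (.leaf (nat_lit 0x4531413542328))) (.node (.leaf (nat_lit 0x425352452351)) (.leaf (nat_lit 0x0)))) (.node (.node (.leaf (nat_lit 0x5352451351418)) (.leaf (nat_lit 0x45311453351154))) (.node (.leaf (nat_lit 0x13524132425314)) (.leaf (nat_lit 0x0))))))) (.node (.node (.node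 (.node (.node (.leaf (nat_lit 0x35424414531332)) (.leaf (nat_lit 0x153154523154))) (.node (.leaf (nat_lit 0x145352514531)) (.leaf (nat_lit 0x1523322445)))) (.node (.node (.leaf (nat_lit 0x52354411335451)) (.leaf (nat_lit 0x3541354532458))) (.node (.leaf (nat_lit 0x5425352451318)) (.leaf (nat_lit 0x0))))) (.node (.node (.node (.leaf (nat_lit 0x666668)) (.leaf (nat_lit 0x31423145153241))) (.node (.leaf (nat_lit 0x1331144525)) (.leaf (nat_lit 0x0)))) (.node (.node (.leaf (nat_lit 0x24153241351423)) (.leaf (nat_lit 0x4223533224458))) (.node (.leaf (nat_lit 0x42424513131333544424241313133354442424131313335448)) (.leaf (nat_lit 0x0)))))) (.node (.node (.node (.node (.leaf (nat_lit 0x1451325451358)) (.leaf (nat_lit 0x513331144452))) (.node (.leaf (nat_lit 0x4523514523258)) (.leaf (nat_lit 0x33544424242313133354442424253131333544424242313138)))) (.node (.node (.leaf (nat_lit 0x2424242424242424)) (.leaf (nat_lit 0x523254513524))) (.node (.leaf (nat_lit 0x53141354515324)) (.leaf (nat_lit 0x0))))) (.node (.node (.node (.leaf (nat_lit 0x542354532224538))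 (.leaf (nat_lit 0x354522535425158))) (.node (.leaf (nat_lit 0x423514232415318)) (.leaf (nat_lit 0x0)))) (.node (.node (.leaf (nat_lit 0x545251354522538)) (.leaf (nat_lit 0x32413541351545))) (.node (.leaf (nat_lit 0x145351154535258)) (.leaf (nat_lit 0x0)))))))))) (.node (.node (.node (.node (.node (.node (.node (.node (.leaf (nat_lit 0x61626)) (.leaf (nat_lit 0x15413141324235))) (.node (.leaf (nat_lit 0x354231453241)) (.leaf (nat_lit 0x3545323114453542)))) (.node (.node (.leaf (nat_lit 0x153241351423248)) (.leaf (nat_lit 0x523254523514))) (.node (.leaf (nat_lit 0x535145314253248)) (.leaf (nat_lit 0x0))))) (.node (.node (.node (.leaf (nat_lit 0x231413141314)) (.leaf (nat_lit 0x5225453531145453))) (.node (.leaf (nat_lit 0x4411335152)) (.leaf (nat_lit 0x441133532245)))) (.node (.node (.leaf (nat_lit 0x354235453145)) (.leaf (nat_lit 0x5411353335115444))) (.node (.leaf (nat_lit 0x33114445411353)) (.leaf (nat_lit 0x0)))))) (.node (.node (.node (.node (.leaf (nat_lit 0x4414424441442444144248)) (.leaf (nat_lit 0x3545324535418))) (.node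 (.leaf (nat_lit 0x5145115352)) (.leaf (nat_lit 0x533522544532248)))) (.node (.node (.leaf (nat_lit 0x5413245324138)) (.leaf (nat_lit 0x113535251454))) (.node (.leaf (nat_lit 0x3245324235428)) (.leaf (nat_lit 0x0))))) (.node (.node (.node (.leaf (nat_lit 0x425153331144)) (.leaf (nat_lit 0x1333544424242531313335444242423131333544424242313))) (.node (.leaf (nat_lit 0x545251354223)) (.leaf (nat_lit 0x0)))) (.node (.node (.leaf (nat_lit 0x3542235422)) (.leaf (nat_lit 0x51154533114453))) (.node (.leaf (nat_lit 0x53145352453142)) (.leaf (nat_lit 0x0))))))) (.node (.node (.node (.node (.node (.leaf (nat_lit 0x51413241531413)) (.leaf (nat_lit 0x45324535441132358))) (.node (.leaf (nat_lit 0x531413524132428)) (.leaf (nat_lit 0x4153514253158)))) (.node (.node (.leaf (nat_lit 0x35424414532331)) (.leaf (nat_lit 0x3322414535413545))) (.node (.leaf (nat_lit 0x11442233)) (.leaf (nat_lit 0x0))))) (.node (.node (.node (.leaf (nat_lit 0x616268)) (.leaf (nat_lit 0x332244228))) (.node (.leaf (nat_lit 0x42324135254231)) (.leaf (nat_lit 0x14453511545331))))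 (.node (.node (.leaf (nat_lit 0x41135354422335458)) (.leaf (nat_lit 0x5242532545238))) (.node (.leaf (nat_lit 0x5452351415328)) (.leaf (nat_lit 0x0)))))) (.node (.node (.node (.node (.leaf (nat_lit 0x535413514235428)) (.leaf (nat_lit 0x3141324232418))) (.node (.leaf (nat_lit 0x3332244422)) (.leaf (nat_lit 0x23545324535441138)))) (.node (.node (.leaf (nat_lit 0x45352453142531)) (.leaf (nat_lit 0x4411333224))) (.node (.leaf (nat_lit 0x32515422)) (.leaf (nat_lit 0x0))))) (.node (.node (.node (.leaf (nat_lit 0x231452314132548)) (.leaf (nat_lit 0x4231423242328))) (.node (.leaf (nat_lit 0x224544113353)) (.leaf (nat_lit 0x0)))) (.node (.node (.leaf (nat_lit 0x3542314532418)) (.leaf (nat_lit 0x354152535422))) (.node (.leaf (nat_lit 0x535225453251548)) (.leaf (nat_lit 0x0)))))))) (.node (.node (.node (.node (.node (.node (.leaf (nat_lit 0x24153141351413)) (.leaf (nat_lit 0x4513524253158))) (.node (.leaf (nat_lit 0x145422353525)) (.leaf (nat_lit 0x311451528)))) (.node (.node (.leaf (nat_lit 0x145131545235)) (.leaf (nat_lit 0x2533322444158)))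 (.node (.leaf (nat_lit 0x5325415352428)) (.leaf (nat_lit 0x0))))) (.node (.node (.node (.leaf (nat_lit 0x545354523545318)) (.leaf (nat_lit 0x251354511535458))) (.node (.leaf (nat_lit 0x4251535115)) (.leaf (nat_lit 0x324135254231428)))) (.node (.node (.leaf (nat_lit 0x331313542424423115418)) (.leaf (nat_lit 0x354223542515))) (.node (.leaf (nat_lit 0x242324515324138)) (.leaf (nat_lit 0x0)))))) (.node (.node (.node (.node (.leaf (nat_lit 0x41324153141351)) (.leaf (nat_lit 0x135453245354))) (.node (.leaf (nat_lit 0x52452253518)) (.leaf (nat_lit 0x1544533114453325)))) (.node (.node (.leaf (nat_lit 0x3545354535458)) (.leaf (nat_lit 0x351524228))) (.node (.leaf (nat_lit 0x4113545251358)) (.leaf (nat_lit 0x0))))) (.node (.node (.node (.leaf (nat_lit 0x5154411332)) (.leaf (nat_lit 0x3114454441133353))) (.node (.leaf (nat_lit 0x5452513541138)) (.leaf (nat_lit 0x0)))) (.node (.node (.leaf (nat_lit 0x35423154235451)) (.leaf (nat_lit 0x44511533118))) (.node (.leaf (nat_lit 0x42532423514131)) (.leaf (nat_lit 0x0))))))) (.node (.node (.node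 (.node (.node (.leaf (nat_lit 0x3131313131313131)) (.leaf (nat_lit 0x3245354135458))) (.node (.leaf (nat_lit 0x4511535152)) (.leaf (nat_lit 0x4441133352258)))) (.node (.node (.leaf (nat_lit 0x2253541135458)) (.leaf (nat_lit 0x513541325423548))) (.node (.leaf (nat_lit 0x53254532451314)) (.leaf (nat_lit 0x0))))) (.node (.node (.node (.leaf (nat_lit 0x423524132425328)) (.leaf (nat_lit 0x135425354235148))) (.node (.leaf (nat_lit 0x141314231413)) (.leaf (nat_lit 0x0)))) (.node (.node (.leaf (nat_lit 0x313542424423115413318)) (.leaf (nat_lit 0x535115454113))) (.node (.leaf (nat_lit 0x42314531451535)) (.leaf (nat_lit 0x0)))))) (.node (.node (.node (.node (.leaf (nat_lit 0x4532413542318)) (.leaf (nat_lit 0x5453111453545253))) (.node (.leaf (nat_lit 0x324515314131428)) (.leaf (nat_lit 0x51541314232413)))) (.node (.node (.leaf (nat_lit 0x5453145354141133)) (.leaf (nat_lit 0x5245131542538))) (.node (.leaf (nat_lit 0x2454113532)) (.leaf (nat_lit 0x0))))) (.node (.node (.node (.leaf (nat_lit 0x45235453154535)) (.leaf (nat_lit 0x4152533114)))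 (.node (.leaf (nat_lit 0x54411335118)) (.leaf (nat_lit 0x0)))) (.node (.node (.leaf (nat_lit 0x352514228)) (.leaf (nat_lit 0x23154232451314))) (.node (.leaf (nat_lit 0x53251545118)) (.leaf (nat_lit 0x0))))))))) (.node (.node (.node (.node (.node (.node (.node (.leaf (nat_lit 0x45354235453222)) (.leaf (nat_lit 0x45322453118))) (.node (.leaf (nat_lit 0x352415315415)) (.leaf (nat_lit 0x3353224544228)))) (.node (.node (.leaf (nat_lit 0x1545354222354535)) (.leaf (nat_lit 0x52353311445451))) (.node (.leaf (nat_lit 0x533224453114)) (.leaf (nat_lit 0x0))))) (.node (.node (.node (.leaf (nat_lit 0x54111354531453)) (.leaf (nat_lit 0x542324513141328))) (.node (.leaf (nat_lit 0x32541314523142)) (.leaf (nat_lit 0x144531145331)))) (.node (.node (.leaf (nat_lit 0x3514513254258)) (.leaf (nat_lit 0x35452532453241))) (.node (.leaf (nat_lit 0x354251535452258)) (.leaf (nat_lit 0x0)))))) (.node (.node (.node (.node (.leaf (nat_lit 0x141354153541358)) (.leaf (nat_lit 0x135451354232548))) (.node (.leaf (nat_lit 0x24535154135413)) (.leaf (nat_lit 0x525324532413548))))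 (.node (.node (.leaf (nat_lit 0x324513245315458)) (.leaf (nat_lit 0x3354113544118))) (.node (.leaf (nat_lit 0x35331525445411)) (.leaf (nat_lit 0x0))))) (.node (.node (.node (.leaf (nat_lit 0x322245354235458)) (.leaf (nat_lit 0x41325413245231))) (.node (.leaf (nat_lit 0x52254525138)) (.leaf (nat_lit 0x0)))) (.node (.node (.leaf (nat_lit 0x423541324531)) (.leaf (nat_lit 0x54531145353114))) (.node (.leaf (nat_lit 0x142532453514538)) (.leaf (nat_lit 0x0))))))) (.node (.node (.node (.node (.node (.leaf (nat_lit 0x13313135424244235224)) (.leaf (nat_lit 0x53114533511544))) (.node (.leaf (nat_lit 0x135453111453548)) (.leaf (nat_lit 0x4253254513518)))) (.node (.node (.leaf (nat_lit 0x535411354511)) (.leaf (nat_lit 0x45354411323545328))) (.node (.leaf (nat_lit 0x52533114418)) (.leaf (nat_lit 0x0))))) (.node (.node (.node (.leaf (nat_lit 0x2423242314238)) (.leaf (nat_lit 0x132453254531458))) (.node (.leaf (nat_lit 0x2513535411354545)) (.leaf (nat_lit 0x2441525332)))) (.node (.node (.leaf (nat_lit 0x54131451324232)) (.leaf (nat_lit 0x231145158)))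 (.node (.leaf (nat_lit 0x411354441133358)) (.leaf (nat_lit 0x0)))))) (.node (.node (.node (.node (.leaf (nat_lit 0x42231354531453548)) (.leaf (nat_lit 0x35311454535251458))) (.node (.leaf (nat_lit 0x1314531413548)) (.leaf (nat_lit 0x453245354525358)))) (.node (.node (.leaf (nat_lit 0x144145313313548)) (.leaf (nat_lit 0x53335225444152))) (.node (.leaf (nat_lit 0x2425325452358)) (.leaf (nat_lit 0x0))))) (.node (.node (.node (.leaf (nat_lit 0x4253514513518)) (.leaf (nat_lit 0x1324531423548))) (.node (.leaf (nat_lit 0x3542235451158)) (.leaf (nat_lit 0x0)))) (.node (.node (.leaf (nat_lit 0x545132542532)) (.leaf (nat_lit 0x315452315415))) (.node (.leaf (nat_lit 0x2425325415358)) (.leaf (nat_lit 0x0)))))))) (.node (.node (.node (.node (.node (.node (.leaf (nat_lit 0x45313313541441)) (.leaf (nat_lit 0x52354232542354))) (.node (.leaf (nat_lit 0x513524513154)) (.leaf (nat_lit 0x3114445441133533)))) (.node (.node (.leaf (nat_lit 0x5135145132548)) (.leaf (nat_lit 0x52445422353351))) (.node (.leaf (nat_lit 0x1452315451358)) (.leaf (nat_lit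 0x0))))) (.node (.node (.node (.leaf (nat_lit 0x4424245131313335444242413131333544424241313133354)) (.leaf (nat_lit 0x52413142531423))) (.node (.leaf (nat_lit 0x5115444541135333)) (.leaf (nat_lit 0x45152354411335)))) (.node (.node (.leaf (nat_lit 0x53541351413541)) (.leaf (nat_lit 0x245411353515))) (.node (.leaf (nat_lit 0x533525144522)) (.leaf (nat_lit 0x0)))))) (.node (.node (.node (.node (.leaf (nat_lit 0x545351453542538)) (.leaf (nat_lit 0x35444242423131333544424242313133354442424253131338))) (.node (.leaf (nat_lit 0x154231423242358)) (.leaf (nat_lit 0x33224445411353)))) (.node (.node (.leaf (nat_lit 0x45315453545235)) (.leaf (nat_lit 0x44242425313133354442424231313335444242423131333548))) (.node (.leaf (nat_lit 0x254531451324538)) (.leaf (nat_lit 0x0))))) (.node (.node (.node (.leaf (nat_lit 0x535245135141)) (.leaf (nat_lit 0x253145351453248))) (.node (.leaf (nat_lit 0x3514523154518)) (.leaf (nat_lit 0x0)))) (.node (.node (.leaf (nat_lit 0x31145454113535)) (.leaf (nat_lit 0x2354531453548))) (.node (.leaf (nat_lit 0x423242352541318))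 (.leaf (nat_lit 0x0))))))) (.node (.node (.node (.node (.node (.leaf (nat_lit 0x441442444144244414424)) (.leaf (nat_lit 0x5115452513))) (.node (.leaf (nat_lit 0x3545323224453542)) (.leaf (nat_lit 0x51544531145332)))) (.node (.node (.leaf (nat_lit 0x31453545153545)) (.leaf (nat_lit 0x314131423145258))) (.node (.leaf (nat_lit 0x14235415354235)) (.leaf (nat_lit 0x0))))) (.node (.node (.node (.leaf (nat_lit 0x25314135142324)) (.leaf (nat_lit 0x5325451315418))) (.node (.leaf (nat_lit 0x2545354111354535)) (.leaf (nat_lit 0x0)))) (.node (.node (.leaf (nat_lit 0x514452253352)) (.leaf (nat_lit 0x31144411338))) (.node (.leaf (nat_lit 0x2413242324238)) (.leaf (nat_lit 0x0)))))) (.node (.node (.node (.node (.leaf (nat_lit 0x31313335444242413131333544424241313133354442424518)) (.leaf (nat_lit 0x4424244424244424244424248))) (.node (.leaf (nat_lit 0x41442453233135)) (.leaf (nat_lit 0x44454113533311)))) (.node (.node (.leaf (nat_lit 0x13542315423545)) (.leaf (nat_lit 0x353114545152))) (.node (.leaf (nat_lit 0x1413141324138)) (.leaf (nat_lit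 0x0))))) (.node (.node (.node (.leaf (nat_lit 0x453545235453158)) (.leaf (nat_lit 0x52513544113354))) (.node (.leaf (nat_lit 0x351542314132418)) (.leaf (nat_lit 0x0)))) (.node (.node (.leaf (nat_lit 0x354135453111458)) (.leaf (nat_lit 0x11453544113354538))) (.node (.leaf (nat_lit 0x535142531541)) (.leaf (nat_lit 0x0)))))))))))

end Cfsg.Agent.TcData.HN.I1539000
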