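import Cfsg.Agent.Lib.TcFacts

set_option autoImplicit false
set_option Elab.async false
set_option maxRecDepth 100000
set_option linter.all false

namespace Cfsg.Agent.TcData.HN.I1539000

open Cfsg.Agent.Lib.TcFacts

/-- A part of a table. -/
noncomputable def PW8 : Tr := (.node (.node (.node (.node (.node (.node (.node (.node (.node (.leaf (nat_lit 0x43)) (.leaf (nat_lit 0x413545135423258))) (.node (.leaf (nat_lit 0x354135154532418)) (.leaf (nat_lit 0x4453541135453311)))) (.node (.node (.leaf (nat_lit 0x25135331144545)) (.leaf (nat_lit 0x242531413524138))) (.node (.leaf (nat_lit 0x535423545352548)) (.leaf (nat_lit 0x0))))) (.node (.node (.node (.leaf (nat_lit 0x3354442424131313335444242413131333544424245131313)) (.leaf (nat_lit 0x51535413245314))) (.node (.leaf (nat_lit 0x2454223532)) (.leaf (nat_lit 0x1133353322445444)))) (.node (.node (.leaf (nat_lit 0x23535225454515)) (.leaf (nat_lit 0x32244535422354538))) (.node (.leaf (nat_lit 0x32242515)) (.leaf (nat_lit 0x0)))))) (.node (.node (.node (.node (.leaf (nat_lit 0x36478))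 (.leaf (nat_lit 0x251411358))) (.node (.leaf (nat_lit 0x5145132545138)) (.leaf (nat_lit 0x32245422358)))) (.node (.node (.leaf (nat_lit 0x33224245354235458)) (.leaf (nat_lit 0x232413141324))) (.node (.leaf (nat_lit 0x5325425351428)) (.leaf (nat_lit 0x0))))) (.node (.node (.node (.leaf (nat_lit 0x442233541135)) (.leaf (nat_lit 0x523524253254))) (.node (.leaf (nat_lit 0x31452531413142)) (.leaf (nat_lit 0x0)))) (.node (.node (.leaf (nat_lit 0x314231541314518)) (.leaf (nat_lit 0x314513245325458))) (.node (.leaf (nat_lit 0x2325415351458)) (.leaf (nat_lit 0x0))))))) (.node (.node (.node (.node (.node (.leaf (nat_lit 0x53541354531114)) (.leaf (nat_lit 0x315413145131428))) (.node (.leaf (nat_lit 0x45352542354132)) (.leaf (nat_lit 0x1313335444242423131333544424242531313335444242423)))) (.node (.node (.leaf (nat_lit 0x154523514513)) (.leaf (nat_lit 0x2453541354538))) (.node (.leaf (nat_lit 0x51531413242314)) (.leaf (nat_lit 0x0))))) (.node (.node (.node (.leaf (nat_lit 0x423242531413518)) (.leaf (nat_lit 0x33545324535424118))) (.node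 (.leaf (nat_lit 0x53514532415324)) (.leaf (nat_lit 0x4251533114)))) (.node (.node (.leaf (nat_lit 0x25142235)) (.leaf (nat_lit 0x44113354511535))) (.node (.leaf (nat_lit 0x2314132423148)) (.leaf (nat_lit 0x0)))))) (.node (.node (.node (.node (.leaf (nat_lit 0x4223351154)) (.leaf (nat_lit 0x14235141324253))) (.node (.leaf (nat_lit 0x1335442233544525)) (.leaf (nat_lit 0x44545251353322)))) (.node (.node (.leaf (nat_lit 0x144245323313548)) (.leaf (nat_lit 0x41133545251354))) (.node (.leaf (nat_lit 0x452513542235)) (.leaf (nat_lit 0x0))))) (.node (.node (.node (.leaf (nat_lit 0x41135225)) (.leaf (nat_lit 0x42324515314131))) (.node (.leaf (nat_lit 0x4153524513518)) (.leaf (nat_lit 0x0)))) (.node (.node (.leaf (nat_lit 0x524132425324238)) (.leaf (nat_lit 0x4532245354422335))) (.node (.leaf (nat_lit 0x241351423241538)) (.leaf (nat_lit 0x0)))))))) (.node (.node (.node (.node (.node (.node (.leaf (nat_lit 0x15453251545351)) (.leaf (nat_lit 0x325423245132428))) (.node (.leaf (nat_lit 0x453514535425358)) (.leaf (nat_lit 0x453522545322))))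 (.node (.node (.leaf (nat_lit 0x51314531545314)) (.leaf (nat_lit 0x24135241314253))) (.node (.leaf (nat_lit 0x53311445118)) (.leaf (nat_lit 0x0))))) (.node (.node (.node (.leaf (nat_lit 0x24414532331354)) (.leaf (nat_lit 0x3541354533114145))) (.node (.leaf (nat_lit 0x4231413141318)) (.leaf (nat_lit 0x25354525135452)))) (.node (.node (.leaf (nat_lit 0x53545153545314)) (.leaf (nat_lit 0x5453224535441133))) (.node (.leaf (nat_lit 0x25453511545315)) (.leaf (nat_lit 0x0)))))) (.node (.node (.node (.node (.leaf (nat_lit 0x4113118)) (.leaf (nat_lit 0x53232244535423548))) (.node (.leaf (nat_lit 0x4223135453145354)) (.leaf (nat_lit 0x451324232542328)))) (.node (.node (.leaf (nat_lit 0x314535411135458)) (.leaf (nat_lit 0x5354135453248))) (.node (.leaf (nat_lit 0x3524153514518)) (.leaf (nat_lit 0x0))))) (.node (.node (.node (.leaf (nat_lit 0x45354111354531)) (.leaf (nat_lit 0x254453224533158))) (.node (.leaf (nat_lit 0x414414532332358)) (.leaf (nat_lit 0x0)))) (.node (.node (.leaf (nat_lit 0x4244424244424244424244428)) (.leaf (nat_lit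 0x422354542235358))) (.node (.leaf (nat_lit 0x31144525138)) (.leaf (nat_lit 0x0))))))) (.node (.node (.node (.node (.node (.leaf (nat_lit 0x142231)) (.leaf (nat_lit 0x531423541324))) (.node (.leaf (nat_lit 0x532451324531548)) (.leaf (nat_lit 0x52544541135331)))) (.node (.node (.leaf (nat_lit 0x523114518)) (.leaf (nat_lit 0x42515333522544))) (.node (.leaf (nat_lit 0x3545313114453541)) (.leaf (nat_lit 0x0))))) (.node (.node (.node (.leaf (nat_lit 0x231413242314)) (.leaf (nat_lit 0x453542354532228))) (.node (.leaf (nat_lit 0x154441133351)) (.leaf (nat_lit 0x0)))) (.node (.node (.leaf (nat_lit 0x514513254513)) (.leaf (nat_lit 0x5115354113548))) (.node (.leaf (nat_lit 0x35454411335354118)) (.leaf (nat_lit 0x0)))))) (.node (.node (.node (.node (.leaf (nat_lit 0x3231144535423545)) (.leaf (nat_lit 0x13254231452314))) (.node (.leaf (nat_lit 0x4452513322)) (.leaf (nat_lit 0x2453532245453515)))) (.node (.node (.leaf (nat_lit 0x223541525354)) (.leaf (nat_lit 0x54545251353511))) (.node (.leaf (nat_lit 0x23545153145314)) (.leaf (nat_lit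 0x0))))) (.node (.node (.node (.leaf (nat_lit 0x44223311)) (.leaf (nat_lit 0x2351452325458))) (.node (.leaf (nat_lit 0x54253542351413)) (.leaf (nat_lit 0x0)))) (.node (.node (.leaf (nat_lit 0x1333131333131333131333138)) (.leaf (nat_lit 0x24535424113354538))) (.node (.leaf (nat_lit 0x4523154153158)) (.leaf (nat_lit 0x0))))))))) (.node (.node (.node (.node (.node (.node (.node (.leaf (nat_lit 0x311411)) (.leaf (nat_lit 0x24135451531453))) (.node (.leaf (nat_lit 0x53132244535413548)) (.leaf (nat_lit 0x1352254525)))) (.node (.node (.leaf (nat_lit 0x1144453311445333)) (.leaf (nat_lit 0x45152311))) (.node (.leaf (nat_lit 0x32545314523145)) (.leaf (nat_lit 0x0))))) (.node (.node (.node (.leaf (nat_lit 0x532413542314)) (.leaf (nat_lit 0x4253154523518))) (.node (.leaf (nat_lit 0x51453242531453)) (.leaf (nat_lit 0x4541135353511545)))) (.node (.node (.leaf (nat_lit 0x1535242532548)) (.leaf (nat_lit 0x54411313545314538))) (.node (.leaf (nat_lit 0x5115454441133353)) (.leaf (nat_lit 0x0)))))) (.node (.node (.node (.node (.leaf (nat_lit 0x354235142354158))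 (.leaf (nat_lit 0x423145352542358))) (.node (.leaf (nat_lit 0x423545314535)) (.leaf (nat_lit 0x5142535245238)))) (.node (.node (.leaf (nat_lit 0x31413514232425)) (.leaf (nat_lit 0x3544223354228))) (.node (.leaf (nat_lit 0x4424242313133354442424253131333544424242313133354)) (.leaf (nat_lit 0x0))))) (.node (.node (.node (.leaf (nat_lit 0x541314513141328)) (.leaf (nat_lit 0x115454113535))) (.node (.leaf (nat_lit 0x352425352451)) (.leaf (nat_lit 0x0)))) (.node (.node (.leaf (nat_lit 0x3354415253354411)) (.leaf (nat_lit 0x35333224445411))) (.node (.leaf (nat_lit 0x23544113354515)) (.leaf (nat_lit 0x0))))))) (.node (.node (.node (.node (.node (.leaf (nat_lit 0x13141325413145)) (.leaf (nat_lit 0x542531545131))) (.node (.leaf (nat_lit 0x453514532425318)) (.leaf (nat_lit 0x3354451153354422)))) (.node (.node (.leaf (nat_lit 0x515354522535428)) (.leaf (nat_lit 0x53531145453114))) (.node (.leaf (nat_lit 0x114453224533)) (.leaf (nat_lit 0x0))))) (.node (.node (.node (.leaf (nat_lit 0x13145315453145)) (.leaf (nat_lit 0x15354235142354)))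 (.node (.leaf (nat_lit 0x24253141352413)) (.leaf (nat_lit 0x32354244245323)))) (.node (.node (.leaf (nat_lit 0x4453331144453311)) (.leaf (nat_lit 0x4454411335335115))) (.node (.leaf (nat_lit 0x15454411335351)) (.leaf (nat_lit 0x0)))))) (.node (.node (.node (.node (.leaf (nat_lit 0x232423525413148)) (.leaf (nat_lit 0x422354511535))) (.node (.leaf (nat_lit 0x53545251354511)) (.leaf (nat_lit 0x53524532425324)))) (.node (.node (.leaf (nat_lit 0x354152535411)) (.leaf (nat_lit 0x54532453544223238))) (.node (.leaf (nat_lit 0x1523354422335445)) (.leaf (nat_lit 0x0))))) (.node (.node (.node (.leaf (nat_lit 0x1135411354)) (.leaf (nat_lit 0x311445441133538))) (.node (.leaf (nat_lit 0x1144422333)) (.leaf (nat_lit 0x0)))) (.node (.node (.leaf (nat_lit 0x313542442453138)) (.leaf (nat_lit 0x52513533114454))) (.node (.leaf (nat_lit 0x535425153545118)) (.leaf (nat_lit 0x0)))))))) (.node (.node (.node (.node (.node (.node (.leaf (nat_lit 0x13541441453133)) (.leaf (nat_lit 0x2351425352458))) (.node (.leaf (nat_lit 0x51324531545324)) (.leaf (nat_lit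 0x53241354235254)))) (.node (.node (.leaf (nat_lit 0x135145231545)) (.leaf (nat_lit 0x35254535411135458))) (.node (.leaf (nat_lit 0x4231453241358)) (.leaf (nat_lit 0x0))))) (.node (.node (.node (.leaf (nat_lit 0x3254253154528)) (.leaf (nat_lit 0x3524513154258))) (.node (.leaf (nat_lit 0x42453133235414)) (.leaf (nat_lit 0x1135354522535454)))) (.node (.node (.leaf (nat_lit 0x53145153542314)) (.leaf (nat_lit 0x4153154513258))) (.node (.leaf (nat_lit 0x532245351524)) (.leaf (nat_lit 0x0)))))) (.node (.node (.node (.node (.leaf (nat_lit 0x313313541441458)) (.leaf (nat_lit 0x31144535115453))) (.node (.leaf (nat_lit 0x354253545351458)) (.leaf (nat_lit 0x523524513254)))) (.node (.node (.leaf (nat_lit 0x451315452351)) (.leaf (nat_lit 0x2413142324138))) (.node (.leaf (nat_lit 0x3145354411313545)) (.leaf (nat_lit 0x0))))) (.node (.node (.node (.leaf (nat_lit 0x442515333114)) (.leaf (nat_lit 0x531425314535248))) (.node (.leaf (nat_lit 0x425352451352)) (.leaf (nat_lit 0x0)))) (.node (.node (.leaf (nat_lit 0x51413541535413)) (.leaf (nat_lit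 0x324515354232458))) (.node (.leaf (nat_lit 0x23524131425314)) (.leaf (nat_lit 0x0))))))) (.node (.node (.node (.node (.node (.leaf (nat_lit 0x314531413541)) (.leaf (nat_lit 0x453524532425328))) (.node (.leaf (nat_lit 0x3524513514158)) (.leaf (nat_lit 0x3533114454441133)))) (.node (.node (.leaf (nat_lit 0x3544113354531145)) (.leaf (nat_lit 0x541535241531))) (.node (.leaf (nat_lit 0x4441442444144244414428)) (.leaf (nat_lit 0x0))))) (.node (.node (.node (.leaf (nat_lit 0x311451158)) (.leaf (nat_lit 0x32423145153141))) (.node (.leaf (nat_lit 0x2331144515)) (.leaf (nat_lit 0x0)))) (.node (.node (.leaf (nat_lit 0x24253241351413)) (.leaf (nat_lit 0x22228))) (.node (.leaf (nat_lit 0x45351453242531)) (.leaf (nat_lit 0x0)))))) (.node (.node (.node (.node (.leaf (nat_lit 0x2451325452358)) (.leaf (nat_lit 0x523331144451))) (.node (.leaf (nat_lit 0x53254531452314)) (.leaf (nat_lit 0x33544424241313133354442424513131333544424241313138)))) (.node (.node (.leaf (nat_lit 0x32354244145313)) (.leaf (nat_lit 0x1544453114533351))) (.node (.leaf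 (nat_lit 0x53241354515314)) (.leaf (nat_lit 0x0))))) (.node (.node (.node (.leaf (nat_lit 0x5413545324538)) (.leaf (nat_lit 0x3133354442424253131333544424242313133354442424231))) (.node (.leaf (nat_lit 0x35411354541135)) (.leaf (nat_lit 0x0)))) (.node (.node (.leaf (nat_lit 0x131453154531458)) (.leaf (nat_lit 0x2545235145238))) (.node (.leaf (nat_lit 0x525453522545318)) (.leaf (nat_lit 0x0)))))))))) (.node (.node (.node (.node (.node (.node (.node (.node (.leaf (nat_lit 0x757575)) (.leaf (nat_lit 0x5245135141538))) (.node (.leaf (nat_lit 0x423542314531)) (.leaf (nat_lit 0x52535351154541)))) (.node (.node (.leaf (nat_lit 0x31425324135241)) (.leaf (nat_lit 0x114511538))) (.node (.leaf (nat_lit 0x32244422338)) (.leaf (nat_lit 0x0))))) (.node (.node (.node (.leaf (nat_lit 0x224223)) (.leaf (nat_lit 0x44532515453311))) (.node (.leaf (nat_lit 0x4411335115)) (.leaf (nat_lit 0x13142325413245)))) (.node (.node (.leaf (nat_lit 0x45354253545351)) (.leaf (nat_lit 0x5245235142538))) (.node (.leaf (nat_lit 0x5315415352418)) (.leaf (nat_lit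 0x0)))))) (.node (.node (.node (.node (.leaf (nat_lit 0x332333133233313323331)) (.leaf (nat_lit 0x31545354523545))) (.node (.leaf (nat_lit 0x5245115351)) (.leaf (nat_lit 0x22445115338)))) (.node (.node (.leaf (nat_lit 0x45132453254531)) (.leaf (nat_lit 0x325451351425))) (.node (.leaf (nat_lit 0x41314253141351)) (.leaf (nat_lit 0x0))))) (.node (.node (.node (.leaf (nat_lit 0x5115441133)) (.leaf (nat_lit 0x251333114445))) (.node (.leaf (nat_lit 0x545314535423)) (.leaf (nat_lit 0x0)))) (.node (.node (.leaf (nat_lit 0x54131413241352)) (.leaf (nat_lit 0x1545444113335351))) (.node (.leaf (nat_lit 0x24531413545153)) (.leaf (nat_lit 0x0))))))) (.node (.node (.node (.node (.node (.leaf (nat_lit 0x425351451351)) (.leaf (nat_lit 0x45314535441131358))) (.node (.leaf (nat_lit 0x532413524131428)) (.leaf (nat_lit 0x5145131541538)))) (.node (.node (.leaf (nat_lit 0x33114411)) (.leaf (nat_lit 0x35451523545115))) (.node (.leaf (nat_lit 0x41331313542424423522)) (.leaf (nat_lit 0x0))))) (.node (.node (.node (.leaf (nat_lit 0x777778)) (.leaf (nat_lit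 0x3114542235))) (.node (.leaf (nat_lit 0x522535411354)) (.leaf (nat_lit 0x2313133354442424231313335444242425313133354442424)))) (.node (.node (.leaf (nat_lit 0x54535423545352)) (.leaf (nat_lit 0x45314525354131))) (.node (.leaf (nat_lit 0x2253515245)) (.leaf (nat_lit 0x0)))))) (.node (.node (.node (.node (.leaf (nat_lit 0x1523511545)) (.leaf (nat_lit 0x232542354523548))) (.node (.leaf (nat_lit 0x4113135453145354)) (.leaf (nat_lit 0x31145353114545)))) (.node (.node (.leaf (nat_lit 0x354244145313328)) (.leaf (nat_lit 0x231453515413548))) (.node (.leaf (nat_lit 0x4513514513258)) (.leaf (nat_lit 0x0))))) (.node (.node (.node (.leaf (nat_lit 0x13514135415354)) (.leaf (nat_lit 0x4131423242318))) (.node (.leaf (nat_lit 0x54244245313313)) (.leaf (nat_lit 0x0)))) (.node (.node (.leaf (nat_lit 0x351413241531418)) (.leaf (nat_lit 0x4535225453118))) (.node (.leaf (nat_lit 0x3311445115)) (.leaf (nat_lit 0x0)))))))) (.node (.node (.node (.node (.node (.node (.leaf (nat_lit 0x32415324135142)) (.leaf (nat_lit 0x4523524253258))) (.node (.leaf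 (nat_lit 0x245422353515)) (.leaf (nat_lit 0x3114453332244453)))) (.node (.node (.leaf (nat_lit 0x245131545135)) (.leaf (nat_lit 0x23522545158))) (.node (.leaf (nat_lit 0x5315451351418)) (.leaf (nat_lit 0x0))))) (.node (.node (.node (.leaf (nat_lit 0x131453254532458)) (.leaf (nat_lit 0x5452513511))) (.node (.leaf (nat_lit 0x1351451325458)) (.leaf (nat_lit 0x324235254231418)))) (.node (.node (.leaf (nat_lit 0x24535422235453)) (.leaf (nat_lit 0x54422335118))) (.node (.leaf (nat_lit 0x315453145131458)) (.leaf (nat_lit 0x0)))))) (.node (.node (.node (.node (.leaf (nat_lit 0x41314513142315)) (.leaf (nat_lit 0x25153335225444))) (.node (.leaf (nat_lit 0x525142238)) (.leaf (nat_lit 0x2544533224453315)))) (.node (.node (.leaf (nat_lit 0x54244145323313)) (.leaf (nat_lit 0x254232451314138))) (.node (.leaf (nat_lit 0x5133114452)) (.leaf (nat_lit 0x0))))) (.node (.node (.node (.leaf (nat_lit 0x524131425314238)) (.leaf (nat_lit 0x131413254131458))) (.node (.leaf (nat_lit 0x35411354441133)) (.leaf (nat_lit 0x0)))) (.node (.node (.leaf (nat_lit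 0x35423254135451)) (.leaf (nat_lit 0x311454515235))) (.node (.leaf (nat_lit 0x313313542442458)) (.leaf (nat_lit 0x0))))))) (.node (.node (.node (.node (.node (.leaf (nat_lit 0x4242424242424242)) (.leaf (nat_lit 0x1445115331))) (.node (.leaf (nat_lit 0x2515451153)) (.leaf (nat_lit 0x54422335453224538)))) (.node (.node (.leaf (nat_lit 0x11454451153353)) (.leaf (nat_lit 0x35424424532332))) (.node (.leaf (nat_lit 0x5453322445354113)) (.leaf (nat_lit 0x0))))) (.node (.node (.node (.leaf (nat_lit 0x413524132425318)) (.leaf (nat_lit 0x323541441453238))) (.node (.leaf (nat_lit 0x5135454113535452)) (.leaf (nat_lit 0x0)))) (.node (.node (.leaf (nat_lit 0x3313133313133313133313138)) (.leaf (nat_lit 0x1533544113354451))) (.node (.leaf (nat_lit 0x32413525413141)) (.leaf (nat_lit 0x0)))))) (.node (.node (.node (.node (.leaf (nat_lit 0x314232423141)) (.leaf (nat_lit 0x14135425354235))) (.node (.leaf (nat_lit 0x513542325413548)) (.leaf (nat_lit 0x3154153524158)))) (.node (.node (.leaf (nat_lit 0x32354144145323)) (.leaf (nat_lit 0x1314131423148)))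 (.node (.leaf (nat_lit 0x4531453542358)) (.leaf (nat_lit 0x0))))) (.node (.node (.node (.leaf (nat_lit 0x153531145451)) (.leaf (nat_lit 0x223335115444))) (.node (.leaf (nat_lit 0x531453545153548)) (.leaf (nat_lit 0x0)))) (.node (.node (.leaf (nat_lit 0x152541138)) (.leaf (nat_lit 0x352452325451))) (.node (.leaf (nat_lit 0x13514232415324)) (.leaf (nat_lit 0x0))))))))) (.node (.node (.node (.node (.node (.node (.node (.leaf (nat_lit 0x35453145354111)) (.leaf (nat_lit 0x354153542351428))) (.node (.leaf (nat_lit 0x154531423541358)) (.leaf (nat_lit 0x254153524513)))) (.node (.node (.leaf (nat_lit 0x545354235453528)) (.leaf (nat_lit 0x13511545258))) (.node (.leaf (nat_lit 0x135415354135148)) (.leaf (nat_lit 0x0))))) (.node (.node (.node (.leaf (nat_lit 0x54135453111453)) (.leaf (nat_lit 0x511545322453))) (.node (.leaf (nat_lit 0x515453114532)) (.leaf (nat_lit 0x244531145332)))) (.node (.node (.leaf (nat_lit 0x3524513254158)) (.leaf (nat_lit 0x114411338))) (.node (.leaf (nat_lit 0x15354511535425)) (.leaf (nat_lit 0x0)))))) (.node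 (.node (.node (.node (.leaf (nat_lit 0x241354253541358)) (.leaf (nat_lit 0x235451354231548))) (.node (.leaf (nat_lit 0x451325451351)) (.leaf (nat_lit 0x5245132541538)))) (.node (.node (.leaf (nat_lit 0x13323542441453)) (.leaf (nat_lit 0x254153154513))) (.node (.leaf (nat_lit 0x413242531413528)) (.leaf (nat_lit 0x0))))) (.node (.node (.node (.leaf (nat_lit 0x522532248)) (.leaf (nat_lit 0x42325413245131))) (.node (.leaf (nat_lit 0x42233545314535418)) (.leaf (nat_lit 0x0)))) (.node (.node (.leaf (nat_lit 0x1335441133544525)) (.leaf (nat_lit 0x354251535451158))) (.node (.leaf (nat_lit 0x15453141354235)) (.leaf (nat_lit 0x0))))))) (.node (.node (.node (.node (.node (.leaf (nat_lit 0x5314535414113354)) (.leaf (nat_lit 0x3114452253))) (.node (.leaf (nat_lit 0x5351451352418)) (.leaf (nat_lit 0x242531413514238)))) (.node (.node (.leaf (nat_lit 0x22245354235453)) (.leaf (nat_lit 0x45354422335453118))) (.node (.leaf (nat_lit 0x53322445118)) (.leaf (nat_lit 0x0))))) (.node (.node (.node (.leaf (nat_lit 0x51322452)) (.leaf (nat_lit 0x4535413545332241)))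 (.node (.leaf (nat_lit 0x1133535422354544)) (.leaf (nat_lit 0x15444152533351)))) (.node (.node (.leaf (nat_lit 0x54231451324231)) (.leaf (nat_lit 0x44425153335225))) (.node (.leaf (nat_lit 0x5132545135148)) (.leaf (nat_lit 0x0)))))) (.node (.node (.node (.node (.leaf (nat_lit 0x15241135)) (.leaf (nat_lit 0x14533114453525))) (.node (.leaf (nat_lit 0x22354113548)) (.leaf (nat_lit 0x4113354532245354)))) (.node (.node (.leaf (nat_lit 0x354525135411)) (.leaf (nat_lit 0x52513322448))) (.node (.leaf (nat_lit 0x22541525358)) (.leaf (nat_lit 0x0))))) (.node (.node (.node (.leaf (nat_lit 0x42351423241531)) (.leaf (nat_lit 0x314532423541))) (.node (.leaf (nat_lit 0x3242324132428)) (.leaf (nat_lit 0x0)))) (.node (.node (.leaf (nat_lit 0x545232542531)) (.leaf (nat_lit 0x42324513141325))) (.node (.leaf (nat_lit 0x2535241532548)) (.leaf (nat_lit 0x0)))))))) (.node (.node (.node (.node (.node (.node (.leaf (nat_lit 0x45323313541442)) (.leaf (nat_lit 0x54531413542351))) (.node (.leaf (nat_lit 0x3544113135453145)) (.leaf (nat_lit 0x324525354231458))))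 (.node (.node (.leaf (nat_lit 0x5235145131548)) (.leaf (nat_lit 0x54454223533511))) (.node (.leaf (nat_lit 0x5442233522)) (.leaf (nat_lit 0x0))))) (.node (.node (.node (.leaf (nat_lit 0x113224)) (.leaf (nat_lit 0x452351452325))) (.node (.leaf (nat_lit 0x352514541135)) (.leaf (nat_lit 0x11354542235354)))) (.node (.node (.leaf (nat_lit 0x53542351413542)) (.leaf (nat_lit 0x545251354511538))) (.node (.leaf (nat_lit 0x3542235453311445)) (.leaf (nat_lit 0x0)))))) (.node (.node (.node (.node (.leaf (nat_lit 0x35453111453541)) (.leaf (nat_lit 0x5135141535248))) (.node (.leaf (nat_lit 0x254231423241358)) (.leaf (nat_lit 0x4113533351154445)))) (.node (.node (.leaf (nat_lit 0x35441132354532458)) (.leaf (nat_lit 0x44242451313133354442424131313335444242413131333548))) (.node (.leaf (nat_lit 0x254532451314538)) (.leaf (nat_lit 0x0))))) (.node (.node (.node (.leaf (nat_lit 0x23522413313135424244)) (.leaf (nat_lit 0x51153535422354548))) (.node (.leaf (nat_lit 0x51523114)) (.leaf (nat_lit 0x0)))) (.node (.node (.leaf (nat_lit 0x1454113531))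 (.leaf (nat_lit 0x5354223545118))) (.node (.leaf (nat_lit 0x5145135241538)) (.leaf (nat_lit 0x0))))))) (.node (.node (.node (.node (.node (.leaf (nat_lit 0x323542441453138)) (.leaf (nat_lit 0x4253514253258))) (.node (.leaf (nat_lit 0x3545332244535411)) (.leaf (nat_lit 0x242531545135)))) (.node (.node (.leaf (nat_lit 0x145415253531)) (.leaf (nat_lit 0x324131423145158))) (.node (.leaf (nat_lit 0x33511544118)) (.leaf (nat_lit 0x0))))) (.node (.node (.node (.leaf (nat_lit 0x354135142354258)) (.leaf (nat_lit 0x5225454441133353))) (.node (.leaf (nat_lit 0x354531453541118)) (.leaf (nat_lit 0x0)))) (.node (.node (.leaf (nat_lit 0x524452253351)) (.leaf (nat_lit 0x335332244544228))) (.node (.leaf (nat_lit 0x1413242324138)) (.leaf (nat_lit 0x0)))))) (.node (.node (.node (.node (.leaf (nat_lit 0x514451153352)) (.leaf (nat_lit 0x254135413145358))) (.node (.leaf (nat_lit 0x2545231542538)) (.leaf (nat_lit 0x514253524523)))) (.node (.node (.leaf (nat_lit 0x23541325413545)) (.leaf (nat_lit 0x3511544453114533))) (.node (.leaf (nat_lit 0x23545225354515))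 (.leaf (nat_lit 0x0))))) (.node (.node (.node (.leaf (nat_lit 0x53541113545314)) (.leaf (nat_lit 0x51545314135423))) (.node (.leaf (nat_lit 0x153335225444258)) (.leaf (nat_lit 0x0)))) (.node (.node (.leaf (nat_lit 0x425153541135)) (.leaf (nat_lit 0x14131423245153))) (.node (.leaf (nat_lit 0x54531453545153)) (.leaf (nat_lit 0x0)))))))))))

end Cfsg.Agent.TcData.HN.I1539000
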