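import Cfsg.Agent.Lib.TcFacts

set_option autoImplicit false
set_option Elab.async false
set_option maxRecDepth 100000
set_option linter.all false

namespace Cfsg.Agent.TcData.HN.I1539000

open Cfsg.Agent.Lib.TcFacts

/-- A part of a table. -/
noncomputable def PW9 : Tr := (.node (.node (.node (.node (.node (.node (.node (.node (.node (.leaf (nat_lit 0x21)) (.leaf (nat_lit 0x4113354113548))) (.node (.leaf (nat_lit 0x354235154531418)) (.leaf (nat_lit 0x224445152333)))) (.node (.node (.leaf (nat_lit 0x35332244545115)) (.leaf (nat_lit 0x531423542314))) (.node (.leaf (nat_lit 0x53531145453515248)) (.leaf (nat_lit 0x0))))) (.node (.node (.node (.leaf (nat_lit 0x54244145313323)) (.leaf (nat_lit 0x315254531145))) (.node (.leaf (nat_lit 0x314132541314518)) (.leaf (nat_lit 0x445115335251)))) (.node (.node (.leaf (nat_lit 0x24235141324153)) (.leaf (nat_lit 0x35424223354532458))) (.node (.leaf (nat_lit 0x351453242531458)) (.leaf (nat_lit 0x0)))))) (.node (.node (.node (.node (.leaf (nat_lit 0x11441133)) (.leaf (nat_lit 0x5314535414223354)))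 (.node (.leaf (nat_lit 0x453254535451358)) (.leaf (nat_lit 0x423542324532)))) (.node (.node (.leaf (nat_lit 0x2311445354235453)) (.leaf (nat_lit 0x3332244452518))) (.node (.leaf (nat_lit 0x325453145132458)) (.leaf (nat_lit 0x0))))) (.node (.node (.node (.leaf (nat_lit 0x545235145131)) (.leaf (nat_lit 0x2413141324238))) (.node (.leaf (nat_lit 0x231423142314)) (.leaf (nat_lit 0x0)))) (.node (.node (.leaf (nat_lit 0x324232541314518)) (.leaf (nat_lit 0x2515333531145444))) (.node (.leaf (nat_lit 0x5453531145453511)) (.leaf (nat_lit 0x0))))))) (.node (.node (.node (.node (.node (.leaf (nat_lit 0x424244424244424244424244)) (.leaf (nat_lit 0x325413145131418))) (.node (.leaf (nat_lit 0x54222354535154538)) (.leaf (nat_lit 0x44454223533311)))) (.node (.node (.leaf (nat_lit 0x32453254531451)) (.leaf (nat_lit 0x1525451153))) (.node (.leaf (nat_lit 0x3242354232458)) (.leaf (nat_lit 0x0))))) (.node (.node (.node (.leaf (nat_lit 0x324231413142)) (.leaf (nat_lit 0x3354531453541411))) (.node (.leaf (nat_lit 0x31313542424423115413)) (.leaf (nat_lit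 0x3545411353544113)))) (.node (.node (.leaf (nat_lit 0x23242531413514)) (.leaf (nat_lit 0x3542235452258))) (.node (.leaf (nat_lit 0x24513142325413)) (.leaf (nat_lit 0x0)))))) (.node (.node (.node (.node (.leaf (nat_lit 0x1522258)) (.leaf (nat_lit 0x315453245132458))) (.node (.leaf (nat_lit 0x54144245313323)) (.leaf (nat_lit 0x41133322448)))) (.node (.node (.leaf (nat_lit 0x45153545314535)) (.leaf (nat_lit 0x54113533511544))) (.node (.leaf (nat_lit 0x352514532245)) (.leaf (nat_lit 0x0))))) (.node (.node (.node (.leaf (nat_lit 0x233313323331332333133)) (.leaf (nat_lit 0x42324515324132))) (.node (.leaf (nat_lit 0x541135118)) (.leaf (nat_lit 0x0)))) (.node (.node (.leaf (nat_lit 0x541351413541538)) (.leaf (nat_lit 0x1524511535))) (.node (.leaf (nat_lit 0x54532515453511)) (.leaf (nat_lit 0x0)))))))) (.node (.node (.node (.node (.node (.node (.leaf (nat_lit 0x531145351154)) (.leaf (nat_lit 0x325423145131428))) (.node (.leaf (nat_lit 0x545235453154538)) (.leaf (nat_lit 0x423515453242358)))) (.node (.node (.leaf (nat_lit 0x53154531451314))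 (.leaf (nat_lit 0x2233352254448))) (.node (.leaf (nat_lit 0x33531525454411)) (.leaf (nat_lit 0x0))))) (.node (.node (.node (.leaf (nat_lit 0x54113533311444)) (.leaf (nat_lit 0x13245325453145))) (.node (.leaf (nat_lit 0x25413141324135)) (.leaf (nat_lit 0x3224442515338)))) (.node (.node (.leaf (nat_lit 0x514253154153)) (.leaf (nat_lit 0x2423541314538))) (.node (.leaf (nat_lit 0x3511545411358)) (.leaf (nat_lit 0x0)))))) (.node (.node (.node (.node (.leaf (nat_lit 0x13142315413145)) (.leaf (nat_lit 0x51531453241354))) (.node (.leaf (nat_lit 0x325423545235428)) (.leaf (nat_lit 0x54532515453522)))) (.node (.node (.leaf (nat_lit 0x514113528)) (.leaf (nat_lit 0x24533515244532))) (.node (.leaf (nat_lit 0x532545235141)) (.leaf (nat_lit 0x0))))) (.node (.node (.node (.leaf (nat_lit 0x453541354532)) (.leaf (nat_lit 0x44531145335115))) (.node (.leaf (nat_lit 0x232541535145)) (.leaf (nat_lit 0x0)))) (.node (.node (.leaf (nat_lit 0x3524153254258)) (.leaf (nat_lit 0x333224445422358))) (.node (.leaf (nat_lit 0x4535413545331141)) (.leaf (nat_lit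 0x0))))))) (.node (.node (.node (.node (.node (.leaf (nat_lit 0x42424423522413313135)) (.leaf (nat_lit 0x53242354135254))) (.node (.leaf (nat_lit 0x42233322448)) (.leaf (nat_lit 0x51544541135332)))) (.node (.node (.leaf (nat_lit 0x424423522413313135428)) (.leaf (nat_lit 0x511544531145338))) (.node (.leaf (nat_lit 0x2535145135148)) (.leaf (nat_lit 0x0))))) (.node (.node (.node (.leaf (nat_lit 0x45313114453541358)) (.leaf (nat_lit 0x3254513254258))) (.node (.leaf (nat_lit 0x45311453118)) (.leaf (nat_lit 0x0)))) (.node (.node (.leaf (nat_lit 0x253545351453548)) (.leaf (nat_lit 0x1535411354258))) (.node (.leaf (nat_lit 0x14525314131423)) (.leaf (nat_lit 0x0)))))) (.node (.node (.node (.node (.leaf (nat_lit 0x51314132541314)) (.leaf (nat_lit 0x51524511538))) (.node (.leaf (nat_lit 0x2442233515)) (.leaf (nat_lit 0x25324131423245)))) (.node (.node (.leaf (nat_lit 0x14453525145331)) (.leaf (nat_lit 0x54545251353522))) (.node (.leaf (nat_lit 0x5325452351418)) (.leaf (nat_lit 0x0))))) (.node (.node (.node (.leaf (nat_lit 0x22453351154453))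 (.leaf (nat_lit 0x44533152544533118))) (.node (.leaf (nat_lit 0x2235422354)) (.leaf (nat_lit 0x0)))) (.node (.node (.leaf (nat_lit 0x5354535453548)) (.leaf (nat_lit 0x2425313133354442424231313335444242423131333544424))) (.node (.leaf (nat_lit 0x15353511545425)) (.leaf (nat_lit 0x0))))))))) (.node (.node (.node (.node (.node (.node (.node (.leaf (nat_lit 0x31144113)) (.leaf (nat_lit 0x23545322245354))) (.node (.leaf (nat_lit 0x453245354222358)) (.leaf (nat_lit 0x2352254515)))) (.node (.node (.leaf (nat_lit 0x113354113544)) (.leaf (nat_lit 0x45152322))) (.node (.leaf (nat_lit 0x142325423245238)) (.leaf (nat_lit 0x0))))) (.node (.node (.node (.leaf (nat_lit 0x5313114453541354)) (.leaf (nat_lit 0x41133544113354))) (.node (.leaf (nat_lit 0x452351415325)) (.leaf (nat_lit 0x515235422354)))) (.node (.node (.leaf (nat_lit 0x2535242531548)) (.leaf (nat_lit 0x1545251351))) (.node (.leaf (nat_lit 0x415315452315)) (.leaf (nat_lit 0x0)))))) (.node (.node (.node (.node (.leaf (nat_lit 0x224422338)) (.leaf (nat_lit 0x5354135453311414))) (.node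 (.leaf (nat_lit 0x453133235424418)) (.leaf (nat_lit 0x44422333541135)))) (.node (.node (.leaf (nat_lit 0x31413254231452)) (.leaf (nat_lit 0x4153514523518))) (.node (.leaf (nat_lit 0x5142532542538)) (.leaf (nat_lit 0x0))))) (.node (.node (.node (.leaf (nat_lit 0x5452351451318)) (.leaf (nat_lit 0x1453242354138))) (.node (.leaf (nat_lit 0x5444242413131333544424241313133354442424513131333)) (.leaf (nat_lit 0x0)))) (.node (.node (.leaf (nat_lit 0x41324253141352)) (.leaf (nat_lit 0x35333224445422))) (.node (.leaf (nat_lit 0x311452258)) (.leaf (nat_lit 0x0))))))) (.node (.node (.node (.node (.node (.leaf (nat_lit 0x42325413145132)) (.leaf (nat_lit 0x142531453524538))) (.node (.leaf (nat_lit 0x453524531425318)) (.leaf (nat_lit 0x31145354411335458)))) (.node (.node (.leaf (nat_lit 0x525354522535418)) (.leaf (nat_lit 0x53541113545352548))) (.node (.leaf (nat_lit 0x5453311445353114)) (.leaf (nat_lit 0x0))))) (.node (.node (.node (.leaf (nat_lit 0x531453524531428)) (.leaf (nat_lit 0x15354411335451))) (.node (.leaf (nat_lit 0x22352254))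 (.leaf (nat_lit 0x54135154532413)))) (.node (.node (.leaf (nat_lit 0x54135451354232)) (.leaf (nat_lit 0x413145351542358))) (.node (.leaf (nat_lit 0x514542235352)) (.leaf (nat_lit 0x0)))))) (.node (.node (.node (.node (.leaf (nat_lit 0x523142325423248)) (.leaf (nat_lit 0x254531452314538))) (.node (.leaf (nat_lit 0x53545251354522)) (.leaf (nat_lit 0x54232542354523)))) (.node (.node (.leaf (nat_lit 0x32241525)) (.leaf (nat_lit 0x54531453544223138))) (.node (.leaf (nat_lit 0x5253354422335441)) (.leaf (nat_lit 0x0))))) (.node (.node (.node (.leaf (nat_lit 0x45311145354135)) (.leaf (nat_lit 0x2244425153338))) (.node (.leaf (nat_lit 0x5324535413548)) (.leaf (nat_lit 0x0)))) (.node (.node (.leaf (nat_lit 0x5135142535148)) (.leaf (nat_lit 0x422354411335))) (.node (.leaf (nat_lit 0x231452531413148)) (.leaf (nat_lit 0x0)))))))) (.node (.node (.node (.node (.node (.node (.leaf (nat_lit 0x3233313323331332333138)) (.leaf (nat_lit 0x41354253542351))) (.node (.leaf (nat_lit 0x324231542314518)) (.leaf (nat_lit 0x325154451153)))) (.node (.node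 (.leaf (nat_lit 0x53254535451354)) (.leaf (nat_lit 0x32515453532245458))) (.node (.leaf (nat_lit 0x5231542532548)) (.leaf (nat_lit 0x0))))) (.node (.node (.node (.leaf (nat_lit 0x322415258)) (.leaf (nat_lit 0x541132518))) (.node (.leaf (nat_lit 0x5425325452318)) (.leaf (nat_lit 0x3533311444545251)))) (.node (.node (.leaf (nat_lit 0x4531145311)) (.leaf (nat_lit 0x145351453242538))) (.node (.leaf (nat_lit 0x5445322453354113)) (.leaf (nat_lit 0x0)))))) (.node (.node (.node (.node (.leaf (nat_lit 0x323313542441458)) (.leaf (nat_lit 0x1144511533))) (.node (.leaf (nat_lit 0x3514513154528)) (.leaf (nat_lit 0x3514253154158)))) (.node (.node (.leaf (nat_lit 0x144244414424441442444)) (.leaf (nat_lit 0x33114454525135))) (.node (.leaf (nat_lit 0x3245354411323545)) (.leaf (nat_lit 0x0))))) (.node (.node (.node (.leaf (nat_lit 0x531331354144148)) (.leaf (nat_lit 0x145313323542448))) (.node (.leaf (nat_lit 0x31332354144245)) (.leaf (nat_lit 0x0)))) (.node (.node (.leaf (nat_lit 0x54231452314132)) (.leaf (nat_lit 0x2423241314138))) (.node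 (.leaf (nat_lit 0x232451324232548)) (.leaf (nat_lit 0x0))))))) (.node (.node (.node (.node (.node (.leaf (nat_lit 0x1354113541)) (.leaf (nat_lit 0x45332242453542358))) (.node (.leaf (nat_lit 0x54113542238)) (.leaf (nat_lit 0x145325154531)))) (.node (.node (.leaf (nat_lit 0x13322441)) (.leaf (nat_lit 0x5131541535148))) (.node (.leaf (nat_lit 0x531145451523)) (.leaf (nat_lit 0x0))))) (.node (.node (.node (.leaf (nat_lit 0x5311453114)) (.leaf (nat_lit 0x31423514232415))) (.node (.leaf (nat_lit 0x13141324135254)) (.leaf (nat_lit 0x0)))) (.node (.node (.leaf (nat_lit 0x413542314532)) (.leaf (nat_lit 0x353311445422))) (.node (.leaf (nat_lit 0x5425153541138)) (.leaf (nat_lit 0x0)))))) (.node (.node (.node (.node (.leaf (nat_lit 0x5451325415318)) (.leaf (nat_lit 0x54535115453251))) (.node (.leaf (nat_lit 0x4532423542328)) (.leaf (nat_lit 0x52514544113353)))) (.node (.node (.leaf (nat_lit 0x532413541351548)) (.leaf (nat_lit 0x353114545322458))) (.node (.leaf (nat_lit 0x53545152354522)) (.leaf (nat_lit 0x0))))) (.node (.node (.node (.leaf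 (nat_lit 0x354535453545)) (.leaf (nat_lit 0x1413142314138))) (.node (.leaf (nat_lit 0x231542532545)) (.leaf (nat_lit 0x0)))) (.node (.node (.leaf (nat_lit 0x132451314232548)) (.leaf (nat_lit 0x153154513254))) (.node (.leaf (nat_lit 0x2235452253548)) (.leaf (nat_lit 0x0)))))))))) (.node (.node (.node (.node (.node (.node (.node (.node (.leaf (nat_lit 0x72771)) (.leaf (nat_lit 0x311453511545))) (.node (.leaf (nat_lit 0x511533541135448)) (.leaf (nat_lit 0x51535351154542)))) (.node (.node (.leaf (nat_lit 0x32425324135141)) (.leaf (nat_lit 0x235142535245))) (.node (.leaf (nat_lit 0x54422313545314538)) (.leaf (nat_lit 0x0))))) (.node (.node (.node (.leaf (nat_lit 0x54525314531413)) (.leaf (nat_lit 0x54442424253131333544424242313133354442424231313338))) (.node (.leaf (nat_lit 0x35451354132542)) (.leaf (nat_lit 0x51523224)))) (.node (.node (.leaf (nat_lit 0x45354153545352)) (.leaf (nat_lit 0x3524253524518))) (.node (.leaf (nat_lit 0x2244511533)) (.leaf (nat_lit 0x0)))))) (.node (.node (.node (.node (.leaf (nat_lit 0x3254513514518))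 (.leaf (nat_lit 0x51154454113533))) (.node (.leaf (nat_lit 0x135413245324)) (.leaf (nat_lit 0x152454113535)))) (.node (.node (.leaf (nat_lit 0x451325415315)) (.leaf (nat_lit 0x35444242423131333544424242531313335444242423131338))) (.node (.leaf (nat_lit 0x453142532453518)) (.leaf (nat_lit 0x0))))) (.node (.node (.node (.leaf (nat_lit 0x311454411335)) (.leaf (nat_lit 0x4235413245318))) (.node (.leaf (nat_lit 0x354532453542228)) (.leaf (nat_lit 0x0)))) (.node (.node (.leaf (nat_lit 0x54231413241351)) (.leaf (nat_lit 0x33544424242313133354442424231313335444242425313138))) (.node (.leaf (nat_lit 0x451315415351)) (.leaf (nat_lit 0x0))))))) (.node (.node (.node (.node (.node (.leaf (nat_lit 0x415351451352)) (.leaf (nat_lit 0x33114145354135458))) (.node (.leaf (nat_lit 0x1451153525)) (.leaf (nat_lit 0x3254513154158)))) (.node (.node (.leaf (nat_lit 0x354144145323328)) (.leaf (nat_lit 0x5135411354528))) (.node (.leaf (nat_lit 0x544511533251)) (.leaf (nat_lit 0x0))))) (.node (.node (.node (.leaf (nat_lit 0x37468)) (.leaf (nat_lit 0x325154541135)))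 (.node (.leaf (nat_lit 0x354113544113)) (.leaf (nat_lit 0x52314132541324)))) (.node (.node (.leaf (nat_lit 0x225152)) (.leaf (nat_lit 0x45324525354132))) (.node (.leaf (nat_lit 0x141532545235)) (.leaf (nat_lit 0x0)))))) (.node (.node (.node (.node (.leaf (nat_lit 0x3525145115)) (.leaf (nat_lit 0x132542354513548))) (.node (.leaf (nat_lit 0x244145313323548)) (.leaf (nat_lit 0x324235423515458)))) (.node (.node (.leaf (nat_lit 0x31453154531451)) (.leaf (nat_lit 0x41422335453145358))) (.node (.leaf (nat_lit 0x41525311)) (.leaf (nat_lit 0x0))))) (.node (.node (.node (.leaf (nat_lit 0x542515354113)) (.leaf (nat_lit 0x453311445311))) (.node (.leaf (nat_lit 0x5115442233)) (.leaf (nat_lit 0x0)))) (.node (.node (.leaf (nat_lit 0x352413242531418)) (.leaf (nat_lit 0x5154535311454532))) (.node (.leaf (nat_lit 0x332244541135)) (.leaf (nat_lit 0x0)))))))) (.node (.node (.node (.node (.node (.node (.leaf (nat_lit 0x3114441133)) (.leaf (nat_lit 0x145354235453))) (.node (.leaf (nat_lit 0x11352514)) (.leaf (nat_lit 0x33351154445411358)))) (.node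 (.node (.leaf (nat_lit 0x5451315425318)) (.leaf (nat_lit 0x1523311445))) (.node (.leaf (nat_lit 0x53515245118)) (.leaf (nat_lit 0x0))))) (.node (.node (.node (.leaf (nat_lit 0x231453254531458)) (.leaf (nat_lit 0x5452513522))) (.node (.leaf (nat_lit 0x2351451315458)) (.leaf (nat_lit 0x54411335452253)))) (.node (.node (.leaf (nat_lit 0x54135453132244538)) (.leaf (nat_lit 0x413241314232))) (.node (.leaf (nat_lit 0x524253254153)) (.leaf (nat_lit 0x0)))))) (.node (.node (.node (.node (.leaf (nat_lit 0x545135145132)) (.leaf (nat_lit 0x514532415324538))) (.node (.leaf (nat_lit 0x324535245324258)) (.leaf (nat_lit 0x1533544113354425)))) (.node (.node (.leaf (nat_lit 0x452315451351)) (.leaf (nat_lit 0x231542314513248))) (.node (.leaf (nat_lit 0x5233114451)) (.leaf (nat_lit 0x0))))) (.node (.node (.node (.leaf (nat_lit 0x1333544424245131313335444242413131333544424241313)) (.leaf (nat_lit 0x231413254231458))) (.node (.leaf (nat_lit 0x241531413514138)) (.leaf (nat_lit 0x0)))) (.node (.node (.leaf (nat_lit 0x35423254235452)) (.leaf (nat_lit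 0x54411335352514))) (.node (.leaf (nat_lit 0x45115325158)) (.leaf (nat_lit 0x0))))))) (.node (.node (.node (.node (.node (.leaf (nat_lit 0x413541314531)) (.leaf (nat_lit 0x525135422354))) (.node (.leaf (nat_lit 0x51535423145314)) (.leaf (nat_lit 0x53114535441133548)))) (.node (.node (.leaf (nat_lit 0x15332244258)) (.leaf (nat_lit 0x4232423141318))) (.node (.leaf (nat_lit 0x2413131333544424245131313335444242413131333544424)) (.leaf (nat_lit 0x0))))) (.node (.node (.node (.leaf (nat_lit 0x354531545354528)) (.leaf (nat_lit 0x25453145132453))) (.node (.leaf (nat_lit 0x5235454113535451)) (.leaf (nat_lit 0x0)))) (.node (.node (.leaf (nat_lit 0x4453315254453311)) (.leaf (nat_lit 0x32425314235141))) (.node (.leaf (nat_lit 0x32413515413142)) (.leaf (nat_lit 0x0)))))) (.node (.node (.node (.node (.leaf (nat_lit 0x314232413142)) (.leaf (nat_lit 0x5314535441131354))) (.node (.leaf (nat_lit 0x542325423545238)) (.leaf (nat_lit 0x41135335115445)))) (.node (.node (.leaf (nat_lit 0x45331144535115)) (.leaf (nat_lit 0x2314131423248))) (.node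 (.leaf (nat_lit 0x53114531148)) (.leaf (nat_lit 0x0))))) (.node (.node (.node (.leaf (nat_lit 0x145135241535)) (.leaf (nat_lit 0x3542515354118))) (.node (.leaf (nat_lit 0x531145228)) (.leaf (nat_lit 0x0)))) (.node (.node (.leaf (nat_lit 0x1524453311445335)) (.leaf (nat_lit 0x3524523254518))) (.node (.leaf (nat_lit 0x531413514232428)) (.leaf (nat_lit 0x0))))))))) (.node (.node (.node (.node (.node (.node (.node (.leaf (nat_lit 0x35453245354222)) (.leaf (nat_lit 0x53545115354251))) (.node (.leaf (nat_lit 0x254531413541358)) (.leaf (nat_lit 0x52513335115444)))) (.node (.node (.leaf (nat_lit 0x11135453145354)) (.leaf (nat_lit 0x5311454531525453))) (.node (.leaf (nat_lit 0x235425354135148)) (.leaf (nat_lit 0x0))))) (.node (.node (.node (.leaf (nat_lit 0x54135141354153)) (.leaf (nat_lit 0x13533224454525))) (.node (.leaf (nat_lit 0x225453114535)) (.leaf (nat_lit 0x5411354545115353)))) (.node (.node (.leaf (nat_lit 0x5422354223)) (.leaf (nat_lit 0x511544422333))) (.node (.leaf (nat_lit 0x25354511535415)) (.leaf (nat_lit 0x0)))))) (.node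 (.node (.node (.node (.leaf (nat_lit 0x41354523541325)) (.leaf (nat_lit 0x423154131451318))) (.node (.leaf (nat_lit 0x453233135414428)) (.leaf (nat_lit 0x4511533224)))) (.node (.node (.leaf (nat_lit 0x45313313542442)) (.leaf (nat_lit 0x115411358))) (.node (.leaf (nat_lit 0x522535452513548)) (.leaf (nat_lit 0x0))))) (.node (.node (.node (.leaf (nat_lit 0x45311453531145)) (.leaf (nat_lit 0x423245231423258))) (.node (.leaf (nat_lit 0x15314132423145)) (.leaf (nat_lit 0x0)))) (.node (.node (.leaf (nat_lit 0x451352415351)) (.leaf (nat_lit 0x31145453224535))) (.node (.leaf (nat_lit 0x422353542235458)) (.leaf (nat_lit 0x0))))))) (.node (.node (.node (.node (.node (.leaf (nat_lit 0x5331141453541354)) (.leaf (nat_lit 0x2335115442))) (.node (.leaf (nat_lit 0x1315451352458)) (.leaf (nat_lit 0x1535141532548)))) (.node (.node (.leaf (nat_lit 0x172778)) (.leaf (nat_lit 0x5332244251))) (.node (.leaf (nat_lit 0x53322445331144)) (.leaf (nat_lit 0x0))))) (.node (.node (.node (.leaf (nat_lit 0x52322451)) (.leaf (nat_lit 0x4535423545332242))) (.node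 (.leaf (nat_lit 0x35413145351542)) (.leaf (nat_lit 0x1335152441)))) (.node (.node (.leaf (nat_lit 0x54531451324532)) (.leaf (nat_lit 0x33322444531145))) (.node (.leaf (nat_lit 0x545352545354238)) (.leaf (nat_lit 0x0)))))) (.node (.node (.node (.node (.leaf (nat_lit 0x3114453541354531)) (.leaf (nat_lit 0x24533114453515))) (.node (.leaf (nat_lit 0x2445331144533515)) (.leaf (nat_lit 0x11544531145335)))) (.node (.node (.leaf (nat_lit 0x453233135424418)) (.leaf (nat_lit 0x4535152453228))) (.node (.leaf (nat_lit 0x425153118)) (.leaf (nat_lit 0x0))))) (.node (.node (.node (.leaf (nat_lit 0x42351413241532)) (.leaf (nat_lit 0x324532423542))) (.node (.leaf (nat_lit 0x324235142324258)) (.leaf (nat_lit 0x0)))) (.node (.node (.leaf (nat_lit 0x545232541532)) (.leaf (nat_lit 0x541535141532))) (.node (.leaf (nat_lit 0x113545115354)) (.leaf (nat_lit 0x0)))))))) (.node (.node (.node (.node (.node (.node (.leaf (nat_lit 0x53133135414414)) (.leaf (nat_lit 0x54532413542352))) (.node (.leaf (nat_lit 0x32453544223235458)) (.leaf (nat_lit 0x53224533511544))))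 (.node (.node (.leaf (nat_lit 0x451352451315)) (.leaf (nat_lit 0x54454223533522))) (.node (.leaf (nat_lit 0x541325423545138)) (.leaf (nat_lit 0x0))))) (.node (.node (.node (.leaf (nat_lit 0x11332244)) (.leaf (nat_lit 0x545354135453518))) (.node (.leaf (nat_lit 0x515241138)) (.leaf (nat_lit 0x2513533311444545)))) (.node (.node (.leaf (nat_lit 0x135425153541)) (.leaf (nat_lit 0x4522533114))) (.node (.leaf (nat_lit 0x14253145352453)) (.leaf (nat_lit 0x0)))))) (.node (.node (.node (.node (.leaf (nat_lit 0x354531453542)) (.leaf (nat_lit 0x5411353545115354))) (.node (.leaf (nat_lit 0x414531332354248)) (.leaf (nat_lit 0x3224535152458)))) (.node (.node (.leaf (nat_lit 0x5453245354241133)) (.leaf (nat_lit 0x31144545115353))) (.node (.leaf (nat_lit 0x4453322445335115)) (.leaf (nat_lit 0x0))))) (.node (.node (.node (.leaf (nat_lit 0x51524113)) (.leaf (nat_lit 0x1535354223545425))) (.node (.leaf (nat_lit 0x41453233135424)) (.leaf (nat_lit 0x0)))) (.node (.node (.leaf (nat_lit 0x424442424442424442424442)) (.leaf (nat_lit 0x5242531545138)))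 (.node (.leaf (nat_lit 0x5245135242538)) (.leaf (nat_lit 0x0))))))) (.node (.node (.node (.node (.node (.leaf (nat_lit 0x442453133135428)) (.leaf (nat_lit 0x413142531413518))) (.node (.leaf (nat_lit 0x23154235451354)) (.leaf (nat_lit 0x31141453541354538)))) (.node (.node (.leaf (nat_lit 0x245415253532)) (.leaf (nat_lit 0x53242532453524))) (.node (.leaf (nat_lit 0x3254253514258)) (.leaf (nat_lit 0x0))))) (.node (.node (.node (.leaf (nat_lit 0x51324231542314)) (.leaf (nat_lit 0x35241324253242))) (.node (.leaf (nat_lit 0x3545225354228)) (.leaf (nat_lit 0x0)))) (.node (.node (.leaf (nat_lit 0x544522533251)) (.leaf (nat_lit 0x451324531545328))) (.node (.leaf (nat_lit 0x5441133251)) (.leaf (nat_lit 0x0)))))) (.node (.node (.node (.node (.leaf (nat_lit 0x524451153351)) (.leaf (nat_lit 0x22442233))) (.node (.leaf (nat_lit 0x2545232541538)) (.leaf (nat_lit 0x13522541)))) (.node (.node (.leaf (nat_lit 0x31145251)) (.leaf (nat_lit 0x22535441133545))) (.node (.leaf (nat_lit 0x3331144422)) (.leaf (nat_lit 0x0))))) (.node (.node (.node (.leaf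 (nat_lit 0x535145135142)) (.leaf (nat_lit 0x2424131313335444242413131333544424245131313335444))) (.node (.leaf (nat_lit 0x351452315451)) (.leaf (nat_lit 0x0)))) (.node (.node (.leaf (nat_lit 0x453545153545318)) (.leaf (nat_lit 0x45225335311454))) (.node (.leaf (nat_lit 0x2354545152353542)) (.leaf (nat_lit 0x0)))))))))))

end Cfsg.Agent.TcData.HN.I1539000
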