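import Mathlib
import Cfsg.Agent.TcData.HN.Common
import Cfsg.Agent.TcData.HN.I1539000.T0
import Cfsg.Agent.TcData.HN.I1539000.T1
import Cfsg.Agent.TcData.HN.I1539000.T2
import Cfsg.Agent.TcData.HN.I1539000.T3
import Cfsg.Agent.TcData.HN.I1539000.T4
import Cfsg.Agent.TcData.HN.I1539000.T5
import Cfsg.Agent.TcData.HN.I1539000.T6
import Cfsg.Agent.TcData.HN.I1539000.T7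
import Cfsg.Agent.TcData.HN.I1539000.T8
import Cfsg.Agent.TcData.HN.I1539000.T9
import Cfsg.Agent.TcData.HN.I1539000.T10
import Cfsg.Agent.TcData.HN.I1539000.T11
import Cfsg.Agent.TcData.HN.I1539000.T12
import Cfsg.Agent.TcData.HN.I1539000.T13
import Cfsg.Agent.TcData.HN.I1539000.T14
import Cfsg.Agent.TcData.HN.I1539000.T15
import Cfsg.Agent.TcData.HN.I1539000.T16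
import Cfsg.Agent.TcData.HN.I1539000.T17
import Cfsg.Agent.TcData.HN.I1539000.T18
import Cfsg.Agent.TcData.HN.I1539000.T19
import Cfsg.Agent.TcData.HN.I1539000.T20
import Cfsg.Agent.TcData.HN.I1539000.T21
import Cfsg.Agent.TcData.HN.I1539000.T22
import Cfsg.Agent.TcData.HN.I1539000.T23
import Cfsg.Agent.TcData.HN.I1539000.T24
import Cfsg.Agent.TcData.HN.I1539000.T25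
import Cfsg.Agent.TcData.HN.I1539000.T26
import Cfsg.Agent.TcData.HN.I1539000.T27
import Cfsg.Agent.TcData.HN.I1539000.T28
import Cfsg.Agent.TcData.HN.I1539000.T29
import Cfsg.Agent.TcData.HN.I1539000.T30
import Cfsg.Agent.TcData.HN.I1539000.T31
import Cfsg.Agent.TcData.HN.I1539000.T32
import Cfsg.Agent.TcData.HN.I1539000.T33
import Cfsg.Agent.TcData.HN.I1539000.T34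
import Cfsg.Agent.TcData.HN.I1539000.T35
import Cfsg.Agent.TcData.HN.I1539000.T36
import Cfsg.Agent.TcData.HN.I1539000.T37
import Cfsg.Agent.TcData.HN.I1539000.T38
import Cfsg.Agent.TcData.HN.I1539000.T39
import Cfsg.Agent.TcData.HN.I1539000.T40
import Cfsg.Agent.TcData.HN.I1539000.T41
import Cfsg.Agent.TcData.HN.I1539000.T42
import Cfsg.Agent.TcData.HN.I1539000.T43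
import Cfsg.Agent.TcData.HN.I1539000.T44
import Cfsg.Agent.TcData.HN.I1539000.T45
import Cfsg.Agent.TcData.HN.I1539000.T46
import Cfsg.Agent.TcData.HN.I1539000.T47
import Cfsg.Agent.TcData.HN.I1539000.T48
import Cfsg.Agent.TcData.HN.I1539000.T49
import Cfsg.Agent.TcData.HN.I1539000.T50
import Cfsg.Agent.TcData.HN.I1539000.T51
import Cfsg.Agent.TcData.HN.I1539000.T52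
import Cfsg.Agent.TcData.HN.I1539000.T53
import Cfsg.Agent.TcData.HN.I1539000.T54
import Cfsg.Agent.TcData.HN.I1539000.T55
import Cfsg.Agent.TcData.HN.I1539000.T56
import Cfsg.Agent.TcData.HN.I1539000.T57
import Cfsg.Agent.TcData.HN.I1539000.T58
import Cfsg.Agent.TcData.HN.I1539000.T59
import Cfsg.Agent.TcData.HN.I1539000.T60
import Cfsg.Agent.TcData.HN.I1539000.T61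
import Cfsg.Agent.TcData.HN.I1539000.T62
import Cfsg.Agent.TcData.HN.I1539000.T63
import Cfsg.Agent.TcData.HN.I1539000.T64
import Cfsg.Agent.TcData.HN.I1539000.T65
import Cfsg.Agent.TcData.HN.I1539000.T66
import Cfsg.Agent.TcData.HN.I1539000.T67
import Cfsg.Agent.TcData.HN.I1539000.T68
import Cfsg.Agent.TcData.HN.I1539000.T69
import Cfsg.Agent.TcData.HN.I1539000.T70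
import Cfsg.Agent.TcData.HN.I1539000.T71
import Cfsg.Agent.TcData.HN.I1539000.T72
import Cfsg.Agent.TcData.HN.I1539000.T73
import Cfsg.Agent.TcData.HN.I1539000.T74
import Cfsg.Agent.TcData.HN.I1539000.T75
import Cfsg.Agent.TcData.HN.I1539000.T76
import Cfsg.Agent.TcData.HN.I1539000.T77
import Cfsg.Agent.TcData.HN.I1539000.T78
import Cfsg.Agent.TcData.HN.I1539000.T79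
import Cfsg.Agent.TcData.HN.I1539000.T80
import Cfsg.Agent.TcData.HN.I1539000.T81
import Cfsg.Agent.TcData.HN.I1539000.T82
import Cfsg.Agent.TcData.HN.I1539000.T83
import Cfsg.Agent.TcData.HN.I1539000.T84
import Cfsg.Agent.TcData.HN.I1539000.T85
import Cfsg.Agent.TcData.HN.I1539000.T86
import Cfsg.Agent.TcData.HN.I1539000.T87
import Cfsg.Agent.TcData.HN.I1539000.T88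
import Cfsg.Agent.TcData.HN.I1539000.T89
import Cfsg.Agent.TcData.HN.I1539000.T90
import Cfsg.Agent.TcData.HN.I1539000.T91
import Cfsg.Agent.TcData.HN.I1539000.T92
import Cfsg.Agent.TcData.HN.I1539000.T93
import Cfsg.Agent.TcData.HN.I1539000.T94
import Cfsg.Agent.TcData.HN.I1539000.T95
import Cfsg.Agent.TcData.HN.I1539000.T96
import Cfsg.Agent.TcData.HN.I1539000.T97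
import Cfsg.Agent.TcData.HN.I1539000.T98
import Cfsg.Agent.TcData.HN.I1539000.T99
import Cfsg.Agent.TcData.HN.I1539000.T100
import Cfsg.Agent.TcData.HN.I1539000.T101
import Cfsg.Agent.TcData.HN.I1539000.T102
import Cfsg.Agent.TcData.HN.I1539000.T103
import Cfsg.Agent.TcData.HN.I1539000.T104
import Cfsg.Agent.TcData.HN.I1539000.T105
import Cfsg.Agent.TcData.HN.I1539000.T106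
import Cfsg.Agent.TcData.HN.I1539000.T107
import Cfsg.Agent.TcData.HN.I1539000.T108
import Cfsg.Agent.TcData.HN.I1539000.T109
import Cfsg.Agent.TcData.HN.I1539000.T110
import Cfsg.Agent.TcData.HN.I1539000.T111
import Cfsg.Agent.TcData.HN.I1539000.T112
import Cfsg.Agent.TcData.HN.I1539000.T113
import Cfsg.Agent.TcData.HN.I1539000.T114
import Cfsg.Agent.TcData.HN.I1539000.T115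
import Cfsg.Agent.TcData.HN.I1539000.T116
import Cfsg.Agent.TcData.HN.I1539000.T117
import Cfsg.Agent.TcData.HN.I1539000.T118
import Cfsg.Agent.TcData.HN.I1539000.T119
import Cfsg.Agent.TcData.HN.I1539000.T120
import Cfsg.Agent.TcData.HN.I1539000.T121
import Cfsg.Agent.TcData.HN.I1539000.T122
import Cfsg.Agent.TcData.HN.I1539000.T123
import Cfsg.Agent.TcData.HN.I1539000.T124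
import Cfsg.Agent.TcData.HN.I1539000.T125
import Cfsg.Agent.TcData.HN.I1539000.T126
import Cfsg.Agent.TcData.HN.I1539000.T127
import Cfsg.Agent.TcData.HN.I1539000.T128
import Cfsg.Agent.TcData.HN.I1539000.T129
import Cfsg.Agent.TcData.HN.I1539000.T130
import Cfsg.Agent.TcData.HN.I1539000.T131
import Cfsg.Agent.TcData.HN.I1539000.T132
import Cfsg.Agent.TcData.HN.I1539000.T133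
import Cfsg.Agent.TcData.HN.I1539000.T134
import Cfsg.Agent.TcData.HN.I1539000.T135
import Cfsg.Agent.TcData.HN.I1539000.T136
import Cfsg.Agent.TcData.HN.I1539000.T137
import Cfsg.Agent.TcData.HN.I1539000.T138
import Cfsg.Agent.TcData.HN.I1539000.T139
import Cfsg.Agent.TcData.HN.I1539000.T140
import Cfsg.Agent.TcData.HN.I1539000.T141
import Cfsg.Agent.TcData.HN.I1539000.T142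
import Cfsg.Agent.TcData.HN.I1539000.T143
import Cfsg.Agent.TcData.HN.I1539000.T144
import Cfsg.Agent.TcData.HN.I1539000.T145
import Cfsg.Agent.TcData.HN.I1539000.T146
import Cfsg.Agent.TcData.HN.I1539000.T147
import Cfsg.Agent.TcData.HN.I1539000.T148
import Cfsg.Agent.TcData.HN.I1539000.T149
import Cfsg.Agent.TcData.HN.I1539000.T150
import Cfsg.Agent.TcData.HN.I1539000.T151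
import Cfsg.Agent.TcData.HN.I1539000.T152
import Cfsg.Agent.TcData.HN.I1539000.T153
import Cfsg.Agent.TcData.HN.I1539000.T154
import Cfsg.Agent.TcData.HN.I1539000.T155
import Cfsg.Agent.TcData.HN.I1539000.T156
import Cfsg.Agent.TcData.HN.I1539000.T157
import Cfsg.Agent.TcData.HN.I1539000.T158
import Cfsg.Agent.TcData.HN.I1539000.T159
import Cfsg.Agent.TcData.HN.I1539000.T160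
import Cfsg.Agent.TcData.HN.I1539000.T161
import Cfsg.Agent.TcData.HN.I1539000.T162
import Cfsg.Agent.TcData.HN.I1539000.T163
import Cfsg.Agent.TcData.HN.I1539000.T164
import Cfsg.Agent.TcData.HN.I1539000.T165
import Cfsg.Agent.TcData.HN.I1539000.T166
import Cfsg.Agent.TcData.HN.I1539000.T167
import Cfsg.Agent.TcData.HN.I1539000.T168
import Cfsg.Agent.TcData.HN.I1539000.T169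
import Cfsg.Agent.TcData.HN.I1539000.T170
import Cfsg.Agent.TcData.HN.I1539000.T171
import Cfsg.Agent.TcData.HN.I1539000.T172
import Cfsg.Agent.TcData.HN.I1539000.T173
import Cfsg.Agent.TcData.HN.I1539000.T174
import Cfsg.Agent.TcData.HN.I1539000.T175
import Cfsg.Agent.TcData.HN.I1539000.T176
import Cfsg.Agent.TcData.HN.I1539000.T177
import Cfsg.Agent.TcData.HN.I1539000.T178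
import Cfsg.Agent.TcData.HN.I1539000.T179
import Cfsg.Agent.TcData.HN.I1539000.T180
import Cfsg.Agent.TcData.HN.I1539000.T181
import Cfsg.Agent.TcData.HN.I1539000.T182
import Cfsg.Agent.TcData.HN.I1539000.T183
import Cfsg.Agent.TcData.HN.I1539000.T184
import Cfsg.Agent.TcData.HN.I1539000.T185
import Cfsg.Agent.TcData.HN.I1539000.T186
import Cfsg.Agent.TcData.HN.I1539000.T187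
import Cfsg.Agent.TcData.HN.I1539000.T188
import Cfsg.Agent.TcData.HN.I1539000.T189
import Cfsg.Agent.TcData.HN.I1539000.T190
import Cfsg.Agent.TcData.HN.I1539000.T191
import Cfsg.Agent.TcData.HN.I1539000.T192
import Cfsg.Agent.TcData.HN.I1539000.T193
import Cfsg.Agent.TcData.HN.I1539000.T194
import Cfsg.Agent.TcData.HN.I1539000.T195
import Cfsg.Agent.TcData.HN.I1539000.T196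
import Cfsg.Agent.TcData.HN.I1539000.T197
import Cfsg.Agent.TcData.HN.I1539000.T198
import Cfsg.Agent.TcData.HN.I1539000.T199
import Cfsg.Agent.TcData.HN.I1539000.T200
import Cfsg.Agent.TcData.HN.I1539000.T201
import Cfsg.Agent.TcData.HN.I1539000.T202
import Cfsg.Agent.TcData.HN.I1539000.T203
import Cfsg.Agent.TcData.HN.I1539000.T204
import Cfsg.Agent.TcData.HN.I1539000.T205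
import Cfsg.Agent.TcData.HN.I1539000.T206
import Cfsg.Agent.TcData.HN.I1539000.T207
import Cfsg.Agent.TcData.HN.I1539000.T208
import Cfsg.Agent.TcData.HN.I1539000.T209
import Cfsg.Agent.TcData.HN.I1539000.T210
import Cfsg.Agent.TcData.HN.I1539000.T211
import Cfsg.Agent.TcData.HN.I1539000.T212
import Cfsg.Agent.TcData.HN.I1539000.T213
import Cfsg.Agent.TcData.HN.I1539000.T214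
import Cfsg.Agent.TcData.HN.I1539000.T215
import Cfsg.Agent.TcData.HN.I1539000.T216
import Cfsg.Agent.TcData.HN.I1539000.T217
import Cfsg.Agent.TcData.HN.I1539000.T218
import Cfsg.Agent.TcData.HN.I1539000.T219
import Cfsg.Agent.TcData.HN.I1539000.T220
import Cfsg.Agent.TcData.HN.I1539000.T221
import Cfsg.Agent.TcData.HN.I1539000.T222
import Cfsg.Agent.TcData.HN.I1539000.T223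
import Cfsg.Agent.TcData.HN.I1539000.T224
import Cfsg.Agent.TcData.HN.I1539000.T225
import Cfsg.Agent.TcData.HN.I1539000.T226
import Cfsg.Agent.TcData.HN.I1539000.T227
import Cfsg.Agent.TcData.HN.I1539000.T228
import Cfsg.Agent.TcData.HN.I1539000.T229
import Cfsg.Agent.TcData.HN.I1539000.T230
import Cfsg.Agent.TcData.HN.I1539000.T231
import Cfsg.Agent.TcData.HN.I1539000.T232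
import Cfsg.Agent.TcData.HN.I1539000.T233
import Cfsg.Agent.TcData.HN.I1539000.T234
import Cfsg.Agent.TcData.HN.I1539000.T235
import Cfsg.Agent.TcData.HN.I1539000.T236
import Cfsg.Agent.TcData.HN.I1539000.T237
import Cfsg.Agent.TcData.HN.I1539000.T238
import Cfsg.Agent.TcData.HN.I1539000.T239
import Cfsg.Agent.TcData.HN.I1539000.T240
import Cfsg.Agent.TcData.HN.I1539000.T241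
import Cfsg.Agent.TcData.HN.I1539000.T242
import Cfsg.Agent.TcData.HN.I1539000.T243
import Cfsg.Agent.TcData.HN.I1539000.T244
import Cfsg.Agent.TcData.HN.I1539000.T245
import Cfsg.Agent.TcData.HN.I1539000.T246
import Cfsg.Agent.TcData.HN.I1539000.T247
import Cfsg.Agent.TcData.HN.I1539000.T248
import Cfsg.Agent.TcData.HN.I1539000.T249
import Cfsg.Agent.TcData.HN.I1539000.T250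
import Cfsg.Agent.TcData.HN.I1539000.T251
import Cfsg.Agent.TcData.HN.I1539000.T252
import Cfsg.Agent.TcData.HN.I1539000.T253
import Cfsg.Agent.TcData.HN.I1539000.T254
import Cfsg.Agent.TcData.HN.I1539000.T255
import Cfsg.Agent.TcData.HN.I1539000.PW0
import Cfsg.Agent.TcData.HN.I1539000.PW1
import Cfsg.Agent.TcData.HN.I1539000.PW2
import Cfsg.Agent.TcData.HN.I1539000.PW3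
import Cfsg.Agent.TcData.HN.I1539000.PW4
import Cfsg.Agent.TcData.HN.I1539000.PW5
import Cfsg.Agent.TcData.HN.I1539000.PW6
import Cfsg.Agent.TcData.HN.I1539000.PW7
import Cfsg.Agent.TcData.HN.I1539000.PW8
import Cfsg.Agent.TcData.HN.I1539000.PW9
import Cfsg.Agent.TcData.HN.I1539000.PW10
import Cfsg.Agent.TcData.HN.I1539000.PW11
import Cfsg.Agent.TcData.HN.I1539000.PW12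
import Cfsg.Agent.TcData.HN.I1539000.PW13
import Cfsg.Agent.TcData.HN.I1539000.PW14
import Cfsg.Agent.TcData.HN.I1539000.PW15
import Cfsg.Agent.TcData.HN.I1539000.PS0
import Cfsg.Agent.TcData.HN.I1539000.PS1
import Cfsg.Agent.TcData.HN.I1539000.PS2
import Cfsg.Agent.TcData.HN.I1539000.PS3
import Cfsg.Agent.TcData.HN.I1539000.PS4
import Cfsg.Agent.TcData.HN.I1539000.PS5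
import Cfsg.Agent.TcData.HN.I1539000.PS6
import Cfsg.Agent.TcData.HN.I1539000.PS7
import Cfsg.Agent.TcData.HN.I1539000.PH0
import Cfsg.Agent.TcData.HN.I1539000.PH1
import Cfsg.Agent.TcData.HN.I1539000.PH2
import Cfsg.Agent.TcData.HN.I1539000.PH3
import Cfsg.Agent.TcData.HN.I1539000.PH4
import Cfsg.Agent.TcData.HN.I1539000.PH5
import Cfsg.Agent.TcData.HN.I1539000.PH6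
import Cfsg.Agent.TcData.HN.I1539000.PH7
import Cfsg.Agent.TcData.HN.I1539000.PH8
import Cfsg.Agent.TcData.HN.I1539000.PH9
import Cfsg.Agent.TcData.HN.I1539000.PH10
import Cfsg.Agent.TcData.HN.I1539000.PH11
import Cfsg.Agent.TcData.HN.I1539000.PH12
import Cfsg.Agent.TcData.HN.I1539000.PH13
import Cfsg.Agent.TcData.HN.I1539000.PH14
import Cfsg.Agent.TcData.HN.I1539000.PH15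

set_option autoImplicit false
set_option Elab.async false
set_option maxRecDepth 100000
set_option linter.all false

namespace Cfsg.Agent.TcData.HN.I1539000

open Cfsg.Spor Cfsg.Agent.Lib.TcFacts Cfsg.Agent.Lib.TcBits Cfsg.Agent.Lib.TcPres Cfsg.Spor.HN Cfsg.Agent.TcData.HN

/-- The generators of the subgroup. -/
abbrev SS : Set (FreeGroup Gen) := {x, y, z}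

/-- The subgroup. -/
abbrev HH : Subgroup (PresentedGroup RR) := (Subgroup.closure SS).map (PresentedGroup.mk RR)

/-- Long generators of the subgroup. -/
noncomputable def macros : List (FreeGroup Gen) := []

/-- The relators, as words in letters. -/
def Rels : List (List ℕ) := [
  [0, 0, 0, 0],
  [0, 4, 0, 4],
  [0, 0, 0, 4, 1, 4],
  [0, 0, 2, 0, 0, 3],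
  [0, 0, 2, 1, 1, 3],
  [2, 2, 2, 2, 2, 2],
  [0, 0, 2, 0, 4, 1, 4, 3],
  [0, 0, 2, 1, 4, 0, 4, 3],
  [0, 0, 2, 2, 0, 0, 3, 3],
  [0, 0, 2, 2, 1, 1, 3, 3],
  [0, 0, 2, 4, 0, 0, 4, 3],
  [0, 0, 2, 4, 0, 4, 1, 3],
  [0, 0, 2, 4, 1, 1, 4, 3],
  [0, 0, 2, 4, 1, 4, 0, 3],
  [0, 0, 3, 0, 4, 1, 4, 2],
  [0, 0, 3, 1, 4, 0, 4, 2],
  [0, 0, 3, 4, 0, 0, 4, 2],
  [0, 0, 3, 4, 0, 4, 1, 2],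
  [0, 0, 3, 4, 1, 1, 4, 2],
  [0, 0, 3, 4, 1, 4, 0, 2],
  [0, 0, 2, 2, 0, 4, 1, 4, 3, 3],
  [0, 0, 2, 2, 1, 4, 0, 4, 3, 3],
  [0, 0, 2, 2, 2, 0, 0, 3, 3, 3],
  [0, 0, 2, 2, 2, 1, 1, 3, 3, 3],
  [0, 0, 2, 2, 4, 0, 0, 4, 3, 3],
  [0, 0, 2, 2, 4, 0, 4, 1, 3, 3],
  [0, 0, 2, 2, 4, 1, 1, 4, 3, 3],
  [0, 0, 2, 2, 4, 1, 4, 0, 3, 3],
  [0, 0, 2, 4, 2, 0, 0, 3, 4, 3],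
  [0, 0, 2, 4, 2, 1, 1, 3, 4, 3],
  [0, 0, 2, 4, 3, 0, 0, 2, 4, 3],
  [0, 0, 2, 4, 3, 1, 1, 2, 4, 3],
  [0, 0, 3, 3, 0, 4, 1, 4, 2, 2],
  [0, 0, 3, 3, 1, 4, 0, 4, 2, 2],
  [0, 0, 3, 3, 4, 0, 0, 4, 2, 2],
  [0, 0, 3, 3, 4, 0, 4, 1, 2, 2],
  [0, 0, 3, 3, 4, 1, 1, 4, 2, 2],
  [0, 0, 3, 3, 4, 1, 4, 0, 2, 2],
  [0, 0, 3, 4, 2, 0, 0, 3, 4, 2],
  [0, 0, 3, 4, 2, 1, 1, 3, 4, 2],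
  [0, 0, 4, 2, 0, 4, 1, 4, 3, 4],
  [0, 0, 4, 2, 1, 4, 0, 4, 3, 4],
  [0, 0, 4, 2, 4, 0, 4, 1, 3, 4],
  [0, 0, 4, 2, 4, 1, 4, 0, 3, 4],
  [0, 0, 4, 3, 0, 4, 1, 4, 2, 4],
  [0, 0, 4, 3, 1, 4, 0, 4, 2, 4],
  [0, 0, 4, 3, 4, 0, 4, 1, 2, 4],
  [0, 0, 4, 3, 4, 1, 4, 0, 2, 4],
  [0, 0, 2, 2, 2, 0, 4, 1, 4, 3, 3, 3],
  [0, 0, 2, 2, 2, 1, 4, 0, 4, 3, 3, 3],
  [0, 0, 2, 2, 2, 4, 0, 4, 1, 3, 3, 3],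
  [0, 0, 2, 2, 2, 4, 1, 4, 0, 3, 3, 3],
  [0, 0, 2, 2, 4, 2, 0, 0, 3, 4, 3, 3],
  [0, 0, 2, 2, 4, 2, 1, 1, 3, 4, 3, 3],
  [0, 0, 2, 2, 4, 3, 0, 0, 2, 4, 3, 3],
  [0, 0, 2, 2, 4, 3, 1, 1, 2, 4, 3, 3],
  [0, 0, 2, 4, 2, 0, 4, 1, 4, 3, 4, 3],
  [0, 0, 2, 4, 2, 1, 4, 0, 4, 3, 4, 3],
  [0, 0, 2, 4, 2, 2, 0, 0, 3, 3, 4, 3],
  [0, 0, 2, 4, 2, 2, 1, 1, 3, 3, 4, 3],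
  [0, 0, 2, 4, 2, 4, 0, 0, 4, 3, 4, 3],
  [0, 0, 2, 4, 2, 4, 0, 4, 1, 3, 4, 3],
  [0, 0, 2, 4, 2, 4, 1, 1, 4, 3, 4, 3],
  [0, 0, 2, 4, 2, 4, 1, 4, 0, 3, 4, 3],
  [0, 0, 2, 4, 3, 0, 4, 1, 4, 2, 4, 3],
  [0, 0, 2, 4, 3, 1, 4, 0, 4, 2, 4, 3],
  [0, 0, 2, 4, 3, 4, 0, 0, 4, 2, 4, 3],
  [0, 0, 2, 4, 3, 4, 0, 4, 1, 2, 4, 3],
  [0, 0, 2, 4, 3, 4, 1, 1, 4, 2, 4, 3],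
  [0, 0, 2, 4, 3, 4, 1, 4, 0, 2, 4, 3],
  [0, 0, 3, 3, 3, 4, 0, 0, 4, 2, 2, 2],
  [0, 0, 3, 3, 3, 4, 1, 1, 4, 2, 2, 2],
  [0, 0, 3, 3, 4, 2, 0, 0, 3, 4, 2, 2],
  [0, 0, 3, 3, 4, 2, 1, 1, 3, 4, 2, 2],
  [0, 0, 3, 4, 2, 0, 4, 1, 4, 3, 4, 2],
  [0, 0, 3, 4, 2, 1, 4, 0, 4, 3, 4, 2],
  [0, 0, 3, 4, 2, 4, 0, 0, 4, 3, 4, 2],
  [0, 0, 3, 4, 2, 4, 0, 4, 1, 3, 4, 2],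
  [0, 0, 3, 4, 2, 4, 1, 1, 4, 3, 4, 2],
  [0, 0, 3, 4, 2, 4, 1, 4, 0, 3, 4, 2],
  [0, 0, 3, 4, 3, 0, 4, 1, 4, 2, 4, 2],
  [0, 0, 3, 4, 3, 1, 4, 0, 4, 2, 4, 2],
  [0, 0, 3, 4, 3, 4, 0, 0, 4, 2, 4, 2],
  [0, 0, 3, 4, 3, 4, 0, 4, 1, 2, 4, 2],
  [0, 0, 3, 4, 3, 4, 1, 1, 4, 2, 4, 2],
  [0, 0, 3, 4, 3, 4, 1, 4, 0, 2, 4, 2],
  [0, 0, 4, 2, 2, 0, 4, 1, 4, 3, 3, 4],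
  [0, 0, 4, 2, 2, 1, 4, 0, 4, 3, 3, 4],
  [0, 0, 4, 2, 2, 4, 0, 4, 1, 3, 3, 4],
  [0, 0, 4, 2, 2, 4, 1, 4, 0, 3, 3, 4],
  [0, 0, 4, 3, 3, 0, 4, 1, 4, 2, 2, 4],
  [0, 0, 4, 3, 3, 1, 4, 0, 4, 2, 2, 4],
  [0, 0, 4, 3, 3, 4, 0, 4, 1, 2, 2, 4],
  [0, 0, 4, 3, 3, 4, 1, 4, 0, 2, 2, 4],
  [0, 2, 0, 3, 0, 2, 0, 3, 0, 2, 1, 3],
  [0, 2, 0, 3, 0, 2, 0, 3, 1, 2, 0, 3],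
  [0, 2, 0, 3, 0, 2, 1, 3, 1, 2, 1, 3],
  [0, 2, 0, 3, 1, 2, 0, 3, 1, 2, 1, 3],
  [0, 2, 0, 3, 1, 2, 1, 3, 0, 2, 1, 3],
  [0, 2, 0, 3, 4, 2, 0, 3, 0, 2, 4, 3],
  [0, 2, 0, 3, 4, 2, 1, 3, 1, 2, 4, 3],
  [0, 2, 0, 4, 3, 0, 4, 2, 1, 4, 3, 4],
  [0, 2, 0, 4, 3, 0, 4, 2, 4, 0, 3, 4],
  [0, 2, 0, 4, 3, 1, 4, 2, 0, 4, 3, 4],
  [0, 2, 0, 4, 3, 1, 4, 2, 4, 1, 3, 4],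
  [0, 2, 0, 4, 3, 4, 0, 2, 4, 1, 3, 4],
  [0, 2, 0, 4, 3, 4, 1, 2, 4, 0, 3, 4],
  [0, 2, 1, 3, 4, 2, 0, 3, 1, 2, 4, 3],
  [0, 2, 1, 3, 4, 2, 1, 3, 0, 2, 4, 3],
  [0, 2, 1, 4, 3, 0, 4, 2, 0, 4, 3, 4],
  [0, 2, 1, 4, 3, 1, 4, 2, 1, 4, 3, 4],
  [0, 2, 1, 4, 3, 4, 0, 2, 4, 0, 3, 4],
  [0, 2, 1, 4, 3, 4, 1, 2, 4, 1, 3, 4],
  [0, 2, 4, 0, 3, 0, 4, 2, 0, 4, 3, 4],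
  [0, 2, 4, 0, 3, 0, 4, 2, 4, 1, 3, 4],
  [0, 2, 4, 0, 3, 4, 1, 2, 0, 4, 3, 4],
  [0, 2, 4, 1, 3, 0, 4, 2, 1, 4, 3, 4],
  [0, 2, 4, 1, 3, 0, 4, 2, 4, 0, 3, 4],
  [0, 2, 4, 1, 3, 4, 1, 2, 1, 4, 3, 4],
  [0, 2, 4, 3, 1, 2, 0, 3, 4, 2, 1, 3],
  [0, 2, 4, 3, 1, 2, 1, 3, 4, 2, 0, 3],
  [0, 2, 4, 3, 4, 2, 1, 3, 4, 2, 4, 3],
  [0, 3, 0, 4, 2, 1, 4, 3, 0, 4, 2, 4],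
  [0, 3, 0, 4, 2, 1, 4, 3, 4, 1, 2, 4],
  [0, 3, 0, 4, 2, 4, 0, 3, 4, 1, 2, 4],
  [0, 4, 2, 0, 4, 3, 0, 4, 2, 4, 1, 3],
  [0, 4, 2, 0, 4, 3, 4, 1, 2, 0, 4, 3],
  [0, 4, 2, 0, 4, 3, 4, 1, 2, 4, 1, 3],
  [2, 4, 3, 4, 2, 4, 3, 4, 2, 4, 3, 4],
  [0, 0, 0, 2, 4, 3, 4, 2, 0, 3, 4, 2, 4, 3],
  [0, 0, 0, 3, 4, 2, 4, 3, 0, 2, 4, 3, 4, 2],
  [0, 0, 2, 2, 2, 4, 2, 0, 0, 3, 4, 3, 3, 3],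
  [0, 0, 2, 2, 2, 4, 2, 1, 1, 3, 4, 3, 3, 3],
  [0, 0, 2, 2, 2, 4, 3, 0, 0, 2, 4, 3, 3, 3],
  [0, 0, 2, 2, 2, 4, 3, 1, 1, 2, 4, 3, 3, 3],
  [0, 0, 2, 2, 4, 2, 0, 4, 1, 4, 3, 4, 3, 3],
  [0, 0, 2, 2, 4, 2, 1, 4, 0, 4, 3, 4, 3, 3],
  [0, 0, 2, 2, 4, 2, 2, 0, 0, 3, 3, 4, 3, 3],
  [0, 0, 2, 2, 4, 2, 2, 1, 1, 3, 3, 4, 3, 3],
  [0, 0, 2, 2, 4, 2, 4, 0, 0, 4, 3, 4, 3, 3],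
  [0, 0, 2, 2, 4, 2, 4, 0, 4, 1, 3, 4, 3, 3],
  [0, 0, 2, 2, 4, 2, 4, 1, 1, 4, 3, 4, 3, 3],
  [0, 0, 2, 2, 4, 2, 4, 1, 4, 0, 3, 4, 3, 3],
  [0, 0, 2, 2, 4, 3, 0, 4, 1, 4, 2, 4, 3, 3],
  [0, 0, 2, 2, 4, 3, 1, 4, 0, 4, 2, 4, 3, 3],
  [0, 0, 2, 2, 4, 3, 3, 0, 0, 2, 2, 4, 3, 3],
  [0, 0, 2, 2, 4, 3, 3, 1, 1, 2, 2, 4, 3, 3],
  [0, 0, 2, 2, 4, 3, 4, 0, 0, 4, 2, 4, 3, 3],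
  [0, 0, 2, 2, 4, 3, 4, 0, 4, 1, 2, 4, 3, 3],
  [0, 0, 2, 2, 4, 3, 4, 1, 1, 4, 2, 4, 3, 3],
  [0, 0, 2, 2, 4, 3, 4, 1, 4, 0, 2, 4, 3, 3],
  [0, 0, 2, 4, 2, 2, 0, 4, 1, 4, 3, 3, 4, 3],
  [0, 0, 2, 4, 2, 2, 1, 4, 0, 4, 3, 3, 4, 3],
  [0, 0, 2, 4, 2, 2, 2, 0, 0, 3, 3, 3, 4, 3],
  [0, 0, 2, 4, 2, 2, 2, 1, 1, 3, 3, 3, 4, 3],
  [0, 0, 2, 4, 2, 2, 4, 0, 0, 4, 3, 3, 4, 3],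
  [0, 0, 2, 4, 2, 2, 4, 0, 4, 1, 3, 3, 4, 3],
  [0, 0, 2, 4, 2, 2, 4, 1, 1, 4, 3, 3, 4, 3],
  [0, 0, 2, 4, 2, 2, 4, 1, 4, 0, 3, 3, 4, 3],
  [0, 0, 2, 4, 2, 4, 2, 0, 0, 3, 4, 3, 4, 3],
  [0, 0, 2, 4, 2, 4, 2, 1, 1, 3, 4, 3, 4, 3],
  [0, 0, 2, 4, 2, 4, 3, 0, 0, 2, 4, 3, 4, 3],
  [0, 0, 2, 4, 2, 4, 3, 1, 1, 2, 4, 3, 4, 3],
  [0, 0, 2, 4, 3, 3, 0, 4, 1, 4, 2, 2, 4, 3],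
  [0, 0, 2, 4, 3, 3, 1, 4, 0, 4, 2, 2, 4, 3],
  [0, 0, 2, 4, 3, 3, 4, 0, 0, 4, 2, 2, 4, 3],
  [0, 0, 2, 4, 3, 3, 4, 0, 4, 1, 2, 2, 4, 3],
  [0, 0, 2, 4, 3, 3, 4, 1, 1, 4, 2, 2, 4, 3],
  [0, 0, 2, 4, 3, 3, 4, 1, 4, 0, 2, 2, 4, 3],
  [0, 0, 3, 3, 3, 4, 2, 0, 0, 3, 4, 2, 2, 2],
  [0, 0, 3, 3, 3, 4, 2, 1, 1, 3, 4, 2, 2, 2],
  [0, 0, 3, 3, 4, 2, 0, 4, 1, 4, 3, 4, 2, 2],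
  [0, 0, 3, 3, 4, 2, 1, 4, 0, 4, 3, 4, 2, 2],
  [0, 0, 3, 3, 4, 2, 2, 0, 0, 3, 3, 4, 2, 2],
  [0, 0, 3, 3, 4, 2, 2, 1, 1, 3, 3, 4, 2, 2],
  [0, 0, 3, 3, 4, 2, 4, 0, 0, 4, 3, 4, 2, 2],
  [0, 0, 3, 3, 4, 2, 4, 0, 4, 1, 3, 4, 2, 2],
  [0, 0, 3, 3, 4, 2, 4, 1, 1, 4, 3, 4, 2, 2],
  [0, 0, 3, 3, 4, 2, 4, 1, 4, 0, 3, 4, 2, 2],
  [0, 0, 3, 3, 4, 3, 0, 4, 1, 4, 2, 4, 2, 2],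
  [0, 0, 3, 3, 4, 3, 1, 4, 0, 4, 2, 4, 2, 2],
  [0, 0, 3, 3, 4, 3, 4, 0, 0, 4, 2, 4, 2, 2],
  [0, 0, 3, 3, 4, 3, 4, 0, 4, 1, 2, 4, 2, 2],
  [0, 0, 3, 3, 4, 3, 4, 1, 1, 4, 2, 4, 2, 2],
  [0, 0, 3, 3, 4, 3, 4, 1, 4, 0, 2, 4, 2, 2],
  [0, 0, 3, 4, 2, 2, 0, 4, 1, 4, 3, 3, 4, 2],
  [0, 0, 3, 4, 2, 2, 1, 4, 0, 4, 3, 3, 4, 2],
  [0, 0, 3, 4, 2, 2, 4, 0, 0, 4, 3, 3, 4, 2],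
  [0, 0, 3, 4, 2, 2, 4, 0, 4, 1, 3, 3, 4, 2],
  [0, 0, 3, 4, 2, 2, 4, 1, 1, 4, 3, 3, 4, 2],
  [0, 0, 3, 4, 2, 2, 4, 1, 4, 0, 3, 3, 4, 2],
  [0, 0, 3, 4, 2, 4, 2, 0, 0, 3, 4, 3, 4, 2],
  [0, 0, 3, 4, 2, 4, 2, 1, 1, 3, 4, 3, 4, 2],
  [0, 0, 3, 4, 3, 3, 0, 4, 1, 4, 2, 2, 4, 2],
  [0, 0, 3, 4, 3, 3, 1, 4, 0, 4, 2, 2, 4, 2],
  [0, 0, 3, 4, 3, 3, 4, 0, 0, 4, 2, 2, 4, 2],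
  [0, 0, 3, 4, 3, 3, 4, 0, 4, 1, 2, 2, 4, 2],
  [0, 0, 3, 4, 3, 3, 4, 1, 1, 4, 2, 2, 4, 2],
  [0, 0, 3, 4, 3, 3, 4, 1, 4, 0, 2, 2, 4, 2],
  [0, 0, 4, 2, 2, 2, 0, 4, 1, 4, 3, 3, 3, 4],
  [0, 0, 4, 2, 2, 2, 1, 4, 0, 4, 3, 3, 3, 4],
  [0, 0, 4, 2, 2, 2, 4, 0, 4, 1, 3, 3, 3, 4],
  [0, 0, 4, 2, 2, 2, 4, 1, 4, 0, 3, 3, 3, 4],
  [0, 0, 4, 2, 4, 2, 0, 4, 1, 4, 3, 4, 3, 4],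
  [0, 0, 4, 2, 4, 2, 1, 4, 0, 4, 3, 4, 3, 4],
  [0, 0, 4, 2, 4, 2, 4, 0, 4, 1, 3, 4, 3, 4],
  [0, 0, 4, 2, 4, 2, 4, 1, 4, 0, 3, 4, 3, 4],
  [0, 0, 4, 2, 4, 3, 0, 4, 1, 4, 2, 4, 3, 4],
  [0, 0, 4, 2, 4, 3, 1, 4, 0, 4, 2, 4, 3, 4],
  [0, 0, 4, 2, 4, 3, 4, 0, 4, 1, 2, 4, 3, 4],
  [0, 0, 4, 2, 4, 3, 4, 1, 4, 0, 2, 4, 3, 4],
  [0, 0, 4, 3, 4, 2, 0, 4, 1, 4, 3, 4, 2, 4],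
  [0, 0, 4, 3, 4, 2, 1, 4, 0, 4, 3, 4, 2, 4],
  [0, 0, 4, 3, 4, 2, 4, 0, 4, 1, 3, 4, 2, 4],
  [0, 0, 4, 3, 4, 2, 4, 1, 4, 0, 3, 4, 2, 4],
  [0, 0, 4, 3, 4, 3, 0, 4, 1, 4, 2, 4, 2, 4],
  [0, 0, 4, 3, 4, 3, 1, 4, 0, 4, 2, 4, 2, 4],
  [0, 0, 4, 3, 4, 3, 4, 0, 4, 1, 2, 4, 2, 4],
  [0, 0, 4, 3, 4, 3, 4, 1, 4, 0, 2, 4, 2, 4],
  [0, 2, 0, 3, 0, 2, 4, 0, 4, 3, 1, 2, 1, 3],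
  [0, 2, 0, 3, 0, 2, 4, 1, 4, 3, 0, 2, 1, 3],
  [0, 2, 0, 3, 0, 4, 2, 0, 3, 0, 2, 4, 1, 3],
  [0, 2, 0, 3, 0, 4, 2, 1, 3, 1, 2, 4, 1, 3],
  [0, 2, 0, 3, 1, 2, 4, 0, 4, 3, 0, 2, 1, 3],
  [0, 2, 0, 3, 1, 2, 4, 1, 4, 3, 1, 2, 1, 3],
  [0, 2, 0, 3, 1, 4, 2, 0, 3, 1, 2, 4, 1, 3],
  [0, 2, 0, 3, 1, 4, 2, 1, 3, 0, 2, 4, 1, 3],
  [0, 2, 0, 3, 4, 0, 2, 1, 3, 0, 2, 0, 4, 3],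
  [0, 2, 0, 3, 4, 0, 4, 2, 0, 3, 1, 2, 1, 3],
  [0, 2, 0, 3, 4, 0, 4, 2, 1, 3, 1, 2, 0, 3],
  [0, 2, 0, 3, 4, 1, 2, 0, 3, 0, 2, 0, 4, 3],
  [0, 2, 0, 3, 4, 1, 2, 1, 3, 0, 2, 1, 4, 3],
  [0, 2, 0, 3, 4, 1, 4, 2, 0, 3, 1, 2, 0, 3],
  [0, 2, 0, 3, 4, 2, 0, 3, 4, 1, 4, 2, 4, 3],
  [0, 2, 0, 3, 4, 2, 1, 3, 4, 0, 4, 2, 4, 3],
  [0, 2, 0, 3, 4, 2, 4, 0, 4, 3, 1, 2, 4, 3],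
  [0, 2, 0, 3, 4, 2, 4, 1, 4, 3, 0, 2, 4, 3],
  [0, 2, 0, 4, 3, 0, 2, 1, 3, 4, 1, 2, 1, 3],
  [0, 2, 0, 4, 3, 0, 2, 4, 3, 4, 0, 2, 4, 3],
  [0, 2, 0, 4, 3, 1, 2, 0, 3, 4, 1, 2, 1, 3],
  [0, 2, 0, 4, 3, 1, 2, 1, 3, 4, 0, 2, 1, 3],
  [0, 2, 0, 4, 3, 1, 2, 1, 3, 4, 1, 2, 0, 3],
  [0, 2, 0, 4, 3, 1, 2, 4, 3, 4, 1, 2, 4, 3],
  [0, 2, 1, 3, 4, 0, 4, 2, 0, 3, 1, 2, 0, 3],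
  [0, 2, 1, 3, 4, 1, 2, 0, 3, 0, 2, 1, 4, 3],
  [0, 2, 1, 3, 4, 2, 0, 3, 4, 0, 4, 2, 4, 3],
  [0, 2, 1, 3, 4, 2, 0, 4, 3, 4, 2, 1, 3, 4],
  [0, 2, 1, 3, 4, 2, 1, 3, 4, 1, 4, 2, 4, 3],
  [0, 2, 1, 3, 4, 2, 4, 0, 4, 3, 0, 2, 4, 3],
  [0, 2, 1, 3, 4, 2, 4, 1, 4, 3, 1, 2, 4, 3],
  [0, 2, 1, 4, 3, 0, 2, 4, 3, 4, 1, 2, 4, 3],
  [0, 2, 1, 4, 3, 1, 2, 0, 3, 4, 1, 2, 0, 3],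
  [0, 2, 1, 4, 3, 1, 2, 1, 3, 4, 1, 2, 1, 3],
  [0, 2, 2, 0, 2, 4, 3, 0, 3, 3, 0, 3, 4, 2],
  [0, 2, 2, 0, 2, 4, 3, 1, 3, 3, 1, 3, 4, 2],
  [0, 2, 2, 1, 2, 4, 3, 0, 3, 3, 1, 3, 4, 2],
  [0, 2, 2, 1, 2, 4, 3, 1, 3, 3, 0, 3, 4, 2],
  [0, 2, 4, 0, 4, 3, 4, 2, 1, 3, 0, 2, 4, 3],
  [0, 2, 4, 1, 3, 0, 2, 4, 3, 1, 4, 2, 4, 3],
  [0, 2, 4, 1, 4, 3, 4, 2, 0, 3, 0, 2, 4, 3],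
  [0, 2, 4, 3, 0, 4, 2, 4, 3, 1, 2, 4, 1, 3],
  [0, 2, 4, 3, 1, 2, 0, 3, 4, 2, 4, 0, 4, 3],
  [0, 2, 4, 3, 1, 2, 1, 3, 4, 2, 4, 1, 4, 3],
  [0, 2, 4, 3, 1, 3, 3, 0, 3, 4, 2, 1, 2, 2],
  [0, 2, 4, 3, 4, 0, 4, 2, 0, 3, 4, 2, 1, 3],
  [0, 2, 4, 3, 4, 0, 4, 2, 1, 3, 4, 2, 0, 3],
  [0, 2, 4, 3, 4, 1, 4, 2, 0, 3, 4, 2, 0, 3],
  [0, 2, 4, 3, 4, 1, 4, 2, 1, 3, 4, 2, 1, 3],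
  [0, 2, 4, 3, 4, 2, 1, 4, 3, 4, 2, 4, 3, 4],
  [0, 2, 4, 3, 4, 2, 4, 0, 4, 3, 4, 2, 4, 3],
  [0, 3, 0, 4, 2, 0, 3, 4, 2, 4, 0, 3, 4, 2],
  [0, 3, 0, 4, 2, 1, 3, 4, 2, 4, 1, 3, 4, 2],
  [0, 3, 3, 0, 3, 4, 2, 1, 2, 2, 1, 2, 4, 3],
  [0, 3, 4, 1, 2, 0, 3, 4, 2, 1, 4, 3, 4, 2],
  [0, 3, 4, 2, 0, 4, 3, 4, 2, 1, 3, 4, 1, 2],
  [0, 3, 4, 2, 4, 3, 4, 0, 4, 2, 4, 3, 4, 2],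
  [0, 4, 2, 4, 3, 4, 2, 4, 1, 3, 4, 2, 4, 3],
  [0, 0, 0, 2, 4, 3, 4, 2, 4, 1, 4, 3, 4, 2, 4, 3],
  [0, 0, 0, 3, 4, 2, 4, 3, 4, 1, 4, 2, 4, 3, 4, 2],
  [0, 0, 2, 0, 2, 4, 3, 4, 2, 0, 3, 4, 2, 4, 3, 3],
  [0, 0, 2, 1, 2, 4, 3, 4, 2, 1, 3, 4, 2, 4, 3, 3],
  [0, 0, 2, 2, 2, 4, 2, 0, 4, 1, 4, 3, 4, 3, 3, 3],
  [0, 0, 2, 2, 2, 4, 2, 1, 4, 0, 4, 3, 4, 3, 3, 3],
  [0, 0, 2, 2, 2, 4, 2, 2, 0, 0, 3, 3, 4, 3, 3, 3],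
  [0, 0, 2, 2, 2, 4, 2, 2, 1, 1, 3, 3, 4, 3, 3, 3],
  [0, 0, 2, 2, 2, 4, 2, 4, 0, 4, 1, 3, 4, 3, 3, 3],
  [0, 0, 2, 2, 2, 4, 2, 4, 1, 4, 0, 3, 4, 3, 3, 3],
  [0, 0, 2, 2, 2, 4, 3, 0, 4, 1, 4, 2, 4, 3, 3, 3],
  [0, 0, 2, 2, 2, 4, 3, 1, 4, 0, 4, 2, 4, 3, 3, 3],
  [0, 0, 2, 2, 2, 4, 3, 3, 0, 0, 2, 2, 4, 3, 3, 3],
  [0, 0, 2, 2, 2, 4, 3, 3, 1, 1, 2, 2, 4, 3, 3, 3],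
  [0, 0, 2, 2, 2, 4, 3, 4, 0, 4, 1, 2, 4, 3, 3, 3],
  [0, 0, 2, 2, 2, 4, 3, 4, 1, 4, 0, 2, 4, 3, 3, 3],
  [0, 0, 2, 2, 4, 2, 2, 0, 4, 1, 4, 3, 3, 4, 3, 3],
  [0, 0, 2, 2, 4, 2, 2, 1, 4, 0, 4, 3, 3, 4, 3, 3],
  [0, 0, 2, 2, 4, 2, 2, 2, 0, 0, 3, 3, 3, 4, 3, 3],
  [0, 0, 2, 2, 4, 2, 2, 2, 1, 1, 3, 3, 3, 4, 3, 3],
  [0, 0, 2, 2, 4, 2, 2, 4, 0, 0, 4, 3, 3, 4, 3, 3],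
  [0, 0, 2, 2, 4, 2, 2, 4, 0, 4, 1, 3, 3, 4, 3, 3],
  [0, 0, 2, 2, 4, 2, 2, 4, 1, 1, 4, 3, 3, 4, 3, 3],
  [0, 0, 2, 2, 4, 2, 2, 4, 1, 4, 0, 3, 3, 4, 3, 3],
  [0, 0, 2, 2, 4, 2, 4, 2, 0, 0, 3, 4, 3, 4, 3, 3],
  [0, 0, 2, 2, 4, 2, 4, 2, 1, 1, 3, 4, 3, 4, 3, 3],
  [0, 0, 2, 2, 4, 2, 4, 3, 0, 0, 2, 4, 3, 4, 3, 3],
  [0, 0, 2, 2, 4, 2, 4, 3, 1, 1, 2, 4, 3, 4, 3, 3],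
  [0, 0, 2, 2, 4, 3, 3, 0, 4, 1, 4, 2, 2, 4, 3, 3],
  [0, 0, 2, 2, 4, 3, 3, 1, 4, 0, 4, 2, 2, 4, 3, 3],
  [0, 0, 2, 2, 4, 3, 3, 4, 0, 0, 4, 2, 2, 4, 3, 3],
  [0, 0, 2, 2, 4, 3, 3, 4, 0, 4, 1, 2, 2, 4, 3, 3],
  [0, 0, 2, 2, 4, 3, 3, 4, 1, 1, 4, 2, 2, 4, 3, 3],
  [0, 0, 2, 2, 4, 3, 3, 4, 1, 4, 0, 2, 2, 4, 3, 3],
  [0, 0, 2, 2, 4, 3, 4, 2, 0, 0, 3, 4, 2, 4, 3, 3],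
  [0, 0, 2, 2, 4, 3, 4, 2, 0, 3, 4, 2, 4, 3, 0, 3],
  [0, 0, 2, 2, 4, 3, 4, 2, 1, 1, 3, 4, 2, 4, 3, 3],
  [0, 0, 2, 2, 4, 3, 4, 2, 1, 3, 4, 2, 4, 3, 1, 3],
  [0, 0, 2, 2, 4, 3, 4, 3, 0, 0, 2, 4, 2, 4, 3, 3],
  [0, 0, 2, 2, 4, 3, 4, 3, 1, 1, 2, 4, 2, 4, 3, 3],
  [0, 0, 2, 4, 2, 2, 2, 0, 4, 1, 4, 3, 3, 3, 4, 3],
  [0, 0, 2, 4, 2, 2, 2, 1, 4, 0, 4, 3, 3, 3, 4, 3],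
  [0, 0, 2, 4, 2, 2, 2, 4, 0, 4, 1, 3, 3, 3, 4, 3],
  [0, 0, 2, 4, 2, 2, 2, 4, 1, 4, 0, 3, 3, 3, 4, 3],
  [0, 0, 2, 4, 2, 2, 4, 2, 0, 0, 3, 4, 3, 3, 4, 3],
  [0, 0, 2, 4, 2, 2, 4, 2, 1, 1, 3, 4, 3, 3, 4, 3],
  [0, 0, 2, 4, 2, 2, 4, 3, 0, 0, 2, 4, 3, 3, 4, 3],
  [0, 0, 2, 4, 2, 2, 4, 3, 1, 1, 2, 4, 3, 3, 4, 3],
  [0, 0, 2, 4, 2, 4, 2, 0, 4, 1, 4, 3, 4, 3, 4, 3],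
  [0, 0, 2, 4, 2, 4, 2, 1, 4, 0, 4, 3, 4, 3, 4, 3],
  [0, 0, 2, 4, 2, 4, 2, 2, 0, 0, 3, 3, 4, 3, 4, 3],
  [0, 0, 2, 4, 2, 4, 2, 2, 1, 1, 3, 3, 4, 3, 4, 3],
  [0, 0, 2, 4, 2, 4, 2, 4, 0, 0, 4, 3, 4, 3, 4, 3],
  [0, 0, 2, 4, 2, 4, 2, 4, 0, 4, 1, 3, 4, 3, 4, 3],
  [0, 0, 2, 4, 2, 4, 2, 4, 1, 1, 4, 3, 4, 3, 4, 3],
  [0, 0, 2, 4, 2, 4, 2, 4, 1, 4, 0, 3, 4, 3, 4, 3],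
  [0, 0, 2, 4, 2, 4, 3, 0, 4, 1, 4, 2, 4, 3, 4, 3],
  [0, 0, 2, 4, 2, 4, 3, 1, 4, 0, 4, 2, 4, 3, 4, 3],
  [0, 0, 2, 4, 2, 4, 3, 4, 0, 0, 4, 2, 4, 3, 4, 3],
  [0, 0, 2, 4, 2, 4, 3, 4, 0, 4, 1, 2, 4, 3, 4, 3],
  [0, 0, 2, 4, 2, 4, 3, 4, 1, 1, 4, 2, 4, 3, 4, 3],
  [0, 0, 2, 4, 2, 4, 3, 4, 1, 4, 0, 2, 4, 3, 4, 3],
  [0, 0, 2, 4, 3, 3, 3, 4, 0, 0, 4, 2, 2, 2, 4, 3],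
  [0, 0, 2, 4, 3, 3, 3, 4, 1, 1, 4, 2, 2, 2, 4, 3],
  [0, 0, 2, 4, 3, 3, 4, 2, 0, 0, 3, 4, 2, 2, 4, 3],
  [0, 0, 2, 4, 3, 3, 4, 2, 1, 1, 3, 4, 2, 2, 4, 3],
  [0, 0, 2, 4, 3, 4, 2, 2, 0, 0, 3, 3, 4, 2, 4, 3],
  [0, 0, 2, 4, 3, 4, 2, 2, 1, 1, 3, 3, 4, 2, 4, 3],
  [0, 0, 2, 4, 3, 4, 3, 0, 4, 1, 4, 2, 4, 2, 4, 3],
  [0, 0, 2, 4, 3, 4, 3, 1, 4, 0, 4, 2, 4, 2, 4, 3],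
  [0, 0, 2, 4, 3, 4, 3, 4, 0, 0, 4, 2, 4, 2, 4, 3],
  [0, 0, 2, 4, 3, 4, 3, 4, 0, 4, 1, 2, 4, 2, 4, 3],
  [0, 0, 2, 4, 3, 4, 3, 4, 1, 1, 4, 2, 4, 2, 4, 3],
  [0, 0, 2, 4, 3, 4, 3, 4, 1, 4, 0, 2, 4, 2, 4, 3],
  [0, 0, 3, 0, 3, 4, 2, 4, 3, 0, 2, 4, 3, 4, 2, 2],
  [0, 0, 3, 1, 3, 4, 2, 4, 3, 1, 2, 4, 3, 4, 2, 2],
  [0, 0, 3, 3, 3, 4, 2, 2, 0, 0, 3, 3, 4, 2, 2, 2],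
  [0, 0, 3, 3, 3, 4, 2, 2, 1, 1, 3, 3, 4, 2, 2, 2],
  [0, 0, 3, 3, 3, 4, 2, 4, 0, 0, 4, 3, 4, 2, 2, 2],
  [0, 0, 3, 3, 3, 4, 2, 4, 1, 1, 4, 3, 4, 2, 2, 2],
  [0, 0, 3, 3, 3, 4, 3, 4, 0, 0, 4, 2, 4, 2, 2, 2],
  [0, 0, 3, 3, 3, 4, 3, 4, 1, 1, 4, 2, 4, 2, 2, 2],
  [0, 0, 3, 3, 4, 2, 2, 0, 4, 1, 4, 3, 3, 4, 2, 2],
  [0, 0, 3, 3, 4, 2, 2, 1, 4, 0, 4, 3, 3, 4, 2, 2],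
  [0, 0, 3, 3, 4, 2, 2, 4, 0, 0, 4, 3, 3, 4, 2, 2],
  [0, 0, 3, 3, 4, 2, 2, 4, 0, 4, 1, 3, 3, 4, 2, 2],
  [0, 0, 3, 3, 4, 2, 2, 4, 1, 1, 4, 3, 3, 4, 2, 2],
  [0, 0, 3, 3, 4, 2, 2, 4, 1, 4, 0, 3, 3, 4, 2, 2],
  [0, 0, 3, 3, 4, 2, 4, 2, 0, 0, 3, 4, 3, 4, 2, 2],
  [0, 0, 3, 3, 4, 2, 4, 2, 1, 1, 3, 4, 3, 4, 2, 2],
  [0, 0, 3, 3, 4, 2, 4, 3, 0, 2, 4, 3, 4, 2, 0, 2],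
  [0, 0, 3, 3, 4, 2, 4, 3, 1, 2, 4, 3, 4, 2, 1, 2],
  [0, 0, 3, 3, 4, 3, 3, 0, 4, 1, 4, 2, 2, 4, 2, 2],
  [0, 0, 3, 3, 4, 3, 3, 1, 4, 0, 4, 2, 2, 4, 2, 2],
  [0, 0, 3, 3, 4, 3, 3, 4, 0, 0, 4, 2, 2, 4, 2, 2],
  [0, 0, 3, 3, 4, 3, 3, 4, 0, 4, 1, 2, 2, 4, 2, 2],
  [0, 0, 3, 3, 4, 3, 3, 4, 1, 1, 4, 2, 2, 4, 2, 2],
  [0, 0, 3, 3, 4, 3, 3, 4, 1, 4, 0, 2, 2, 4, 2, 2],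
  [0, 0, 3, 3, 4, 3, 4, 2, 0, 0, 3, 4, 2, 4, 2, 2],
  [0, 0, 3, 3, 4, 3, 4, 2, 1, 1, 3, 4, 2, 4, 2, 2],
  [0, 0, 3, 4, 2, 2, 2, 0, 4, 1, 4, 3, 3, 3, 4, 2],
  [0, 0, 3, 4, 2, 2, 2, 1, 4, 0, 4, 3, 3, 3, 4, 2],
  [0, 0, 3, 4, 2, 2, 2, 4, 0, 4, 1, 3, 3, 3, 4, 2],
  [0, 0, 3, 4, 2, 2, 2, 4, 1, 4, 0, 3, 3, 3, 4, 2],
  [0, 0, 3, 4, 2, 2, 4, 2, 0, 0, 3, 4, 3, 3, 4, 2],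
  [0, 0, 3, 4, 2, 2, 4, 2, 1, 1, 3, 4, 3, 3, 4, 2],
  [0, 0, 3, 4, 2, 4, 2, 0, 4, 1, 4, 3, 4, 3, 4, 2],
  [0, 0, 3, 4, 2, 4, 2, 1, 4, 0, 4, 3, 4, 3, 4, 2],
  [0, 0, 3, 4, 2, 4, 2, 4, 0, 0, 4, 3, 4, 3, 4, 2],
  [0, 0, 3, 4, 2, 4, 2, 4, 0, 4, 1, 3, 4, 3, 4, 2],
  [0, 0, 3, 4, 2, 4, 2, 4, 1, 1, 4, 3, 4, 3, 4, 2],
  [0, 0, 3, 4, 2, 4, 2, 4, 1, 4, 0, 3, 4, 3, 4, 2],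
  [0, 0, 3, 4, 3, 3, 3, 4, 0, 0, 4, 2, 2, 2, 4, 2],
  [0, 0, 3, 4, 3, 3, 3, 4, 1, 1, 4, 2, 2, 2, 4, 2],
  [0, 0, 3, 4, 3, 4, 2, 0, 4, 1, 4, 3, 4, 2, 4, 2],
  [0, 0, 3, 4, 3, 4, 2, 1, 4, 0, 4, 3, 4, 2, 4, 2],
  [0, 0, 3, 4, 3, 4, 2, 4, 0, 0, 4, 3, 4, 2, 4, 2],
  [0, 0, 3, 4, 3, 4, 2, 4, 0, 4, 1, 3, 4, 2, 4, 2],
  [0, 0, 3, 4, 3, 4, 2, 4, 1, 1, 4, 3, 4, 2, 4, 2],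
  [0, 0, 3, 4, 3, 4, 2, 4, 1, 4, 0, 3, 4, 2, 4, 2],
  [0, 0, 3, 4, 3, 4, 3, 0, 4, 1, 4, 2, 4, 2, 4, 2],
  [0, 0, 3, 4, 3, 4, 3, 1, 4, 0, 4, 2, 4, 2, 4, 2],
  [0, 0, 3, 4, 3, 4, 3, 4, 0, 0, 4, 2, 4, 2, 4, 2],
  [2, 2, 2, 2, 2, 2],
  [0, 0, 2, 0, 0, 3],
  [1, 3, 0, 2, 1, 3, 0, 2, 1, 3, 0, 2],
  [1, 2, 2, 0, 2, 2, 2, 1, 2, 2, 0, 2, 2, 2, 1, 2, 2, 0, 2, 2, 2],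
  [0, 2, 0, 2, 0, 2, 0, 2, 0, 2, 0, 2, 0, 2, 0, 2],
  [0, 2, 0, 2, 2, 2, 0, 2, 0, 2, 2, 2, 0, 2, 0, 2, 2, 2, 0, 2, 0, 2, 2, 2],
  [4, 4],
  [4, 0, 4, 0],
  [4, 2, 1, 3, 3, 1, 3, 1, 3, 4, 2, 0, 2, 0, 2, 2, 0, 3, 1, 1],
  [4, 3, 1, 3, 1, 3, 3, 3, 4, 2, 2, 2, 0, 2, 0, 2, 0, 3, 1, 3, 1, 3, 3, 3, 4, 2, 2, 2, 0, 2, 0, 2, 0, 3, 1, 3, 1, 3, 3, 3, 4, 2, 2, 2, 0, 2, 0, 2, 0],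
  [5, 5, 5, 5, 5],
  [1, 5, 0, 5, 5],
  [6, 3, 5, 2],
  [4, 5, 4, 5, 4, 5],
  [1, 1, 1, 1],
  [4, 1, 4, 1],
  [4, 0, 4, 1, 1, 1],
  [2, 1, 1, 3, 1, 1],
  [2, 0, 0, 3, 1, 1],
  [3, 3, 3, 3, 3, 3],
  [2, 4, 0, 4, 1, 3, 1, 1],
  [2, 4, 1, 4, 0, 3, 1, 1],
  [2, 2, 1, 1, 3, 3, 1, 1],
  [2, 2, 0, 0, 3, 3, 1, 1],
  [2, 4, 1, 1, 4, 3, 1, 1],
  [2, 0, 4, 1, 4, 3, 1, 1],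
  [2, 4, 0, 0, 4, 3, 1, 1],
  [2, 1, 4, 0, 4, 3, 1, 1],
  [3, 4, 0, 4, 1, 2, 1, 1],
  [3, 4, 1, 4, 0, 2, 1, 1],
  [3, 4, 1, 1, 4, 2, 1, 1],
  [3, 0, 4, 1, 4, 2, 1, 1],
  [3, 4, 0, 0, 4, 2, 1, 1],
  [3, 1, 4, 0, 4, 2, 1, 1],
  [2, 2, 4, 0, 4, 1, 3, 3, 1, 1],
  [2, 2, 4, 1, 4, 0, 3, 3, 1, 1],
  [2, 2, 2, 1, 1, 3, 3, 3, 1, 1],
  [2, 2, 2, 0, 0, 3, 3, 3, 1, 1],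
  [2, 2, 4, 1, 1, 4, 3, 3, 1, 1],
  [2, 2, 0, 4, 1, 4, 3, 3, 1, 1],
  [2, 2, 4, 0, 0, 4, 3, 3, 1, 1],
  [2, 2, 1, 4, 0, 4, 3, 3, 1, 1],
  [2, 4, 2, 1, 1, 3, 4, 3, 1, 1],
  [2, 4, 2, 0, 0, 3, 4, 3, 1, 1],
  [2, 4, 3, 1, 1, 2, 4, 3, 1, 1],
  [2, 4, 3, 0, 0, 2, 4, 3, 1, 1],
  [3, 3, 4, 0, 4, 1, 2, 2, 1, 1],
  [3, 3, 4, 1, 4, 0, 2, 2, 1, 1],
  [3, 3, 4, 1, 1, 4, 2, 2, 1, 1],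
  [3, 3, 0, 4, 1, 4, 2, 2, 1, 1],
  [3, 3, 4, 0, 0, 4, 2, 2, 1, 1],
  [3, 3, 1, 4, 0, 4, 2, 2, 1, 1],
  [3, 4, 2, 1, 1, 3, 4, 2, 1, 1],
  [3, 4, 2, 0, 0, 3, 4, 2, 1, 1],
  [4, 2, 4, 0, 4, 1, 3, 4, 1, 1],
  [4, 2, 4, 1, 4, 0, 3, 4, 1, 1],
  [4, 2, 0, 4, 1, 4, 3, 4, 1, 1],
  [4, 2, 1, 4, 0, 4, 3, 4, 1, 1],
  [4, 3, 4, 0, 4, 1, 2, 4, 1, 1],
  [4, 3, 4, 1, 4, 0, 2, 4, 1, 1],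
  [4, 3, 0, 4, 1, 4, 2, 4, 1, 1],
  [4, 3, 1, 4, 0, 4, 2, 4, 1, 1],
  [2, 2, 2, 4, 0, 4, 1, 3, 3, 3, 1, 1],
  [2, 2, 2, 4, 1, 4, 0, 3, 3, 3, 1, 1],
  [2, 2, 2, 0, 4, 1, 4, 3, 3, 3, 1, 1],
  [2, 2, 2, 1, 4, 0, 4, 3, 3, 3, 1, 1],
  [2, 2, 4, 2, 1, 1, 3, 4, 3, 3, 1, 1],
  [2, 2, 4, 2, 0, 0, 3, 4, 3, 3, 1, 1],
  [2, 2, 4, 3, 1, 1, 2, 4, 3, 3, 1, 1],
  [2, 2, 4, 3, 0, 0, 2, 4, 3, 3, 1, 1],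
  [2, 4, 2, 4, 0, 4, 1, 3, 4, 3, 1, 1],
  [2, 4, 2, 4, 1, 4, 0, 3, 4, 3, 1, 1],
  [2, 4, 2, 2, 1, 1, 3, 3, 4, 3, 1, 1],
  [2, 4, 2, 2, 0, 0, 3, 3, 4, 3, 1, 1],
  [2, 4, 2, 4, 1, 1, 4, 3, 4, 3, 1, 1],
  [2, 4, 2, 0, 4, 1, 4, 3, 4, 3, 1, 1],
  [2, 4, 2, 4, 0, 0, 4, 3, 4, 3, 1, 1],
  [2, 4, 2, 1, 4, 0, 4, 3, 4, 3, 1, 1],
  [2, 4, 3, 4, 0, 4, 1, 2, 4, 3, 1, 1],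
  [2, 4, 3, 4, 1, 4, 0, 2, 4, 3, 1, 1],
  [2, 4, 3, 4, 1, 1, 4, 2, 4, 3, 1, 1],
  [2, 4, 3, 0, 4, 1, 4, 2, 4, 3, 1, 1],
  [2, 4, 3, 4, 0, 0, 4, 2, 4, 3, 1, 1],
  [2, 4, 3, 1, 4, 0, 4, 2, 4, 3, 1, 1],
  [3, 3, 3, 4, 1, 1, 4, 2, 2, 2, 1, 1],
  [3, 3, 3, 4, 0, 0, 4, 2, 2, 2, 1, 1],
  [3, 3, 4, 2, 1, 1, 3, 4, 2, 2, 1, 1],
  [3, 3, 4, 2, 0, 0, 3, 4, 2, 2, 1, 1],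
  [3, 4, 2, 4, 0, 4, 1, 3, 4, 2, 1, 1],
  [3, 4, 2, 4, 1, 4, 0, 3, 4, 2, 1, 1],
  [3, 4, 2, 4, 1, 1, 4, 3, 4, 2, 1, 1],
  [3, 4, 2, 0, 4, 1, 4, 3, 4, 2, 1, 1],
  [3, 4, 2, 4, 0, 0, 4, 3, 4, 2, 1, 1],
  [3, 4, 2, 1, 4, 0, 4, 3, 4, 2, 1, 1],
  [3, 4, 3, 4, 0, 4, 1, 2, 4, 2, 1, 1],
  [3, 4, 3, 4, 1, 4, 0, 2, 4, 2, 1, 1],
  [3, 4, 3, 4, 1, 1, 4, 2, 4, 2, 1, 1],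
  [3, 4, 3, 0, 4, 1, 4, 2, 4, 2, 1, 1],
  [3, 4, 3, 4, 0, 0, 4, 2, 4, 2, 1, 1],
  [3, 4, 3, 1, 4, 0, 4, 2, 4, 2, 1, 1],
  [4, 2, 2, 4, 0, 4, 1, 3, 3, 4, 1, 1],
  [4, 2, 2, 4, 1, 4, 0, 3, 3, 4, 1, 1],
  [4, 2, 2, 0, 4, 1, 4, 3, 3, 4, 1, 1],
  [4, 2, 2, 1, 4, 0, 4, 3, 3, 4, 1, 1],
  [4, 3, 3, 4, 0, 4, 1, 2, 2, 4, 1, 1],
  [4, 3, 3, 4, 1, 4, 0, 2, 2, 4, 1, 1],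
  [4, 3, 3, 0, 4, 1, 4, 2, 2, 4, 1, 1],
  [4, 3, 3, 1, 4, 0, 4, 2, 2, 4, 1, 1],
  [2, 0, 3, 1, 2, 1, 3, 1, 2, 1, 3, 1],
  [2, 1, 3, 0, 2, 1, 3, 1, 2, 1, 3, 1],
  [2, 0, 3, 0, 2, 0, 3, 1, 2, 1, 3, 1],
  [2, 0, 3, 0, 2, 1, 3, 0, 2, 1, 3, 1],
  [2, 0, 3, 1, 2, 0, 3, 0, 2, 1, 3, 1],
  [2, 4, 3, 1, 2, 1, 3, 4, 2, 1, 3, 1],
  [2, 4, 3, 0, 2, 0, 3, 4, 2, 1, 3, 1],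
  [4, 2, 4, 0, 3, 4, 1, 2, 4, 1, 3, 1],
  [4, 2, 1, 4, 3, 4, 1, 2, 4, 1, 3, 1],
  [4, 2, 4, 1, 3, 4, 0, 2, 4, 1, 3, 1],
  [4, 2, 0, 4, 3, 4, 0, 2, 4, 1, 3, 1],
  [4, 2, 0, 4, 3, 1, 4, 2, 4, 1, 3, 1],
  [4, 2, 1, 4, 3, 0, 4, 2, 4, 1, 3, 1],
  [2, 4, 3, 0, 2, 1, 3, 4, 2, 0, 3, 1],
  [2, 4, 3, 1, 2, 0, 3, 4, 2, 0, 3, 1],
  [4, 2, 4, 1, 3, 4, 1, 2, 4, 0, 3, 1],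
  [4, 2, 4, 0, 3, 4, 0, 2, 4, 0, 3, 1],
  [4, 2, 1, 4, 3, 1, 4, 2, 4, 0, 3, 1],
  [4, 2, 0, 4, 3, 0, 4, 2, 4, 0, 3, 1],
  [4, 2, 4, 1, 3, 4, 1, 2, 1, 4, 3, 1],
  [4, 2, 0, 4, 3, 4, 1, 2, 1, 4, 3, 1],
  [4, 2, 4, 1, 3, 0, 4, 2, 1, 4, 3, 1],
  [4, 2, 4, 0, 3, 4, 1, 2, 0, 4, 3, 1],
  [4, 2, 1, 4, 3, 4, 1, 2, 0, 4, 3, 1],
  [4, 2, 4, 0, 3, 0, 4, 2, 0, 4, 3, 1],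
  [2, 0, 3, 4, 2, 1, 3, 0, 2, 4, 3, 1],
  [2, 1, 3, 4, 2, 0, 3, 0, 2, 4, 3, 1],
  [2, 4, 3, 4, 2, 0, 3, 4, 2, 4, 3, 1],
  [4, 3, 4, 1, 2, 4, 0, 3, 4, 1, 2, 1],
  [4, 3, 0, 4, 2, 4, 0, 3, 4, 1, 2, 1],
  [4, 3, 0, 4, 2, 1, 4, 3, 4, 1, 2, 1],
  [2, 0, 4, 3, 4, 1, 2, 4, 1, 3, 4, 1],
  [2, 4, 1, 3, 0, 4, 2, 4, 1, 3, 4, 1],
  [2, 0, 4, 3, 0, 4, 2, 4, 1, 3, 4, 1],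
  [4, 2, 4, 3, 4, 2, 4, 3, 4, 2, 4, 3],
  [2, 4, 3, 4, 2, 1, 3, 4, 2, 4, 3, 1, 1, 1],
  [3, 4, 2, 4, 3, 1, 2, 4, 3, 4, 2, 1, 1, 1],
  [2, 2, 2, 4, 2, 1, 1, 3, 4, 3, 3, 3, 1, 1],
  [2, 2, 2, 4, 2, 0, 0, 3, 4, 3, 3, 3, 1, 1],
  [2, 2, 2, 4, 3, 1, 1, 2, 4, 3, 3, 3, 1, 1],
  [2, 2, 2, 4, 3, 0, 0, 2, 4, 3, 3, 3, 1, 1],
  [2, 2, 4, 2, 4, 0, 4, 1, 3, 4, 3, 3, 1, 1],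
  [2, 2, 4, 2, 4, 1, 4, 0, 3, 4, 3, 3, 1, 1],
  [2, 2, 4, 2, 2, 1, 1, 3, 3, 4, 3, 3, 1, 1],
  [2, 2, 4, 2, 2, 0, 0, 3, 3, 4, 3, 3, 1, 1],
  [2, 2, 4, 2, 4, 1, 1, 4, 3, 4, 3, 3, 1, 1],
  [2, 2, 4, 2, 0, 4, 1, 4, 3, 4, 3, 3, 1, 1],
  [2, 2, 4, 2, 4, 0, 0, 4, 3, 4, 3, 3, 1, 1],
  [2, 2, 4, 2, 1, 4, 0, 4, 3, 4, 3, 3, 1, 1],
  [2, 2, 4, 3, 4, 0, 4, 1, 2, 4, 3, 3, 1, 1],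
  [2, 2, 4, 3, 4, 1, 4, 0, 2, 4, 3, 3, 1, 1],
  [2, 2, 4, 3, 3, 1, 1, 2, 2, 4, 3, 3, 1, 1],
  [2, 2, 4, 3, 3, 0, 0, 2, 2, 4, 3, 3, 1, 1],
  [2, 2, 4, 3, 4, 1, 1, 4, 2, 4, 3, 3, 1, 1],
  [2, 2, 4, 3, 0, 4, 1, 4, 2, 4, 3, 3, 1, 1],
  [2, 2, 4, 3, 4, 0, 0, 4, 2, 4, 3, 3, 1, 1],
  [2, 2, 4, 3, 1, 4, 0, 4, 2, 4, 3, 3, 1, 1],
  [2, 4, 2, 2, 4, 0, 4, 1, 3, 3, 4, 3, 1, 1],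
  [2, 4, 2, 2, 4, 1, 4, 0, 3, 3, 4, 3, 1, 1],
  [2, 4, 2, 2, 2, 1, 1, 3, 3, 3, 4, 3, 1, 1],
  [2, 4, 2, 2, 2, 0, 0, 3, 3, 3, 4, 3, 1, 1],
  [2, 4, 2, 2, 4, 1, 1, 4, 3, 3, 4, 3, 1, 1],
  [2, 4, 2, 2, 0, 4, 1, 4, 3, 3, 4, 3, 1, 1],
  [2, 4, 2, 2, 4, 0, 0, 4, 3, 3, 4, 3, 1, 1],
  [2, 4, 2, 2, 1, 4, 0, 4, 3, 3, 4, 3, 1, 1],
  [2, 4, 2, 4, 2, 1, 1, 3, 4, 3, 4, 3, 1, 1],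
  [2, 4, 2, 4, 2, 0, 0, 3, 4, 3, 4, 3, 1, 1],
  [2, 4, 2, 4, 3, 1, 1, 2, 4, 3, 4, 3, 1, 1],
  [2, 4, 2, 4, 3, 0, 0, 2, 4, 3, 4, 3, 1, 1],
  [2, 4, 3, 3, 4, 0, 4, 1, 2, 2, 4, 3, 1, 1],
  [2, 4, 3, 3, 4, 1, 4, 0, 2, 2, 4, 3, 1, 1],
  [2, 4, 3, 3, 4, 1, 1, 4, 2, 2, 4, 3, 1, 1],
  [2, 4, 3, 3, 0, 4, 1, 4, 2, 2, 4, 3, 1, 1],
  [2, 4, 3, 3, 4, 0, 0, 4, 2, 2, 4, 3, 1, 1],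
  [2, 4, 3, 3, 1, 4, 0, 4, 2, 2, 4, 3, 1, 1],
  [3, 3, 3, 4, 2, 1, 1, 3, 4, 2, 2, 2, 1, 1],
  [3, 3, 3, 4, 2, 0, 0, 3, 4, 2, 2, 2, 1, 1],
  [3, 3, 4, 2, 4, 0, 4, 1, 3, 4, 2, 2, 1, 1],
  [3, 3, 4, 2, 4, 1, 4, 0, 3, 4, 2, 2, 1, 1],
  [3, 3, 4, 2, 2, 1, 1, 3, 3, 4, 2, 2, 1, 1],
  [3, 3, 4, 2, 2, 0, 0, 3, 3, 4, 2, 2, 1, 1],
  [3, 3, 4, 2, 4, 1, 1, 4, 3, 4, 2, 2, 1, 1],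
  [3, 3, 4, 2, 0, 4, 1, 4, 3, 4, 2, 2, 1, 1],
  [3, 3, 4, 2, 4, 0, 0, 4, 3, 4, 2, 2, 1, 1],
  [3, 3, 4, 2, 1, 4, 0, 4, 3, 4, 2, 2, 1, 1],
  [3, 3, 4, 3, 4, 0, 4, 1, 2, 4, 2, 2, 1, 1],
  [3, 3, 4, 3, 4, 1, 4, 0, 2, 4, 2, 2, 1, 1],
  [3, 3, 4, 3, 4, 1, 1, 4, 2, 4, 2, 2, 1, 1],
  [3, 3, 4, 3, 0, 4, 1, 4, 2, 4, 2, 2, 1, 1],
  [3, 3, 4, 3, 4, 0, 0, 4, 2, 4, 2, 2, 1, 1],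
  [3, 3, 4, 3, 1, 4, 0, 4, 2, 4, 2, 2, 1, 1],
  [3, 4, 2, 2, 4, 0, 4, 1, 3, 3, 4, 2, 1, 1],
  [3, 4, 2, 2, 4, 1, 4, 0, 3, 3, 4, 2, 1, 1],
  [3, 4, 2, 2, 4, 1, 1, 4, 3, 3, 4, 2, 1, 1],
  [3, 4, 2, 2, 0, 4, 1, 4, 3, 3, 4, 2, 1, 1],
  [3, 4, 2, 2, 4, 0, 0, 4, 3, 3, 4, 2, 1, 1],
  [3, 4, 2, 2, 1, 4, 0, 4, 3, 3, 4, 2, 1, 1],
  [3, 4, 2, 4, 2, 1, 1, 3, 4, 3, 4, 2, 1, 1],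
  [3, 4, 2, 4, 2, 0, 0, 3, 4, 3, 4, 2, 1, 1],
  [3, 4, 3, 3, 4, 0, 4, 1, 2, 2, 4, 2, 1, 1],
  [3, 4, 3, 3, 4, 1, 4, 0, 2, 2, 4, 2, 1, 1],
  [3, 4, 3, 3, 4, 1, 1, 4, 2, 2, 4, 2, 1, 1],
  [3, 4, 3, 3, 0, 4, 1, 4, 2, 2, 4, 2, 1, 1],
  [3, 4, 3, 3, 4, 0, 0, 4, 2, 2, 4, 2, 1, 1],
  [3, 4, 3, 3, 1, 4, 0, 4, 2, 2, 4, 2, 1, 1],
  [4, 2, 2, 2, 4, 0, 4, 1, 3, 3, 3, 4, 1, 1],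
  [4, 2, 2, 2, 4, 1, 4, 0, 3, 3, 3, 4, 1, 1],
  [4, 2, 2, 2, 0, 4, 1, 4, 3, 3, 3, 4, 1, 1],
  [4, 2, 2, 2, 1, 4, 0, 4, 3, 3, 3, 4, 1, 1],
  [4, 2, 4, 2, 4, 0, 4, 1, 3, 4, 3, 4, 1, 1],
  [4, 2, 4, 2, 4, 1, 4, 0, 3, 4, 3, 4, 1, 1],
  [4, 2, 4, 2, 0, 4, 1, 4, 3, 4, 3, 4, 1, 1],
  [4, 2, 4, 2, 1, 4, 0, 4, 3, 4, 3, 4, 1, 1],
  [4, 2, 4, 3, 4, 0, 4, 1, 2, 4, 3, 4, 1, 1],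
  [4, 2, 4, 3, 4, 1, 4, 0, 2, 4, 3, 4, 1, 1],
  [4, 2, 4, 3, 0, 4, 1, 4, 2, 4, 3, 4, 1, 1],
  [4, 2, 4, 3, 1, 4, 0, 4, 2, 4, 3, 4, 1, 1],
  [4, 3, 4, 2, 4, 0, 4, 1, 3, 4, 2, 4, 1, 1],
  [4, 3, 4, 2, 4, 1, 4, 0, 3, 4, 2, 4, 1, 1],
  [4, 3, 4, 2, 0, 4, 1, 4, 3, 4, 2, 4, 1, 1],
  [4, 3, 4, 2, 1, 4, 0, 4, 3, 4, 2, 4, 1, 1],
  [4, 3, 4, 3, 4, 0, 4, 1, 2, 4, 2, 4, 1, 1],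
  [4, 3, 4, 3, 4, 1, 4, 0, 2, 4, 2, 4, 1, 1],
  [4, 3, 4, 3, 0, 4, 1, 4, 2, 4, 2, 4, 1, 1],
  [4, 3, 4, 3, 1, 4, 0, 4, 2, 4, 2, 4, 1, 1],
  [2, 0, 3, 0, 2, 4, 1, 4, 3, 1, 2, 1, 3, 1],
  [2, 0, 3, 1, 2, 4, 0, 4, 3, 1, 2, 1, 3, 1],
  [2, 0, 4, 3, 1, 2, 1, 3, 4, 1, 2, 1, 3, 1],
  [2, 0, 4, 3, 0, 2, 0, 3, 4, 1, 2, 1, 3, 1],
  [2, 0, 3, 1, 2, 4, 1, 4, 3, 0, 2, 1, 3, 1],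
  [2, 0, 3, 0, 2, 4, 0, 4, 3, 0, 2, 1, 3, 1],
  [2, 0, 4, 3, 0, 2, 1, 3, 4, 0, 2, 1, 3, 1],
  [2, 0, 4, 3, 1, 2, 0, 3, 4, 0, 2, 1, 3, 1],
  [2, 4, 1, 3, 1, 2, 0, 3, 1, 4, 2, 1, 3, 1],
  [2, 0, 3, 0, 2, 1, 3, 4, 1, 4, 2, 1, 3, 1],
  [2, 1, 3, 0, 2, 0, 3, 4, 1, 4, 2, 1, 3, 1],
  [2, 4, 1, 3, 1, 2, 1, 3, 0, 4, 2, 1, 3, 1],
  [2, 4, 0, 3, 1, 2, 0, 3, 0, 4, 2, 1, 3, 1],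
  [2, 1, 3, 0, 2, 1, 3, 4, 0, 4, 2, 1, 3, 1],
  [2, 4, 3, 4, 0, 4, 2, 1, 3, 4, 2, 1, 3, 1],
  [2, 4, 3, 4, 1, 4, 2, 0, 3, 4, 2, 1, 3, 1],
  [2, 4, 3, 0, 2, 4, 1, 4, 3, 4, 2, 1, 3, 1],
  [2, 4, 3, 1, 2, 4, 0, 4, 3, 4, 2, 1, 3, 1],
  [2, 0, 3, 0, 4, 2, 0, 3, 1, 2, 4, 1, 3, 1],
  [2, 4, 3, 1, 4, 2, 4, 3, 1, 2, 4, 1, 3, 1],
  [2, 0, 3, 0, 4, 2, 1, 3, 0, 2, 4, 1, 3, 1],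
  [2, 0, 3, 1, 4, 2, 0, 3, 0, 2, 4, 1, 3, 1],
  [2, 1, 3, 0, 4, 2, 0, 3, 0, 2, 4, 1, 3, 1],
  [2, 4, 3, 0, 4, 2, 4, 3, 0, 2, 4, 1, 3, 1],
  [2, 1, 3, 0, 2, 1, 3, 4, 1, 4, 2, 0, 3, 1],
  [2, 4, 0, 3, 1, 2, 1, 3, 0, 4, 2, 0, 3, 1],
  [2, 4, 3, 4, 1, 4, 2, 1, 3, 4, 2, 0, 3, 1],
  [4, 2, 0, 3, 4, 2, 4, 1, 3, 4, 2, 0, 3, 1],
  [2, 4, 3, 4, 0, 4, 2, 0, 3, 4, 2, 0, 3, 1],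
  [2, 4, 3, 1, 2, 4, 1, 4, 3, 4, 2, 0, 3, 1],
  [2, 4, 3, 0, 2, 4, 0, 4, 3, 4, 2, 0, 3, 1],
  [2, 4, 3, 0, 4, 2, 4, 3, 1, 2, 4, 0, 3, 1],
  [2, 1, 3, 0, 4, 2, 1, 3, 0, 2, 4, 0, 3, 1],
  [2, 0, 3, 0, 4, 2, 0, 3, 0, 2, 4, 0, 3, 1],
  [3, 4, 2, 1, 2, 2, 1, 2, 4, 3, 1, 3, 3, 1],
  [3, 4, 2, 0, 2, 2, 0, 2, 4, 3, 1, 3, 3, 1],
  [3, 4, 2, 0, 2, 2, 1, 2, 4, 3, 0, 3, 3, 1],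
  [3, 4, 2, 1, 2, 2, 0, 2, 4, 3, 0, 3, 3, 1],
  [2, 4, 3, 1, 2, 0, 3, 4, 2, 4, 1, 4, 3, 1],
  [2, 4, 3, 4, 0, 2, 4, 3, 1, 2, 0, 4, 3, 1],
  [2, 4, 3, 1, 2, 1, 3, 4, 2, 4, 0, 4, 3, 1],
  [2, 0, 4, 3, 0, 2, 4, 3, 4, 1, 2, 4, 3, 1],
  [2, 4, 1, 4, 3, 4, 2, 1, 3, 0, 2, 4, 3, 1],
  [2, 4, 0, 4, 3, 4, 2, 0, 3, 0, 2, 4, 3, 1],
  [3, 3, 0, 3, 4, 2, 1, 2, 2, 0, 2, 4, 3, 1],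
  [2, 0, 3, 4, 2, 1, 3, 4, 1, 4, 2, 4, 3, 1],
  [2, 1, 3, 4, 2, 0, 3, 4, 1, 4, 2, 4, 3, 1],
  [2, 1, 3, 4, 2, 1, 3, 4, 0, 4, 2, 4, 3, 1],
  [2, 0, 3, 4, 2, 0, 3, 4, 0, 4, 2, 4, 3, 1],
  [4, 2, 4, 3, 4, 2, 4, 0, 3, 4, 2, 4, 3, 1],
  [2, 4, 3, 4, 2, 4, 1, 4, 3, 4, 2, 4, 3, 1],
  [3, 4, 2, 1, 4, 3, 4, 2, 1, 3, 4, 1, 2, 1],
  [3, 4, 2, 0, 4, 3, 4, 2, 0, 3, 4, 1, 2, 1],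
  [2, 4, 3, 0, 3, 3, 0, 3, 4, 2, 1, 2, 2, 1],
  [3, 4, 2, 4, 0, 3, 4, 2, 1, 3, 0, 4, 2, 1],
  [3, 0, 4, 2, 0, 3, 4, 2, 4, 1, 3, 4, 2, 1],
  [3, 4, 2, 4, 3, 4, 1, 4, 2, 4, 3, 4, 2, 1],
  [2, 4, 3, 4, 2, 0, 4, 3, 4, 2, 4, 3, 4, 1],
  [2, 4, 3, 4, 2, 4, 0, 4, 3, 4, 2, 4, 3, 1, 1, 1],
  [3, 4, 2, 4, 3, 4, 0, 4, 2, 4, 3, 4, 2, 1, 1, 1],
  [2, 2, 4, 3, 4, 2, 1, 3, 4, 2, 4, 3, 1, 3, 1, 1],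
  [2, 2, 4, 3, 4, 2, 0, 3, 4, 2, 4, 3, 0, 3, 1, 1],
  [2, 2, 2, 4, 2, 4, 0, 4, 1, 3, 4, 3, 3, 3, 1, 1],
  [2, 2, 2, 4, 2, 4, 1, 4, 0, 3, 4, 3, 3, 3, 1, 1],
  [2, 2, 2, 4, 2, 2, 1, 1, 3, 3, 4, 3, 3, 3, 1, 1],
  [2, 2, 2, 4, 2, 2, 0, 0, 3, 3, 4, 3, 3, 3, 1, 1],
  [2, 2, 2, 4, 2, 0, 4, 1, 4, 3, 4, 3, 3, 3, 1, 1],
  [2, 2, 2, 4, 2, 1, 4, 0, 4, 3, 4, 3, 3, 3, 1, 1],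
  [2, 2, 2, 4, 3, 4, 0, 4, 1, 2, 4, 3, 3, 3, 1, 1],
  [2, 2, 2, 4, 3, 4, 1, 4, 0, 2, 4, 3, 3, 3, 1, 1],
  [2, 2, 2, 4, 3, 3, 1, 1, 2, 2, 4, 3, 3, 3, 1, 1],
  [2, 2, 2, 4, 3, 3, 0, 0, 2, 2, 4, 3, 3, 3, 1, 1],
  [2, 2, 2, 4, 3, 0, 4, 1, 4, 2, 4, 3, 3, 3, 1, 1],
  [2, 2, 2, 4, 3, 1, 4, 0, 4, 2, 4, 3, 3, 3, 1, 1],
  [2, 2, 4, 2, 2, 4, 0, 4, 1, 3, 3, 4, 3, 3, 1, 1],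
  [2, 2, 4, 2, 2, 4, 1, 4, 0, 3, 3, 4, 3, 3, 1, 1],
  [2, 2, 4, 2, 2, 2, 1, 1, 3, 3, 3, 4, 3, 3, 1, 1],
  [2, 2, 4, 2, 2, 2, 0, 0, 3, 3, 3, 4, 3, 3, 1, 1],
  [2, 2, 4, 2, 2, 4, 1, 1, 4, 3, 3, 4, 3, 3, 1, 1],
  [2, 2, 4, 2, 2, 0, 4, 1, 4, 3, 3, 4, 3, 3, 1, 1],
  [2, 2, 4, 2, 2, 4, 0, 0, 4, 3, 3, 4, 3, 3, 1, 1],
  [2, 2, 4, 2, 2, 1, 4, 0, 4, 3, 3, 4, 3, 3, 1, 1],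
  [2, 2, 4, 2, 4, 2, 1, 1, 3, 4, 3, 4, 3, 3, 1, 1],
  [2, 2, 4, 2, 4, 2, 0, 0, 3, 4, 3, 4, 3, 3, 1, 1],
  [2, 2, 4, 2, 4, 3, 1, 1, 2, 4, 3, 4, 3, 3, 1, 1],
  [2, 2, 4, 2, 4, 3, 0, 0, 2, 4, 3, 4, 3, 3, 1, 1],
  [2, 2, 4, 3, 3, 4, 0, 4, 1, 2, 2, 4, 3, 3, 1, 1],
  [2, 2, 4, 3, 3, 4, 1, 4, 0, 2, 2, 4, 3, 3, 1, 1],
  [2, 2, 4, 3, 3, 4, 1, 1, 4, 2, 2, 4, 3, 3, 1, 1],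
  [2, 2, 4, 3, 3, 0, 4, 1, 4, 2, 2, 4, 3, 3, 1, 1],
  [2, 2, 4, 3, 3, 4, 0, 0, 4, 2, 2, 4, 3, 3, 1, 1],
  [2, 2, 4, 3, 3, 1, 4, 0, 4, 2, 2, 4, 3, 3, 1, 1],
  [2, 2, 4, 3, 4, 2, 1, 1, 3, 4, 2, 4, 3, 3, 1, 1],
  [2, 1, 2, 4, 3, 4, 2, 1, 3, 4, 2, 4, 3, 3, 1, 1],
  [2, 2, 4, 3, 4, 2, 0, 0, 3, 4, 2, 4, 3, 3, 1, 1],
  [2, 0, 2, 4, 3, 4, 2, 0, 3, 4, 2, 4, 3, 3, 1, 1],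
  [2, 2, 4, 3, 4, 3, 1, 1, 2, 4, 2, 4, 3, 3, 1, 1],
  [2, 2, 4, 3, 4, 3, 0, 0, 2, 4, 2, 4, 3, 3, 1, 1],
  [2, 4, 2, 2, 2, 4, 0, 4, 1, 3, 3, 3, 4, 3, 1, 1],
  [2, 4, 2, 2, 2, 4, 1, 4, 0, 3, 3, 3, 4, 3, 1, 1],
  [2, 4, 2, 2, 2, 0, 4, 1, 4, 3, 3, 3, 4, 3, 1, 1],
  [2, 4, 2, 2, 2, 1, 4, 0, 4, 3, 3, 3, 4, 3, 1, 1],
  [2, 4, 2, 2, 4, 2, 1, 1, 3, 4, 3, 3, 4, 3, 1, 1],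
  [2, 4, 2, 2, 4, 2, 0, 0, 3, 4, 3, 3, 4, 3, 1, 1],
  [2, 4, 2, 2, 4, 3, 1, 1, 2, 4, 3, 3, 4, 3, 1, 1],
  [2, 4, 2, 2, 4, 3, 0, 0, 2, 4, 3, 3, 4, 3, 1, 1],
  [2, 4, 2, 4, 2, 4, 0, 4, 1, 3, 4, 3, 4, 3, 1, 1],
  [2, 4, 2, 4, 2, 4, 1, 4, 0, 3, 4, 3, 4, 3, 1, 1],
  [2, 4, 2, 4, 2, 2, 1, 1, 3, 3, 4, 3, 4, 3, 1, 1],
  [2, 4, 2, 4, 2, 2, 0, 0, 3, 3, 4, 3, 4, 3, 1, 1],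
  [2, 4, 2, 4, 2, 4, 1, 1, 4, 3, 4, 3, 4, 3, 1, 1],
  [2, 4, 2, 4, 2, 0, 4, 1, 4, 3, 4, 3, 4, 3, 1, 1],
  [2, 4, 2, 4, 2, 4, 0, 0, 4, 3, 4, 3, 4, 3, 1, 1],
  [2, 4, 2, 4, 2, 1, 4, 0, 4, 3, 4, 3, 4, 3, 1, 1],
  [2, 4, 2, 4, 3, 4, 0, 4, 1, 2, 4, 3, 4, 3, 1, 1],
  [2, 4, 2, 4, 3, 4, 1, 4, 0, 2, 4, 3, 4, 3, 1, 1],
  [2, 4, 2, 4, 3, 4, 1, 1, 4, 2, 4, 3, 4, 3, 1, 1],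
  [2, 4, 2, 4, 3, 0, 4, 1, 4, 2, 4, 3, 4, 3, 1, 1],
  [2, 4, 2, 4, 3, 4, 0, 0, 4, 2, 4, 3, 4, 3, 1, 1],
  [2, 4, 2, 4, 3, 1, 4, 0, 4, 2, 4, 3, 4, 3, 1, 1],
  [2, 4, 3, 3, 3, 4, 1, 1, 4, 2, 2, 2, 4, 3, 1, 1],
  [2, 4, 3, 3, 3, 4, 0, 0, 4, 2, 2, 2, 4, 3, 1, 1],
  [2, 4, 3, 3, 4, 2, 1, 1, 3, 4, 2, 2, 4, 3, 1, 1],
  [2, 4, 3, 3, 4, 2, 0, 0, 3, 4, 2, 2, 4, 3, 1, 1],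
  [2, 4, 3, 4, 2, 2, 1, 1, 3, 3, 4, 2, 4, 3, 1, 1],
  [2, 4, 3, 4, 2, 2, 0, 0, 3, 3, 4, 2, 4, 3, 1, 1],
  [2, 4, 3, 4, 3, 4, 0, 4, 1, 2, 4, 2, 4, 3, 1, 1],
  [2, 4, 3, 4, 3, 4, 1, 4, 0, 2, 4, 2, 4, 3, 1, 1],
  [2, 4, 3, 4, 3, 4, 1, 1, 4, 2, 4, 2, 4, 3, 1, 1],
  [2, 4, 3, 4, 3, 0, 4, 1, 4, 2, 4, 2, 4, 3, 1, 1],
  [2, 4, 3, 4, 3, 4, 0, 0, 4, 2, 4, 2, 4, 3, 1, 1],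
  [2, 4, 3, 4, 3, 1, 4, 0, 4, 2, 4, 2, 4, 3, 1, 1],
  [3, 3, 4, 2, 4, 3, 1, 2, 4, 3, 4, 2, 1, 2, 1, 1],
  [3, 3, 4, 2, 4, 3, 0, 2, 4, 3, 4, 2, 0, 2, 1, 1],
  [3, 3, 3, 4, 2, 2, 1, 1, 3, 3, 4, 2, 2, 2, 1, 1],
  [3, 3, 3, 4, 2, 2, 0, 0, 3, 3, 4, 2, 2, 2, 1, 1],
  [3, 3, 3, 4, 2, 4, 1, 1, 4, 3, 4, 2, 2, 2, 1, 1],
  [3, 3, 3, 4, 2, 4, 0, 0, 4, 3, 4, 2, 2, 2, 1, 1],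
  [3, 3, 3, 4, 3, 4, 1, 1, 4, 2, 4, 2, 2, 2, 1, 1],
  [3, 3, 3, 4, 3, 4, 0, 0, 4, 2, 4, 2, 2, 2, 1, 1],
  [3, 3, 4, 2, 2, 4, 0, 4, 1, 3, 3, 4, 2, 2, 1, 1],
  [3, 3, 4, 2, 2, 4, 1, 4, 0, 3, 3, 4, 2, 2, 1, 1],
  [3, 3, 4, 2, 2, 4, 1, 1, 4, 3, 3, 4, 2, 2, 1, 1],
  [3, 3, 4, 2, 2, 0, 4, 1, 4, 3, 3, 4, 2, 2, 1, 1],
  [3, 3, 4, 2, 2, 4, 0, 0, 4, 3, 3, 4, 2, 2, 1, 1],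
  [3, 3, 4, 2, 2, 1, 4, 0, 4, 3, 3, 4, 2, 2, 1, 1],
  [3, 3, 4, 2, 4, 2, 1, 1, 3, 4, 3, 4, 2, 2, 1, 1],
  [3, 3, 4, 2, 4, 2, 0, 0, 3, 4, 3, 4, 2, 2, 1, 1],
  [3, 1, 3, 4, 2, 4, 3, 1, 2, 4, 3, 4, 2, 2, 1, 1],
  [3, 0, 3, 4, 2, 4, 3, 0, 2, 4, 3, 4, 2, 2, 1, 1],
  [3, 3, 4, 3, 3, 4, 0, 4, 1, 2, 2, 4, 2, 2, 1, 1],
  [3, 3, 4, 3, 3, 4, 1, 4, 0, 2, 2, 4, 2, 2, 1, 1],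
  [3, 3, 4, 3, 3, 4, 1, 1, 4, 2, 2, 4, 2, 2, 1, 1],
  [3, 3, 4, 3, 3, 0, 4, 1, 4, 2, 2, 4, 2, 2, 1, 1],
  [3, 3, 4, 3, 3, 4, 0, 0, 4, 2, 2, 4, 2, 2, 1, 1],
  [3, 3, 4, 3, 3, 1, 4, 0, 4, 2, 2, 4, 2, 2, 1, 1],
  [3, 3, 4, 3, 4, 2, 1, 1, 3, 4, 2, 4, 2, 2, 1, 1],
  [3, 3, 4, 3, 4, 2, 0, 0, 3, 4, 2, 4, 2, 2, 1, 1],
  [3, 4, 2, 2, 2, 4, 0, 4, 1, 3, 3, 3, 4, 2, 1, 1],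
  [3, 4, 2, 2, 2, 4, 1, 4, 0, 3, 3, 3, 4, 2, 1, 1],
  [3, 4, 2, 2, 2, 0, 4, 1, 4, 3, 3, 3, 4, 2, 1, 1],
  [3, 4, 2, 2, 2, 1, 4, 0, 4, 3, 3, 3, 4, 2, 1, 1],
  [3, 4, 2, 2, 4, 2, 1, 1, 3, 4, 3, 3, 4, 2, 1, 1],
  [3, 4, 2, 2, 4, 2, 0, 0, 3, 4, 3, 3, 4, 2, 1, 1],
  [3, 4, 2, 4, 2, 4, 0, 4, 1, 3, 4, 3, 4, 2, 1, 1],
  [3, 4, 2, 4, 2, 4, 1, 4, 0, 3, 4, 3, 4, 2, 1, 1],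
  [3, 4, 2, 4, 2, 4, 1, 1, 4, 3, 4, 3, 4, 2, 1, 1],
  [3, 4, 2, 4, 2, 0, 4, 1, 4, 3, 4, 3, 4, 2, 1, 1],
  [3, 4, 2, 4, 2, 4, 0, 0, 4, 3, 4, 3, 4, 2, 1, 1],
  [3, 4, 2, 4, 2, 1, 4, 0, 4, 3, 4, 3, 4, 2, 1, 1],
  [3, 4, 3, 3, 3, 4, 1, 1, 4, 2, 2, 2, 4, 2, 1, 1],
  [3, 4, 3, 3, 3, 4, 0, 0, 4, 2, 2, 2, 4, 2, 1, 1],
  [3, 4, 3, 4, 2, 4, 0, 4, 1, 3, 4, 2, 4, 2, 1, 1],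
  [3, 4, 3, 4, 2, 4, 1, 4, 0, 3, 4, 2, 4, 2, 1, 1],
  [3, 4, 3, 4, 2, 4, 1, 1, 4, 3, 4, 2, 4, 2, 1, 1],
  [3, 4, 3, 4, 2, 0, 4, 1, 4, 3, 4, 2, 4, 2, 1, 1],
  [3, 4, 3, 4, 2, 4, 0, 0, 4, 3, 4, 2, 4, 2, 1, 1],
  [3, 4, 3, 4, 2, 1, 4, 0, 4, 3, 4, 2, 4, 2, 1, 1],
  [3, 4, 3, 4, 3, 4, 0, 4, 1, 2, 4, 2, 4, 2, 1, 1],
  [3, 4, 3, 4, 3, 4, 1, 4, 0, 2, 4, 2, 4, 2, 1, 1],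
  [3, 4, 3, 4, 3, 4, 1, 1, 4, 2, 4, 2, 4, 2, 1, 1],
  [3, 3, 3, 3, 3, 3],
  [2, 1, 1, 3, 1, 1],
  [3, 1, 2, 0, 3, 1, 2, 0, 3, 1, 2, 0],
  [3, 3, 3, 1, 3, 3, 0, 3, 3, 3, 1, 3, 3, 0, 3, 3, 3, 1, 3, 3, 0],
  [3, 1, 3, 1, 3, 1, 3, 1, 3, 1, 3, 1, 3, 1, 3, 1],
  [3, 3, 3, 1, 3, 1, 3, 3, 3, 1, 3, 1, 3, 3, 3, 1, 3, 1, 3, 3, 3, 1, 3, 1],
  [4, 4],
  [1, 4, 1, 4],
  [0, 0, 2, 1, 3, 3, 1, 3, 1, 3, 4, 2, 0, 2, 0, 2, 2, 0, 3, 4],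
  [1, 3, 1, 3, 1, 3, 3, 3, 4, 2, 2, 2, 0, 2, 0, 2, 1, 3, 1, 3, 1, 3, 3, 3, 4, 2, 2, 2, 0, 2, 0, 2, 1, 3, 1, 3, 1, 3, 3, 3, 4, 2, 2, 2, 0, 2, 0, 2, 4],
  [6, 6, 6, 6, 6],
  [6, 6, 1, 6, 0],
  [3, 6, 2, 5],
  [6, 4, 6, 4, 6, 4],
  [0, 1],
  [1, 0],
  [2, 3],
  [3, 2],
  [4, 4],
  [4, 4],
  [5, 6],
  [6, 5]]

/-- The table. -/
noncomputable def T : Tr := (.node (.node (.node (.node (.node (.node (.node (.node S0 S128) (.node S64 S192)) (.node (.node S32 S160) (.node S96 S224))) (.node (.node (.node S16 S144) (.node S80 S208)) (.node (.node S48 S176) (.node S112 S240)))) (.node (.node (.node (.node S8 S136) (.node S72 S200)) (.node (.node S40 S168) (.node S104 S232))) (.node (.node (.node S24 S152) (.node S88 S216))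 (.node (.node S56 S184) (.node S120 S248))))) (.node (.node (.node (.node (.node S4 S132) (.node S68 S196)) (.node (.node S36 S164) (.node S100 S228))) (.node (.node (.node S20 S148) (.node S84 S212)) (.node (.node S52 S180) (.node S116 S244)))) (.node (.node (.node (.node S12 S140) (.node S76 S204)) (.node (.node S44 S172) (.node S108 S236))) (.node (.node (.node S28 S156) (.node S92 S220)) (.node (.node S60 S188) (.node S124 S252)))))) (.node (.node (.node (.node (.node (.node S2 S130) (.node S66 S194)) (.node (.node S34 S162) (.node S98 S226))) (.node (.node (.node S18 S146) (.node S82 S210)) (.node (.node S50 S178) (.node S114 S242)))) (.node (.node (.node (.node S10 S138) (.node S74 S202)) (.node (.node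 S42 S170) (.node S106 S234))) (.node (.node (.node S26 S154) (.node S90 S218)) (.node (.node S58 S186) (.node S122 S250))))) (.node (.node (.node (.node (.node S6 S134) (.node S70 S198)) (.node (.node S38 S166) (.node S102 S230))) (.node (.node (.node S22 S150) (.node S86 S214)) (.node (.node S54 S182) (.node S118 S246)))) (.node (.node (.node (.node S14 S142) (.node S78 S206)) (.node (.node S46 S174) (.node S110 S238))) (.node (.node (.node S30 S158) (.node S94 S222)) (.node (.node S62 S190) (.node S126 S254))))))) (.node (.node (.node (.node (.node (.node (.node S1 S129) (.node S65 S193)) (.node (.node S33 S161) (.node S97 S225))) (.node (.node (.node S17 S145) (.node S81 S209)) (.node (.node S49 S177) (.node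 S113 S241)))) (.node (.node (.node (.node S9 S137) (.node S73 S201)) (.node (.node S41 S169) (.node S105 S233))) (.node (.node (.node S25 S153) (.node S89 S217)) (.node (.node S57 S185) (.node S121 S249))))) (.node (.node (.node (.node (.node S5 S133) (.node S69 S197)) (.node (.node S37 S165) (.node S101 S229))) (.node (.node (.node S21 S149) (.node S85 S213)) (.node (.node S53 S181) (.node S117 S245)))) (.node (.node (.node (.node S13 S141) (.node S77 S205)) (.node (.node S45 S173) (.node S109 S237))) (.node (.node (.node S29 S157) (.node S93 S221)) (.node (.node S61 S189) (.node S125 S253)))))) (.node (.node (.node (.node (.node (.node S3 S131) (.node S67 S195)) (.node (.node S35 S163) (.node S99 S227))) (.node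 (.node (.node S19 S147) (.node S83 S211)) (.node (.node S51 S179) (.node S115 S243)))) (.node (.node (.node (.node S11 S139) (.node S75 S203)) (.node (.node S43 S171) (.node S107 S235))) (.node (.node (.node S27 S155) (.node S91 S219)) (.node (.node S59 S187) (.node S123 S251))))) (.node (.node (.node (.node (.node S7 S135) (.node S71 S199)) (.node (.node S39 S167) (.node S103 S231))) (.node (.node (.node S23 S151) (.node S87 S215)) (.node (.node S55 S183) (.node S119 S247)))) (.node (.node (.node (.node S15 S143) (.node S79 S207)) (.node (.node S47 S175) (.node S111 S239))) (.node (.node (.node S31 S159) (.node S95 S223)) (.node (.node S63 S191) (.node S127 S255))))))))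

/-- The words. -/
noncomputable def WT : Tr := (.node (.node (.node (.node PW0 PW8) (.node PW4 PW12)) (.node (.node PW2 PW10) (.node PW6 PW14))) (.node (.node (.node PW1 PW9) (.node PW5 PW13)) (.node (.node PW3 PW11) (.node PW7 PW15))))

/-- Side data. -/
noncomputable def ST : Tr := (.node (.node (.node PS0 PS4) (.node PS2 PS6)) (.node (.node PS1 PS5) (.node PS3 PS7)))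

/-- Hints for the words. -/
noncomputable def HT : Tr := (.node (.node (.node (.node PH0 PH8) (.node PH4 PH12)) (.node (.node PH2 PH10) (.node PH6 PH14))) (.node (.node (.node PH1 PH9) (.node PH5 PH13)) (.node (.node PH3 PH11) (.node PH7 PH15))))

/-- An entry of the table. -/
noncomputable def ent (u a : ℕ) : ℕ :=
  Nat.land
    (Nat.shiftRight
      (Nat.rec (motive := fun _ => ℕ) (Tr.get T 0) (fun m _ => Tr.get T (Nat.succ m))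
        (Nat.shiftRight u 4))
      (Nat.add (Nat.mul (Nat.land u 15) 558) (Nat.mul a 62)))
    4611686018427387903

/-- The parent of a label. -/
noncomputable def pa (v : ℕ) : ℕ := ent v 8

/-- A word. -/
noncomputable def wd (k : ℕ) : ℕ := Tr.get WT k

/-- Side data. -/
noncomputable def side (k : ℕ) : ℕ :=
  Nat.land
    (Nat.shiftRight
      (Nat.rec (motive := fun _ => ℕ) (Tr.get ST 0) (fun m _ => Tr.get ST (Nat.succ m))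
        (Nat.shiftRight k 5))
      (Nat.mul (Nat.land k 31) 47))
    140737488355327

/-- A hint. -/
noncomputable def hint (k : ℕ) : ℕ := Tr.get HT k

/-- The letters of the subgroup. -/
def baseL : List ℕ := [0, 2, 4]

/-- Is a letter in the subgroup. -/
noncomputable def base (a : ℕ) : Bool := baseL.contains a

/-- The check of a row. -/
noncomputable def F : ℕ → Bool :=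
  rowF ent pa wd side base 7 2097151 21 38 1606399 4 15 8 50 131071 6848 2097152 16777216

/-- Being alive. -/
noncomputable def al : ℕ → Bool := aliveB ent 7 2097152

end Cfsg.Agent.TcData.HN.I1539000
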