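import Mathlib
import Cfsg.Agent.TcData.HN.I1539000.Tab

set_option autoImplicit false
set_option Elab.async false
set_option maxRecDepth 100000
set_option linter.all false

namespace Cfsg.Agent.TcData.HN.I1539000

open Cfsg.Spor Cfsg.Agent.Lib.TcFacts Cfsg.Agent.Lib.TcBits Cfsg.Agent.Lib.TcPres Cfsg.Spor.HN Cfsg.Agent.TcData.HN

theorem b0 : Block F al 0 256 253 :=
  block_of_check (k := 8) rfl (by decide +kernel)

theorem b1 : Block F al 256 512 246 :=
  block_of_check (k := 8) rfl (by decide +kernel)

theorem b2 : Block F al 512 768 229 :=
  block_of_check (k := 8) rfl (by decide +kernel)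

theorem b3 : Block F al 768 1024 214 :=
  block_of_check (k := 8) rfl (by decide +kernel)

theorem b4 : Block F al 1024 1280 190 :=
  block_of_check (k := 8) rfl (by decide +kernel)

theorem b5 : Block F al 1280 1536 233 :=
  block_of_check (k := 8) rfl (by decide +kernel)

theorem b6 : Block F al 1536 1792 198 :=
  block_of_check (k := 8) rfl (by decide +kernel)

theorem b7 : Block F al 1792 2048 185 :=
  block_of_check (k := 8) rfl (by decide +kernel)

theorem b8 : Block F al 2048 2304 156 :=
  block_of_check (k := 8) rfl (by decide +kernel)

theorem b9 : Block F al 2304 2560 187 :=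
  block_of_check (k := 8) rfl (by decide +kernel)

theorem b10 : Block F al 2560 2816 216 :=
  block_of_check (k := 8) rfl (by decide +kernel)

theorem b11 : Block F al 2816 3072 170 :=
  block_of_check (k := 8) rfl (by decide +kernel)

theorem b12 : Block F al 3072 3328 179 :=
  block_of_check (k := 8) rfl (by decide +kernel)

theorem b13 : Block F al 3328 3584 129 :=
  block_of_check (k := 8) rfl (by decide +kernel)

theorem b14 : Block F al 3584 3840 179 :=
  block_of_check (k := 8) rfl (by decide +kernel)

theorem b15 : Block F al 3840 4096 204 :=
  block_of_check (k := 8) rfl (by decide +kernel)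

theorem b16 : Block F al 4096 4352 191 :=
  block_of_check (k := 8) rfl (by decide +kernel)

theorem b17 : Block F al 4352 4608 215 :=
  block_of_check (k := 8) rfl (by decide +kernel)

theorem b18 : Block F al 4608 4864 151 :=
  block_of_check (k := 8) rfl (by decide +kernel)

theorem b19 : Block F al 4864 5120 154 :=
  block_of_check (k := 8) rfl (by decide +kernel)

theorem b20 : Block F al 5120 5376 187 :=
  block_of_check (k := 8) rfl (by decide +kernel)

theorem b21 : Block F al 5376 5632 105 :=
  block_of_check (k := 8) rfl (by decide +kernel)

theorem b22 : Block F al 5632 5888 189 :=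
  block_of_check (k := 8) rfl (by decide +kernel)

theorem b23 : Block F al 5888 6144 153 :=
  block_of_check (k := 8) rfl (by decide +kernel)

theorem b24 : Block F al 6144 6400 146 :=
  block_of_check (k := 8) rfl (by decide +kernel)

theorem b25 : Block F al 6400 6656 139 :=
  block_of_check (k := 8) rfl (by decide +kernel)

theorem b26 : Block F al 6656 6912 172 :=
  block_of_check (k := 8) rfl (by decide +kernel)

theorem b27 : Block F al 6912 7168 181 :=
  block_of_check (k := 8) rfl (by decide +kernel)

theorem b28 : Block F al 7168 7424 203 :=
  block_of_check (k := 8) rfl (by decide +kernel)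

theorem b29 : Block F al 7424 7680 222 :=
  block_of_check (k := 8) rfl (by decide +kernel)

theorem b30 : Block F al 7680 7936 143 :=
  block_of_check (k := 8) rfl (by decide +kernel)

theorem b31 : Block F al 7936 8192 170 :=
  block_of_check (k := 8) rfl (by decide +kernel)

theorem b32 : Block F al 8192 8448 139 :=
  block_of_check (k := 8) rfl (by decide +kernel)

theorem b33 : Block F al 8448 8704 168 :=
  block_of_check (k := 8) rfl (by decide +kernel)

theorem b34 : Block F al 8704 8960 165 :=
  block_of_check (k := 8) rfl (by decide +kernel)

theorem b35 : Block F al 8960 9216 173 :=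
  block_of_check (k := 8) rfl (by decide +kernel)

theorem b36 : Block F al 9216 9472 157 :=
  block_of_check (k := 8) rfl (by decide +kernel)

theorem b37 : Block F al 9472 9728 71 :=
  block_of_check (k := 8) rfl (by decide +kernel)

theorem b38 : Block F al 9728 9984 158 :=
  block_of_check (k := 8) rfl (by decide +kernel)

theorem b39 : Block F al 9984 10240 146 :=
  block_of_check (k := 8) rfl (by decide +kernel)

theorem b40 : Block F al 10240 10496 179 :=
  block_of_check (k := 8) rfl (by decide +kernel)

theorem b41 : Block F al 10496 10752 178 :=
  block_of_check (k := 8) rfl (by decide +kernel)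

theorem b42 : Block F al 10752 11008 195 :=
  block_of_check (k := 8) rfl (by decide +kernel)

theorem b43 : Block F al 11008 11264 158 :=
  block_of_check (k := 8) rfl (by decide +kernel)

theorem b44 : Block F al 11264 11520 150 :=
  block_of_check (k := 8) rfl (by decide +kernel)

theorem b45 : Block F al 11520 11776 172 :=
  block_of_check (k := 8) rfl (by decide +kernel)

theorem b46 : Block F al 11776 12032 192 :=
  block_of_check (k := 8) rfl (by decide +kernel)

theorem b47 : Block F al 12032 12288 176 :=
  block_of_check (k := 8) rfl (by decide +kernel)

theorem b48 : Block F al 12288 12544 178 :=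
  block_of_check (k := 8) rfl (by decide +kernel)

theorem b49 : Block F al 12544 12800 195 :=
  block_of_check (k := 8) rfl (by decide +kernel)

theorem b50 : Block F al 12800 13056 117 :=
  block_of_check (k := 8) rfl (by decide +kernel)

theorem b51 : Block F al 13056 13312 178 :=
  block_of_check (k := 8) rfl (by decide +kernel)

theorem b52 : Block F al 13312 13568 206 :=
  block_of_check (k := 8) rfl (by decide +kernel)

theorem b53 : Block F al 13568 13824 118 :=
  block_of_check (k := 8) rfl (by decide +kernel)

theorem b54 : Block F al 13824 14080 150 :=
  block_of_check (k := 8) rfl (by decide +kernel)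

theorem b55 : Block F al 14080 14336 192 :=
  block_of_check (k := 8) rfl (by decide +kernel)

theorem b56 : Block F al 14336 14592 191 :=
  block_of_check (k := 8) rfl (by decide +kernel)

end Cfsg.Agent.TcData.HN.I1539000
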