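import Mathlib
import Cfsg.Agent.TcData.HN.I1539000.Tab

set_option autoImplicit false
set_option Elab.async false
set_option maxRecDepth 100000
set_option linter.all false

namespace Cfsg.Agent.TcData.HN.I1539000

open Cfsg.Spor Cfsg.Agent.Lib.TcFacts Cfsg.Agent.Lib.TcBits Cfsg.Agent.Lib.TcPres Cfsg.Spor.HN Cfsg.Agent.TcData.HN

theorem b57 : Block F al 14592 14848 160 :=
  block_of_check (k := 8) rfl (by decide +kernel)

theorem b58 : Block F al 14848 15104 205 :=
  block_of_check (k := 8) rfl (by decide +kernel)

theorem b59 : Block F al 15104 15360 246 :=
  block_of_check (k := 8) rfl (by decide +kernel)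

theorem b60 : Block F al 15360 15616 221 :=
  block_of_check (k := 8) rfl (by decide +kernel)

theorem b61 : Block F al 15616 15872 243 :=
  block_of_check (k := 8) rfl (by decide +kernel)

theorem b62 : Block F al 15872 16128 235 :=
  block_of_check (k := 8) rfl (by decide +kernel)

theorem b63 : Block F al 16128 16384 235 :=
  block_of_check (k := 8) rfl (by decide +kernel)

theorem b64 : Block F al 16384 16640 244 :=
  block_of_check (k := 8) rfl (by decide +kernel)

theorem b65 : Block F al 16640 16896 244 :=
  block_of_check (k := 8) rfl (by decide +kernel)

theorem b66 : Block F al 16896 17152 248 :=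
  block_of_check (k := 8) rfl (by decide +kernel)

theorem b67 : Block F al 17152 17408 238 :=
  block_of_check (k := 8) rfl (by decide +kernel)

theorem b68 : Block F al 17408 17664 251 :=
  block_of_check (k := 8) rfl (by decide +kernel)

theorem b69 : Block F al 17664 17920 230 :=
  block_of_check (k := 8) rfl (by decide +kernel)

theorem b70 : Block F al 17920 18176 254 :=
  block_of_check (k := 8) rfl (by decide +kernel)

theorem b71 : Block F al 18176 18432 244 :=
  block_of_check (k := 8) rfl (by decide +kernel)

theorem b72 : Block F al 18432 18688 240 :=
  block_of_check (k := 8) rfl (by decide +kernel)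

theorem b73 : Block F al 18688 18944 241 :=
  block_of_check (k := 8) rfl (by decide +kernel)

theorem b74 : Block F al 18944 19200 242 :=
  block_of_check (k := 8) rfl (by decide +kernel)

theorem b75 : Block F al 19200 19456 235 :=
  block_of_check (k := 8) rfl (by decide +kernel)

theorem b76 : Block F al 19456 19712 248 :=
  block_of_check (k := 8) rfl (by decide +kernel)

theorem b77 : Block F al 19712 19968 237 :=
  block_of_check (k := 8) rfl (by decide +kernel)

theorem b78 : Block F al 19968 20224 251 :=
  block_of_check (k := 8) rfl (by decide +kernel)

theorem b79 : Block F al 20224 20480 232 :=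
  block_of_check (k := 8) rfl (by decide +kernel)

theorem b80 : Block F al 20480 20736 240 :=
  block_of_check (k := 8) rfl (by decide +kernel)

theorem b81 : Block F al 20736 20992 236 :=
  block_of_check (k := 8) rfl (by decide +kernel)

theorem b82 : Block F al 20992 21248 237 :=
  block_of_check (k := 8) rfl (by decide +kernel)

theorem b83 : Block F al 21248 21504 238 :=
  block_of_check (k := 8) rfl (by decide +kernel)

theorem b84 : Block F al 21504 21760 240 :=
  block_of_check (k := 8) rfl (by decide +kernel)

theorem b85 : Block F al 21760 22016 244 :=
  block_of_check (k := 8) rfl (by decide +kernel)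

theorem b86 : Block F al 22016 22272 234 :=
  block_of_check (k := 8) rfl (by decide +kernel)

theorem b87 : Block F al 22272 22528 200 :=
  block_of_check (k := 8) rfl (by decide +kernel)

theorem b88 : Block F al 22528 22784 211 :=
  block_of_check (k := 8) rfl (by decide +kernel)

theorem b89 : Block F al 22784 23040 255 :=
  block_of_check (k := 8) rfl (by decide +kernel)

theorem b90 : Block F al 23040 23296 246 :=
  block_of_check (k := 8) rfl (by decide +kernel)

theorem b91 : Block F al 23296 23552 227 :=
  block_of_check (k := 8) rfl (by decide +kernel)

theorem b92 : Block F al 23552 23808 236 :=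
  block_of_check (k := 8) rfl (by decide +kernel)

theorem b93 : Block F al 23808 24064 256 :=
  block_of_check (k := 8) rfl (by decide +kernel)

theorem b94 : Block F al 24064 24320 225 :=
  block_of_check (k := 8) rfl (by decide +kernel)

theorem b95 : Block F al 24320 24576 238 :=
  block_of_check (k := 8) rfl (by decide +kernel)

theorem b96 : Block F al 24576 24832 256 :=
  block_of_check (k := 8) rfl (by decide +kernel)

theorem b97 : Block F al 24832 25088 240 :=
  block_of_check (k := 8) rfl (by decide +kernel)

theorem b98 : Block F al 25088 25344 226 :=
  block_of_check (k := 8) rfl (by decide +kernel)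

theorem b99 : Block F al 25344 25600 246 :=
  block_of_check (k := 8) rfl (by decide +kernel)

theorem b100 : Block F al 25600 25856 236 :=
  block_of_check (k := 8) rfl (by decide +kernel)

theorem b101 : Block F al 25856 26112 242 :=
  block_of_check (k := 8) rfl (by decide +kernel)

theorem b102 : Block F al 26112 26368 255 :=
  block_of_check (k := 8) rfl (by decide +kernel)

theorem b103 : Block F al 26368 26624 255 :=
  block_of_check (k := 8) rfl (by decide +kernel)

theorem b104 : Block F al 26624 26880 231 :=
  block_of_check (k := 8) rfl (by decide +kernel)

theorem b105 : Block F al 26880 27136 245 :=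
  block_of_check (k := 8) rfl (by decide +kernel)

theorem b106 : Block F al 27136 27392 200 :=
  block_of_check (k := 8) rfl (by decide +kernel)

theorem b107 : Block F al 27392 27648 227 :=
  block_of_check (k := 8) rfl (by decide +kernel)

theorem b108 : Block F al 27648 27904 239 :=
  block_of_check (k := 8) rfl (by decide +kernel)

theorem b109 : Block F al 27904 28160 242 :=
  block_of_check (k := 8) rfl (by decide +kernel)

theorem b110 : Block F al 28160 28416 253 :=
  block_of_check (k := 8) rfl (by decide +kernel)

end Cfsg.Agent.TcData.HN.I1539000
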