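import Mathlib
import Cfsg.Agent.TcData.HN.I1539000.Tab

set_option autoImplicit false
set_option Elab.async false
set_option maxRecDepth 100000
set_option linter.all false

namespace Cfsg.Agent.TcData.HN.I1539000

open Cfsg.Spor Cfsg.Agent.Lib.TcFacts Cfsg.Agent.Lib.TcBits Cfsg.Agent.Lib.TcPres Cfsg.Spor.HN Cfsg.Agent.TcData.HN

theorem b528 : Block F al 135168 135424 233 :=
  block_of_check (k := 8) rfl (by decide +kernel)

theorem b529 : Block F al 135424 135680 235 :=
  block_of_check (k := 8) rfl (by decide +kernel)

theorem b530 : Block F al 135680 135936 233 :=
  block_of_check (k := 8) rfl (by decide +kernel)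

theorem b531 : Block F al 135936 136192 219 :=
  block_of_check (k := 8) rfl (by decide +kernel)

theorem b532 : Block F al 136192 136448 246 :=
  block_of_check (k := 8) rfl (by decide +kernel)

theorem b533 : Block F al 136448 136704 234 :=
  block_of_check (k := 8) rfl (by decide +kernel)

theorem b534 : Block F al 136704 136960 236 :=
  block_of_check (k := 8) rfl (by decide +kernel)

theorem b535 : Block F al 136960 137216 229 :=
  block_of_check (k := 8) rfl (by decide +kernel)

theorem b536 : Block F al 137216 137472 238 :=
  block_of_check (k := 8) rfl (by decide +kernel)

theorem b537 : Block F al 137472 137728 248 :=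
  block_of_check (k := 8) rfl (by decide +kernel)

theorem b538 : Block F al 137728 137984 253 :=
  block_of_check (k := 8) rfl (by decide +kernel)

theorem b539 : Block F al 137984 138240 254 :=
  block_of_check (k := 8) rfl (by decide +kernel)

theorem b540 : Block F al 138240 138496 245 :=
  block_of_check (k := 8) rfl (by decide +kernel)

theorem b541 : Block F al 138496 138752 249 :=
  block_of_check (k := 8) rfl (by decide +kernel)

theorem b542 : Block F al 138752 139008 239 :=
  block_of_check (k := 8) rfl (by decide +kernel)

theorem b543 : Block F al 139008 139264 215 :=
  block_of_check (k := 8) rfl (by decide +kernel)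

theorem b544 : Block F al 139264 139520 234 :=
  block_of_check (k := 8) rfl (by decide +kernel)

theorem b545 : Block F al 139520 139776 247 :=
  block_of_check (k := 8) rfl (by decide +kernel)

theorem b546 : Block F al 139776 140032 228 :=
  block_of_check (k := 8) rfl (by decide +kernel)

theorem b547 : Block F al 140032 140288 231 :=
  block_of_check (k := 8) rfl (by decide +kernel)

theorem b548 : Block F al 140288 140544 245 :=
  block_of_check (k := 8) rfl (by decide +kernel)

theorem b549 : Block F al 140544 140800 236 :=
  block_of_check (k := 8) rfl (by decide +kernel)

theorem b550 : Block F al 140800 141056 237 :=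
  block_of_check (k := 8) rfl (by decide +kernel)

theorem b551 : Block F al 141056 141312 244 :=
  block_of_check (k := 8) rfl (by decide +kernel)

theorem b552 : Block F al 141312 141568 236 :=
  block_of_check (k := 8) rfl (by decide +kernel)

theorem b553 : Block F al 141568 141824 226 :=
  block_of_check (k := 8) rfl (by decide +kernel)

theorem b554 : Block F al 141824 142080 242 :=
  block_of_check (k := 8) rfl (by decide +kernel)

theorem b555 : Block F al 142080 142336 237 :=
  block_of_check (k := 8) rfl (by decide +kernel)

theorem b556 : Block F al 142336 142592 246 :=
  block_of_check (k := 8) rfl (by decide +kernel)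

theorem b557 : Block F al 142592 142848 243 :=
  block_of_check (k := 8) rfl (by decide +kernel)

theorem b558 : Block F al 142848 143104 240 :=
  block_of_check (k := 8) rfl (by decide +kernel)

theorem b559 : Block F al 143104 143360 238 :=
  block_of_check (k := 8) rfl (by decide +kernel)

theorem b560 : Block F al 143360 143616 249 :=
  block_of_check (k := 8) rfl (by decide +kernel)

theorem b561 : Block F al 143616 143872 248 :=
  block_of_check (k := 8) rfl (by decide +kernel)

theorem b562 : Block F al 143872 144128 234 :=
  block_of_check (k := 8) rfl (by decide +kernel)

theorem b563 : Block F al 144128 144384 243 :=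
  block_of_check (k := 8) rfl (by decide +kernel)

theorem b564 : Block F al 144384 144640 248 :=
  block_of_check (k := 8) rfl (by decide +kernel)

theorem b565 : Block F al 144640 144896 245 :=
  block_of_check (k := 8) rfl (by decide +kernel)

theorem b566 : Block F al 144896 145152 242 :=
  block_of_check (k := 8) rfl (by decide +kernel)

theorem b567 : Block F al 145152 145408 251 :=
  block_of_check (k := 8) rfl (by decide +kernel)

theorem b568 : Block F al 145408 145664 256 :=
  block_of_check (k := 8) rfl (by decide +kernel)

theorem b569 : Block F al 145664 145920 251 :=
  block_of_check (k := 8) rfl (by decide +kernel)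

theorem b570 : Block F al 145920 146176 244 :=
  block_of_check (k := 8) rfl (by decide +kernel)

theorem b571 : Block F al 146176 146432 242 :=
  block_of_check (k := 8) rfl (by decide +kernel)

theorem b572 : Block F al 146432 146688 238 :=
  block_of_check (k := 8) rfl (by decide +kernel)

theorem b573 : Block F al 146688 146944 240 :=
  block_of_check (k := 8) rfl (by decide +kernel)

theorem b574 : Block F al 146944 147200 245 :=
  block_of_check (k := 8) rfl (by decide +kernel)

theorem b575 : Block F al 147200 147456 249 :=
  block_of_check (k := 8) rfl (by decide +kernel)

theorem b576 : Block F al 147456 147712 249 :=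
  block_of_check (k := 8) rfl (by decide +kernel)

theorem b577 : Block F al 147712 147968 241 :=
  block_of_check (k := 8) rfl (by decide +kernel)

end Cfsg.Agent.TcData.HN.I1539000
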