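import Mathlib
import Cfsg.Agent.TcData.HN.I1539000.Tab

set_option autoImplicit false
set_option Elab.async false
set_option maxRecDepth 100000
set_option linter.all false

namespace Cfsg.Agent.TcData.HN.I1539000

open Cfsg.Spor Cfsg.Agent.Lib.TcFacts Cfsg.Agent.Lib.TcBits Cfsg.Agent.Lib.TcPres Cfsg.Spor.HN Cfsg.Agent.TcData.HN

theorem b4237 : Block F al 1084672 1084928 253 :=
  block_of_check (k := 8) rfl (by decide +kernel)

theorem b4238 : Block F al 1084928 1085184 253 :=
  block_of_check (k := 8) rfl (by decide +kernel)

theorem b4239 : Block F al 1085184 1085440 234 :=
  block_of_check (k := 8) rfl (by decide +kernel)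

theorem b4240 : Block F al 1085440 1085696 249 :=
  block_of_check (k := 8) rfl (by decide +kernel)

theorem b4241 : Block F al 1085696 1085952 251 :=
  block_of_check (k := 8) rfl (by decide +kernel)

theorem b4242 : Block F al 1085952 1086208 245 :=
  block_of_check (k := 8) rfl (by decide +kernel)

theorem b4243 : Block F al 1086208 1086464 255 :=
  block_of_check (k := 8) rfl (by decide +kernel)

theorem b4244 : Block F al 1086464 1086720 252 :=
  block_of_check (k := 8) rfl (by decide +kernel)

theorem b4245 : Block F al 1086720 1086976 254 :=
  block_of_check (k := 8) rfl (by decide +kernel)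

theorem b4246 : Block F al 1086976 1087232 247 :=
  block_of_check (k := 8) rfl (by decide +kernel)

theorem b4247 : Block F al 1087232 1087488 247 :=
  block_of_check (k := 8) rfl (by decide +kernel)

theorem b4248 : Block F al 1087488 1087744 241 :=
  block_of_check (k := 8) rfl (by decide +kernel)

theorem b4249 : Block F al 1087744 1088000 254 :=
  block_of_check (k := 8) rfl (by decide +kernel)

theorem b4250 : Block F al 1088000 1088256 251 :=
  block_of_check (k := 8) rfl (by decide +kernel)

theorem b4251 : Block F al 1088256 1088512 245 :=
  block_of_check (k := 8) rfl (by decide +kernel)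

theorem b4252 : Block F al 1088512 1088768 256 :=
  block_of_check (k := 8) rfl (by decide +kernel)

theorem b4253 : Block F al 1088768 1089024 254 :=
  block_of_check (k := 8) rfl (by decide +kernel)

theorem b4254 : Block F al 1089024 1089280 253 :=
  block_of_check (k := 8) rfl (by decide +kernel)

theorem b4255 : Block F al 1089280 1089536 249 :=
  block_of_check (k := 8) rfl (by decide +kernel)

theorem b4256 : Block F al 1089536 1089792 255 :=
  block_of_check (k := 8) rfl (by decide +kernel)

theorem b4257 : Block F al 1089792 1090048 248 :=
  block_of_check (k := 8) rfl (by decide +kernel)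

theorem b4258 : Block F al 1090048 1090304 255 :=
  block_of_check (k := 8) rfl (by decide +kernel)

theorem b4259 : Block F al 1090304 1090560 250 :=
  block_of_check (k := 8) rfl (by decide +kernel)

theorem b4260 : Block F al 1090560 1090816 250 :=
  block_of_check (k := 8) rfl (by decide +kernel)

theorem b4261 : Block F al 1090816 1091072 242 :=
  block_of_check (k := 8) rfl (by decide +kernel)

theorem b4262 : Block F al 1091072 1091328 247 :=
  block_of_check (k := 8) rfl (by decide +kernel)

theorem b4263 : Block F al 1091328 1091584 249 :=
  block_of_check (k := 8) rfl (by decide +kernel)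

theorem b4264 : Block F al 1091584 1091840 252 :=
  block_of_check (k := 8) rfl (by decide +kernel)

theorem b4265 : Block F al 1091840 1092096 250 :=
  block_of_check (k := 8) rfl (by decide +kernel)

theorem b4266 : Block F al 1092096 1092352 252 :=
  block_of_check (k := 8) rfl (by decide +kernel)

theorem b4267 : Block F al 1092352 1092608 253 :=
  block_of_check (k := 8) rfl (by decide +kernel)

theorem b4268 : Block F al 1092608 1092864 242 :=
  block_of_check (k := 8) rfl (by decide +kernel)

theorem b4269 : Block F al 1092864 1093120 252 :=
  block_of_check (k := 8) rfl (by decide +kernel)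

theorem b4270 : Block F al 1093120 1093376 245 :=
  block_of_check (k := 8) rfl (by decide +kernel)

theorem b4271 : Block F al 1093376 1093632 250 :=
  block_of_check (k := 8) rfl (by decide +kernel)

end Cfsg.Agent.TcData.HN.I1539000
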