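import Mathlib
import Cfsg.Agent.TcData.HN.I1539000.Tab

set_option autoImplicit false
set_option Elab.async false
set_option maxRecDepth 100000
set_option linter.all false

namespace Cfsg.Agent.TcData.HN.I1539000

open Cfsg.Spor Cfsg.Agent.Lib.TcFacts Cfsg.Agent.Lib.TcBits Cfsg.Agent.Lib.TcPres Cfsg.Spor.HN Cfsg.Agent.TcData.HN

theorem b4272 : Block F al 1093632 1093888 250 :=
  block_of_check (k := 8) rfl (by decide +kernel)

theorem b4273 : Block F al 1093888 1094144 250 :=
  block_of_check (k := 8) rfl (by decide +kernel)

theorem b4274 : Block F al 1094144 1094400 252 :=
  block_of_check (k := 8) rfl (by decide +kernel)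

theorem b4275 : Block F al 1094400 1094656 251 :=
  block_of_check (k := 8) rfl (by decide +kernel)

theorem b4276 : Block F al 1094656 1094912 250 :=
  block_of_check (k := 8) rfl (by decide +kernel)

theorem b4277 : Block F al 1094912 1095168 254 :=
  block_of_check (k := 8) rfl (by decide +kernel)

theorem b4278 : Block F al 1095168 1095424 256 :=
  block_of_check (k := 8) rfl (by decide +kernel)

theorem b4279 : Block F al 1095424 1095680 250 :=
  block_of_check (k := 8) rfl (by decide +kernel)

theorem b4280 : Block F al 1095680 1095936 256 :=
  block_of_check (k := 8) rfl (by decide +kernel)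

theorem b4281 : Block F al 1095936 1096192 246 :=
  block_of_check (k := 8) rfl (by decide +kernel)

theorem b4282 : Block F al 1096192 1096448 249 :=
  block_of_check (k := 8) rfl (by decide +kernel)

theorem b4283 : Block F al 1096448 1096704 250 :=
  block_of_check (k := 8) rfl (by decide +kernel)

theorem b4284 : Block F al 1096704 1096960 253 :=
  block_of_check (k := 8) rfl (by decide +kernel)

theorem b4285 : Block F al 1096960 1097216 253 :=
  block_of_check (k := 8) rfl (by decide +kernel)

theorem b4286 : Block F al 1097216 1097472 252 :=
  block_of_check (k := 8) rfl (by decide +kernel)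

theorem b4287 : Block F al 1097472 1097728 255 :=
  block_of_check (k := 8) rfl (by decide +kernel)

theorem b4288 : Block F al 1097728 1097984 256 :=
  block_of_check (k := 8) rfl (by decide +kernel)

theorem b4289 : Block F al 1097984 1098240 250 :=
  block_of_check (k := 8) rfl (by decide +kernel)

theorem b4290 : Block F al 1098240 1098496 256 :=
  block_of_check (k := 8) rfl (by decide +kernel)

theorem b4291 : Block F al 1098496 1098752 253 :=
  block_of_check (k := 8) rfl (by decide +kernel)

theorem b4292 : Block F al 1098752 1099008 246 :=
  block_of_check (k := 8) rfl (by decide +kernel)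

theorem b4293 : Block F al 1099008 1099264 249 :=
  block_of_check (k := 8) rfl (by decide +kernel)

theorem b4294 : Block F al 1099264 1099520 246 :=
  block_of_check (k := 8) rfl (by decide +kernel)

theorem b4295 : Block F al 1099520 1099776 245 :=
  block_of_check (k := 8) rfl (by decide +kernel)

theorem b4296 : Block F al 1099776 1100032 248 :=
  block_of_check (k := 8) rfl (by decide +kernel)

theorem b4297 : Block F al 1100032 1100288 251 :=
  block_of_check (k := 8) rfl (by decide +kernel)

theorem b4298 : Block F al 1100288 1100544 251 :=
  block_of_check (k := 8) rfl (by decide +kernel)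

theorem b4299 : Block F al 1100544 1100800 256 :=
  block_of_check (k := 8) rfl (by decide +kernel)

theorem b4300 : Block F al 1100800 1101056 253 :=
  block_of_check (k := 8) rfl (by decide +kernel)

theorem b4301 : Block F al 1101056 1101312 252 :=
  block_of_check (k := 8) rfl (by decide +kernel)

theorem b4302 : Block F al 1101312 1101568 246 :=
  block_of_check (k := 8) rfl (by decide +kernel)

theorem b4303 : Block F al 1101568 1101824 252 :=
  block_of_check (k := 8) rfl (by decide +kernel)

theorem b4304 : Block F al 1101824 1102080 251 :=
  block_of_check (k := 8) rfl (by decide +kernel)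

theorem b4305 : Block F al 1102080 1102336 250 :=
  block_of_check (k := 8) rfl (by decide +kernel)

end Cfsg.Agent.TcData.HN.I1539000
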