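import Mathlib
import Cfsg.Agent.TcData.HN.I1539000.Tab

set_option autoImplicit false
set_option Elab.async false
set_option maxRecDepth 100000
set_option linter.all false

namespace Cfsg.Agent.TcData.HN.I1539000

open Cfsg.Spor Cfsg.Agent.Lib.TcFacts Cfsg.Agent.Lib.TcBits Cfsg.Agent.Lib.TcPres Cfsg.Spor.HN Cfsg.Agent.TcData.HN

theorem b4306 : Block F al 1102336 1102592 247 :=
  block_of_check (k := 8) rfl (by decide +kernel)

theorem b4307 : Block F al 1102592 1102848 254 :=
  block_of_check (k := 8) rfl (by decide +kernel)

theorem b4308 : Block F al 1102848 1103104 248 :=
  block_of_check (k := 8) rfl (by decide +kernel)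

theorem b4309 : Block F al 1103104 1103360 256 :=
  block_of_check (k := 8) rfl (by decide +kernel)

theorem b4310 : Block F al 1103360 1103616 256 :=
  block_of_check (k := 8) rfl (by decide +kernel)

theorem b4311 : Block F al 1103616 1103872 253 :=
  block_of_check (k := 8) rfl (by decide +kernel)

theorem b4312 : Block F al 1103872 1104128 251 :=
  block_of_check (k := 8) rfl (by decide +kernel)

theorem b4313 : Block F al 1104128 1104384 244 :=
  block_of_check (k := 8) rfl (by decide +kernel)

theorem b4314 : Block F al 1104384 1104640 249 :=
  block_of_check (k := 8) rfl (by decide +kernel)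

theorem b4315 : Block F al 1104640 1104896 255 :=
  block_of_check (k := 8) rfl (by decide +kernel)

theorem b4316 : Block F al 1104896 1105152 253 :=
  block_of_check (k := 8) rfl (by decide +kernel)

theorem b4317 : Block F al 1105152 1105408 254 :=
  block_of_check (k := 8) rfl (by decide +kernel)

theorem b4318 : Block F al 1105408 1105664 251 :=
  block_of_check (k := 8) rfl (by decide +kernel)

theorem b4319 : Block F al 1105664 1105920 256 :=
  block_of_check (k := 8) rfl (by decide +kernel)

theorem b4320 : Block F al 1105920 1106176 256 :=
  block_of_check (k := 8) rfl (by decide +kernel)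

theorem b4321 : Block F al 1106176 1106432 253 :=
  block_of_check (k := 8) rfl (by decide +kernel)

theorem b4322 : Block F al 1106432 1106688 255 :=
  block_of_check (k := 8) rfl (by decide +kernel)

theorem b4323 : Block F al 1106688 1106944 256 :=
  block_of_check (k := 8) rfl (by decide +kernel)

theorem b4324 : Block F al 1106944 1107200 253 :=
  block_of_check (k := 8) rfl (by decide +kernel)

theorem b4325 : Block F al 1107200 1107456 256 :=
  block_of_check (k := 8) rfl (by decide +kernel)

theorem b4326 : Block F al 1107456 1107712 250 :=
  block_of_check (k := 8) rfl (by decide +kernel)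

theorem b4327 : Block F al 1107712 1107968 256 :=
  block_of_check (k := 8) rfl (by decide +kernel)

theorem b4328 : Block F al 1107968 1108224 254 :=
  block_of_check (k := 8) rfl (by decide +kernel)

theorem b4329 : Block F al 1108224 1108480 252 :=
  block_of_check (k := 8) rfl (by decide +kernel)

theorem b4330 : Block F al 1108480 1108736 254 :=
  block_of_check (k := 8) rfl (by decide +kernel)

theorem b4331 : Block F al 1108736 1108992 256 :=
  block_of_check (k := 8) rfl (by decide +kernel)

theorem b4332 : Block F al 1108992 1109248 253 :=
  block_of_check (k := 8) rfl (by decide +kernel)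

theorem b4333 : Block F al 1109248 1109504 256 :=
  block_of_check (k := 8) rfl (by decide +kernel)

theorem b4334 : Block F al 1109504 1109760 254 :=
  block_of_check (k := 8) rfl (by decide +kernel)

theorem b4335 : Block F al 1109760 1110016 250 :=
  block_of_check (k := 8) rfl (by decide +kernel)

theorem b4336 : Block F al 1110016 1110272 252 :=
  block_of_check (k := 8) rfl (by decide +kernel)

theorem b4337 : Block F al 1110272 1110528 253 :=
  block_of_check (k := 8) rfl (by decide +kernel)

theorem b4338 : Block F al 1110528 1110784 253 :=
  block_of_check (k := 8) rfl (by decide +kernel)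

end Cfsg.Agent.TcData.HN.I1539000
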