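import Mathlib
import Cfsg.Agent.TcData.HN.I1539000.Tab

set_option autoImplicit false
set_option Elab.async false
set_option maxRecDepth 100000
set_option linter.all false

namespace Cfsg.Agent.TcData.HN.I1539000

open Cfsg.Spor Cfsg.Agent.Lib.TcFacts Cfsg.Agent.Lib.TcBits Cfsg.Agent.Lib.TcPres Cfsg.Spor.HN Cfsg.Agent.TcData.HN

theorem b4339 : Block F al 1110784 1111040 247 :=
  block_of_check (k := 8) rfl (by decide +kernel)

theorem b4340 : Block F al 1111040 1111296 254 :=
  block_of_check (k := 8) rfl (by decide +kernel)

theorem b4341 : Block F al 1111296 1111552 249 :=
  block_of_check (k := 8) rfl (by decide +kernel)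

theorem b4342 : Block F al 1111552 1111808 251 :=
  block_of_check (k := 8) rfl (by decide +kernel)

theorem b4343 : Block F al 1111808 1112064 251 :=
  block_of_check (k := 8) rfl (by decide +kernel)

theorem b4344 : Block F al 1112064 1112320 252 :=
  block_of_check (k := 8) rfl (by decide +kernel)

theorem b4345 : Block F al 1112320 1112576 255 :=
  block_of_check (k := 8) rfl (by decide +kernel)

theorem b4346 : Block F al 1112576 1112832 252 :=
  block_of_check (k := 8) rfl (by decide +kernel)

theorem b4347 : Block F al 1112832 1113088 254 :=
  block_of_check (k := 8) rfl (by decide +kernel)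

theorem b4348 : Block F al 1113088 1113344 251 :=
  block_of_check (k := 8) rfl (by decide +kernel)

theorem b4349 : Block F al 1113344 1113600 252 :=
  block_of_check (k := 8) rfl (by decide +kernel)

theorem b4350 : Block F al 1113600 1113856 254 :=
  block_of_check (k := 8) rfl (by decide +kernel)

theorem b4351 : Block F al 1113856 1114112 248 :=
  block_of_check (k := 8) rfl (by decide +kernel)

theorem b4352 : Block F al 1114112 1114368 255 :=
  block_of_check (k := 8) rfl (by decide +kernel)

theorem b4353 : Block F al 1114368 1114624 253 :=
  block_of_check (k := 8) rfl (by decide +kernel)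

theorem b4354 : Block F al 1114624 1114880 255 :=
  block_of_check (k := 8) rfl (by decide +kernel)

theorem b4355 : Block F al 1114880 1115136 249 :=
  block_of_check (k := 8) rfl (by decide +kernel)

theorem b4356 : Block F al 1115136 1115392 245 :=
  block_of_check (k := 8) rfl (by decide +kernel)

theorem b4357 : Block F al 1115392 1115648 252 :=
  block_of_check (k := 8) rfl (by decide +kernel)

theorem b4358 : Block F al 1115648 1115904 254 :=
  block_of_check (k := 8) rfl (by decide +kernel)

theorem b4359 : Block F al 1115904 1116160 246 :=
  block_of_check (k := 8) rfl (by decide +kernel)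

theorem b4360 : Block F al 1116160 1116416 256 :=
  block_of_check (k := 8) rfl (by decide +kernel)

theorem b4361 : Block F al 1116416 1116672 256 :=
  block_of_check (k := 8) rfl (by decide +kernel)

theorem b4362 : Block F al 1116672 1116928 254 :=
  block_of_check (k := 8) rfl (by decide +kernel)

theorem b4363 : Block F al 1116928 1117184 254 :=
  block_of_check (k := 8) rfl (by decide +kernel)

theorem b4364 : Block F al 1117184 1117440 254 :=
  block_of_check (k := 8) rfl (by decide +kernel)

theorem b4365 : Block F al 1117440 1117696 253 :=
  block_of_check (k := 8) rfl (by decide +kernel)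

theorem b4366 : Block F al 1117696 1117952 255 :=
  block_of_check (k := 8) rfl (by decide +kernel)

theorem b4367 : Block F al 1117952 1118208 256 :=
  block_of_check (k := 8) rfl (by decide +kernel)

theorem b4368 : Block F al 1118208 1118464 253 :=
  block_of_check (k := 8) rfl (by decide +kernel)

theorem b4369 : Block F al 1118464 1118720 245 :=
  block_of_check (k := 8) rfl (by decide +kernel)

theorem b4370 : Block F al 1118720 1118976 256 :=
  block_of_check (k := 8) rfl (by decide +kernel)

theorem b4371 : Block F al 1118976 1119232 251 :=
  block_of_check (k := 8) rfl (by decide +kernel)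

end Cfsg.Agent.TcData.HN.I1539000
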