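import Mathlib
import Cfsg.Agent.TcData.HN.I1539000.Tab

set_option autoImplicit false
set_option Elab.async false
set_option maxRecDepth 100000
set_option linter.all false

namespace Cfsg.Agent.TcData.HN.I1539000

open Cfsg.Spor Cfsg.Agent.Lib.TcFacts Cfsg.Agent.Lib.TcBits Cfsg.Agent.Lib.TcPres Cfsg.Spor.HN Cfsg.Agent.TcData.HN

theorem b4372 : Block F al 1119232 1119488 251 :=
  block_of_check (k := 8) rfl (by decide +kernel)

theorem b4373 : Block F al 1119488 1119744 252 :=
  block_of_check (k := 8) rfl (by decide +kernel)

theorem b4374 : Block F al 1119744 1120000 251 :=
  block_of_check (k := 8) rfl (by decide +kernel)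

theorem b4375 : Block F al 1120000 1120256 247 :=
  block_of_check (k := 8) rfl (by decide +kernel)

theorem b4376 : Block F al 1120256 1120512 254 :=
  block_of_check (k := 8) rfl (by decide +kernel)

theorem b4377 : Block F al 1120512 1120768 251 :=
  block_of_check (k := 8) rfl (by decide +kernel)

theorem b4378 : Block F al 1120768 1121024 256 :=
  block_of_check (k := 8) rfl (by decide +kernel)

theorem b4379 : Block F al 1121024 1121280 256 :=
  block_of_check (k := 8) rfl (by decide +kernel)

theorem b4380 : Block F al 1121280 1121536 255 :=
  block_of_check (k := 8) rfl (by decide +kernel)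

theorem b4381 : Block F al 1121536 1121792 249 :=
  block_of_check (k := 8) rfl (by decide +kernel)

theorem b4382 : Block F al 1121792 1122048 254 :=
  block_of_check (k := 8) rfl (by decide +kernel)

theorem b4383 : Block F al 1122048 1122304 252 :=
  block_of_check (k := 8) rfl (by decide +kernel)

theorem b4384 : Block F al 1122304 1122560 250 :=
  block_of_check (k := 8) rfl (by decide +kernel)

theorem b4385 : Block F al 1122560 1122816 256 :=
  block_of_check (k := 8) rfl (by decide +kernel)

theorem b4386 : Block F al 1122816 1123072 248 :=
  block_of_check (k := 8) rfl (by decide +kernel)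

theorem b4387 : Block F al 1123072 1123328 252 :=
  block_of_check (k := 8) rfl (by decide +kernel)

theorem b4388 : Block F al 1123328 1123584 251 :=
  block_of_check (k := 8) rfl (by decide +kernel)

theorem b4389 : Block F al 1123584 1123840 251 :=
  block_of_check (k := 8) rfl (by decide +kernel)

theorem b4390 : Block F al 1123840 1124096 250 :=
  block_of_check (k := 8) rfl (by decide +kernel)

theorem b4391 : Block F al 1124096 1124352 255 :=
  block_of_check (k := 8) rfl (by decide +kernel)

theorem b4392 : Block F al 1124352 1124608 256 :=
  block_of_check (k := 8) rfl (by decide +kernel)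

theorem b4393 : Block F al 1124608 1124864 255 :=
  block_of_check (k := 8) rfl (by decide +kernel)

theorem b4394 : Block F al 1124864 1125120 248 :=
  block_of_check (k := 8) rfl (by decide +kernel)

theorem b4395 : Block F al 1125120 1125376 256 :=
  block_of_check (k := 8) rfl (by decide +kernel)

theorem b4396 : Block F al 1125376 1125632 254 :=
  block_of_check (k := 8) rfl (by decide +kernel)

theorem b4397 : Block F al 1125632 1125888 248 :=
  block_of_check (k := 8) rfl (by decide +kernel)

theorem b4398 : Block F al 1125888 1126144 249 :=
  block_of_check (k := 8) rfl (by decide +kernel)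

theorem b4399 : Block F al 1126144 1126400 250 :=
  block_of_check (k := 8) rfl (by decide +kernel)

theorem b4400 : Block F al 1126400 1126656 255 :=
  block_of_check (k := 8) rfl (by decide +kernel)

theorem b4401 : Block F al 1126656 1126912 252 :=
  block_of_check (k := 8) rfl (by decide +kernel)

theorem b4402 : Block F al 1126912 1127168 255 :=
  block_of_check (k := 8) rfl (by decide +kernel)

theorem b4403 : Block F al 1127168 1127424 251 :=
  block_of_check (k := 8) rfl (by decide +kernel)

theorem b4404 : Block F al 1127424 1127680 242 :=
  block_of_check (k := 8) rfl (by decide +kernel)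

end Cfsg.Agent.TcData.HN.I1539000
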