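import Mathlib
import Cfsg.Agent.TcData.HN.I1539000.Tab

set_option autoImplicit false
set_option Elab.async false
set_option maxRecDepth 100000
set_option linter.all false

namespace Cfsg.Agent.TcData.HN.I1539000

open Cfsg.Spor Cfsg.Agent.Lib.TcFacts Cfsg.Agent.Lib.TcBits Cfsg.Agent.Lib.TcPres Cfsg.Spor.HN Cfsg.Agent.TcData.HN

theorem b4405 : Block F al 1127680 1127936 253 :=
  block_of_check (k := 8) rfl (by decide +kernel)

theorem b4406 : Block F al 1127936 1128192 248 :=
  block_of_check (k := 8) rfl (by decide +kernel)

theorem b4407 : Block F al 1128192 1128448 255 :=
  block_of_check (k := 8) rfl (by decide +kernel)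

theorem b4408 : Block F al 1128448 1128704 244 :=
  block_of_check (k := 8) rfl (by decide +kernel)

theorem b4409 : Block F al 1128704 1128960 255 :=
  block_of_check (k := 8) rfl (by decide +kernel)

theorem b4410 : Block F al 1128960 1129216 253 :=
  block_of_check (k := 8) rfl (by decide +kernel)

theorem b4411 : Block F al 1129216 1129472 247 :=
  block_of_check (k := 8) rfl (by decide +kernel)

theorem b4412 : Block F al 1129472 1129728 250 :=
  block_of_check (k := 8) rfl (by decide +kernel)

theorem b4413 : Block F al 1129728 1129984 246 :=
  block_of_check (k := 8) rfl (by decide +kernel)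

theorem b4414 : Block F al 1129984 1130240 253 :=
  block_of_check (k := 8) rfl (by decide +kernel)

theorem b4415 : Block F al 1130240 1130496 249 :=
  block_of_check (k := 8) rfl (by decide +kernel)

theorem b4416 : Block F al 1130496 1130752 255 :=
  block_of_check (k := 8) rfl (by decide +kernel)

theorem b4417 : Block F al 1130752 1131008 248 :=
  block_of_check (k := 8) rfl (by decide +kernel)

theorem b4418 : Block F al 1131008 1131264 253 :=
  block_of_check (k := 8) rfl (by decide +kernel)

theorem b4419 : Block F al 1131264 1131520 256 :=
  block_of_check (k := 8) rfl (by decide +kernel)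

theorem b4420 : Block F al 1131520 1131776 252 :=
  block_of_check (k := 8) rfl (by decide +kernel)

theorem b4421 : Block F al 1131776 1132032 255 :=
  block_of_check (k := 8) rfl (by decide +kernel)

theorem b4422 : Block F al 1132032 1132288 254 :=
  block_of_check (k := 8) rfl (by decide +kernel)

theorem b4423 : Block F al 1132288 1132544 245 :=
  block_of_check (k := 8) rfl (by decide +kernel)

theorem b4424 : Block F al 1132544 1132800 256 :=
  block_of_check (k := 8) rfl (by decide +kernel)

theorem b4425 : Block F al 1132800 1133056 252 :=
  block_of_check (k := 8) rfl (by decide +kernel)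

theorem b4426 : Block F al 1133056 1133312 254 :=
  block_of_check (k := 8) rfl (by decide +kernel)

theorem b4427 : Block F al 1133312 1133568 253 :=
  block_of_check (k := 8) rfl (by decide +kernel)

theorem b4428 : Block F al 1133568 1133824 251 :=
  block_of_check (k := 8) rfl (by decide +kernel)

theorem b4429 : Block F al 1133824 1134080 251 :=
  block_of_check (k := 8) rfl (by decide +kernel)

theorem b4430 : Block F al 1134080 1134336 254 :=
  block_of_check (k := 8) rfl (by decide +kernel)

theorem b4431 : Block F al 1134336 1134592 246 :=
  block_of_check (k := 8) rfl (by decide +kernel)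

theorem b4432 : Block F al 1134592 1134848 255 :=
  block_of_check (k := 8) rfl (by decide +kernel)

theorem b4433 : Block F al 1134848 1135104 251 :=
  block_of_check (k := 8) rfl (by decide +kernel)

theorem b4434 : Block F al 1135104 1135360 246 :=
  block_of_check (k := 8) rfl (by decide +kernel)

theorem b4435 : Block F al 1135360 1135616 251 :=
  block_of_check (k := 8) rfl (by decide +kernel)

theorem b4436 : Block F al 1135616 1135872 251 :=
  block_of_check (k := 8) rfl (by decide +kernel)

theorem b4437 : Block F al 1135872 1136128 256 :=
  block_of_check (k := 8) rfl (by decide +kernel)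

theorem b4438 : Block F al 1136128 1136384 247 :=
  block_of_check (k := 8) rfl (by decide +kernel)

end Cfsg.Agent.TcData.HN.I1539000
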