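import Mathlib
import Cfsg.Agent.TcData.HN.I1539000.Tab

set_option autoImplicit false
set_option Elab.async false
set_option maxRecDepth 100000
set_option linter.all false

namespace Cfsg.Agent.TcData.HN.I1539000

open Cfsg.Spor Cfsg.Agent.Lib.TcFacts Cfsg.Agent.Lib.TcBits Cfsg.Agent.Lib.TcPres Cfsg.Spor.HN Cfsg.Agent.TcData.HN

theorem b4439 : Block F al 1136384 1136640 248 :=
  block_of_check (k := 8) rfl (by decide +kernel)

theorem b4440 : Block F al 1136640 1136896 250 :=
  block_of_check (k := 8) rfl (by decide +kernel)

theorem b4441 : Block F al 1136896 1137152 243 :=
  block_of_check (k := 8) rfl (by decide +kernel)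

theorem b4442 : Block F al 1137152 1137408 249 :=
  block_of_check (k := 8) rfl (by decide +kernel)

theorem b4443 : Block F al 1137408 1137664 250 :=
  block_of_check (k := 8) rfl (by decide +kernel)

theorem b4444 : Block F al 1137664 1137920 256 :=
  block_of_check (k := 8) rfl (by decide +kernel)

theorem b4445 : Block F al 1137920 1138176 253 :=
  block_of_check (k := 8) rfl (by decide +kernel)

theorem b4446 : Block F al 1138176 1138432 248 :=
  block_of_check (k := 8) rfl (by decide +kernel)

theorem b4447 : Block F al 1138432 1138688 241 :=
  block_of_check (k := 8) rfl (by decide +kernel)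

theorem b4448 : Block F al 1138688 1138944 256 :=
  block_of_check (k := 8) rfl (by decide +kernel)

theorem b4449 : Block F al 1138944 1139200 254 :=
  block_of_check (k := 8) rfl (by decide +kernel)

theorem b4450 : Block F al 1139200 1139456 252 :=
  block_of_check (k := 8) rfl (by decide +kernel)

theorem b4451 : Block F al 1139456 1139712 248 :=
  block_of_check (k := 8) rfl (by decide +kernel)

theorem b4452 : Block F al 1139712 1139968 254 :=
  block_of_check (k := 8) rfl (by decide +kernel)

theorem b4453 : Block F al 1139968 1140224 253 :=
  block_of_check (k := 8) rfl (by decide +kernel)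

theorem b4454 : Block F al 1140224 1140480 254 :=
  block_of_check (k := 8) rfl (by decide +kernel)

theorem b4455 : Block F al 1140480 1140736 248 :=
  block_of_check (k := 8) rfl (by decide +kernel)

theorem b4456 : Block F al 1140736 1140992 253 :=
  block_of_check (k := 8) rfl (by decide +kernel)

theorem b4457 : Block F al 1140992 1141248 250 :=
  block_of_check (k := 8) rfl (by decide +kernel)

theorem b4458 : Block F al 1141248 1141504 254 :=
  block_of_check (k := 8) rfl (by decide +kernel)

theorem b4459 : Block F al 1141504 1141760 256 :=
  block_of_check (k := 8) rfl (by decide +kernel)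

theorem b4460 : Block F al 1141760 1142016 253 :=
  block_of_check (k := 8) rfl (by decide +kernel)

theorem b4461 : Block F al 1142016 1142272 256 :=
  block_of_check (k := 8) rfl (by decide +kernel)

theorem b4462 : Block F al 1142272 1142528 249 :=
  block_of_check (k := 8) rfl (by decide +kernel)

theorem b4463 : Block F al 1142528 1142784 249 :=
  block_of_check (k := 8) rfl (by decide +kernel)

theorem b4464 : Block F al 1142784 1143040 252 :=
  block_of_check (k := 8) rfl (by decide +kernel)

theorem b4465 : Block F al 1143040 1143296 251 :=
  block_of_check (k := 8) rfl (by decide +kernel)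

theorem b4466 : Block F al 1143296 1143552 251 :=
  block_of_check (k := 8) rfl (by decide +kernel)

theorem b4467 : Block F al 1143552 1143808 253 :=
  block_of_check (k := 8) rfl (by decide +kernel)

theorem b4468 : Block F al 1143808 1144064 251 :=
  block_of_check (k := 8) rfl (by decide +kernel)

theorem b4469 : Block F al 1144064 1144320 254 :=
  block_of_check (k := 8) rfl (by decide +kernel)

theorem b4470 : Block F al 1144320 1144576 251 :=
  block_of_check (k := 8) rfl (by decide +kernel)

theorem b4471 : Block F al 1144576 1144832 253 :=
  block_of_check (k := 8) rfl (by decide +kernel)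

end Cfsg.Agent.TcData.HN.I1539000
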