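import Mathlib
import Cfsg.Agent.TcData.HN.I1539000.Tab

set_option autoImplicit false
set_option Elab.async false
set_option maxRecDepth 100000
set_option linter.all false

namespace Cfsg.Agent.TcData.HN.I1539000

open Cfsg.Spor Cfsg.Agent.Lib.TcFacts Cfsg.Agent.Lib.TcBits Cfsg.Agent.Lib.TcPres Cfsg.Spor.HN Cfsg.Agent.TcData.HN

theorem b4505 : Block F al 1153280 1153536 256 :=
  block_of_check (k := 8) rfl (by decide +kernel)

theorem b4506 : Block F al 1153536 1153792 250 :=
  block_of_check (k := 8) rfl (by decide +kernel)

theorem b4507 : Block F al 1153792 1154048 255 :=
  block_of_check (k := 8) rfl (by decide +kernel)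

theorem b4508 : Block F al 1154048 1154304 250 :=
  block_of_check (k := 8) rfl (by decide +kernel)

theorem b4509 : Block F al 1154304 1154560 255 :=
  block_of_check (k := 8) rfl (by decide +kernel)

theorem b4510 : Block F al 1154560 1154816 254 :=
  block_of_check (k := 8) rfl (by decide +kernel)

theorem b4511 : Block F al 1154816 1155072 254 :=
  block_of_check (k := 8) rfl (by decide +kernel)

theorem b4512 : Block F al 1155072 1155328 252 :=
  block_of_check (k := 8) rfl (by decide +kernel)

theorem b4513 : Block F al 1155328 1155584 253 :=
  block_of_check (k := 8) rfl (by decide +kernel)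

theorem b4514 : Block F al 1155584 1155840 252 :=
  block_of_check (k := 8) rfl (by decide +kernel)

theorem b4515 : Block F al 1155840 1156096 255 :=
  block_of_check (k := 8) rfl (by decide +kernel)

theorem b4516 : Block F al 1156096 1156352 250 :=
  block_of_check (k := 8) rfl (by decide +kernel)

theorem b4517 : Block F al 1156352 1156608 250 :=
  block_of_check (k := 8) rfl (by decide +kernel)

theorem b4518 : Block F al 1156608 1156864 256 :=
  block_of_check (k := 8) rfl (by decide +kernel)

theorem b4519 : Block F al 1156864 1157120 249 :=
  block_of_check (k := 8) rfl (by decide +kernel)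

theorem b4520 : Block F al 1157120 1157376 254 :=
  block_of_check (k := 8) rfl (by decide +kernel)

theorem b4521 : Block F al 1157376 1157632 255 :=
  block_of_check (k := 8) rfl (by decide +kernel)

theorem b4522 : Block F al 1157632 1157888 254 :=
  block_of_check (k := 8) rfl (by decide +kernel)

theorem b4523 : Block F al 1157888 1158144 250 :=
  block_of_check (k := 8) rfl (by decide +kernel)

theorem b4524 : Block F al 1158144 1158400 251 :=
  block_of_check (k := 8) rfl (by decide +kernel)

theorem b4525 : Block F al 1158400 1158656 256 :=
  block_of_check (k := 8) rfl (by decide +kernel)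

theorem b4526 : Block F al 1158656 1158912 247 :=
  block_of_check (k := 8) rfl (by decide +kernel)

theorem b4527 : Block F al 1158912 1159168 252 :=
  block_of_check (k := 8) rfl (by decide +kernel)

theorem b4528 : Block F al 1159168 1159424 249 :=
  block_of_check (k := 8) rfl (by decide +kernel)

theorem b4529 : Block F al 1159424 1159680 249 :=
  block_of_check (k := 8) rfl (by decide +kernel)

theorem b4530 : Block F al 1159680 1159936 256 :=
  block_of_check (k := 8) rfl (by decide +kernel)

theorem b4531 : Block F al 1159936 1160192 255 :=
  block_of_check (k := 8) rfl (by decide +kernel)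

theorem b4532 : Block F al 1160192 1160448 252 :=
  block_of_check (k := 8) rfl (by decide +kernel)

theorem b4533 : Block F al 1160448 1160704 255 :=
  block_of_check (k := 8) rfl (by decide +kernel)

theorem b4534 : Block F al 1160704 1160960 256 :=
  block_of_check (k := 8) rfl (by decide +kernel)

theorem b4535 : Block F al 1160960 1161216 255 :=
  block_of_check (k := 8) rfl (by decide +kernel)

theorem b4536 : Block F al 1161216 1161472 245 :=
  block_of_check (k := 8) rfl (by decide +kernel)

theorem b4537 : Block F al 1161472 1161728 250 :=
  block_of_check (k := 8) rfl (by decide +kernel)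

end Cfsg.Agent.TcData.HN.I1539000
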