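import Mathlib
import Cfsg.Agent.TcData.HN.I1539000.Tab

set_option autoImplicit false
set_option Elab.async false
set_option maxRecDepth 100000
set_option linter.all false

namespace Cfsg.Agent.TcData.HN.I1539000

open Cfsg.Spor Cfsg.Agent.Lib.TcFacts Cfsg.Agent.Lib.TcBits Cfsg.Agent.Lib.TcPres Cfsg.Spor.HN Cfsg.Agent.TcData.HN

theorem b4538 : Block F al 1161728 1161984 254 :=
  block_of_check (k := 8) rfl (by decide +kernel)

theorem b4539 : Block F al 1161984 1162240 252 :=
  block_of_check (k := 8) rfl (by decide +kernel)

theorem b4540 : Block F al 1162240 1162496 255 :=
  block_of_check (k := 8) rfl (by decide +kernel)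

theorem b4541 : Block F al 1162496 1162752 255 :=
  block_of_check (k := 8) rfl (by decide +kernel)

theorem b4542 : Block F al 1162752 1163008 254 :=
  block_of_check (k := 8) rfl (by decide +kernel)

theorem b4543 : Block F al 1163008 1163264 247 :=
  block_of_check (k := 8) rfl (by decide +kernel)

theorem b4544 : Block F al 1163264 1163520 253 :=
  block_of_check (k := 8) rfl (by decide +kernel)

theorem b4545 : Block F al 1163520 1163776 251 :=
  block_of_check (k := 8) rfl (by decide +kernel)

theorem b4546 : Block F al 1163776 1164032 254 :=
  block_of_check (k := 8) rfl (by decide +kernel)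

theorem b4547 : Block F al 1164032 1164288 256 :=
  block_of_check (k := 8) rfl (by decide +kernel)

theorem b4548 : Block F al 1164288 1164544 256 :=
  block_of_check (k := 8) rfl (by decide +kernel)

theorem b4549 : Block F al 1164544 1164800 250 :=
  block_of_check (k := 8) rfl (by decide +kernel)

theorem b4550 : Block F al 1164800 1165056 254 :=
  block_of_check (k := 8) rfl (by decide +kernel)

theorem b4551 : Block F al 1165056 1165312 249 :=
  block_of_check (k := 8) rfl (by decide +kernel)

theorem b4552 : Block F al 1165312 1165568 247 :=
  block_of_check (k := 8) rfl (by decide +kernel)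

theorem b4553 : Block F al 1165568 1165824 249 :=
  block_of_check (k := 8) rfl (by decide +kernel)

theorem b4554 : Block F al 1165824 1166080 251 :=
  block_of_check (k := 8) rfl (by decide +kernel)

theorem b4555 : Block F al 1166080 1166336 253 :=
  block_of_check (k := 8) rfl (by decide +kernel)

theorem b4556 : Block F al 1166336 1166592 255 :=
  block_of_check (k := 8) rfl (by decide +kernel)

theorem b4557 : Block F al 1166592 1166848 252 :=
  block_of_check (k := 8) rfl (by decide +kernel)

theorem b4558 : Block F al 1166848 1167104 256 :=
  block_of_check (k := 8) rfl (by decide +kernel)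

theorem b4559 : Block F al 1167104 1167360 253 :=
  block_of_check (k := 8) rfl (by decide +kernel)

theorem b4560 : Block F al 1167360 1167616 254 :=
  block_of_check (k := 8) rfl (by decide +kernel)

theorem b4561 : Block F al 1167616 1167872 249 :=
  block_of_check (k := 8) rfl (by decide +kernel)

theorem b4562 : Block F al 1167872 1168128 255 :=
  block_of_check (k := 8) rfl (by decide +kernel)

theorem b4563 : Block F al 1168128 1168384 250 :=
  block_of_check (k := 8) rfl (by decide +kernel)

theorem b4564 : Block F al 1168384 1168640 251 :=
  block_of_check (k := 8) rfl (by decide +kernel)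

theorem b4565 : Block F al 1168640 1168896 252 :=
  block_of_check (k := 8) rfl (by decide +kernel)

theorem b4566 : Block F al 1168896 1169152 254 :=
  block_of_check (k := 8) rfl (by decide +kernel)

theorem b4567 : Block F al 1169152 1169408 253 :=
  block_of_check (k := 8) rfl (by decide +kernel)

theorem b4568 : Block F al 1169408 1169664 251 :=
  block_of_check (k := 8) rfl (by decide +kernel)

theorem b4569 : Block F al 1169664 1169920 253 :=
  block_of_check (k := 8) rfl (by decide +kernel)

theorem b4570 : Block F al 1169920 1170176 254 :=
  block_of_check (k := 8) rfl (by decide +kernel)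

theorem b4571 : Block F al 1170176 1170432 245 :=
  block_of_check (k := 8) rfl (by decide +kernel)

end Cfsg.Agent.TcData.HN.I1539000
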