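import Mathlib
import Cfsg.Agent.TcData.HN.I1539000.Tab

set_option autoImplicit false
set_option Elab.async false
set_option maxRecDepth 100000
set_option linter.all false

namespace Cfsg.Agent.TcData.HN.I1539000

open Cfsg.Spor Cfsg.Agent.Lib.TcFacts Cfsg.Agent.Lib.TcBits Cfsg.Agent.Lib.TcPres Cfsg.Spor.HN Cfsg.Agent.TcData.HN

theorem b4572 : Block F al 1170432 1170688 256 :=
  block_of_check (k := 8) rfl (by decide +kernel)

theorem b4573 : Block F al 1170688 1170944 256 :=
  block_of_check (k := 8) rfl (by decide +kernel)

theorem b4574 : Block F al 1170944 1171200 256 :=
  block_of_check (k := 8) rfl (by decide +kernel)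

theorem b4575 : Block F al 1171200 1171456 254 :=
  block_of_check (k := 8) rfl (by decide +kernel)

theorem b4576 : Block F al 1171456 1171712 253 :=
  block_of_check (k := 8) rfl (by decide +kernel)

theorem b4577 : Block F al 1171712 1171968 256 :=
  block_of_check (k := 8) rfl (by decide +kernel)

theorem b4578 : Block F al 1171968 1172224 253 :=
  block_of_check (k := 8) rfl (by decide +kernel)

theorem b4579 : Block F al 1172224 1172480 252 :=
  block_of_check (k := 8) rfl (by decide +kernel)

theorem b4580 : Block F al 1172480 1172736 254 :=
  block_of_check (k := 8) rfl (by decide +kernel)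

theorem b4581 : Block F al 1172736 1172992 255 :=
  block_of_check (k := 8) rfl (by decide +kernel)

theorem b4582 : Block F al 1172992 1173248 253 :=
  block_of_check (k := 8) rfl (by decide +kernel)

theorem b4583 : Block F al 1173248 1173504 236 :=
  block_of_check (k := 8) rfl (by decide +kernel)

theorem b4584 : Block F al 1173504 1173760 246 :=
  block_of_check (k := 8) rfl (by decide +kernel)

theorem b4585 : Block F al 1173760 1174016 256 :=
  block_of_check (k := 8) rfl (by decide +kernel)

theorem b4586 : Block F al 1174016 1174272 249 :=
  block_of_check (k := 8) rfl (by decide +kernel)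

theorem b4587 : Block F al 1174272 1174528 253 :=
  block_of_check (k := 8) rfl (by decide +kernel)

theorem b4588 : Block F al 1174528 1174784 244 :=
  block_of_check (k := 8) rfl (by decide +kernel)

theorem b4589 : Block F al 1174784 1175040 253 :=
  block_of_check (k := 8) rfl (by decide +kernel)

theorem b4590 : Block F al 1175040 1175296 253 :=
  block_of_check (k := 8) rfl (by decide +kernel)

theorem b4591 : Block F al 1175296 1175552 249 :=
  block_of_check (k := 8) rfl (by decide +kernel)

theorem b4592 : Block F al 1175552 1175808 255 :=
  block_of_check (k := 8) rfl (by decide +kernel)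

theorem b4593 : Block F al 1175808 1176064 251 :=
  block_of_check (k := 8) rfl (by decide +kernel)

theorem b4594 : Block F al 1176064 1176320 250 :=
  block_of_check (k := 8) rfl (by decide +kernel)

theorem b4595 : Block F al 1176320 1176576 254 :=
  block_of_check (k := 8) rfl (by decide +kernel)

theorem b4596 : Block F al 1176576 1176832 252 :=
  block_of_check (k := 8) rfl (by decide +kernel)

theorem b4597 : Block F al 1176832 1177088 253 :=
  block_of_check (k := 8) rfl (by decide +kernel)

theorem b4598 : Block F al 1177088 1177344 255 :=
  block_of_check (k := 8) rfl (by decide +kernel)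

theorem b4599 : Block F al 1177344 1177600 252 :=
  block_of_check (k := 8) rfl (by decide +kernel)

theorem b4600 : Block F al 1177600 1177856 251 :=
  block_of_check (k := 8) rfl (by decide +kernel)

theorem b4601 : Block F al 1177856 1178112 250 :=
  block_of_check (k := 8) rfl (by decide +kernel)

theorem b4602 : Block F al 1178112 1178368 253 :=
  block_of_check (k := 8) rfl (by decide +kernel)

theorem b4603 : Block F al 1178368 1178624 254 :=
  block_of_check (k := 8) rfl (by decide +kernel)

theorem b4604 : Block F al 1178624 1178880 255 :=
  block_of_check (k := 8) rfl (by decide +kernel)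

end Cfsg.Agent.TcData.HN.I1539000
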