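import Mathlib
import Cfsg.Agent.TcData.HN.I1539000.Tab

set_option autoImplicit false
set_option Elab.async false
set_option maxRecDepth 100000
set_option linter.all false

namespace Cfsg.Agent.TcData.HN.I1539000

open Cfsg.Spor Cfsg.Agent.Lib.TcFacts Cfsg.Agent.Lib.TcBits Cfsg.Agent.Lib.TcPres Cfsg.Spor.HN Cfsg.Agent.TcData.HN

theorem b4605 : Block F al 1178880 1179136 255 :=
  block_of_check (k := 8) rfl (by decide +kernel)

theorem b4606 : Block F al 1179136 1179392 250 :=
  block_of_check (k := 8) rfl (by decide +kernel)

theorem b4607 : Block F al 1179392 1179648 252 :=
  block_of_check (k := 8) rfl (by decide +kernel)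

theorem b4608 : Block F al 1179648 1179904 252 :=
  block_of_check (k := 8) rfl (by decide +kernel)

theorem b4609 : Block F al 1179904 1180160 253 :=
  block_of_check (k := 8) rfl (by decide +kernel)

theorem b4610 : Block F al 1180160 1180416 256 :=
  block_of_check (k := 8) rfl (by decide +kernel)

theorem b4611 : Block F al 1180416 1180672 252 :=
  block_of_check (k := 8) rfl (by decide +kernel)

theorem b4612 : Block F al 1180672 1180928 252 :=
  block_of_check (k := 8) rfl (by decide +kernel)

theorem b4613 : Block F al 1180928 1181184 256 :=
  block_of_check (k := 8) rfl (by decide +kernel)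

theorem b4614 : Block F al 1181184 1181440 256 :=
  block_of_check (k := 8) rfl (by decide +kernel)

theorem b4615 : Block F al 1181440 1181696 256 :=
  block_of_check (k := 8) rfl (by decide +kernel)

theorem b4616 : Block F al 1181696 1181952 254 :=
  block_of_check (k := 8) rfl (by decide +kernel)

theorem b4617 : Block F al 1181952 1182208 249 :=
  block_of_check (k := 8) rfl (by decide +kernel)

theorem b4618 : Block F al 1182208 1182464 256 :=
  block_of_check (k := 8) rfl (by decide +kernel)

theorem b4619 : Block F al 1182464 1182720 252 :=
  block_of_check (k := 8) rfl (by decide +kernel)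

theorem b4620 : Block F al 1182720 1182976 251 :=
  block_of_check (k := 8) rfl (by decide +kernel)

theorem b4621 : Block F al 1182976 1183232 252 :=
  block_of_check (k := 8) rfl (by decide +kernel)

theorem b4622 : Block F al 1183232 1183488 253 :=
  block_of_check (k := 8) rfl (by decide +kernel)

theorem b4623 : Block F al 1183488 1183744 253 :=
  block_of_check (k := 8) rfl (by decide +kernel)

theorem b4624 : Block F al 1183744 1184000 255 :=
  block_of_check (k := 8) rfl (by decide +kernel)

theorem b4625 : Block F al 1184000 1184256 255 :=
  block_of_check (k := 8) rfl (by decide +kernel)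

theorem b4626 : Block F al 1184256 1184512 253 :=
  block_of_check (k := 8) rfl (by decide +kernel)

theorem b4627 : Block F al 1184512 1184768 253 :=
  block_of_check (k := 8) rfl (by decide +kernel)

theorem b4628 : Block F al 1184768 1185024 256 :=
  block_of_check (k := 8) rfl (by decide +kernel)

theorem b4629 : Block F al 1185024 1185280 253 :=
  block_of_check (k := 8) rfl (by decide +kernel)

theorem b4630 : Block F al 1185280 1185536 249 :=
  block_of_check (k := 8) rfl (by decide +kernel)

theorem b4631 : Block F al 1185536 1185792 256 :=
  block_of_check (k := 8) rfl (by decide +kernel)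

theorem b4632 : Block F al 1185792 1186048 255 :=
  block_of_check (k := 8) rfl (by decide +kernel)

theorem b4633 : Block F al 1186048 1186304 256 :=
  block_of_check (k := 8) rfl (by decide +kernel)

theorem b4634 : Block F al 1186304 1186560 252 :=
  block_of_check (k := 8) rfl (by decide +kernel)

theorem b4635 : Block F al 1186560 1186816 254 :=
  block_of_check (k := 8) rfl (by decide +kernel)

theorem b4636 : Block F al 1186816 1187072 254 :=
  block_of_check (k := 8) rfl (by decide +kernel)

theorem b4637 : Block F al 1187072 1187328 252 :=
  block_of_check (k := 8) rfl (by decide +kernel)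

end Cfsg.Agent.TcData.HN.I1539000
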