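import Mathlib
import Cfsg.Agent.TcData.HN.I1539000.Tab

set_option autoImplicit false
set_option Elab.async false
set_option maxRecDepth 100000
set_option linter.all false

namespace Cfsg.Agent.TcData.HN.I1539000

open Cfsg.Spor Cfsg.Agent.Lib.TcFacts Cfsg.Agent.Lib.TcBits Cfsg.Agent.Lib.TcPres Cfsg.Spor.HN Cfsg.Agent.TcData.HN

theorem b4638 : Block F al 1187328 1187584 251 :=
  block_of_check (k := 8) rfl (by decide +kernel)

theorem b4639 : Block F al 1187584 1187840 250 :=
  block_of_check (k := 8) rfl (by decide +kernel)

theorem b4640 : Block F al 1187840 1188096 255 :=
  block_of_check (k := 8) rfl (by decide +kernel)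

theorem b4641 : Block F al 1188096 1188352 254 :=
  block_of_check (k := 8) rfl (by decide +kernel)

theorem b4642 : Block F al 1188352 1188608 254 :=
  block_of_check (k := 8) rfl (by decide +kernel)

theorem b4643 : Block F al 1188608 1188864 243 :=
  block_of_check (k := 8) rfl (by decide +kernel)

theorem b4644 : Block F al 1188864 1189120 246 :=
  block_of_check (k := 8) rfl (by decide +kernel)

theorem b4645 : Block F al 1189120 1189376 248 :=
  block_of_check (k := 8) rfl (by decide +kernel)

theorem b4646 : Block F al 1189376 1189632 251 :=
  block_of_check (k := 8) rfl (by decide +kernel)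

theorem b4647 : Block F al 1189632 1189888 256 :=
  block_of_check (k := 8) rfl (by decide +kernel)

theorem b4648 : Block F al 1189888 1190144 251 :=
  block_of_check (k := 8) rfl (by decide +kernel)

theorem b4649 : Block F al 1190144 1190400 248 :=
  block_of_check (k := 8) rfl (by decide +kernel)

theorem b4650 : Block F al 1190400 1190656 244 :=
  block_of_check (k := 8) rfl (by decide +kernel)

theorem b4651 : Block F al 1190656 1190912 250 :=
  block_of_check (k := 8) rfl (by decide +kernel)

theorem b4652 : Block F al 1190912 1191168 253 :=
  block_of_check (k := 8) rfl (by decide +kernel)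

theorem b4653 : Block F al 1191168 1191424 255 :=
  block_of_check (k := 8) rfl (by decide +kernel)

theorem b4654 : Block F al 1191424 1191680 252 :=
  block_of_check (k := 8) rfl (by decide +kernel)

theorem b4655 : Block F al 1191680 1191936 248 :=
  block_of_check (k := 8) rfl (by decide +kernel)

theorem b4656 : Block F al 1191936 1192192 256 :=
  block_of_check (k := 8) rfl (by decide +kernel)

theorem b4657 : Block F al 1192192 1192448 251 :=
  block_of_check (k := 8) rfl (by decide +kernel)

theorem b4658 : Block F al 1192448 1192704 247 :=
  block_of_check (k := 8) rfl (by decide +kernel)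

theorem b4659 : Block F al 1192704 1192960 253 :=
  block_of_check (k := 8) rfl (by decide +kernel)

theorem b4660 : Block F al 1192960 1193216 250 :=
  block_of_check (k := 8) rfl (by decide +kernel)

theorem b4661 : Block F al 1193216 1193472 252 :=
  block_of_check (k := 8) rfl (by decide +kernel)

theorem b4662 : Block F al 1193472 1193728 255 :=
  block_of_check (k := 8) rfl (by decide +kernel)

theorem b4663 : Block F al 1193728 1193984 256 :=
  block_of_check (k := 8) rfl (by decide +kernel)

theorem b4664 : Block F al 1193984 1194240 252 :=
  block_of_check (k := 8) rfl (by decide +kernel)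

theorem b4665 : Block F al 1194240 1194496 246 :=
  block_of_check (k := 8) rfl (by decide +kernel)

theorem b4666 : Block F al 1194496 1194752 256 :=
  block_of_check (k := 8) rfl (by decide +kernel)

theorem b4667 : Block F al 1194752 1195008 256 :=
  block_of_check (k := 8) rfl (by decide +kernel)

theorem b4668 : Block F al 1195008 1195264 246 :=
  block_of_check (k := 8) rfl (by decide +kernel)

theorem b4669 : Block F al 1195264 1195520 255 :=
  block_of_check (k := 8) rfl (by decide +kernel)

theorem b4670 : Block F al 1195520 1195776 256 :=
  block_of_check (k := 8) rfl (by decide +kernel)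

end Cfsg.Agent.TcData.HN.I1539000
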