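import Mathlib
import Cfsg.Agent.TcData.HN.I1539000.Tab

set_option autoImplicit false
set_option Elab.async false
set_option maxRecDepth 100000
set_option linter.all false

namespace Cfsg.Agent.TcData.HN.I1539000

open Cfsg.Spor Cfsg.Agent.Lib.TcFacts Cfsg.Agent.Lib.TcBits Cfsg.Agent.Lib.TcPres Cfsg.Spor.HN Cfsg.Agent.TcData.HN

theorem b4671 : Block F al 1195776 1196032 253 :=
  block_of_check (k := 8) rfl (by decide +kernel)

theorem b4672 : Block F al 1196032 1196288 251 :=
  block_of_check (k := 8) rfl (by decide +kernel)

theorem b4673 : Block F al 1196288 1196544 254 :=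
  block_of_check (k := 8) rfl (by decide +kernel)

theorem b4674 : Block F al 1196544 1196800 250 :=
  block_of_check (k := 8) rfl (by decide +kernel)

theorem b4675 : Block F al 1196800 1197056 255 :=
  block_of_check (k := 8) rfl (by decide +kernel)

theorem b4676 : Block F al 1197056 1197312 248 :=
  block_of_check (k := 8) rfl (by decide +kernel)

theorem b4677 : Block F al 1197312 1197568 256 :=
  block_of_check (k := 8) rfl (by decide +kernel)

theorem b4678 : Block F al 1197568 1197824 254 :=
  block_of_check (k := 8) rfl (by decide +kernel)

theorem b4679 : Block F al 1197824 1198080 256 :=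
  block_of_check (k := 8) rfl (by decide +kernel)

theorem b4680 : Block F al 1198080 1198336 256 :=
  block_of_check (k := 8) rfl (by decide +kernel)

theorem b4681 : Block F al 1198336 1198592 255 :=
  block_of_check (k := 8) rfl (by decide +kernel)

theorem b4682 : Block F al 1198592 1198848 254 :=
  block_of_check (k := 8) rfl (by decide +kernel)

theorem b4683 : Block F al 1198848 1199104 253 :=
  block_of_check (k := 8) rfl (by decide +kernel)

theorem b4684 : Block F al 1199104 1199360 256 :=
  block_of_check (k := 8) rfl (by decide +kernel)

theorem b4685 : Block F al 1199360 1199616 256 :=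
  block_of_check (k := 8) rfl (by decide +kernel)

theorem b4686 : Block F al 1199616 1199872 254 :=
  block_of_check (k := 8) rfl (by decide +kernel)

theorem b4687 : Block F al 1199872 1200128 251 :=
  block_of_check (k := 8) rfl (by decide +kernel)

theorem b4688 : Block F al 1200128 1200384 251 :=
  block_of_check (k := 8) rfl (by decide +kernel)

theorem b4689 : Block F al 1200384 1200640 254 :=
  block_of_check (k := 8) rfl (by decide +kernel)

theorem b4690 : Block F al 1200640 1200896 251 :=
  block_of_check (k := 8) rfl (by decide +kernel)

theorem b4691 : Block F al 1200896 1201152 252 :=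
  block_of_check (k := 8) rfl (by decide +kernel)

theorem b4692 : Block F al 1201152 1201408 253 :=
  block_of_check (k := 8) rfl (by decide +kernel)

theorem b4693 : Block F al 1201408 1201664 256 :=
  block_of_check (k := 8) rfl (by decide +kernel)

theorem b4694 : Block F al 1201664 1201920 254 :=
  block_of_check (k := 8) rfl (by decide +kernel)

theorem b4695 : Block F al 1201920 1202176 256 :=
  block_of_check (k := 8) rfl (by decide +kernel)

theorem b4696 : Block F al 1202176 1202432 255 :=
  block_of_check (k := 8) rfl (by decide +kernel)

theorem b4697 : Block F al 1202432 1202688 255 :=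
  block_of_check (k := 8) rfl (by decide +kernel)

theorem b4698 : Block F al 1202688 1202944 244 :=
  block_of_check (k := 8) rfl (by decide +kernel)

theorem b4699 : Block F al 1202944 1203200 253 :=
  block_of_check (k := 8) rfl (by decide +kernel)

theorem b4700 : Block F al 1203200 1203456 254 :=
  block_of_check (k := 8) rfl (by decide +kernel)

theorem b4701 : Block F al 1203456 1203712 256 :=
  block_of_check (k := 8) rfl (by decide +kernel)

theorem b4702 : Block F al 1203712 1203968 256 :=
  block_of_check (k := 8) rfl (by decide +kernel)

end Cfsg.Agent.TcData.HN.I1539000
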