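import Mathlib
import Cfsg.Agent.TcData.HN.I1539000.Tab

set_option autoImplicit false
set_option Elab.async false
set_option maxRecDepth 100000
set_option linter.all false

namespace Cfsg.Agent.TcData.HN.I1539000

open Cfsg.Spor Cfsg.Agent.Lib.TcFacts Cfsg.Agent.Lib.TcBits Cfsg.Agent.Lib.TcPres Cfsg.Spor.HN Cfsg.Agent.TcData.HN

theorem b4703 : Block F al 1203968 1204224 254 :=
  block_of_check (k := 8) rfl (by decide +kernel)

theorem b4704 : Block F al 1204224 1204480 254 :=
  block_of_check (k := 8) rfl (by decide +kernel)

theorem b4705 : Block F al 1204480 1204736 252 :=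
  block_of_check (k := 8) rfl (by decide +kernel)

theorem b4706 : Block F al 1204736 1204992 255 :=
  block_of_check (k := 8) rfl (by decide +kernel)

theorem b4707 : Block F al 1204992 1205248 254 :=
  block_of_check (k := 8) rfl (by decide +kernel)

theorem b4708 : Block F al 1205248 1205504 255 :=
  block_of_check (k := 8) rfl (by decide +kernel)

theorem b4709 : Block F al 1205504 1205760 254 :=
  block_of_check (k := 8) rfl (by decide +kernel)

theorem b4710 : Block F al 1205760 1206016 255 :=
  block_of_check (k := 8) rfl (by decide +kernel)

theorem b4711 : Block F al 1206016 1206272 256 :=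
  block_of_check (k := 8) rfl (by decide +kernel)

theorem b4712 : Block F al 1206272 1206528 252 :=
  block_of_check (k := 8) rfl (by decide +kernel)

theorem b4713 : Block F al 1206528 1206784 252 :=
  block_of_check (k := 8) rfl (by decide +kernel)

theorem b4714 : Block F al 1206784 1207040 249 :=
  block_of_check (k := 8) rfl (by decide +kernel)

theorem b4715 : Block F al 1207040 1207296 251 :=
  block_of_check (k := 8) rfl (by decide +kernel)

theorem b4716 : Block F al 1207296 1207552 256 :=
  block_of_check (k := 8) rfl (by decide +kernel)

theorem b4717 : Block F al 1207552 1207808 254 :=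
  block_of_check (k := 8) rfl (by decide +kernel)

theorem b4718 : Block F al 1207808 1208064 255 :=
  block_of_check (k := 8) rfl (by decide +kernel)

theorem b4719 : Block F al 1208064 1208320 252 :=
  block_of_check (k := 8) rfl (by decide +kernel)

theorem b4720 : Block F al 1208320 1208576 252 :=
  block_of_check (k := 8) rfl (by decide +kernel)

theorem b4721 : Block F al 1208576 1208832 255 :=
  block_of_check (k := 8) rfl (by decide +kernel)

theorem b4722 : Block F al 1208832 1209088 255 :=
  block_of_check (k := 8) rfl (by decide +kernel)

theorem b4723 : Block F al 1209088 1209344 254 :=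
  block_of_check (k := 8) rfl (by decide +kernel)

theorem b4724 : Block F al 1209344 1209600 254 :=
  block_of_check (k := 8) rfl (by decide +kernel)

theorem b4725 : Block F al 1209600 1209856 255 :=
  block_of_check (k := 8) rfl (by decide +kernel)

theorem b4726 : Block F al 1209856 1210112 246 :=
  block_of_check (k := 8) rfl (by decide +kernel)

theorem b4727 : Block F al 1210112 1210368 254 :=
  block_of_check (k := 8) rfl (by decide +kernel)

theorem b4728 : Block F al 1210368 1210624 253 :=
  block_of_check (k := 8) rfl (by decide +kernel)

theorem b4729 : Block F al 1210624 1210880 252 :=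
  block_of_check (k := 8) rfl (by decide +kernel)

theorem b4730 : Block F al 1210880 1211136 254 :=
  block_of_check (k := 8) rfl (by decide +kernel)

theorem b4731 : Block F al 1211136 1211392 255 :=
  block_of_check (k := 8) rfl (by decide +kernel)

theorem b4732 : Block F al 1211392 1211648 247 :=
  block_of_check (k := 8) rfl (by decide +kernel)

theorem b4733 : Block F al 1211648 1211904 251 :=
  block_of_check (k := 8) rfl (by decide +kernel)

theorem b4734 : Block F al 1211904 1212160 243 :=
  block_of_check (k := 8) rfl (by decide +kernel)

end Cfsg.Agent.TcData.HN.I1539000
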