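import Mathlib
import Cfsg.Agent.TcData.HN.I1539000.Tab

set_option autoImplicit false
set_option Elab.async false
set_option maxRecDepth 100000
set_option linter.all false

namespace Cfsg.Agent.TcData.HN.I1539000

open Cfsg.Spor Cfsg.Agent.Lib.TcFacts Cfsg.Agent.Lib.TcBits Cfsg.Agent.Lib.TcPres Cfsg.Spor.HN Cfsg.Agent.TcData.HN

theorem b4735 : Block F al 1212160 1212416 255 :=
  block_of_check (k := 8) rfl (by decide +kernel)

theorem b4736 : Block F al 1212416 1212672 254 :=
  block_of_check (k := 8) rfl (by decide +kernel)

theorem b4737 : Block F al 1212672 1212928 256 :=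
  block_of_check (k := 8) rfl (by decide +kernel)

theorem b4738 : Block F al 1212928 1213184 252 :=
  block_of_check (k := 8) rfl (by decide +kernel)

theorem b4739 : Block F al 1213184 1213440 255 :=
  block_of_check (k := 8) rfl (by decide +kernel)

theorem b4740 : Block F al 1213440 1213696 253 :=
  block_of_check (k := 8) rfl (by decide +kernel)

theorem b4741 : Block F al 1213696 1213952 253 :=
  block_of_check (k := 8) rfl (by decide +kernel)

theorem b4742 : Block F al 1213952 1214208 251 :=
  block_of_check (k := 8) rfl (by decide +kernel)

theorem b4743 : Block F al 1214208 1214464 254 :=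
  block_of_check (k := 8) rfl (by decide +kernel)

theorem b4744 : Block F al 1214464 1214720 255 :=
  block_of_check (k := 8) rfl (by decide +kernel)

theorem b4745 : Block F al 1214720 1214976 255 :=
  block_of_check (k := 8) rfl (by decide +kernel)

theorem b4746 : Block F al 1214976 1215232 255 :=
  block_of_check (k := 8) rfl (by decide +kernel)

theorem b4747 : Block F al 1215232 1215488 254 :=
  block_of_check (k := 8) rfl (by decide +kernel)

theorem b4748 : Block F al 1215488 1215744 247 :=
  block_of_check (k := 8) rfl (by decide +kernel)

theorem b4749 : Block F al 1215744 1216000 253 :=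
  block_of_check (k := 8) rfl (by decide +kernel)

theorem b4750 : Block F al 1216000 1216256 256 :=
  block_of_check (k := 8) rfl (by decide +kernel)

theorem b4751 : Block F al 1216256 1216512 255 :=
  block_of_check (k := 8) rfl (by decide +kernel)

theorem b4752 : Block F al 1216512 1216768 256 :=
  block_of_check (k := 8) rfl (by decide +kernel)

theorem b4753 : Block F al 1216768 1217024 252 :=
  block_of_check (k := 8) rfl (by decide +kernel)

theorem b4754 : Block F al 1217024 1217280 251 :=
  block_of_check (k := 8) rfl (by decide +kernel)

theorem b4755 : Block F al 1217280 1217536 253 :=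
  block_of_check (k := 8) rfl (by decide +kernel)

theorem b4756 : Block F al 1217536 1217792 251 :=
  block_of_check (k := 8) rfl (by decide +kernel)

theorem b4757 : Block F al 1217792 1218048 252 :=
  block_of_check (k := 8) rfl (by decide +kernel)

theorem b4758 : Block F al 1218048 1218304 252 :=
  block_of_check (k := 8) rfl (by decide +kernel)

theorem b4759 : Block F al 1218304 1218560 252 :=
  block_of_check (k := 8) rfl (by decide +kernel)

theorem b4760 : Block F al 1218560 1218816 252 :=
  block_of_check (k := 8) rfl (by decide +kernel)

theorem b4761 : Block F al 1218816 1219072 256 :=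
  block_of_check (k := 8) rfl (by decide +kernel)

theorem b4762 : Block F al 1219072 1219328 254 :=
  block_of_check (k := 8) rfl (by decide +kernel)

theorem b4763 : Block F al 1219328 1219584 249 :=
  block_of_check (k := 8) rfl (by decide +kernel)

theorem b4764 : Block F al 1219584 1219840 252 :=
  block_of_check (k := 8) rfl (by decide +kernel)

theorem b4765 : Block F al 1219840 1220096 250 :=
  block_of_check (k := 8) rfl (by decide +kernel)

theorem b4766 : Block F al 1220096 1220352 254 :=
  block_of_check (k := 8) rfl (by decide +kernel)

end Cfsg.Agent.TcData.HN.I1539000
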