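import Mathlib
import Cfsg.Agent.TcData.HN.I1539000.Tab

set_option autoImplicit false
set_option Elab.async false
set_option maxRecDepth 100000
set_option linter.all false

namespace Cfsg.Agent.TcData.HN.I1539000

open Cfsg.Spor Cfsg.Agent.Lib.TcFacts Cfsg.Agent.Lib.TcBits Cfsg.Agent.Lib.TcPres Cfsg.Spor.HN Cfsg.Agent.TcData.HN

theorem b4767 : Block F al 1220352 1220608 256 :=
  block_of_check (k := 8) rfl (by decide +kernel)

theorem b4768 : Block F al 1220608 1220864 254 :=
  block_of_check (k := 8) rfl (by decide +kernel)

theorem b4769 : Block F al 1220864 1221120 256 :=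
  block_of_check (k := 8) rfl (by decide +kernel)

theorem b4770 : Block F al 1221120 1221376 252 :=
  block_of_check (k := 8) rfl (by decide +kernel)

theorem b4771 : Block F al 1221376 1221632 246 :=
  block_of_check (k := 8) rfl (by decide +kernel)

theorem b4772 : Block F al 1221632 1221888 254 :=
  block_of_check (k := 8) rfl (by decide +kernel)

theorem b4773 : Block F al 1221888 1222144 253 :=
  block_of_check (k := 8) rfl (by decide +kernel)

theorem b4774 : Block F al 1222144 1222400 256 :=
  block_of_check (k := 8) rfl (by decide +kernel)

theorem b4775 : Block F al 1222400 1222656 251 :=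
  block_of_check (k := 8) rfl (by decide +kernel)

theorem b4776 : Block F al 1222656 1222912 249 :=
  block_of_check (k := 8) rfl (by decide +kernel)

theorem b4777 : Block F al 1222912 1223168 252 :=
  block_of_check (k := 8) rfl (by decide +kernel)

theorem b4778 : Block F al 1223168 1223424 249 :=
  block_of_check (k := 8) rfl (by decide +kernel)

theorem b4779 : Block F al 1223424 1223680 254 :=
  block_of_check (k := 8) rfl (by decide +kernel)

theorem b4780 : Block F al 1223680 1223936 253 :=
  block_of_check (k := 8) rfl (by decide +kernel)

theorem b4781 : Block F al 1223936 1224192 250 :=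
  block_of_check (k := 8) rfl (by decide +kernel)

theorem b4782 : Block F al 1224192 1224448 256 :=
  block_of_check (k := 8) rfl (by decide +kernel)

theorem b4783 : Block F al 1224448 1224704 255 :=
  block_of_check (k := 8) rfl (by decide +kernel)

theorem b4784 : Block F al 1224704 1224960 256 :=
  block_of_check (k := 8) rfl (by decide +kernel)

theorem b4785 : Block F al 1224960 1225216 255 :=
  block_of_check (k := 8) rfl (by decide +kernel)

theorem b4786 : Block F al 1225216 1225472 256 :=
  block_of_check (k := 8) rfl (by decide +kernel)

theorem b4787 : Block F al 1225472 1225728 255 :=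
  block_of_check (k := 8) rfl (by decide +kernel)

theorem b4788 : Block F al 1225728 1225984 256 :=
  block_of_check (k := 8) rfl (by decide +kernel)

theorem b4789 : Block F al 1225984 1226240 254 :=
  block_of_check (k := 8) rfl (by decide +kernel)

theorem b4790 : Block F al 1226240 1226496 256 :=
  block_of_check (k := 8) rfl (by decide +kernel)

theorem b4791 : Block F al 1226496 1226752 253 :=
  block_of_check (k := 8) rfl (by decide +kernel)

theorem b4792 : Block F al 1226752 1227008 253 :=
  block_of_check (k := 8) rfl (by decide +kernel)

theorem b4793 : Block F al 1227008 1227264 256 :=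
  block_of_check (k := 8) rfl (by decide +kernel)

theorem b4794 : Block F al 1227264 1227520 244 :=
  block_of_check (k := 8) rfl (by decide +kernel)

theorem b4795 : Block F al 1227520 1227776 250 :=
  block_of_check (k := 8) rfl (by decide +kernel)

theorem b4796 : Block F al 1227776 1228032 253 :=
  block_of_check (k := 8) rfl (by decide +kernel)

theorem b4797 : Block F al 1228032 1228288 251 :=
  block_of_check (k := 8) rfl (by decide +kernel)

theorem b4798 : Block F al 1228288 1228544 253 :=
  block_of_check (k := 8) rfl (by decide +kernel)

end Cfsg.Agent.TcData.HN.I1539000
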