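import Mathlib
import Cfsg.Agent.TcData.HN.I1539000.Tab

set_option autoImplicit false
set_option Elab.async false
set_option maxRecDepth 100000
set_option linter.all false

namespace Cfsg.Agent.TcData.HN.I1539000

open Cfsg.Spor Cfsg.Agent.Lib.TcFacts Cfsg.Agent.Lib.TcBits Cfsg.Agent.Lib.TcPres Cfsg.Spor.HN Cfsg.Agent.TcData.HN

theorem b4799 : Block F al 1228544 1228800 253 :=
  block_of_check (k := 8) rfl (by decide +kernel)

theorem b4800 : Block F al 1228800 1229056 251 :=
  block_of_check (k := 8) rfl (by decide +kernel)

theorem b4801 : Block F al 1229056 1229312 254 :=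
  block_of_check (k := 8) rfl (by decide +kernel)

theorem b4802 : Block F al 1229312 1229568 256 :=
  block_of_check (k := 8) rfl (by decide +kernel)

theorem b4803 : Block F al 1229568 1229824 255 :=
  block_of_check (k := 8) rfl (by decide +kernel)

theorem b4804 : Block F al 1229824 1230080 255 :=
  block_of_check (k := 8) rfl (by decide +kernel)

theorem b4805 : Block F al 1230080 1230336 253 :=
  block_of_check (k := 8) rfl (by decide +kernel)

theorem b4806 : Block F al 1230336 1230592 249 :=
  block_of_check (k := 8) rfl (by decide +kernel)

theorem b4807 : Block F al 1230592 1230848 251 :=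
  block_of_check (k := 8) rfl (by decide +kernel)

theorem b4808 : Block F al 1230848 1231104 255 :=
  block_of_check (k := 8) rfl (by decide +kernel)

theorem b4809 : Block F al 1231104 1231360 253 :=
  block_of_check (k := 8) rfl (by decide +kernel)

theorem b4810 : Block F al 1231360 1231616 256 :=
  block_of_check (k := 8) rfl (by decide +kernel)

theorem b4811 : Block F al 1231616 1231872 254 :=
  block_of_check (k := 8) rfl (by decide +kernel)

theorem b4812 : Block F al 1231872 1232128 254 :=
  block_of_check (k := 8) rfl (by decide +kernel)

theorem b4813 : Block F al 1232128 1232384 255 :=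
  block_of_check (k := 8) rfl (by decide +kernel)

theorem b4814 : Block F al 1232384 1232640 254 :=
  block_of_check (k := 8) rfl (by decide +kernel)

theorem b4815 : Block F al 1232640 1232896 251 :=
  block_of_check (k := 8) rfl (by decide +kernel)

theorem b4816 : Block F al 1232896 1233152 256 :=
  block_of_check (k := 8) rfl (by decide +kernel)

theorem b4817 : Block F al 1233152 1233408 256 :=
  block_of_check (k := 8) rfl (by decide +kernel)

theorem b4818 : Block F al 1233408 1233664 254 :=
  block_of_check (k := 8) rfl (by decide +kernel)

theorem b4819 : Block F al 1233664 1233920 255 :=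
  block_of_check (k := 8) rfl (by decide +kernel)

theorem b4820 : Block F al 1233920 1234176 254 :=
  block_of_check (k := 8) rfl (by decide +kernel)

theorem b4821 : Block F al 1234176 1234432 254 :=
  block_of_check (k := 8) rfl (by decide +kernel)

theorem b4822 : Block F al 1234432 1234688 256 :=
  block_of_check (k := 8) rfl (by decide +kernel)

theorem b4823 : Block F al 1234688 1234944 249 :=
  block_of_check (k := 8) rfl (by decide +kernel)

theorem b4824 : Block F al 1234944 1235200 253 :=
  block_of_check (k := 8) rfl (by decide +kernel)

theorem b4825 : Block F al 1235200 1235456 256 :=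
  block_of_check (k := 8) rfl (by decide +kernel)

theorem b4826 : Block F al 1235456 1235712 256 :=
  block_of_check (k := 8) rfl (by decide +kernel)

theorem b4827 : Block F al 1235712 1235968 256 :=
  block_of_check (k := 8) rfl (by decide +kernel)

theorem b4828 : Block F al 1235968 1236224 252 :=
  block_of_check (k := 8) rfl (by decide +kernel)

theorem b4829 : Block F al 1236224 1236480 255 :=
  block_of_check (k := 8) rfl (by decide +kernel)

end Cfsg.Agent.TcData.HN.I1539000
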