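import Mathlib
import Cfsg.Agent.TcData.HN.I1539000.Tab

set_option autoImplicit false
set_option Elab.async false
set_option maxRecDepth 100000
set_option linter.all false

namespace Cfsg.Agent.TcData.HN.I1539000

open Cfsg.Spor Cfsg.Agent.Lib.TcFacts Cfsg.Agent.Lib.TcBits Cfsg.Agent.Lib.TcPres Cfsg.Spor.HN Cfsg.Agent.TcData.HN

theorem b4830 : Block F al 1236480 1236736 247 :=
  block_of_check (k := 8) rfl (by decide +kernel)

theorem b4831 : Block F al 1236736 1236992 256 :=
  block_of_check (k := 8) rfl (by decide +kernel)

theorem b4832 : Block F al 1236992 1237248 256 :=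
  block_of_check (k := 8) rfl (by decide +kernel)

theorem b4833 : Block F al 1237248 1237504 250 :=
  block_of_check (k := 8) rfl (by decide +kernel)

theorem b4834 : Block F al 1237504 1237760 256 :=
  block_of_check (k := 8) rfl (by decide +kernel)

theorem b4835 : Block F al 1237760 1238016 256 :=
  block_of_check (k := 8) rfl (by decide +kernel)

theorem b4836 : Block F al 1238016 1238272 253 :=
  block_of_check (k := 8) rfl (by decide +kernel)

theorem b4837 : Block F al 1238272 1238528 253 :=
  block_of_check (k := 8) rfl (by decide +kernel)

theorem b4838 : Block F al 1238528 1238784 256 :=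
  block_of_check (k := 8) rfl (by decide +kernel)

theorem b4839 : Block F al 1238784 1239040 256 :=
  block_of_check (k := 8) rfl (by decide +kernel)

theorem b4840 : Block F al 1239040 1239296 256 :=
  block_of_check (k := 8) rfl (by decide +kernel)

theorem b4841 : Block F al 1239296 1239552 256 :=
  block_of_check (k := 8) rfl (by decide +kernel)

theorem b4842 : Block F al 1239552 1239808 256 :=
  block_of_check (k := 8) rfl (by decide +kernel)

theorem b4843 : Block F al 1239808 1240064 256 :=
  block_of_check (k := 8) rfl (by decide +kernel)

theorem b4844 : Block F al 1240064 1240320 251 :=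
  block_of_check (k := 8) rfl (by decide +kernel)

theorem b4845 : Block F al 1240320 1240576 255 :=
  block_of_check (k := 8) rfl (by decide +kernel)

theorem b4846 : Block F al 1240576 1240832 255 :=
  block_of_check (k := 8) rfl (by decide +kernel)

theorem b4847 : Block F al 1240832 1241088 254 :=
  block_of_check (k := 8) rfl (by decide +kernel)

theorem b4848 : Block F al 1241088 1241344 256 :=
  block_of_check (k := 8) rfl (by decide +kernel)

theorem b4849 : Block F al 1241344 1241600 253 :=
  block_of_check (k := 8) rfl (by decide +kernel)

theorem b4850 : Block F al 1241600 1241856 253 :=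
  block_of_check (k := 8) rfl (by decide +kernel)

theorem b4851 : Block F al 1241856 1242112 253 :=
  block_of_check (k := 8) rfl (by decide +kernel)

theorem b4852 : Block F al 1242112 1242368 253 :=
  block_of_check (k := 8) rfl (by decide +kernel)

theorem b4853 : Block F al 1242368 1242624 255 :=
  block_of_check (k := 8) rfl (by decide +kernel)

theorem b4854 : Block F al 1242624 1242880 256 :=
  block_of_check (k := 8) rfl (by decide +kernel)

theorem b4855 : Block F al 1242880 1243136 256 :=
  block_of_check (k := 8) rfl (by decide +kernel)

theorem b4856 : Block F al 1243136 1243392 255 :=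
  block_of_check (k := 8) rfl (by decide +kernel)

theorem b4857 : Block F al 1243392 1243648 256 :=
  block_of_check (k := 8) rfl (by decide +kernel)

theorem b4858 : Block F al 1243648 1243904 256 :=
  block_of_check (k := 8) rfl (by decide +kernel)

theorem b4859 : Block F al 1243904 1244160 256 :=
  block_of_check (k := 8) rfl (by decide +kernel)

theorem b4860 : Block F al 1244160 1244416 248 :=
  block_of_check (k := 8) rfl (by decide +kernel)

end Cfsg.Agent.TcData.HN.I1539000
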