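import Mathlib
import Cfsg.Agent.TcData.HN.I1539000.Tab

set_option autoImplicit false
set_option Elab.async false
set_option maxRecDepth 100000
set_option linter.all false

namespace Cfsg.Agent.TcData.HN.I1539000

open Cfsg.Spor Cfsg.Agent.Lib.TcFacts Cfsg.Agent.Lib.TcBits Cfsg.Agent.Lib.TcPres Cfsg.Spor.HN Cfsg.Agent.TcData.HN

theorem b627 : Block F al 160512 160768 249 :=
  block_of_check (k := 8) rfl (by decide +kernel)

theorem b628 : Block F al 160768 161024 210 :=
  block_of_check (k := 8) rfl (by decide +kernel)

theorem b629 : Block F al 161024 161280 222 :=
  block_of_check (k := 8) rfl (by decide +kernel)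

theorem b630 : Block F al 161280 161536 243 :=
  block_of_check (k := 8) rfl (by decide +kernel)

theorem b631 : Block F al 161536 161792 248 :=
  block_of_check (k := 8) rfl (by decide +kernel)

theorem b632 : Block F al 161792 162048 228 :=
  block_of_check (k := 8) rfl (by decide +kernel)

theorem b633 : Block F al 162048 162304 218 :=
  block_of_check (k := 8) rfl (by decide +kernel)

theorem b634 : Block F al 162304 162560 234 :=
  block_of_check (k := 8) rfl (by decide +kernel)

theorem b635 : Block F al 162560 162816 240 :=
  block_of_check (k := 8) rfl (by decide +kernel)

theorem b636 : Block F al 162816 163072 232 :=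
  block_of_check (k := 8) rfl (by decide +kernel)

theorem b637 : Block F al 163072 163328 248 :=
  block_of_check (k := 8) rfl (by decide +kernel)

theorem b638 : Block F al 163328 163584 246 :=
  block_of_check (k := 8) rfl (by decide +kernel)

theorem b639 : Block F al 163584 163840 241 :=
  block_of_check (k := 8) rfl (by decide +kernel)

theorem b640 : Block F al 163840 164096 251 :=
  block_of_check (k := 8) rfl (by decide +kernel)

theorem b641 : Block F al 164096 164352 243 :=
  block_of_check (k := 8) rfl (by decide +kernel)

theorem b642 : Block F al 164352 164608 245 :=
  block_of_check (k := 8) rfl (by decide +kernel)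

theorem b643 : Block F al 164608 164864 240 :=
  block_of_check (k := 8) rfl (by decide +kernel)

theorem b644 : Block F al 164864 165120 236 :=
  block_of_check (k := 8) rfl (by decide +kernel)

theorem b645 : Block F al 165120 165376 234 :=
  block_of_check (k := 8) rfl (by decide +kernel)

theorem b646 : Block F al 165376 165632 235 :=
  block_of_check (k := 8) rfl (by decide +kernel)

theorem b647 : Block F al 165632 165888 240 :=
  block_of_check (k := 8) rfl (by decide +kernel)

theorem b648 : Block F al 165888 166144 236 :=
  block_of_check (k := 8) rfl (by decide +kernel)

theorem b649 : Block F al 166144 166400 227 :=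
  block_of_check (k := 8) rfl (by decide +kernel)

theorem b650 : Block F al 166400 166656 246 :=
  block_of_check (k := 8) rfl (by decide +kernel)

theorem b651 : Block F al 166656 166912 249 :=
  block_of_check (k := 8) rfl (by decide +kernel)

theorem b652 : Block F al 166912 167168 242 :=
  block_of_check (k := 8) rfl (by decide +kernel)

theorem b653 : Block F al 167168 167424 219 :=
  block_of_check (k := 8) rfl (by decide +kernel)

theorem b654 : Block F al 167424 167680 234 :=
  block_of_check (k := 8) rfl (by decide +kernel)

theorem b655 : Block F al 167680 167936 234 :=
  block_of_check (k := 8) rfl (by decide +kernel)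

theorem b656 : Block F al 167936 168192 239 :=
  block_of_check (k := 8) rfl (by decide +kernel)

theorem b657 : Block F al 168192 168448 242 :=
  block_of_check (k := 8) rfl (by decide +kernel)

theorem b658 : Block F al 168448 168704 238 :=
  block_of_check (k := 8) rfl (by decide +kernel)

theorem b659 : Block F al 168704 168960 238 :=
  block_of_check (k := 8) rfl (by decide +kernel)

theorem b660 : Block F al 168960 169216 251 :=
  block_of_check (k := 8) rfl (by decide +kernel)

theorem b661 : Block F al 169216 169472 250 :=
  block_of_check (k := 8) rfl (by decide +kernel)

theorem b662 : Block F al 169472 169728 251 :=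
  block_of_check (k := 8) rfl (by decide +kernel)

theorem b663 : Block F al 169728 169984 243 :=
  block_of_check (k := 8) rfl (by decide +kernel)

theorem b664 : Block F al 169984 170240 239 :=
  block_of_check (k := 8) rfl (by decide +kernel)

theorem b665 : Block F al 170240 170496 233 :=
  block_of_check (k := 8) rfl (by decide +kernel)

theorem b666 : Block F al 170496 170752 232 :=
  block_of_check (k := 8) rfl (by decide +kernel)

theorem b667 : Block F al 170752 171008 242 :=
  block_of_check (k := 8) rfl (by decide +kernel)

theorem b668 : Block F al 171008 171264 244 :=
  block_of_check (k := 8) rfl (by decide +kernel)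

theorem b669 : Block F al 171264 171520 239 :=
  block_of_check (k := 8) rfl (by decide +kernel)

theorem b670 : Block F al 171520 171776 240 :=
  block_of_check (k := 8) rfl (by decide +kernel)

theorem b671 : Block F al 171776 172032 228 :=
  block_of_check (k := 8) rfl (by decide +kernel)

theorem b672 : Block F al 172032 172288 237 :=
  block_of_check (k := 8) rfl (by decide +kernel)

theorem b673 : Block F al 172288 172544 246 :=
  block_of_check (k := 8) rfl (by decide +kernel)

theorem b674 : Block F al 172544 172800 251 :=
  block_of_check (k := 8) rfl (by decide +kernel)

theorem b675 : Block F al 172800 173056 244 :=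
  block_of_check (k := 8) rfl (by decide +kernel)

end Cfsg.Agent.TcData.HN.I1539000
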