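import Mathlib
import Cfsg.Agent.TcData.HN.I1539000.Tab

set_option autoImplicit false
set_option Elab.async false
set_option maxRecDepth 100000
set_option linter.all false

namespace Cfsg.Agent.TcData.HN.I1539000

open Cfsg.Spor Cfsg.Agent.Lib.TcFacts Cfsg.Agent.Lib.TcBits Cfsg.Agent.Lib.TcPres Cfsg.Spor.HN Cfsg.Agent.TcData.HN

theorem b4891 : Block F al 1252096 1252352 255 :=
  block_of_check (k := 8) rfl (by decide +kernel)

theorem b4892 : Block F al 1252352 1252608 254 :=
  block_of_check (k := 8) rfl (by decide +kernel)

theorem b4893 : Block F al 1252608 1252864 251 :=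
  block_of_check (k := 8) rfl (by decide +kernel)

theorem b4894 : Block F al 1252864 1253120 255 :=
  block_of_check (k := 8) rfl (by decide +kernel)

theorem b4895 : Block F al 1253120 1253376 256 :=
  block_of_check (k := 8) rfl (by decide +kernel)

theorem b4896 : Block F al 1253376 1253632 252 :=
  block_of_check (k := 8) rfl (by decide +kernel)

theorem b4897 : Block F al 1253632 1253888 254 :=
  block_of_check (k := 8) rfl (by decide +kernel)

theorem b4898 : Block F al 1253888 1254144 249 :=
  block_of_check (k := 8) rfl (by decide +kernel)

theorem b4899 : Block F al 1254144 1254400 256 :=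
  block_of_check (k := 8) rfl (by decide +kernel)

theorem b4900 : Block F al 1254400 1254656 256 :=
  block_of_check (k := 8) rfl (by decide +kernel)

theorem b4901 : Block F al 1254656 1254912 252 :=
  block_of_check (k := 8) rfl (by decide +kernel)

theorem b4902 : Block F al 1254912 1255168 256 :=
  block_of_check (k := 8) rfl (by decide +kernel)

theorem b4903 : Block F al 1255168 1255424 255 :=
  block_of_check (k := 8) rfl (by decide +kernel)

theorem b4904 : Block F al 1255424 1255680 256 :=
  block_of_check (k := 8) rfl (by decide +kernel)

theorem b4905 : Block F al 1255680 1255936 249 :=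
  block_of_check (k := 8) rfl (by decide +kernel)

theorem b4906 : Block F al 1255936 1256192 252 :=
  block_of_check (k := 8) rfl (by decide +kernel)

theorem b4907 : Block F al 1256192 1256448 253 :=
  block_of_check (k := 8) rfl (by decide +kernel)

theorem b4908 : Block F al 1256448 1256704 256 :=
  block_of_check (k := 8) rfl (by decide +kernel)

theorem b4909 : Block F al 1256704 1256960 255 :=
  block_of_check (k := 8) rfl (by decide +kernel)

theorem b4910 : Block F al 1256960 1257216 256 :=
  block_of_check (k := 8) rfl (by decide +kernel)

theorem b4911 : Block F al 1257216 1257472 245 :=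
  block_of_check (k := 8) rfl (by decide +kernel)

theorem b4912 : Block F al 1257472 1257728 255 :=
  block_of_check (k := 8) rfl (by decide +kernel)

theorem b4913 : Block F al 1257728 1257984 255 :=
  block_of_check (k := 8) rfl (by decide +kernel)

theorem b4914 : Block F al 1257984 1258240 256 :=
  block_of_check (k := 8) rfl (by decide +kernel)

theorem b4915 : Block F al 1258240 1258496 255 :=
  block_of_check (k := 8) rfl (by decide +kernel)

theorem b4916 : Block F al 1258496 1258752 255 :=
  block_of_check (k := 8) rfl (by decide +kernel)

theorem b4917 : Block F al 1258752 1259008 255 :=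
  block_of_check (k := 8) rfl (by decide +kernel)

theorem b4918 : Block F al 1259008 1259264 252 :=
  block_of_check (k := 8) rfl (by decide +kernel)

theorem b4919 : Block F al 1259264 1259520 252 :=
  block_of_check (k := 8) rfl (by decide +kernel)

theorem b4920 : Block F al 1259520 1259776 256 :=
  block_of_check (k := 8) rfl (by decide +kernel)

theorem b4921 : Block F al 1259776 1260032 255 :=
  block_of_check (k := 8) rfl (by decide +kernel)

end Cfsg.Agent.TcData.HN.I1539000
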