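import Mathlib
import Cfsg.Agent.TcData.HN.I1539000.Tab

set_option autoImplicit false
set_option Elab.async false
set_option maxRecDepth 100000
set_option linter.all false

namespace Cfsg.Agent.TcData.HN.I1539000

open Cfsg.Spor Cfsg.Agent.Lib.TcFacts Cfsg.Agent.Lib.TcBits Cfsg.Agent.Lib.TcPres Cfsg.Spor.HN Cfsg.Agent.TcData.HN

theorem b4922 : Block F al 1260032 1260288 256 :=
  block_of_check (k := 8) rfl (by decide +kernel)

theorem b4923 : Block F al 1260288 1260544 250 :=
  block_of_check (k := 8) rfl (by decide +kernel)

theorem b4924 : Block F al 1260544 1260800 255 :=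
  block_of_check (k := 8) rfl (by decide +kernel)

theorem b4925 : Block F al 1260800 1261056 253 :=
  block_of_check (k := 8) rfl (by decide +kernel)

theorem b4926 : Block F al 1261056 1261312 251 :=
  block_of_check (k := 8) rfl (by decide +kernel)

theorem b4927 : Block F al 1261312 1261568 256 :=
  block_of_check (k := 8) rfl (by decide +kernel)

theorem b4928 : Block F al 1261568 1261824 252 :=
  block_of_check (k := 8) rfl (by decide +kernel)

theorem b4929 : Block F al 1261824 1262080 255 :=
  block_of_check (k := 8) rfl (by decide +kernel)

theorem b4930 : Block F al 1262080 1262336 254 :=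
  block_of_check (k := 8) rfl (by decide +kernel)

theorem b4931 : Block F al 1262336 1262592 250 :=
  block_of_check (k := 8) rfl (by decide +kernel)

theorem b4932 : Block F al 1262592 1262848 256 :=
  block_of_check (k := 8) rfl (by decide +kernel)

theorem b4933 : Block F al 1262848 1263104 246 :=
  block_of_check (k := 8) rfl (by decide +kernel)

theorem b4934 : Block F al 1263104 1263360 254 :=
  block_of_check (k := 8) rfl (by decide +kernel)

theorem b4935 : Block F al 1263360 1263616 256 :=
  block_of_check (k := 8) rfl (by decide +kernel)

theorem b4936 : Block F al 1263616 1263872 256 :=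
  block_of_check (k := 8) rfl (by decide +kernel)

theorem b4937 : Block F al 1263872 1264128 252 :=
  block_of_check (k := 8) rfl (by decide +kernel)

theorem b4938 : Block F al 1264128 1264384 255 :=
  block_of_check (k := 8) rfl (by decide +kernel)

theorem b4939 : Block F al 1264384 1264640 255 :=
  block_of_check (k := 8) rfl (by decide +kernel)

theorem b4940 : Block F al 1264640 1264896 254 :=
  block_of_check (k := 8) rfl (by decide +kernel)

theorem b4941 : Block F al 1264896 1265152 252 :=
  block_of_check (k := 8) rfl (by decide +kernel)

theorem b4942 : Block F al 1265152 1265408 253 :=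
  block_of_check (k := 8) rfl (by decide +kernel)

theorem b4943 : Block F al 1265408 1265664 256 :=
  block_of_check (k := 8) rfl (by decide +kernel)

theorem b4944 : Block F al 1265664 1265920 255 :=
  block_of_check (k := 8) rfl (by decide +kernel)

theorem b4945 : Block F al 1265920 1266176 256 :=
  block_of_check (k := 8) rfl (by decide +kernel)

theorem b4946 : Block F al 1266176 1266432 253 :=
  block_of_check (k := 8) rfl (by decide +kernel)

theorem b4947 : Block F al 1266432 1266688 256 :=
  block_of_check (k := 8) rfl (by decide +kernel)

theorem b4948 : Block F al 1266688 1266944 254 :=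
  block_of_check (k := 8) rfl (by decide +kernel)

theorem b4949 : Block F al 1266944 1267200 255 :=
  block_of_check (k := 8) rfl (by decide +kernel)

theorem b4950 : Block F al 1267200 1267456 252 :=
  block_of_check (k := 8) rfl (by decide +kernel)

theorem b4951 : Block F al 1267456 1267712 249 :=
  block_of_check (k := 8) rfl (by decide +kernel)

theorem b4952 : Block F al 1267712 1267968 255 :=
  block_of_check (k := 8) rfl (by decide +kernel)

end Cfsg.Agent.TcData.HN.I1539000
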