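import Mathlib
import Cfsg.Agent.TcData.HN.I1539000.Tab

set_option autoImplicit false
set_option Elab.async false
set_option maxRecDepth 100000
set_option linter.all false

namespace Cfsg.Agent.TcData.HN.I1539000

open Cfsg.Spor Cfsg.Agent.Lib.TcFacts Cfsg.Agent.Lib.TcBits Cfsg.Agent.Lib.TcPres Cfsg.Spor.HN Cfsg.Agent.TcData.HN

theorem b4953 : Block F al 1267968 1268224 252 :=
  block_of_check (k := 8) rfl (by decide +kernel)

theorem b4954 : Block F al 1268224 1268480 253 :=
  block_of_check (k := 8) rfl (by decide +kernel)

theorem b4955 : Block F al 1268480 1268736 256 :=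
  block_of_check (k := 8) rfl (by decide +kernel)

theorem b4956 : Block F al 1268736 1268992 255 :=
  block_of_check (k := 8) rfl (by decide +kernel)

theorem b4957 : Block F al 1268992 1269248 256 :=
  block_of_check (k := 8) rfl (by decide +kernel)

theorem b4958 : Block F al 1269248 1269504 256 :=
  block_of_check (k := 8) rfl (by decide +kernel)

theorem b4959 : Block F al 1269504 1269760 254 :=
  block_of_check (k := 8) rfl (by decide +kernel)

theorem b4960 : Block F al 1269760 1270016 250 :=
  block_of_check (k := 8) rfl (by decide +kernel)

theorem b4961 : Block F al 1270016 1270272 252 :=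
  block_of_check (k := 8) rfl (by decide +kernel)

theorem b4962 : Block F al 1270272 1270528 253 :=
  block_of_check (k := 8) rfl (by decide +kernel)

theorem b4963 : Block F al 1270528 1270784 256 :=
  block_of_check (k := 8) rfl (by decide +kernel)

theorem b4964 : Block F al 1270784 1271040 254 :=
  block_of_check (k := 8) rfl (by decide +kernel)

theorem b4965 : Block F al 1271040 1271296 254 :=
  block_of_check (k := 8) rfl (by decide +kernel)

theorem b4966 : Block F al 1271296 1271552 252 :=
  block_of_check (k := 8) rfl (by decide +kernel)

theorem b4967 : Block F al 1271552 1271808 256 :=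
  block_of_check (k := 8) rfl (by decide +kernel)

theorem b4968 : Block F al 1271808 1272064 256 :=
  block_of_check (k := 8) rfl (by decide +kernel)

theorem b4969 : Block F al 1272064 1272320 254 :=
  block_of_check (k := 8) rfl (by decide +kernel)

theorem b4970 : Block F al 1272320 1272576 254 :=
  block_of_check (k := 8) rfl (by decide +kernel)

theorem b4971 : Block F al 1272576 1272832 254 :=
  block_of_check (k := 8) rfl (by decide +kernel)

theorem b4972 : Block F al 1272832 1273088 256 :=
  block_of_check (k := 8) rfl (by decide +kernel)

theorem b4973 : Block F al 1273088 1273344 254 :=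
  block_of_check (k := 8) rfl (by decide +kernel)

theorem b4974 : Block F al 1273344 1273600 247 :=
  block_of_check (k := 8) rfl (by decide +kernel)

theorem b4975 : Block F al 1273600 1273856 246 :=
  block_of_check (k := 8) rfl (by decide +kernel)

theorem b4976 : Block F al 1273856 1274112 248 :=
  block_of_check (k := 8) rfl (by decide +kernel)

theorem b4977 : Block F al 1274112 1274368 252 :=
  block_of_check (k := 8) rfl (by decide +kernel)

theorem b4978 : Block F al 1274368 1274624 256 :=
  block_of_check (k := 8) rfl (by decide +kernel)

theorem b4979 : Block F al 1274624 1274880 253 :=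
  block_of_check (k := 8) rfl (by decide +kernel)

theorem b4980 : Block F al 1274880 1275136 253 :=
  block_of_check (k := 8) rfl (by decide +kernel)

theorem b4981 : Block F al 1275136 1275392 252 :=
  block_of_check (k := 8) rfl (by decide +kernel)

theorem b4982 : Block F al 1275392 1275648 252 :=
  block_of_check (k := 8) rfl (by decide +kernel)

theorem b4983 : Block F al 1275648 1275904 253 :=
  block_of_check (k := 8) rfl (by decide +kernel)

end Cfsg.Agent.TcData.HN.I1539000
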