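import Mathlib
import Cfsg.Agent.TcData.HN.I1539000.Tab

set_option autoImplicit false
set_option Elab.async false
set_option maxRecDepth 100000
set_option linter.all false

namespace Cfsg.Agent.TcData.HN.I1539000

open Cfsg.Spor Cfsg.Agent.Lib.TcFacts Cfsg.Agent.Lib.TcBits Cfsg.Agent.Lib.TcPres Cfsg.Spor.HN Cfsg.Agent.TcData.HN

theorem b4984 : Block F al 1275904 1276160 256 :=
  block_of_check (k := 8) rfl (by decide +kernel)

theorem b4985 : Block F al 1276160 1276416 255 :=
  block_of_check (k := 8) rfl (by decide +kernel)

theorem b4986 : Block F al 1276416 1276672 256 :=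
  block_of_check (k := 8) rfl (by decide +kernel)

theorem b4987 : Block F al 1276672 1276928 256 :=
  block_of_check (k := 8) rfl (by decide +kernel)

theorem b4988 : Block F al 1276928 1277184 256 :=
  block_of_check (k := 8) rfl (by decide +kernel)

theorem b4989 : Block F al 1277184 1277440 256 :=
  block_of_check (k := 8) rfl (by decide +kernel)

theorem b4990 : Block F al 1277440 1277696 256 :=
  block_of_check (k := 8) rfl (by decide +kernel)

theorem b4991 : Block F al 1277696 1277952 256 :=
  block_of_check (k := 8) rfl (by decide +kernel)

theorem b4992 : Block F al 1277952 1278208 256 :=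
  block_of_check (k := 8) rfl (by decide +kernel)

theorem b4993 : Block F al 1278208 1278464 256 :=
  block_of_check (k := 8) rfl (by decide +kernel)

theorem b4994 : Block F al 1278464 1278720 254 :=
  block_of_check (k := 8) rfl (by decide +kernel)

theorem b4995 : Block F al 1278720 1278976 254 :=
  block_of_check (k := 8) rfl (by decide +kernel)

theorem b4996 : Block F al 1278976 1279232 255 :=
  block_of_check (k := 8) rfl (by decide +kernel)

theorem b4997 : Block F al 1279232 1279488 256 :=
  block_of_check (k := 8) rfl (by decide +kernel)

theorem b4998 : Block F al 1279488 1279744 256 :=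
  block_of_check (k := 8) rfl (by decide +kernel)

theorem b4999 : Block F al 1279744 1280000 253 :=
  block_of_check (k := 8) rfl (by decide +kernel)

theorem b5000 : Block F al 1280000 1280256 256 :=
  block_of_check (k := 8) rfl (by decide +kernel)

theorem b5001 : Block F al 1280256 1280512 256 :=
  block_of_check (k := 8) rfl (by decide +kernel)

theorem b5002 : Block F al 1280512 1280768 252 :=
  block_of_check (k := 8) rfl (by decide +kernel)

theorem b5003 : Block F al 1280768 1281024 254 :=
  block_of_check (k := 8) rfl (by decide +kernel)

theorem b5004 : Block F al 1281024 1281280 254 :=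
  block_of_check (k := 8) rfl (by decide +kernel)

theorem b5005 : Block F al 1281280 1281536 252 :=
  block_of_check (k := 8) rfl (by decide +kernel)

theorem b5006 : Block F al 1281536 1281792 256 :=
  block_of_check (k := 8) rfl (by decide +kernel)

theorem b5007 : Block F al 1281792 1282048 256 :=
  block_of_check (k := 8) rfl (by decide +kernel)

theorem b5008 : Block F al 1282048 1282304 256 :=
  block_of_check (k := 8) rfl (by decide +kernel)

theorem b5009 : Block F al 1282304 1282560 250 :=
  block_of_check (k := 8) rfl (by decide +kernel)

theorem b5010 : Block F al 1282560 1282816 248 :=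
  block_of_check (k := 8) rfl (by decide +kernel)

theorem b5011 : Block F al 1282816 1283072 253 :=
  block_of_check (k := 8) rfl (by decide +kernel)

theorem b5012 : Block F al 1283072 1283328 256 :=
  block_of_check (k := 8) rfl (by decide +kernel)

theorem b5013 : Block F al 1283328 1283584 256 :=
  block_of_check (k := 8) rfl (by decide +kernel)

theorem b5014 : Block F al 1283584 1283840 249 :=
  block_of_check (k := 8) rfl (by decide +kernel)

end Cfsg.Agent.TcData.HN.I1539000
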