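import Mathlib
import Cfsg.Agent.TcData.HN.I1539000.Tab

set_option autoImplicit false
set_option Elab.async false
set_option maxRecDepth 100000
set_option linter.all false

namespace Cfsg.Agent.TcData.HN.I1539000

open Cfsg.Spor Cfsg.Agent.Lib.TcFacts Cfsg.Agent.Lib.TcBits Cfsg.Agent.Lib.TcPres Cfsg.Spor.HN Cfsg.Agent.TcData.HN

theorem b5015 : Block F al 1283840 1284096 255 :=
  block_of_check (k := 8) rfl (by decide +kernel)

theorem b5016 : Block F al 1284096 1284352 256 :=
  block_of_check (k := 8) rfl (by decide +kernel)

theorem b5017 : Block F al 1284352 1284608 256 :=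
  block_of_check (k := 8) rfl (by decide +kernel)

theorem b5018 : Block F al 1284608 1284864 256 :=
  block_of_check (k := 8) rfl (by decide +kernel)

theorem b5019 : Block F al 1284864 1285120 256 :=
  block_of_check (k := 8) rfl (by decide +kernel)

theorem b5020 : Block F al 1285120 1285376 256 :=
  block_of_check (k := 8) rfl (by decide +kernel)

theorem b5021 : Block F al 1285376 1285632 255 :=
  block_of_check (k := 8) rfl (by decide +kernel)

theorem b5022 : Block F al 1285632 1285888 254 :=
  block_of_check (k := 8) rfl (by decide +kernel)

theorem b5023 : Block F al 1285888 1286144 255 :=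
  block_of_check (k := 8) rfl (by decide +kernel)

theorem b5024 : Block F al 1286144 1286400 256 :=
  block_of_check (k := 8) rfl (by decide +kernel)

theorem b5025 : Block F al 1286400 1286656 255 :=
  block_of_check (k := 8) rfl (by decide +kernel)

theorem b5026 : Block F al 1286656 1286912 255 :=
  block_of_check (k := 8) rfl (by decide +kernel)

theorem b5027 : Block F al 1286912 1287168 254 :=
  block_of_check (k := 8) rfl (by decide +kernel)

theorem b5028 : Block F al 1287168 1287424 253 :=
  block_of_check (k := 8) rfl (by decide +kernel)

theorem b5029 : Block F al 1287424 1287680 256 :=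
  block_of_check (k := 8) rfl (by decide +kernel)

theorem b5030 : Block F al 1287680 1287936 254 :=
  block_of_check (k := 8) rfl (by decide +kernel)

theorem b5031 : Block F al 1287936 1288192 254 :=
  block_of_check (k := 8) rfl (by decide +kernel)

theorem b5032 : Block F al 1288192 1288448 253 :=
  block_of_check (k := 8) rfl (by decide +kernel)

theorem b5033 : Block F al 1288448 1288704 255 :=
  block_of_check (k := 8) rfl (by decide +kernel)

theorem b5034 : Block F al 1288704 1288960 254 :=
  block_of_check (k := 8) rfl (by decide +kernel)

theorem b5035 : Block F al 1288960 1289216 253 :=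
  block_of_check (k := 8) rfl (by decide +kernel)

theorem b5036 : Block F al 1289216 1289472 255 :=
  block_of_check (k := 8) rfl (by decide +kernel)

theorem b5037 : Block F al 1289472 1289728 254 :=
  block_of_check (k := 8) rfl (by decide +kernel)

theorem b5038 : Block F al 1289728 1289984 252 :=
  block_of_check (k := 8) rfl (by decide +kernel)

theorem b5039 : Block F al 1289984 1290240 256 :=
  block_of_check (k := 8) rfl (by decide +kernel)

theorem b5040 : Block F al 1290240 1290496 254 :=
  block_of_check (k := 8) rfl (by decide +kernel)

theorem b5041 : Block F al 1290496 1290752 253 :=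
  block_of_check (k := 8) rfl (by decide +kernel)

theorem b5042 : Block F al 1290752 1291008 255 :=
  block_of_check (k := 8) rfl (by decide +kernel)

theorem b5043 : Block F al 1291008 1291264 256 :=
  block_of_check (k := 8) rfl (by decide +kernel)

theorem b5044 : Block F al 1291264 1291520 255 :=
  block_of_check (k := 8) rfl (by decide +kernel)

theorem b5045 : Block F al 1291520 1291776 256 :=
  block_of_check (k := 8) rfl (by decide +kernel)

theorem b5046 : Block F al 1291776 1292032 255 :=
  block_of_check (k := 8) rfl (by decide +kernel)

end Cfsg.Agent.TcData.HN.I1539000
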