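import Mathlib
import Cfsg.Agent.TcData.HN.I1539000.Tab

set_option autoImplicit false
set_option Elab.async false
set_option maxRecDepth 100000
set_option linter.all false

namespace Cfsg.Agent.TcData.HN.I1539000

open Cfsg.Spor Cfsg.Agent.Lib.TcFacts Cfsg.Agent.Lib.TcBits Cfsg.Agent.Lib.TcPres Cfsg.Spor.HN Cfsg.Agent.TcData.HN

theorem b5047 : Block F al 1292032 1292288 254 :=
  block_of_check (k := 8) rfl (by decide +kernel)

theorem b5048 : Block F al 1292288 1292544 254 :=
  block_of_check (k := 8) rfl (by decide +kernel)

theorem b5049 : Block F al 1292544 1292800 256 :=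
  block_of_check (k := 8) rfl (by decide +kernel)

theorem b5050 : Block F al 1292800 1293056 253 :=
  block_of_check (k := 8) rfl (by decide +kernel)

theorem b5051 : Block F al 1293056 1293312 255 :=
  block_of_check (k := 8) rfl (by decide +kernel)

theorem b5052 : Block F al 1293312 1293568 253 :=
  block_of_check (k := 8) rfl (by decide +kernel)

theorem b5053 : Block F al 1293568 1293824 256 :=
  block_of_check (k := 8) rfl (by decide +kernel)

theorem b5054 : Block F al 1293824 1294080 256 :=
  block_of_check (k := 8) rfl (by decide +kernel)

theorem b5055 : Block F al 1294080 1294336 256 :=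
  block_of_check (k := 8) rfl (by decide +kernel)

theorem b5056 : Block F al 1294336 1294592 254 :=
  block_of_check (k := 8) rfl (by decide +kernel)

theorem b5057 : Block F al 1294592 1294848 256 :=
  block_of_check (k := 8) rfl (by decide +kernel)

theorem b5058 : Block F al 1294848 1295104 252 :=
  block_of_check (k := 8) rfl (by decide +kernel)

theorem b5059 : Block F al 1295104 1295360 255 :=
  block_of_check (k := 8) rfl (by decide +kernel)

theorem b5060 : Block F al 1295360 1295616 255 :=
  block_of_check (k := 8) rfl (by decide +kernel)

theorem b5061 : Block F al 1295616 1295872 256 :=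
  block_of_check (k := 8) rfl (by decide +kernel)

theorem b5062 : Block F al 1295872 1296128 252 :=
  block_of_check (k := 8) rfl (by decide +kernel)

theorem b5063 : Block F al 1296128 1296384 256 :=
  block_of_check (k := 8) rfl (by decide +kernel)

theorem b5064 : Block F al 1296384 1296640 251 :=
  block_of_check (k := 8) rfl (by decide +kernel)

theorem b5065 : Block F al 1296640 1296896 254 :=
  block_of_check (k := 8) rfl (by decide +kernel)

theorem b5066 : Block F al 1296896 1297152 255 :=
  block_of_check (k := 8) rfl (by decide +kernel)

theorem b5067 : Block F al 1297152 1297408 255 :=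
  block_of_check (k := 8) rfl (by decide +kernel)

theorem b5068 : Block F al 1297408 1297664 255 :=
  block_of_check (k := 8) rfl (by decide +kernel)

theorem b5069 : Block F al 1297664 1297920 256 :=
  block_of_check (k := 8) rfl (by decide +kernel)

theorem b5070 : Block F al 1297920 1298176 254 :=
  block_of_check (k := 8) rfl (by decide +kernel)

theorem b5071 : Block F al 1298176 1298432 256 :=
  block_of_check (k := 8) rfl (by decide +kernel)

theorem b5072 : Block F al 1298432 1298688 254 :=
  block_of_check (k := 8) rfl (by decide +kernel)

theorem b5073 : Block F al 1298688 1298944 255 :=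
  block_of_check (k := 8) rfl (by decide +kernel)

theorem b5074 : Block F al 1298944 1299200 256 :=
  block_of_check (k := 8) rfl (by decide +kernel)

theorem b5075 : Block F al 1299200 1299456 254 :=
  block_of_check (k := 8) rfl (by decide +kernel)

theorem b5076 : Block F al 1299456 1299712 255 :=
  block_of_check (k := 8) rfl (by decide +kernel)

theorem b5077 : Block F al 1299712 1299968 254 :=
  block_of_check (k := 8) rfl (by decide +kernel)

end Cfsg.Agent.TcData.HN.I1539000
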