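import Mathlib
import Cfsg.Agent.TcData.HN.I1539000.Tab

set_option autoImplicit false
set_option Elab.async false
set_option maxRecDepth 100000
set_option linter.all false

namespace Cfsg.Agent.TcData.HN.I1539000

open Cfsg.Spor Cfsg.Agent.Lib.TcFacts Cfsg.Agent.Lib.TcBits Cfsg.Agent.Lib.TcPres Cfsg.Spor.HN Cfsg.Agent.TcData.HN

theorem b5078 : Block F al 1299968 1300224 256 :=
  block_of_check (k := 8) rfl (by decide +kernel)

theorem b5079 : Block F al 1300224 1300480 254 :=
  block_of_check (k := 8) rfl (by decide +kernel)

theorem b5080 : Block F al 1300480 1300736 256 :=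
  block_of_check (k := 8) rfl (by decide +kernel)

theorem b5081 : Block F al 1300736 1300992 254 :=
  block_of_check (k := 8) rfl (by decide +kernel)

theorem b5082 : Block F al 1300992 1301248 247 :=
  block_of_check (k := 8) rfl (by decide +kernel)

theorem b5083 : Block F al 1301248 1301504 256 :=
  block_of_check (k := 8) rfl (by decide +kernel)

theorem b5084 : Block F al 1301504 1301760 255 :=
  block_of_check (k := 8) rfl (by decide +kernel)

theorem b5085 : Block F al 1301760 1302016 256 :=
  block_of_check (k := 8) rfl (by decide +kernel)

theorem b5086 : Block F al 1302016 1302272 256 :=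
  block_of_check (k := 8) rfl (by decide +kernel)

theorem b5087 : Block F al 1302272 1302528 256 :=
  block_of_check (k := 8) rfl (by decide +kernel)

theorem b5088 : Block F al 1302528 1302784 256 :=
  block_of_check (k := 8) rfl (by decide +kernel)

theorem b5089 : Block F al 1302784 1303040 254 :=
  block_of_check (k := 8) rfl (by decide +kernel)

theorem b5090 : Block F al 1303040 1303296 254 :=
  block_of_check (k := 8) rfl (by decide +kernel)

theorem b5091 : Block F al 1303296 1303552 255 :=
  block_of_check (k := 8) rfl (by decide +kernel)

theorem b5092 : Block F al 1303552 1303808 256 :=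
  block_of_check (k := 8) rfl (by decide +kernel)

theorem b5093 : Block F al 1303808 1304064 254 :=
  block_of_check (k := 8) rfl (by decide +kernel)

theorem b5094 : Block F al 1304064 1304320 256 :=
  block_of_check (k := 8) rfl (by decide +kernel)

theorem b5095 : Block F al 1304320 1304576 256 :=
  block_of_check (k := 8) rfl (by decide +kernel)

theorem b5096 : Block F al 1304576 1304832 254 :=
  block_of_check (k := 8) rfl (by decide +kernel)

theorem b5097 : Block F al 1304832 1305088 255 :=
  block_of_check (k := 8) rfl (by decide +kernel)

theorem b5098 : Block F al 1305088 1305344 256 :=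
  block_of_check (k := 8) rfl (by decide +kernel)

theorem b5099 : Block F al 1305344 1305600 256 :=
  block_of_check (k := 8) rfl (by decide +kernel)

theorem b5100 : Block F al 1305600 1305856 255 :=
  block_of_check (k := 8) rfl (by decide +kernel)

theorem b5101 : Block F al 1305856 1306112 254 :=
  block_of_check (k := 8) rfl (by decide +kernel)

theorem b5102 : Block F al 1306112 1306368 251 :=
  block_of_check (k := 8) rfl (by decide +kernel)

theorem b5103 : Block F al 1306368 1306624 256 :=
  block_of_check (k := 8) rfl (by decide +kernel)

theorem b5104 : Block F al 1306624 1306880 255 :=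
  block_of_check (k := 8) rfl (by decide +kernel)

theorem b5105 : Block F al 1306880 1307136 251 :=
  block_of_check (k := 8) rfl (by decide +kernel)

theorem b5106 : Block F al 1307136 1307392 256 :=
  block_of_check (k := 8) rfl (by decide +kernel)

theorem b5107 : Block F al 1307392 1307648 256 :=
  block_of_check (k := 8) rfl (by decide +kernel)

end Cfsg.Agent.TcData.HN.I1539000
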