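import Mathlib
import Cfsg.Agent.TcData.HN.I1539000.Tab

set_option autoImplicit false
set_option Elab.async false
set_option maxRecDepth 100000
set_option linter.all false

namespace Cfsg.Agent.TcData.HN.I1539000

open Cfsg.Spor Cfsg.Agent.Lib.TcFacts Cfsg.Agent.Lib.TcBits Cfsg.Agent.Lib.TcPres Cfsg.Spor.HN Cfsg.Agent.TcData.HN

theorem b5108 : Block F al 1307648 1307904 254 :=
  block_of_check (k := 8) rfl (by decide +kernel)

theorem b5109 : Block F al 1307904 1308160 256 :=
  block_of_check (k := 8) rfl (by decide +kernel)

theorem b5110 : Block F al 1308160 1308416 256 :=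
  block_of_check (k := 8) rfl (by decide +kernel)

theorem b5111 : Block F al 1308416 1308672 256 :=
  block_of_check (k := 8) rfl (by decide +kernel)

theorem b5112 : Block F al 1308672 1308928 256 :=
  block_of_check (k := 8) rfl (by decide +kernel)

theorem b5113 : Block F al 1308928 1309184 252 :=
  block_of_check (k := 8) rfl (by decide +kernel)

theorem b5114 : Block F al 1309184 1309440 256 :=
  block_of_check (k := 8) rfl (by decide +kernel)

theorem b5115 : Block F al 1309440 1309696 254 :=
  block_of_check (k := 8) rfl (by decide +kernel)

theorem b5116 : Block F al 1309696 1309952 254 :=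
  block_of_check (k := 8) rfl (by decide +kernel)

theorem b5117 : Block F al 1309952 1310208 256 :=
  block_of_check (k := 8) rfl (by decide +kernel)

theorem b5118 : Block F al 1310208 1310464 254 :=
  block_of_check (k := 8) rfl (by decide +kernel)

theorem b5119 : Block F al 1310464 1310720 256 :=
  block_of_check (k := 8) rfl (by decide +kernel)

theorem b5120 : Block F al 1310720 1310976 256 :=
  block_of_check (k := 8) rfl (by decide +kernel)

theorem b5121 : Block F al 1310976 1311232 256 :=
  block_of_check (k := 8) rfl (by decide +kernel)

theorem b5122 : Block F al 1311232 1311488 254 :=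
  block_of_check (k := 8) rfl (by decide +kernel)

theorem b5123 : Block F al 1311488 1311744 256 :=
  block_of_check (k := 8) rfl (by decide +kernel)

theorem b5124 : Block F al 1311744 1312000 256 :=
  block_of_check (k := 8) rfl (by decide +kernel)

theorem b5125 : Block F al 1312000 1312256 256 :=
  block_of_check (k := 8) rfl (by decide +kernel)

theorem b5126 : Block F al 1312256 1312512 253 :=
  block_of_check (k := 8) rfl (by decide +kernel)

theorem b5127 : Block F al 1312512 1312768 253 :=
  block_of_check (k := 8) rfl (by decide +kernel)

theorem b5128 : Block F al 1312768 1313024 256 :=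
  block_of_check (k := 8) rfl (by decide +kernel)

theorem b5129 : Block F al 1313024 1313280 256 :=
  block_of_check (k := 8) rfl (by decide +kernel)

theorem b5130 : Block F al 1313280 1313536 255 :=
  block_of_check (k := 8) rfl (by decide +kernel)

theorem b5131 : Block F al 1313536 1313792 255 :=
  block_of_check (k := 8) rfl (by decide +kernel)

theorem b5132 : Block F al 1313792 1314048 256 :=
  block_of_check (k := 8) rfl (by decide +kernel)

theorem b5133 : Block F al 1314048 1314304 255 :=
  block_of_check (k := 8) rfl (by decide +kernel)

theorem b5134 : Block F al 1314304 1314560 255 :=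
  block_of_check (k := 8) rfl (by decide +kernel)

theorem b5135 : Block F al 1314560 1314816 256 :=
  block_of_check (k := 8) rfl (by decide +kernel)

theorem b5136 : Block F al 1314816 1315072 250 :=
  block_of_check (k := 8) rfl (by decide +kernel)

theorem b5137 : Block F al 1315072 1315328 254 :=
  block_of_check (k := 8) rfl (by decide +kernel)

end Cfsg.Agent.TcData.HN.I1539000
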