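import Mathlib
import Cfsg.Agent.TcData.HN.I1539000.Tab

set_option autoImplicit false
set_option Elab.async false
set_option maxRecDepth 100000
set_option linter.all false

namespace Cfsg.Agent.TcData.HN.I1539000

open Cfsg.Spor Cfsg.Agent.Lib.TcFacts Cfsg.Agent.Lib.TcBits Cfsg.Agent.Lib.TcPres Cfsg.Spor.HN Cfsg.Agent.TcData.HN

theorem b5138 : Block F al 1315328 1315584 254 :=
  block_of_check (k := 8) rfl (by decide +kernel)

theorem b5139 : Block F al 1315584 1315840 256 :=
  block_of_check (k := 8) rfl (by decide +kernel)

theorem b5140 : Block F al 1315840 1316096 256 :=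
  block_of_check (k := 8) rfl (by decide +kernel)

theorem b5141 : Block F al 1316096 1316352 256 :=
  block_of_check (k := 8) rfl (by decide +kernel)

theorem b5142 : Block F al 1316352 1316608 256 :=
  block_of_check (k := 8) rfl (by decide +kernel)

theorem b5143 : Block F al 1316608 1316864 256 :=
  block_of_check (k := 8) rfl (by decide +kernel)

theorem b5144 : Block F al 1316864 1317120 255 :=
  block_of_check (k := 8) rfl (by decide +kernel)

theorem b5145 : Block F al 1317120 1317376 256 :=
  block_of_check (k := 8) rfl (by decide +kernel)

theorem b5146 : Block F al 1317376 1317632 256 :=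
  block_of_check (k := 8) rfl (by decide +kernel)

theorem b5147 : Block F al 1317632 1317888 256 :=
  block_of_check (k := 8) rfl (by decide +kernel)

theorem b5148 : Block F al 1317888 1318144 256 :=
  block_of_check (k := 8) rfl (by decide +kernel)

theorem b5149 : Block F al 1318144 1318400 256 :=
  block_of_check (k := 8) rfl (by decide +kernel)

theorem b5150 : Block F al 1318400 1318656 256 :=
  block_of_check (k := 8) rfl (by decide +kernel)

theorem b5151 : Block F al 1318656 1318912 255 :=
  block_of_check (k := 8) rfl (by decide +kernel)

theorem b5152 : Block F al 1318912 1319168 256 :=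
  block_of_check (k := 8) rfl (by decide +kernel)

theorem b5153 : Block F al 1319168 1319424 256 :=
  block_of_check (k := 8) rfl (by decide +kernel)

theorem b5154 : Block F al 1319424 1319680 255 :=
  block_of_check (k := 8) rfl (by decide +kernel)

theorem b5155 : Block F al 1319680 1319936 256 :=
  block_of_check (k := 8) rfl (by decide +kernel)

theorem b5156 : Block F al 1319936 1320192 256 :=
  block_of_check (k := 8) rfl (by decide +kernel)

theorem b5157 : Block F al 1320192 1320448 255 :=
  block_of_check (k := 8) rfl (by decide +kernel)

theorem b5158 : Block F al 1320448 1320704 254 :=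
  block_of_check (k := 8) rfl (by decide +kernel)

theorem b5159 : Block F al 1320704 1320960 256 :=
  block_of_check (k := 8) rfl (by decide +kernel)

theorem b5160 : Block F al 1320960 1321216 252 :=
  block_of_check (k := 8) rfl (by decide +kernel)

theorem b5161 : Block F al 1321216 1321472 254 :=
  block_of_check (k := 8) rfl (by decide +kernel)

theorem b5162 : Block F al 1321472 1321728 256 :=
  block_of_check (k := 8) rfl (by decide +kernel)

theorem b5163 : Block F al 1321728 1321984 256 :=
  block_of_check (k := 8) rfl (by decide +kernel)

theorem b5164 : Block F al 1321984 1322240 252 :=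
  block_of_check (k := 8) rfl (by decide +kernel)

theorem b5165 : Block F al 1322240 1322496 256 :=
  block_of_check (k := 8) rfl (by decide +kernel)

theorem b5166 : Block F al 1322496 1322752 252 :=
  block_of_check (k := 8) rfl (by decide +kernel)

theorem b5167 : Block F al 1322752 1323008 256 :=
  block_of_check (k := 8) rfl (by decide +kernel)

end Cfsg.Agent.TcData.HN.I1539000
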