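import Mathlib
import Cfsg.Agent.TcData.HN.I1539000.Tab

set_option autoImplicit false
set_option Elab.async false
set_option maxRecDepth 100000
set_option linter.all false

namespace Cfsg.Agent.TcData.HN.I1539000

open Cfsg.Spor Cfsg.Agent.Lib.TcFacts Cfsg.Agent.Lib.TcBits Cfsg.Agent.Lib.TcPres Cfsg.Spor.HN Cfsg.Agent.TcData.HN

theorem b5168 : Block F al 1323008 1323264 255 :=
  block_of_check (k := 8) rfl (by decide +kernel)

theorem b5169 : Block F al 1323264 1323520 254 :=
  block_of_check (k := 8) rfl (by decide +kernel)

theorem b5170 : Block F al 1323520 1323776 256 :=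
  block_of_check (k := 8) rfl (by decide +kernel)

theorem b5171 : Block F al 1323776 1324032 255 :=
  block_of_check (k := 8) rfl (by decide +kernel)

theorem b5172 : Block F al 1324032 1324288 256 :=
  block_of_check (k := 8) rfl (by decide +kernel)

theorem b5173 : Block F al 1324288 1324544 256 :=
  block_of_check (k := 8) rfl (by decide +kernel)

theorem b5174 : Block F al 1324544 1324800 256 :=
  block_of_check (k := 8) rfl (by decide +kernel)

theorem b5175 : Block F al 1324800 1325056 256 :=
  block_of_check (k := 8) rfl (by decide +kernel)

theorem b5176 : Block F al 1325056 1325312 256 :=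
  block_of_check (k := 8) rfl (by decide +kernel)

theorem b5177 : Block F al 1325312 1325568 256 :=
  block_of_check (k := 8) rfl (by decide +kernel)

theorem b5178 : Block F al 1325568 1325824 254 :=
  block_of_check (k := 8) rfl (by decide +kernel)

theorem b5179 : Block F al 1325824 1326080 256 :=
  block_of_check (k := 8) rfl (by decide +kernel)

theorem b5180 : Block F al 1326080 1326336 255 :=
  block_of_check (k := 8) rfl (by decide +kernel)

theorem b5181 : Block F al 1326336 1326592 256 :=
  block_of_check (k := 8) rfl (by decide +kernel)

theorem b5182 : Block F al 1326592 1326848 256 :=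
  block_of_check (k := 8) rfl (by decide +kernel)

theorem b5183 : Block F al 1326848 1327104 256 :=
  block_of_check (k := 8) rfl (by decide +kernel)

theorem b5184 : Block F al 1327104 1327360 255 :=
  block_of_check (k := 8) rfl (by decide +kernel)

theorem b5185 : Block F al 1327360 1327616 256 :=
  block_of_check (k := 8) rfl (by decide +kernel)

theorem b5186 : Block F al 1327616 1327872 256 :=
  block_of_check (k := 8) rfl (by decide +kernel)

theorem b5187 : Block F al 1327872 1328128 254 :=
  block_of_check (k := 8) rfl (by decide +kernel)

theorem b5188 : Block F al 1328128 1328384 254 :=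
  block_of_check (k := 8) rfl (by decide +kernel)

theorem b5189 : Block F al 1328384 1328640 254 :=
  block_of_check (k := 8) rfl (by decide +kernel)

theorem b5190 : Block F al 1328640 1328896 254 :=
  block_of_check (k := 8) rfl (by decide +kernel)

theorem b5191 : Block F al 1328896 1329152 255 :=
  block_of_check (k := 8) rfl (by decide +kernel)

theorem b5192 : Block F al 1329152 1329408 254 :=
  block_of_check (k := 8) rfl (by decide +kernel)

theorem b5193 : Block F al 1329408 1329664 251 :=
  block_of_check (k := 8) rfl (by decide +kernel)

theorem b5194 : Block F al 1329664 1329920 251 :=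
  block_of_check (k := 8) rfl (by decide +kernel)

theorem b5195 : Block F al 1329920 1330176 254 :=
  block_of_check (k := 8) rfl (by decide +kernel)

theorem b5196 : Block F al 1330176 1330432 256 :=
  block_of_check (k := 8) rfl (by decide +kernel)

theorem b5197 : Block F al 1330432 1330688 255 :=
  block_of_check (k := 8) rfl (by decide +kernel)

end Cfsg.Agent.TcData.HN.I1539000
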