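import Mathlib
import Cfsg.Agent.TcData.HN.I1539000.Tab

set_option autoImplicit false
set_option Elab.async false
set_option maxRecDepth 100000
set_option linter.all false

namespace Cfsg.Agent.TcData.HN.I1539000

open Cfsg.Spor Cfsg.Agent.Lib.TcFacts Cfsg.Agent.Lib.TcBits Cfsg.Agent.Lib.TcPres Cfsg.Spor.HN Cfsg.Agent.TcData.HN

theorem b676 : Block F al 173056 173312 246 :=
  block_of_check (k := 8) rfl (by decide +kernel)

theorem b677 : Block F al 173312 173568 250 :=
  block_of_check (k := 8) rfl (by decide +kernel)

theorem b678 : Block F al 173568 173824 255 :=
  block_of_check (k := 8) rfl (by decide +kernel)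

theorem b679 : Block F al 173824 174080 254 :=
  block_of_check (k := 8) rfl (by decide +kernel)

theorem b680 : Block F al 174080 174336 239 :=
  block_of_check (k := 8) rfl (by decide +kernel)

theorem b681 : Block F al 174336 174592 244 :=
  block_of_check (k := 8) rfl (by decide +kernel)

theorem b682 : Block F al 174592 174848 250 :=
  block_of_check (k := 8) rfl (by decide +kernel)

theorem b683 : Block F al 174848 175104 250 :=
  block_of_check (k := 8) rfl (by decide +kernel)

theorem b684 : Block F al 175104 175360 240 :=
  block_of_check (k := 8) rfl (by decide +kernel)

theorem b685 : Block F al 175360 175616 231 :=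
  block_of_check (k := 8) rfl (by decide +kernel)

theorem b686 : Block F al 175616 175872 250 :=
  block_of_check (k := 8) rfl (by decide +kernel)

theorem b687 : Block F al 175872 176128 254 :=
  block_of_check (k := 8) rfl (by decide +kernel)

theorem b688 : Block F al 176128 176384 202 :=
  block_of_check (k := 8) rfl (by decide +kernel)

theorem b689 : Block F al 176384 176640 235 :=
  block_of_check (k := 8) rfl (by decide +kernel)

theorem b690 : Block F al 176640 176896 175 :=
  block_of_check (k := 8) rfl (by decide +kernel)

theorem b691 : Block F al 176896 177152 245 :=
  block_of_check (k := 8) rfl (by decide +kernel)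

theorem b692 : Block F al 177152 177408 245 :=
  block_of_check (k := 8) rfl (by decide +kernel)

theorem b693 : Block F al 177408 177664 253 :=
  block_of_check (k := 8) rfl (by decide +kernel)

theorem b694 : Block F al 177664 177920 252 :=
  block_of_check (k := 8) rfl (by decide +kernel)

theorem b695 : Block F al 177920 178176 228 :=
  block_of_check (k := 8) rfl (by decide +kernel)

theorem b696 : Block F al 178176 178432 232 :=
  block_of_check (k := 8) rfl (by decide +kernel)

theorem b697 : Block F al 178432 178688 208 :=
  block_of_check (k := 8) rfl (by decide +kernel)

theorem b698 : Block F al 178688 178944 209 :=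
  block_of_check (k := 8) rfl (by decide +kernel)

theorem b699 : Block F al 178944 179200 229 :=
  block_of_check (k := 8) rfl (by decide +kernel)

theorem b700 : Block F al 179200 179456 231 :=
  block_of_check (k := 8) rfl (by decide +kernel)

theorem b701 : Block F al 179456 179712 223 :=
  block_of_check (k := 8) rfl (by decide +kernel)

theorem b702 : Block F al 179712 179968 224 :=
  block_of_check (k := 8) rfl (by decide +kernel)

theorem b703 : Block F al 179968 180224 239 :=
  block_of_check (k := 8) rfl (by decide +kernel)

theorem b704 : Block F al 180224 180480 239 :=
  block_of_check (k := 8) rfl (by decide +kernel)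

theorem b705 : Block F al 180480 180736 223 :=
  block_of_check (k := 8) rfl (by decide +kernel)

theorem b706 : Block F al 180736 180992 249 :=
  block_of_check (k := 8) rfl (by decide +kernel)

theorem b707 : Block F al 180992 181248 235 :=
  block_of_check (k := 8) rfl (by decide +kernel)

theorem b708 : Block F al 181248 181504 222 :=
  block_of_check (k := 8) rfl (by decide +kernel)

theorem b709 : Block F al 181504 181760 240 :=
  block_of_check (k := 8) rfl (by decide +kernel)

theorem b710 : Block F al 181760 182016 213 :=
  block_of_check (k := 8) rfl (by decide +kernel)

theorem b711 : Block F al 182016 182272 243 :=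
  block_of_check (k := 8) rfl (by decide +kernel)

theorem b712 : Block F al 182272 182528 235 :=
  block_of_check (k := 8) rfl (by decide +kernel)

theorem b713 : Block F al 182528 182784 219 :=
  block_of_check (k := 8) rfl (by decide +kernel)

theorem b714 : Block F al 182784 183040 236 :=
  block_of_check (k := 8) rfl (by decide +kernel)

theorem b715 : Block F al 183040 183296 242 :=
  block_of_check (k := 8) rfl (by decide +kernel)

theorem b716 : Block F al 183296 183552 211 :=
  block_of_check (k := 8) rfl (by decide +kernel)

theorem b717 : Block F al 183552 183808 236 :=
  block_of_check (k := 8) rfl (by decide +kernel)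

theorem b718 : Block F al 183808 184064 219 :=
  block_of_check (k := 8) rfl (by decide +kernel)

theorem b719 : Block F al 184064 184320 250 :=
  block_of_check (k := 8) rfl (by decide +kernel)

theorem b720 : Block F al 184320 184576 250 :=
  block_of_check (k := 8) rfl (by decide +kernel)

theorem b721 : Block F al 184576 184832 249 :=
  block_of_check (k := 8) rfl (by decide +kernel)

theorem b722 : Block F al 184832 185088 252 :=
  block_of_check (k := 8) rfl (by decide +kernel)

theorem b723 : Block F al 185088 185344 248 :=
  block_of_check (k := 8) rfl (by decide +kernel)

theorem b724 : Block F al 185344 185600 239 :=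
  block_of_check (k := 8) rfl (by decide +kernel)

theorem b725 : Block F al 185600 185856 242 :=
  block_of_check (k := 8) rfl (by decide +kernel)

theorem b726 : Block F al 185856 186112 245 :=
  block_of_check (k := 8) rfl (by decide +kernel)

end Cfsg.Agent.TcData.HN.I1539000
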