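import Mathlib
import Cfsg.Agent.TcData.HN.I1539000.Tab

set_option autoImplicit false
set_option Elab.async false
set_option maxRecDepth 100000
set_option linter.all false

namespace Cfsg.Agent.TcData.HN.I1539000

open Cfsg.Spor Cfsg.Agent.Lib.TcFacts Cfsg.Agent.Lib.TcBits Cfsg.Agent.Lib.TcPres Cfsg.Spor.HN Cfsg.Agent.TcData.HN

theorem b5198 : Block F al 1330688 1330944 256 :=
  block_of_check (k := 8) rfl (by decide +kernel)

theorem b5199 : Block F al 1330944 1331200 252 :=
  block_of_check (k := 8) rfl (by decide +kernel)

theorem b5200 : Block F al 1331200 1331456 254 :=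
  block_of_check (k := 8) rfl (by decide +kernel)

theorem b5201 : Block F al 1331456 1331712 256 :=
  block_of_check (k := 8) rfl (by decide +kernel)

theorem b5202 : Block F al 1331712 1331968 255 :=
  block_of_check (k := 8) rfl (by decide +kernel)

theorem b5203 : Block F al 1331968 1332224 252 :=
  block_of_check (k := 8) rfl (by decide +kernel)

theorem b5204 : Block F al 1332224 1332480 256 :=
  block_of_check (k := 8) rfl (by decide +kernel)

theorem b5205 : Block F al 1332480 1332736 253 :=
  block_of_check (k := 8) rfl (by decide +kernel)

theorem b5206 : Block F al 1332736 1332992 252 :=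
  block_of_check (k := 8) rfl (by decide +kernel)

theorem b5207 : Block F al 1332992 1333248 256 :=
  block_of_check (k := 8) rfl (by decide +kernel)

theorem b5208 : Block F al 1333248 1333504 252 :=
  block_of_check (k := 8) rfl (by decide +kernel)

theorem b5209 : Block F al 1333504 1333760 254 :=
  block_of_check (k := 8) rfl (by decide +kernel)

theorem b5210 : Block F al 1333760 1334016 256 :=
  block_of_check (k := 8) rfl (by decide +kernel)

theorem b5211 : Block F al 1334016 1334272 256 :=
  block_of_check (k := 8) rfl (by decide +kernel)

theorem b5212 : Block F al 1334272 1334528 256 :=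
  block_of_check (k := 8) rfl (by decide +kernel)

theorem b5213 : Block F al 1334528 1334784 255 :=
  block_of_check (k := 8) rfl (by decide +kernel)

theorem b5214 : Block F al 1334784 1335040 256 :=
  block_of_check (k := 8) rfl (by decide +kernel)

theorem b5215 : Block F al 1335040 1335296 256 :=
  block_of_check (k := 8) rfl (by decide +kernel)

theorem b5216 : Block F al 1335296 1335552 256 :=
  block_of_check (k := 8) rfl (by decide +kernel)

theorem b5217 : Block F al 1335552 1335808 256 :=
  block_of_check (k := 8) rfl (by decide +kernel)

theorem b5218 : Block F al 1335808 1336064 256 :=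
  block_of_check (k := 8) rfl (by decide +kernel)

theorem b5219 : Block F al 1336064 1336320 256 :=
  block_of_check (k := 8) rfl (by decide +kernel)

theorem b5220 : Block F al 1336320 1336576 256 :=
  block_of_check (k := 8) rfl (by decide +kernel)

theorem b5221 : Block F al 1336576 1336832 256 :=
  block_of_check (k := 8) rfl (by decide +kernel)

theorem b5222 : Block F al 1336832 1337088 254 :=
  block_of_check (k := 8) rfl (by decide +kernel)

theorem b5223 : Block F al 1337088 1337344 256 :=
  block_of_check (k := 8) rfl (by decide +kernel)

theorem b5224 : Block F al 1337344 1337600 254 :=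
  block_of_check (k := 8) rfl (by decide +kernel)

theorem b5225 : Block F al 1337600 1337856 256 :=
  block_of_check (k := 8) rfl (by decide +kernel)

theorem b5226 : Block F al 1337856 1338112 253 :=
  block_of_check (k := 8) rfl (by decide +kernel)

end Cfsg.Agent.TcData.HN.I1539000
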