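import Mathlib
import Cfsg.Agent.TcData.HN.I1539000.Tab

set_option autoImplicit false
set_option Elab.async false
set_option maxRecDepth 100000
set_option linter.all false

namespace Cfsg.Agent.TcData.HN.I1539000

open Cfsg.Spor Cfsg.Agent.Lib.TcFacts Cfsg.Agent.Lib.TcBits Cfsg.Agent.Lib.TcPres Cfsg.Spor.HN Cfsg.Agent.TcData.HN

theorem b5256 : Block F al 1345536 1345792 254 :=
  block_of_check (k := 8) rfl (by decide +kernel)

theorem b5257 : Block F al 1345792 1346048 256 :=
  block_of_check (k := 8) rfl (by decide +kernel)

theorem b5258 : Block F al 1346048 1346304 256 :=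
  block_of_check (k := 8) rfl (by decide +kernel)

theorem b5259 : Block F al 1346304 1346560 256 :=
  block_of_check (k := 8) rfl (by decide +kernel)

theorem b5260 : Block F al 1346560 1346816 256 :=
  block_of_check (k := 8) rfl (by decide +kernel)

theorem b5261 : Block F al 1346816 1347072 256 :=
  block_of_check (k := 8) rfl (by decide +kernel)

theorem b5262 : Block F al 1347072 1347328 256 :=
  block_of_check (k := 8) rfl (by decide +kernel)

theorem b5263 : Block F al 1347328 1347584 256 :=
  block_of_check (k := 8) rfl (by decide +kernel)

theorem b5264 : Block F al 1347584 1347840 254 :=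
  block_of_check (k := 8) rfl (by decide +kernel)

theorem b5265 : Block F al 1347840 1348096 256 :=
  block_of_check (k := 8) rfl (by decide +kernel)

theorem b5266 : Block F al 1348096 1348352 256 :=
  block_of_check (k := 8) rfl (by decide +kernel)

theorem b5267 : Block F al 1348352 1348608 256 :=
  block_of_check (k := 8) rfl (by decide +kernel)

theorem b5268 : Block F al 1348608 1348864 256 :=
  block_of_check (k := 8) rfl (by decide +kernel)

theorem b5269 : Block F al 1348864 1349120 256 :=
  block_of_check (k := 8) rfl (by decide +kernel)

theorem b5270 : Block F al 1349120 1349376 255 :=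
  block_of_check (k := 8) rfl (by decide +kernel)

theorem b5271 : Block F al 1349376 1349632 256 :=
  block_of_check (k := 8) rfl (by decide +kernel)

theorem b5272 : Block F al 1349632 1349888 254 :=
  block_of_check (k := 8) rfl (by decide +kernel)

theorem b5273 : Block F al 1349888 1350144 256 :=
  block_of_check (k := 8) rfl (by decide +kernel)

theorem b5274 : Block F al 1350144 1350400 256 :=
  block_of_check (k := 8) rfl (by decide +kernel)

theorem b5275 : Block F al 1350400 1350656 256 :=
  block_of_check (k := 8) rfl (by decide +kernel)

theorem b5276 : Block F al 1350656 1350912 256 :=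
  block_of_check (k := 8) rfl (by decide +kernel)

theorem b5277 : Block F al 1350912 1351168 256 :=
  block_of_check (k := 8) rfl (by decide +kernel)

theorem b5278 : Block F al 1351168 1351424 255 :=
  block_of_check (k := 8) rfl (by decide +kernel)

theorem b5279 : Block F al 1351424 1351680 256 :=
  block_of_check (k := 8) rfl (by decide +kernel)

theorem b5280 : Block F al 1351680 1351936 256 :=
  block_of_check (k := 8) rfl (by decide +kernel)

theorem b5281 : Block F al 1351936 1352192 256 :=
  block_of_check (k := 8) rfl (by decide +kernel)

theorem b5282 : Block F al 1352192 1352448 256 :=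
  block_of_check (k := 8) rfl (by decide +kernel)

theorem b5283 : Block F al 1352448 1352704 251 :=
  block_of_check (k := 8) rfl (by decide +kernel)

theorem b5284 : Block F al 1352704 1352960 256 :=
  block_of_check (k := 8) rfl (by decide +kernel)

end Cfsg.Agent.TcData.HN.I1539000
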