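import Mathlib
import Cfsg.Agent.TcData.HN.I1539000.Tab

set_option autoImplicit false
set_option Elab.async false
set_option maxRecDepth 100000
set_option linter.all false

namespace Cfsg.Agent.TcData.HN.I1539000

open Cfsg.Spor Cfsg.Agent.Lib.TcFacts Cfsg.Agent.Lib.TcBits Cfsg.Agent.Lib.TcPres Cfsg.Spor.HN Cfsg.Agent.TcData.HN

theorem b5285 : Block F al 1352960 1353216 254 :=
  block_of_check (k := 8) rfl (by decide +kernel)

theorem b5286 : Block F al 1353216 1353472 256 :=
  block_of_check (k := 8) rfl (by decide +kernel)

theorem b5287 : Block F al 1353472 1353728 256 :=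
  block_of_check (k := 8) rfl (by decide +kernel)

theorem b5288 : Block F al 1353728 1353984 256 :=
  block_of_check (k := 8) rfl (by decide +kernel)

theorem b5289 : Block F al 1353984 1354240 256 :=
  block_of_check (k := 8) rfl (by decide +kernel)

theorem b5290 : Block F al 1354240 1354496 256 :=
  block_of_check (k := 8) rfl (by decide +kernel)

theorem b5291 : Block F al 1354496 1354752 256 :=
  block_of_check (k := 8) rfl (by decide +kernel)

theorem b5292 : Block F al 1354752 1355008 256 :=
  block_of_check (k := 8) rfl (by decide +kernel)

theorem b5293 : Block F al 1355008 1355264 256 :=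
  block_of_check (k := 8) rfl (by decide +kernel)

theorem b5294 : Block F al 1355264 1355520 256 :=
  block_of_check (k := 8) rfl (by decide +kernel)

theorem b5295 : Block F al 1355520 1355776 256 :=
  block_of_check (k := 8) rfl (by decide +kernel)

theorem b5296 : Block F al 1355776 1356032 256 :=
  block_of_check (k := 8) rfl (by decide +kernel)

theorem b5297 : Block F al 1356032 1356288 256 :=
  block_of_check (k := 8) rfl (by decide +kernel)

theorem b5298 : Block F al 1356288 1356544 255 :=
  block_of_check (k := 8) rfl (by decide +kernel)

theorem b5299 : Block F al 1356544 1356800 256 :=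
  block_of_check (k := 8) rfl (by decide +kernel)

theorem b5300 : Block F al 1356800 1357056 256 :=
  block_of_check (k := 8) rfl (by decide +kernel)

theorem b5301 : Block F al 1357056 1357312 255 :=
  block_of_check (k := 8) rfl (by decide +kernel)

theorem b5302 : Block F al 1357312 1357568 255 :=
  block_of_check (k := 8) rfl (by decide +kernel)

theorem b5303 : Block F al 1357568 1357824 256 :=
  block_of_check (k := 8) rfl (by decide +kernel)

theorem b5304 : Block F al 1357824 1358080 256 :=
  block_of_check (k := 8) rfl (by decide +kernel)

theorem b5305 : Block F al 1358080 1358336 256 :=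
  block_of_check (k := 8) rfl (by decide +kernel)

theorem b5306 : Block F al 1358336 1358592 255 :=
  block_of_check (k := 8) rfl (by decide +kernel)

theorem b5307 : Block F al 1358592 1358848 256 :=
  block_of_check (k := 8) rfl (by decide +kernel)

theorem b5308 : Block F al 1358848 1359104 256 :=
  block_of_check (k := 8) rfl (by decide +kernel)

theorem b5309 : Block F al 1359104 1359360 256 :=
  block_of_check (k := 8) rfl (by decide +kernel)

theorem b5310 : Block F al 1359360 1359616 253 :=
  block_of_check (k := 8) rfl (by decide +kernel)

theorem b5311 : Block F al 1359616 1359872 256 :=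
  block_of_check (k := 8) rfl (by decide +kernel)

theorem b5312 : Block F al 1359872 1360128 254 :=
  block_of_check (k := 8) rfl (by decide +kernel)

theorem b5313 : Block F al 1360128 1360384 256 :=
  block_of_check (k := 8) rfl (by decide +kernel)

end Cfsg.Agent.TcData.HN.I1539000
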