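import Mathlib
import Cfsg.Agent.TcData.HN.I1539000.Tab

set_option autoImplicit false
set_option Elab.async false
set_option maxRecDepth 100000
set_option linter.all false

namespace Cfsg.Agent.TcData.HN.I1539000

open Cfsg.Spor Cfsg.Agent.Lib.TcFacts Cfsg.Agent.Lib.TcBits Cfsg.Agent.Lib.TcPres Cfsg.Spor.HN Cfsg.Agent.TcData.HN

theorem b5314 : Block F al 1360384 1360640 256 :=
  block_of_check (k := 8) rfl (by decide +kernel)

theorem b5315 : Block F al 1360640 1360896 255 :=
  block_of_check (k := 8) rfl (by decide +kernel)

theorem b5316 : Block F al 1360896 1361152 255 :=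
  block_of_check (k := 8) rfl (by decide +kernel)

theorem b5317 : Block F al 1361152 1361408 256 :=
  block_of_check (k := 8) rfl (by decide +kernel)

theorem b5318 : Block F al 1361408 1361664 256 :=
  block_of_check (k := 8) rfl (by decide +kernel)

theorem b5319 : Block F al 1361664 1361920 254 :=
  block_of_check (k := 8) rfl (by decide +kernel)

theorem b5320 : Block F al 1361920 1362176 256 :=
  block_of_check (k := 8) rfl (by decide +kernel)

theorem b5321 : Block F al 1362176 1362432 256 :=
  block_of_check (k := 8) rfl (by decide +kernel)

theorem b5322 : Block F al 1362432 1362688 256 :=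
  block_of_check (k := 8) rfl (by decide +kernel)

theorem b5323 : Block F al 1362688 1362944 256 :=
  block_of_check (k := 8) rfl (by decide +kernel)

theorem b5324 : Block F al 1362944 1363200 254 :=
  block_of_check (k := 8) rfl (by decide +kernel)

theorem b5325 : Block F al 1363200 1363456 256 :=
  block_of_check (k := 8) rfl (by decide +kernel)

theorem b5326 : Block F al 1363456 1363712 256 :=
  block_of_check (k := 8) rfl (by decide +kernel)

theorem b5327 : Block F al 1363712 1363968 256 :=
  block_of_check (k := 8) rfl (by decide +kernel)

theorem b5328 : Block F al 1363968 1364224 256 :=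
  block_of_check (k := 8) rfl (by decide +kernel)

theorem b5329 : Block F al 1364224 1364480 256 :=
  block_of_check (k := 8) rfl (by decide +kernel)

theorem b5330 : Block F al 1364480 1364736 254 :=
  block_of_check (k := 8) rfl (by decide +kernel)

theorem b5331 : Block F al 1364736 1364992 256 :=
  block_of_check (k := 8) rfl (by decide +kernel)

theorem b5332 : Block F al 1364992 1365248 255 :=
  block_of_check (k := 8) rfl (by decide +kernel)

theorem b5333 : Block F al 1365248 1365504 256 :=
  block_of_check (k := 8) rfl (by decide +kernel)

theorem b5334 : Block F al 1365504 1365760 256 :=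
  block_of_check (k := 8) rfl (by decide +kernel)

theorem b5335 : Block F al 1365760 1366016 256 :=
  block_of_check (k := 8) rfl (by decide +kernel)

theorem b5336 : Block F al 1366016 1366272 253 :=
  block_of_check (k := 8) rfl (by decide +kernel)

theorem b5337 : Block F al 1366272 1366528 256 :=
  block_of_check (k := 8) rfl (by decide +kernel)

theorem b5338 : Block F al 1366528 1366784 256 :=
  block_of_check (k := 8) rfl (by decide +kernel)

theorem b5339 : Block F al 1366784 1367040 256 :=
  block_of_check (k := 8) rfl (by decide +kernel)

theorem b5340 : Block F al 1367040 1367296 254 :=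
  block_of_check (k := 8) rfl (by decide +kernel)

theorem b5341 : Block F al 1367296 1367552 252 :=
  block_of_check (k := 8) rfl (by decide +kernel)

theorem b5342 : Block F al 1367552 1367808 256 :=
  block_of_check (k := 8) rfl (by decide +kernel)

theorem b5343 : Block F al 1367808 1368064 256 :=
  block_of_check (k := 8) rfl (by decide +kernel)

end Cfsg.Agent.TcData.HN.I1539000
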