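import Mathlib
import Cfsg.Agent.TcData.HN.I1539000.Tab

set_option autoImplicit false
set_option Elab.async false
set_option maxRecDepth 100000
set_option linter.all false

namespace Cfsg.Agent.TcData.HN.I1539000

open Cfsg.Spor Cfsg.Agent.Lib.TcFacts Cfsg.Agent.Lib.TcBits Cfsg.Agent.Lib.TcPres Cfsg.Spor.HN Cfsg.Agent.TcData.HN

theorem b5344 : Block F al 1368064 1368320 256 :=
  block_of_check (k := 8) rfl (by decide +kernel)

theorem b5345 : Block F al 1368320 1368576 256 :=
  block_of_check (k := 8) rfl (by decide +kernel)

theorem b5346 : Block F al 1368576 1368832 256 :=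
  block_of_check (k := 8) rfl (by decide +kernel)

theorem b5347 : Block F al 1368832 1369088 254 :=
  block_of_check (k := 8) rfl (by decide +kernel)

theorem b5348 : Block F al 1369088 1369344 254 :=
  block_of_check (k := 8) rfl (by decide +kernel)

theorem b5349 : Block F al 1369344 1369600 255 :=
  block_of_check (k := 8) rfl (by decide +kernel)

theorem b5350 : Block F al 1369600 1369856 256 :=
  block_of_check (k := 8) rfl (by decide +kernel)

theorem b5351 : Block F al 1369856 1370112 256 :=
  block_of_check (k := 8) rfl (by decide +kernel)

theorem b5352 : Block F al 1370112 1370368 256 :=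
  block_of_check (k := 8) rfl (by decide +kernel)

theorem b5353 : Block F al 1370368 1370624 256 :=
  block_of_check (k := 8) rfl (by decide +kernel)

theorem b5354 : Block F al 1370624 1370880 256 :=
  block_of_check (k := 8) rfl (by decide +kernel)

theorem b5355 : Block F al 1370880 1371136 256 :=
  block_of_check (k := 8) rfl (by decide +kernel)

theorem b5356 : Block F al 1371136 1371392 256 :=
  block_of_check (k := 8) rfl (by decide +kernel)

theorem b5357 : Block F al 1371392 1371648 256 :=
  block_of_check (k := 8) rfl (by decide +kernel)

theorem b5358 : Block F al 1371648 1371904 256 :=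
  block_of_check (k := 8) rfl (by decide +kernel)

theorem b5359 : Block F al 1371904 1372160 256 :=
  block_of_check (k := 8) rfl (by decide +kernel)

theorem b5360 : Block F al 1372160 1372416 256 :=
  block_of_check (k := 8) rfl (by decide +kernel)

theorem b5361 : Block F al 1372416 1372672 256 :=
  block_of_check (k := 8) rfl (by decide +kernel)

theorem b5362 : Block F al 1372672 1372928 256 :=
  block_of_check (k := 8) rfl (by decide +kernel)

theorem b5363 : Block F al 1372928 1373184 256 :=
  block_of_check (k := 8) rfl (by decide +kernel)

theorem b5364 : Block F al 1373184 1373440 256 :=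
  block_of_check (k := 8) rfl (by decide +kernel)

theorem b5365 : Block F al 1373440 1373696 256 :=
  block_of_check (k := 8) rfl (by decide +kernel)

theorem b5366 : Block F al 1373696 1373952 256 :=
  block_of_check (k := 8) rfl (by decide +kernel)

theorem b5367 : Block F al 1373952 1374208 256 :=
  block_of_check (k := 8) rfl (by decide +kernel)

theorem b5368 : Block F al 1374208 1374464 256 :=
  block_of_check (k := 8) rfl (by decide +kernel)

theorem b5369 : Block F al 1374464 1374720 256 :=
  block_of_check (k := 8) rfl (by decide +kernel)

theorem b5370 : Block F al 1374720 1374976 256 :=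
  block_of_check (k := 8) rfl (by decide +kernel)

theorem b5371 : Block F al 1374976 1375232 256 :=
  block_of_check (k := 8) rfl (by decide +kernel)

theorem b5372 : Block F al 1375232 1375488 256 :=
  block_of_check (k := 8) rfl (by decide +kernel)

theorem b5373 : Block F al 1375488 1375744 253 :=
  block_of_check (k := 8) rfl (by decide +kernel)

end Cfsg.Agent.TcData.HN.I1539000
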