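import Mathlib
import Cfsg.Agent.TcData.HN.I1539000.Tab

set_option autoImplicit false
set_option Elab.async false
set_option maxRecDepth 100000
set_option linter.all false

namespace Cfsg.Agent.TcData.HN.I1539000

open Cfsg.Spor Cfsg.Agent.Lib.TcFacts Cfsg.Agent.Lib.TcBits Cfsg.Agent.Lib.TcPres Cfsg.Spor.HN Cfsg.Agent.TcData.HN

theorem b5374 : Block F al 1375744 1376000 256 :=
  block_of_check (k := 8) rfl (by decide +kernel)

theorem b5375 : Block F al 1376000 1376256 256 :=
  block_of_check (k := 8) rfl (by decide +kernel)

theorem b5376 : Block F al 1376256 1376512 256 :=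
  block_of_check (k := 8) rfl (by decide +kernel)

theorem b5377 : Block F al 1376512 1376768 254 :=
  block_of_check (k := 8) rfl (by decide +kernel)

theorem b5378 : Block F al 1376768 1377024 256 :=
  block_of_check (k := 8) rfl (by decide +kernel)

theorem b5379 : Block F al 1377024 1377280 256 :=
  block_of_check (k := 8) rfl (by decide +kernel)

theorem b5380 : Block F al 1377280 1377536 256 :=
  block_of_check (k := 8) rfl (by decide +kernel)

theorem b5381 : Block F al 1377536 1377792 254 :=
  block_of_check (k := 8) rfl (by decide +kernel)

theorem b5382 : Block F al 1377792 1378048 256 :=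
  block_of_check (k := 8) rfl (by decide +kernel)

theorem b5383 : Block F al 1378048 1378304 256 :=
  block_of_check (k := 8) rfl (by decide +kernel)

theorem b5384 : Block F al 1378304 1378560 254 :=
  block_of_check (k := 8) rfl (by decide +kernel)

theorem b5385 : Block F al 1378560 1378816 255 :=
  block_of_check (k := 8) rfl (by decide +kernel)

theorem b5386 : Block F al 1378816 1379072 256 :=
  block_of_check (k := 8) rfl (by decide +kernel)

theorem b5387 : Block F al 1379072 1379328 254 :=
  block_of_check (k := 8) rfl (by decide +kernel)

theorem b5388 : Block F al 1379328 1379584 256 :=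
  block_of_check (k := 8) rfl (by decide +kernel)

theorem b5389 : Block F al 1379584 1379840 256 :=
  block_of_check (k := 8) rfl (by decide +kernel)

theorem b5390 : Block F al 1379840 1380096 256 :=
  block_of_check (k := 8) rfl (by decide +kernel)

theorem b5391 : Block F al 1380096 1380352 254 :=
  block_of_check (k := 8) rfl (by decide +kernel)

theorem b5392 : Block F al 1380352 1380608 255 :=
  block_of_check (k := 8) rfl (by decide +kernel)

theorem b5393 : Block F al 1380608 1380864 255 :=
  block_of_check (k := 8) rfl (by decide +kernel)

theorem b5394 : Block F al 1380864 1381120 255 :=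
  block_of_check (k := 8) rfl (by decide +kernel)

theorem b5395 : Block F al 1381120 1381376 255 :=
  block_of_check (k := 8) rfl (by decide +kernel)

theorem b5396 : Block F al 1381376 1381632 255 :=
  block_of_check (k := 8) rfl (by decide +kernel)

theorem b5397 : Block F al 1381632 1381888 255 :=
  block_of_check (k := 8) rfl (by decide +kernel)

theorem b5398 : Block F al 1381888 1382144 254 :=
  block_of_check (k := 8) rfl (by decide +kernel)

theorem b5399 : Block F al 1382144 1382400 254 :=
  block_of_check (k := 8) rfl (by decide +kernel)

theorem b5400 : Block F al 1382400 1382656 254 :=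
  block_of_check (k := 8) rfl (by decide +kernel)

theorem b5401 : Block F al 1382656 1382912 256 :=
  block_of_check (k := 8) rfl (by decide +kernel)

theorem b5402 : Block F al 1382912 1383168 256 :=
  block_of_check (k := 8) rfl (by decide +kernel)

end Cfsg.Agent.TcData.HN.I1539000
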