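import Mathlib
import Cfsg.Agent.TcData.HN.I1539000.Tab

set_option autoImplicit false
set_option Elab.async false
set_option maxRecDepth 100000
set_option linter.all false

namespace Cfsg.Agent.TcData.HN.I1539000

open Cfsg.Spor Cfsg.Agent.Lib.TcFacts Cfsg.Agent.Lib.TcBits Cfsg.Agent.Lib.TcPres Cfsg.Spor.HN Cfsg.Agent.TcData.HN

theorem b5403 : Block F al 1383168 1383424 256 :=
  block_of_check (k := 8) rfl (by decide +kernel)

theorem b5404 : Block F al 1383424 1383680 254 :=
  block_of_check (k := 8) rfl (by decide +kernel)

theorem b5405 : Block F al 1383680 1383936 253 :=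
  block_of_check (k := 8) rfl (by decide +kernel)

theorem b5406 : Block F al 1383936 1384192 256 :=
  block_of_check (k := 8) rfl (by decide +kernel)

theorem b5407 : Block F al 1384192 1384448 254 :=
  block_of_check (k := 8) rfl (by decide +kernel)

theorem b5408 : Block F al 1384448 1384704 256 :=
  block_of_check (k := 8) rfl (by decide +kernel)

theorem b5409 : Block F al 1384704 1384960 256 :=
  block_of_check (k := 8) rfl (by decide +kernel)

theorem b5410 : Block F al 1384960 1385216 254 :=
  block_of_check (k := 8) rfl (by decide +kernel)

theorem b5411 : Block F al 1385216 1385472 256 :=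
  block_of_check (k := 8) rfl (by decide +kernel)

theorem b5412 : Block F al 1385472 1385728 256 :=
  block_of_check (k := 8) rfl (by decide +kernel)

theorem b5413 : Block F al 1385728 1385984 255 :=
  block_of_check (k := 8) rfl (by decide +kernel)

theorem b5414 : Block F al 1385984 1386240 256 :=
  block_of_check (k := 8) rfl (by decide +kernel)

theorem b5415 : Block F al 1386240 1386496 256 :=
  block_of_check (k := 8) rfl (by decide +kernel)

theorem b5416 : Block F al 1386496 1386752 256 :=
  block_of_check (k := 8) rfl (by decide +kernel)

theorem b5417 : Block F al 1386752 1387008 256 :=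
  block_of_check (k := 8) rfl (by decide +kernel)

theorem b5418 : Block F al 1387008 1387264 256 :=
  block_of_check (k := 8) rfl (by decide +kernel)

theorem b5419 : Block F al 1387264 1387520 256 :=
  block_of_check (k := 8) rfl (by decide +kernel)

theorem b5420 : Block F al 1387520 1387776 256 :=
  block_of_check (k := 8) rfl (by decide +kernel)

theorem b5421 : Block F al 1387776 1388032 255 :=
  block_of_check (k := 8) rfl (by decide +kernel)

theorem b5422 : Block F al 1388032 1388288 256 :=
  block_of_check (k := 8) rfl (by decide +kernel)

theorem b5423 : Block F al 1388288 1388544 254 :=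
  block_of_check (k := 8) rfl (by decide +kernel)

theorem b5424 : Block F al 1388544 1388800 255 :=
  block_of_check (k := 8) rfl (by decide +kernel)

theorem b5425 : Block F al 1388800 1389056 256 :=
  block_of_check (k := 8) rfl (by decide +kernel)

theorem b5426 : Block F al 1389056 1389312 256 :=
  block_of_check (k := 8) rfl (by decide +kernel)

theorem b5427 : Block F al 1389312 1389568 256 :=
  block_of_check (k := 8) rfl (by decide +kernel)

theorem b5428 : Block F al 1389568 1389824 256 :=
  block_of_check (k := 8) rfl (by decide +kernel)

theorem b5429 : Block F al 1389824 1390080 256 :=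
  block_of_check (k := 8) rfl (by decide +kernel)

theorem b5430 : Block F al 1390080 1390336 256 :=
  block_of_check (k := 8) rfl (by decide +kernel)

end Cfsg.Agent.TcData.HN.I1539000
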