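import Mathlib
import Cfsg.Agent.TcData.HN.I1539000.Tab

set_option autoImplicit false
set_option Elab.async false
set_option maxRecDepth 100000
set_option linter.all false

namespace Cfsg.Agent.TcData.HN.I1539000

open Cfsg.Spor Cfsg.Agent.Lib.TcFacts Cfsg.Agent.Lib.TcBits Cfsg.Agent.Lib.TcPres Cfsg.Spor.HN Cfsg.Agent.TcData.HN

theorem b5431 : Block F al 1390336 1390592 256 :=
  block_of_check (k := 8) rfl (by decide +kernel)

theorem b5432 : Block F al 1390592 1390848 255 :=
  block_of_check (k := 8) rfl (by decide +kernel)

theorem b5433 : Block F al 1390848 1391104 256 :=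
  block_of_check (k := 8) rfl (by decide +kernel)

theorem b5434 : Block F al 1391104 1391360 256 :=
  block_of_check (k := 8) rfl (by decide +kernel)

theorem b5435 : Block F al 1391360 1391616 256 :=
  block_of_check (k := 8) rfl (by decide +kernel)

theorem b5436 : Block F al 1391616 1391872 255 :=
  block_of_check (k := 8) rfl (by decide +kernel)

theorem b5437 : Block F al 1391872 1392128 256 :=
  block_of_check (k := 8) rfl (by decide +kernel)

theorem b5438 : Block F al 1392128 1392384 254 :=
  block_of_check (k := 8) rfl (by decide +kernel)

theorem b5439 : Block F al 1392384 1392640 256 :=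
  block_of_check (k := 8) rfl (by decide +kernel)

theorem b5440 : Block F al 1392640 1392896 256 :=
  block_of_check (k := 8) rfl (by decide +kernel)

theorem b5441 : Block F al 1392896 1393152 254 :=
  block_of_check (k := 8) rfl (by decide +kernel)

theorem b5442 : Block F al 1393152 1393408 256 :=
  block_of_check (k := 8) rfl (by decide +kernel)

theorem b5443 : Block F al 1393408 1393664 256 :=
  block_of_check (k := 8) rfl (by decide +kernel)

theorem b5444 : Block F al 1393664 1393920 256 :=
  block_of_check (k := 8) rfl (by decide +kernel)

theorem b5445 : Block F al 1393920 1394176 256 :=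
  block_of_check (k := 8) rfl (by decide +kernel)

theorem b5446 : Block F al 1394176 1394432 256 :=
  block_of_check (k := 8) rfl (by decide +kernel)

theorem b5447 : Block F al 1394432 1394688 256 :=
  block_of_check (k := 8) rfl (by decide +kernel)

theorem b5448 : Block F al 1394688 1394944 256 :=
  block_of_check (k := 8) rfl (by decide +kernel)

theorem b5449 : Block F al 1394944 1395200 256 :=
  block_of_check (k := 8) rfl (by decide +kernel)

theorem b5450 : Block F al 1395200 1395456 256 :=
  block_of_check (k := 8) rfl (by decide +kernel)

theorem b5451 : Block F al 1395456 1395712 253 :=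
  block_of_check (k := 8) rfl (by decide +kernel)

theorem b5452 : Block F al 1395712 1395968 253 :=
  block_of_check (k := 8) rfl (by decide +kernel)

theorem b5453 : Block F al 1395968 1396224 256 :=
  block_of_check (k := 8) rfl (by decide +kernel)

theorem b5454 : Block F al 1396224 1396480 254 :=
  block_of_check (k := 8) rfl (by decide +kernel)

theorem b5455 : Block F al 1396480 1396736 252 :=
  block_of_check (k := 8) rfl (by decide +kernel)

theorem b5456 : Block F al 1396736 1396992 256 :=
  block_of_check (k := 8) rfl (by decide +kernel)

theorem b5457 : Block F al 1396992 1397248 256 :=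
  block_of_check (k := 8) rfl (by decide +kernel)

theorem b5458 : Block F al 1397248 1397504 253 :=
  block_of_check (k := 8) rfl (by decide +kernel)

end Cfsg.Agent.TcData.HN.I1539000
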