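import Mathlib
import Cfsg.Agent.TcData.HN.I1539000.Tab

set_option autoImplicit false
set_option Elab.async false
set_option maxRecDepth 100000
set_option linter.all false

namespace Cfsg.Agent.TcData.HN.I1539000

open Cfsg.Spor Cfsg.Agent.Lib.TcFacts Cfsg.Agent.Lib.TcBits Cfsg.Agent.Lib.TcPres Cfsg.Spor.HN Cfsg.Agent.TcData.HN

theorem b5459 : Block F al 1397504 1397760 256 :=
  block_of_check (k := 8) rfl (by decide +kernel)

theorem b5460 : Block F al 1397760 1398016 255 :=
  block_of_check (k := 8) rfl (by decide +kernel)

theorem b5461 : Block F al 1398016 1398272 256 :=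
  block_of_check (k := 8) rfl (by decide +kernel)

theorem b5462 : Block F al 1398272 1398528 256 :=
  block_of_check (k := 8) rfl (by decide +kernel)

theorem b5463 : Block F al 1398528 1398784 252 :=
  block_of_check (k := 8) rfl (by decide +kernel)

theorem b5464 : Block F al 1398784 1399040 256 :=
  block_of_check (k := 8) rfl (by decide +kernel)

theorem b5465 : Block F al 1399040 1399296 256 :=
  block_of_check (k := 8) rfl (by decide +kernel)

theorem b5466 : Block F al 1399296 1399552 256 :=
  block_of_check (k := 8) rfl (by decide +kernel)

theorem b5467 : Block F al 1399552 1399808 256 :=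
  block_of_check (k := 8) rfl (by decide +kernel)

theorem b5468 : Block F al 1399808 1400064 255 :=
  block_of_check (k := 8) rfl (by decide +kernel)

theorem b5469 : Block F al 1400064 1400320 256 :=
  block_of_check (k := 8) rfl (by decide +kernel)

theorem b5470 : Block F al 1400320 1400576 252 :=
  block_of_check (k := 8) rfl (by decide +kernel)

theorem b5471 : Block F al 1400576 1400832 256 :=
  block_of_check (k := 8) rfl (by decide +kernel)

theorem b5472 : Block F al 1400832 1401088 256 :=
  block_of_check (k := 8) rfl (by decide +kernel)

theorem b5473 : Block F al 1401088 1401344 256 :=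
  block_of_check (k := 8) rfl (by decide +kernel)

theorem b5474 : Block F al 1401344 1401600 256 :=
  block_of_check (k := 8) rfl (by decide +kernel)

theorem b5475 : Block F al 1401600 1401856 256 :=
  block_of_check (k := 8) rfl (by decide +kernel)

theorem b5476 : Block F al 1401856 1402112 256 :=
  block_of_check (k := 8) rfl (by decide +kernel)

theorem b5477 : Block F al 1402112 1402368 256 :=
  block_of_check (k := 8) rfl (by decide +kernel)

theorem b5478 : Block F al 1402368 1402624 256 :=
  block_of_check (k := 8) rfl (by decide +kernel)

theorem b5479 : Block F al 1402624 1402880 253 :=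
  block_of_check (k := 8) rfl (by decide +kernel)

theorem b5480 : Block F al 1402880 1403136 256 :=
  block_of_check (k := 8) rfl (by decide +kernel)

theorem b5481 : Block F al 1403136 1403392 256 :=
  block_of_check (k := 8) rfl (by decide +kernel)

theorem b5482 : Block F al 1403392 1403648 256 :=
  block_of_check (k := 8) rfl (by decide +kernel)

theorem b5483 : Block F al 1403648 1403904 256 :=
  block_of_check (k := 8) rfl (by decide +kernel)

theorem b5484 : Block F al 1403904 1404160 254 :=
  block_of_check (k := 8) rfl (by decide +kernel)

theorem b5485 : Block F al 1404160 1404416 256 :=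
  block_of_check (k := 8) rfl (by decide +kernel)

theorem b5486 : Block F al 1404416 1404672 256 :=
  block_of_check (k := 8) rfl (by decide +kernel)

end Cfsg.Agent.TcData.HN.I1539000
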