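import Mathlib
import Cfsg.Agent.TcData.HN.I1539000.Tab

set_option autoImplicit false
set_option Elab.async false
set_option maxRecDepth 100000
set_option linter.all false

namespace Cfsg.Agent.TcData.HN.I1539000

open Cfsg.Spor Cfsg.Agent.Lib.TcFacts Cfsg.Agent.Lib.TcBits Cfsg.Agent.Lib.TcPres Cfsg.Spor.HN Cfsg.Agent.TcData.HN

theorem b727 : Block F al 186112 186368 240 :=
  block_of_check (k := 8) rfl (by decide +kernel)

theorem b728 : Block F al 186368 186624 254 :=
  block_of_check (k := 8) rfl (by decide +kernel)

theorem b729 : Block F al 186624 186880 252 :=
  block_of_check (k := 8) rfl (by decide +kernel)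

theorem b730 : Block F al 186880 187136 241 :=
  block_of_check (k := 8) rfl (by decide +kernel)

theorem b731 : Block F al 187136 187392 254 :=
  block_of_check (k := 8) rfl (by decide +kernel)

theorem b732 : Block F al 187392 187648 250 :=
  block_of_check (k := 8) rfl (by decide +kernel)

theorem b733 : Block F al 187648 187904 249 :=
  block_of_check (k := 8) rfl (by decide +kernel)

theorem b734 : Block F al 187904 188160 248 :=
  block_of_check (k := 8) rfl (by decide +kernel)

theorem b735 : Block F al 188160 188416 251 :=
  block_of_check (k := 8) rfl (by decide +kernel)

theorem b736 : Block F al 188416 188672 250 :=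
  block_of_check (k := 8) rfl (by decide +kernel)

theorem b737 : Block F al 188672 188928 245 :=
  block_of_check (k := 8) rfl (by decide +kernel)

theorem b738 : Block F al 188928 189184 249 :=
  block_of_check (k := 8) rfl (by decide +kernel)

theorem b739 : Block F al 189184 189440 255 :=
  block_of_check (k := 8) rfl (by decide +kernel)

theorem b740 : Block F al 189440 189696 248 :=
  block_of_check (k := 8) rfl (by decide +kernel)

theorem b741 : Block F al 189696 189952 244 :=
  block_of_check (k := 8) rfl (by decide +kernel)

theorem b742 : Block F al 189952 190208 217 :=
  block_of_check (k := 8) rfl (by decide +kernel)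

theorem b743 : Block F al 190208 190464 216 :=
  block_of_check (k := 8) rfl (by decide +kernel)

theorem b744 : Block F al 190464 190720 222 :=
  block_of_check (k := 8) rfl (by decide +kernel)

theorem b745 : Block F al 190720 190976 231 :=
  block_of_check (k := 8) rfl (by decide +kernel)

theorem b746 : Block F al 190976 191232 244 :=
  block_of_check (k := 8) rfl (by decide +kernel)

theorem b747 : Block F al 191232 191488 252 :=
  block_of_check (k := 8) rfl (by decide +kernel)

theorem b748 : Block F al 191488 191744 250 :=
  block_of_check (k := 8) rfl (by decide +kernel)

theorem b749 : Block F al 191744 192000 249 :=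
  block_of_check (k := 8) rfl (by decide +kernel)

theorem b750 : Block F al 192000 192256 253 :=
  block_of_check (k := 8) rfl (by decide +kernel)

theorem b751 : Block F al 192256 192512 243 :=
  block_of_check (k := 8) rfl (by decide +kernel)

theorem b752 : Block F al 192512 192768 248 :=
  block_of_check (k := 8) rfl (by decide +kernel)

theorem b753 : Block F al 192768 193024 249 :=
  block_of_check (k := 8) rfl (by decide +kernel)

theorem b754 : Block F al 193024 193280 247 :=
  block_of_check (k := 8) rfl (by decide +kernel)

theorem b755 : Block F al 193280 193536 206 :=
  block_of_check (k := 8) rfl (by decide +kernel)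

theorem b756 : Block F al 193536 193792 218 :=
  block_of_check (k := 8) rfl (by decide +kernel)

theorem b757 : Block F al 193792 194048 228 :=
  block_of_check (k := 8) rfl (by decide +kernel)

theorem b758 : Block F al 194048 194304 175 :=
  block_of_check (k := 8) rfl (by decide +kernel)

theorem b759 : Block F al 194304 194560 214 :=
  block_of_check (k := 8) rfl (by decide +kernel)

theorem b760 : Block F al 194560 194816 229 :=
  block_of_check (k := 8) rfl (by decide +kernel)

theorem b761 : Block F al 194816 195072 196 :=
  block_of_check (k := 8) rfl (by decide +kernel)

theorem b762 : Block F al 195072 195328 244 :=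
  block_of_check (k := 8) rfl (by decide +kernel)

theorem b763 : Block F al 195328 195584 252 :=
  block_of_check (k := 8) rfl (by decide +kernel)

theorem b764 : Block F al 195584 195840 244 :=
  block_of_check (k := 8) rfl (by decide +kernel)

theorem b765 : Block F al 195840 196096 239 :=
  block_of_check (k := 8) rfl (by decide +kernel)

theorem b766 : Block F al 196096 196352 242 :=
  block_of_check (k := 8) rfl (by decide +kernel)

theorem b767 : Block F al 196352 196608 241 :=
  block_of_check (k := 8) rfl (by decide +kernel)

theorem b768 : Block F al 196608 196864 251 :=
  block_of_check (k := 8) rfl (by decide +kernel)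

theorem b769 : Block F al 196864 197120 243 :=
  block_of_check (k := 8) rfl (by decide +kernel)

theorem b770 : Block F al 197120 197376 239 :=
  block_of_check (k := 8) rfl (by decide +kernel)

theorem b771 : Block F al 197376 197632 240 :=
  block_of_check (k := 8) rfl (by decide +kernel)

theorem b772 : Block F al 197632 197888 250 :=
  block_of_check (k := 8) rfl (by decide +kernel)

theorem b773 : Block F al 197888 198144 244 :=
  block_of_check (k := 8) rfl (by decide +kernel)

end Cfsg.Agent.TcData.HN.I1539000
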