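import Mathlib
import Cfsg.Agent.TcData.HN.I1539000.Tab

set_option autoImplicit false
set_option Elab.async false
set_option maxRecDepth 100000
set_option linter.all false

namespace Cfsg.Agent.TcData.HN.I1539000

open Cfsg.Spor Cfsg.Agent.Lib.TcFacts Cfsg.Agent.Lib.TcBits Cfsg.Agent.Lib.TcPres Cfsg.Spor.HN Cfsg.Agent.TcData.HN

theorem b5487 : Block F al 1404672 1404928 256 :=
  block_of_check (k := 8) rfl (by decide +kernel)

theorem b5488 : Block F al 1404928 1405184 256 :=
  block_of_check (k := 8) rfl (by decide +kernel)

theorem b5489 : Block F al 1405184 1405440 256 :=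
  block_of_check (k := 8) rfl (by decide +kernel)

theorem b5490 : Block F al 1405440 1405696 256 :=
  block_of_check (k := 8) rfl (by decide +kernel)

theorem b5491 : Block F al 1405696 1405952 256 :=
  block_of_check (k := 8) rfl (by decide +kernel)

theorem b5492 : Block F al 1405952 1406208 256 :=
  block_of_check (k := 8) rfl (by decide +kernel)

theorem b5493 : Block F al 1406208 1406464 256 :=
  block_of_check (k := 8) rfl (by decide +kernel)

theorem b5494 : Block F al 1406464 1406720 256 :=
  block_of_check (k := 8) rfl (by decide +kernel)

theorem b5495 : Block F al 1406720 1406976 256 :=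
  block_of_check (k := 8) rfl (by decide +kernel)

theorem b5496 : Block F al 1406976 1407232 256 :=
  block_of_check (k := 8) rfl (by decide +kernel)

theorem b5497 : Block F al 1407232 1407488 256 :=
  block_of_check (k := 8) rfl (by decide +kernel)

theorem b5498 : Block F al 1407488 1407744 256 :=
  block_of_check (k := 8) rfl (by decide +kernel)

theorem b5499 : Block F al 1407744 1408000 256 :=
  block_of_check (k := 8) rfl (by decide +kernel)

theorem b5500 : Block F al 1408000 1408256 256 :=
  block_of_check (k := 8) rfl (by decide +kernel)

theorem b5501 : Block F al 1408256 1408512 256 :=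
  block_of_check (k := 8) rfl (by decide +kernel)

theorem b5502 : Block F al 1408512 1408768 256 :=
  block_of_check (k := 8) rfl (by decide +kernel)

theorem b5503 : Block F al 1408768 1409024 256 :=
  block_of_check (k := 8) rfl (by decide +kernel)

theorem b5504 : Block F al 1409024 1409280 256 :=
  block_of_check (k := 8) rfl (by decide +kernel)

theorem b5505 : Block F al 1409280 1409536 256 :=
  block_of_check (k := 8) rfl (by decide +kernel)

theorem b5506 : Block F al 1409536 1409792 256 :=
  block_of_check (k := 8) rfl (by decide +kernel)

theorem b5507 : Block F al 1409792 1410048 256 :=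
  block_of_check (k := 8) rfl (by decide +kernel)

theorem b5508 : Block F al 1410048 1410304 254 :=
  block_of_check (k := 8) rfl (by decide +kernel)

theorem b5509 : Block F al 1410304 1410560 256 :=
  block_of_check (k := 8) rfl (by decide +kernel)

theorem b5510 : Block F al 1410560 1410816 256 :=
  block_of_check (k := 8) rfl (by decide +kernel)

theorem b5511 : Block F al 1410816 1411072 256 :=
  block_of_check (k := 8) rfl (by decide +kernel)

theorem b5512 : Block F al 1411072 1411328 256 :=
  block_of_check (k := 8) rfl (by decide +kernel)

theorem b5513 : Block F al 1411328 1411584 255 :=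
  block_of_check (k := 8) rfl (by decide +kernel)

end Cfsg.Agent.TcData.HN.I1539000
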