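import Mathlib
import Cfsg.Agent.TcData.HN.I1539000.Tab

set_option autoImplicit false
set_option Elab.async false
set_option maxRecDepth 100000
set_option linter.all false

namespace Cfsg.Agent.TcData.HN.I1539000

open Cfsg.Spor Cfsg.Agent.Lib.TcFacts Cfsg.Agent.Lib.TcBits Cfsg.Agent.Lib.TcPres Cfsg.Spor.HN Cfsg.Agent.TcData.HN

theorem b5514 : Block F al 1411584 1411840 256 :=
  block_of_check (k := 8) rfl (by decide +kernel)

theorem b5515 : Block F al 1411840 1412096 256 :=
  block_of_check (k := 8) rfl (by decide +kernel)

theorem b5516 : Block F al 1412096 1412352 256 :=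
  block_of_check (k := 8) rfl (by decide +kernel)

theorem b5517 : Block F al 1412352 1412608 254 :=
  block_of_check (k := 8) rfl (by decide +kernel)

theorem b5518 : Block F al 1412608 1412864 256 :=
  block_of_check (k := 8) rfl (by decide +kernel)

theorem b5519 : Block F al 1412864 1413120 256 :=
  block_of_check (k := 8) rfl (by decide +kernel)

theorem b5520 : Block F al 1413120 1413376 256 :=
  block_of_check (k := 8) rfl (by decide +kernel)

theorem b5521 : Block F al 1413376 1413632 256 :=
  block_of_check (k := 8) rfl (by decide +kernel)

theorem b5522 : Block F al 1413632 1413888 256 :=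
  block_of_check (k := 8) rfl (by decide +kernel)

theorem b5523 : Block F al 1413888 1414144 256 :=
  block_of_check (k := 8) rfl (by decide +kernel)

theorem b5524 : Block F al 1414144 1414400 256 :=
  block_of_check (k := 8) rfl (by decide +kernel)

theorem b5525 : Block F al 1414400 1414656 256 :=
  block_of_check (k := 8) rfl (by decide +kernel)

theorem b5526 : Block F al 1414656 1414912 256 :=
  block_of_check (k := 8) rfl (by decide +kernel)

theorem b5527 : Block F al 1414912 1415168 255 :=
  block_of_check (k := 8) rfl (by decide +kernel)

theorem b5528 : Block F al 1415168 1415424 255 :=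
  block_of_check (k := 8) rfl (by decide +kernel)

theorem b5529 : Block F al 1415424 1415680 255 :=
  block_of_check (k := 8) rfl (by decide +kernel)

theorem b5530 : Block F al 1415680 1415936 256 :=
  block_of_check (k := 8) rfl (by decide +kernel)

theorem b5531 : Block F al 1415936 1416192 254 :=
  block_of_check (k := 8) rfl (by decide +kernel)

theorem b5532 : Block F al 1416192 1416448 256 :=
  block_of_check (k := 8) rfl (by decide +kernel)

theorem b5533 : Block F al 1416448 1416704 256 :=
  block_of_check (k := 8) rfl (by decide +kernel)

theorem b5534 : Block F al 1416704 1416960 256 :=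
  block_of_check (k := 8) rfl (by decide +kernel)

theorem b5535 : Block F al 1416960 1417216 256 :=
  block_of_check (k := 8) rfl (by decide +kernel)

theorem b5536 : Block F al 1417216 1417472 256 :=
  block_of_check (k := 8) rfl (by decide +kernel)

theorem b5537 : Block F al 1417472 1417728 256 :=
  block_of_check (k := 8) rfl (by decide +kernel)

theorem b5538 : Block F al 1417728 1417984 256 :=
  block_of_check (k := 8) rfl (by decide +kernel)

theorem b5539 : Block F al 1417984 1418240 256 :=
  block_of_check (k := 8) rfl (by decide +kernel)

theorem b5540 : Block F al 1418240 1418496 256 :=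
  block_of_check (k := 8) rfl (by decide +kernel)

theorem b5541 : Block F al 1418496 1418752 256 :=
  block_of_check (k := 8) rfl (by decide +kernel)

end Cfsg.Agent.TcData.HN.I1539000
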