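import Mathlib
import Cfsg.Agent.TcData.HN.I1539000.Tab

set_option autoImplicit false
set_option Elab.async false
set_option maxRecDepth 100000
set_option linter.all false

namespace Cfsg.Agent.TcData.HN.I1539000

open Cfsg.Spor Cfsg.Agent.Lib.TcFacts Cfsg.Agent.Lib.TcBits Cfsg.Agent.Lib.TcPres Cfsg.Spor.HN Cfsg.Agent.TcData.HN

theorem b5542 : Block F al 1418752 1419008 256 :=
  block_of_check (k := 8) rfl (by decide +kernel)

theorem b5543 : Block F al 1419008 1419264 256 :=
  block_of_check (k := 8) rfl (by decide +kernel)

theorem b5544 : Block F al 1419264 1419520 256 :=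
  block_of_check (k := 8) rfl (by decide +kernel)

theorem b5545 : Block F al 1419520 1419776 251 :=
  block_of_check (k := 8) rfl (by decide +kernel)

theorem b5546 : Block F al 1419776 1420032 256 :=
  block_of_check (k := 8) rfl (by decide +kernel)

theorem b5547 : Block F al 1420032 1420288 256 :=
  block_of_check (k := 8) rfl (by decide +kernel)

theorem b5548 : Block F al 1420288 1420544 256 :=
  block_of_check (k := 8) rfl (by decide +kernel)

theorem b5549 : Block F al 1420544 1420800 255 :=
  block_of_check (k := 8) rfl (by decide +kernel)

theorem b5550 : Block F al 1420800 1421056 256 :=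
  block_of_check (k := 8) rfl (by decide +kernel)

theorem b5551 : Block F al 1421056 1421312 256 :=
  block_of_check (k := 8) rfl (by decide +kernel)

theorem b5552 : Block F al 1421312 1421568 256 :=
  block_of_check (k := 8) rfl (by decide +kernel)

theorem b5553 : Block F al 1421568 1421824 256 :=
  block_of_check (k := 8) rfl (by decide +kernel)

theorem b5554 : Block F al 1421824 1422080 254 :=
  block_of_check (k := 8) rfl (by decide +kernel)

theorem b5555 : Block F al 1422080 1422336 255 :=
  block_of_check (k := 8) rfl (by decide +kernel)

theorem b5556 : Block F al 1422336 1422592 256 :=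
  block_of_check (k := 8) rfl (by decide +kernel)

theorem b5557 : Block F al 1422592 1422848 256 :=
  block_of_check (k := 8) rfl (by decide +kernel)

theorem b5558 : Block F al 1422848 1423104 256 :=
  block_of_check (k := 8) rfl (by decide +kernel)

theorem b5559 : Block F al 1423104 1423360 256 :=
  block_of_check (k := 8) rfl (by decide +kernel)

theorem b5560 : Block F al 1423360 1423616 256 :=
  block_of_check (k := 8) rfl (by decide +kernel)

theorem b5561 : Block F al 1423616 1423872 256 :=
  block_of_check (k := 8) rfl (by decide +kernel)

theorem b5562 : Block F al 1423872 1424128 256 :=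
  block_of_check (k := 8) rfl (by decide +kernel)

theorem b5563 : Block F al 1424128 1424384 256 :=
  block_of_check (k := 8) rfl (by decide +kernel)

theorem b5564 : Block F al 1424384 1424640 256 :=
  block_of_check (k := 8) rfl (by decide +kernel)

theorem b5565 : Block F al 1424640 1424896 256 :=
  block_of_check (k := 8) rfl (by decide +kernel)

theorem b5566 : Block F al 1424896 1425152 256 :=
  block_of_check (k := 8) rfl (by decide +kernel)

theorem b5567 : Block F al 1425152 1425408 254 :=
  block_of_check (k := 8) rfl (by decide +kernel)

theorem b5568 : Block F al 1425408 1425664 256 :=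
  block_of_check (k := 8) rfl (by decide +kernel)

theorem b5569 : Block F al 1425664 1425920 256 :=
  block_of_check (k := 8) rfl (by decide +kernel)

theorem b5570 : Block F al 1425920 1426176 256 :=
  block_of_check (k := 8) rfl (by decide +kernel)

end Cfsg.Agent.TcData.HN.I1539000
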