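import Mathlib
import Cfsg.Agent.TcData.HN.I1539000.Tab

set_option autoImplicit false
set_option Elab.async false
set_option maxRecDepth 100000
set_option linter.all false

namespace Cfsg.Agent.TcData.HN.I1539000

open Cfsg.Spor Cfsg.Agent.Lib.TcFacts Cfsg.Agent.Lib.TcBits Cfsg.Agent.Lib.TcPres Cfsg.Spor.HN Cfsg.Agent.TcData.HN

theorem b5599 : Block F al 1433344 1433600 256 :=
  block_of_check (k := 8) rfl (by decide +kernel)

theorem b5600 : Block F al 1433600 1433856 256 :=
  block_of_check (k := 8) rfl (by decide +kernel)

theorem b5601 : Block F al 1433856 1434112 256 :=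
  block_of_check (k := 8) rfl (by decide +kernel)

theorem b5602 : Block F al 1434112 1434368 255 :=
  block_of_check (k := 8) rfl (by decide +kernel)

theorem b5603 : Block F al 1434368 1434624 256 :=
  block_of_check (k := 8) rfl (by decide +kernel)

theorem b5604 : Block F al 1434624 1434880 256 :=
  block_of_check (k := 8) rfl (by decide +kernel)

theorem b5605 : Block F al 1434880 1435136 256 :=
  block_of_check (k := 8) rfl (by decide +kernel)

theorem b5606 : Block F al 1435136 1435392 256 :=
  block_of_check (k := 8) rfl (by decide +kernel)

theorem b5607 : Block F al 1435392 1435648 256 :=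
  block_of_check (k := 8) rfl (by decide +kernel)

theorem b5608 : Block F al 1435648 1435904 256 :=
  block_of_check (k := 8) rfl (by decide +kernel)

theorem b5609 : Block F al 1435904 1436160 256 :=
  block_of_check (k := 8) rfl (by decide +kernel)

theorem b5610 : Block F al 1436160 1436416 256 :=
  block_of_check (k := 8) rfl (by decide +kernel)

theorem b5611 : Block F al 1436416 1436672 256 :=
  block_of_check (k := 8) rfl (by decide +kernel)

theorem b5612 : Block F al 1436672 1436928 255 :=
  block_of_check (k := 8) rfl (by decide +kernel)

theorem b5613 : Block F al 1436928 1437184 256 :=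
  block_of_check (k := 8) rfl (by decide +kernel)

theorem b5614 : Block F al 1437184 1437440 255 :=
  block_of_check (k := 8) rfl (by decide +kernel)

theorem b5615 : Block F al 1437440 1437696 256 :=
  block_of_check (k := 8) rfl (by decide +kernel)

theorem b5616 : Block F al 1437696 1437952 256 :=
  block_of_check (k := 8) rfl (by decide +kernel)

theorem b5617 : Block F al 1437952 1438208 256 :=
  block_of_check (k := 8) rfl (by decide +kernel)

theorem b5618 : Block F al 1438208 1438464 256 :=
  block_of_check (k := 8) rfl (by decide +kernel)

theorem b5619 : Block F al 1438464 1438720 256 :=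
  block_of_check (k := 8) rfl (by decide +kernel)

theorem b5620 : Block F al 1438720 1438976 256 :=
  block_of_check (k := 8) rfl (by decide +kernel)

theorem b5621 : Block F al 1438976 1439232 256 :=
  block_of_check (k := 8) rfl (by decide +kernel)

theorem b5622 : Block F al 1439232 1439488 256 :=
  block_of_check (k := 8) rfl (by decide +kernel)

theorem b5623 : Block F al 1439488 1439744 256 :=
  block_of_check (k := 8) rfl (by decide +kernel)

theorem b5624 : Block F al 1439744 1440000 256 :=
  block_of_check (k := 8) rfl (by decide +kernel)

theorem b5625 : Block F al 1440000 1440256 256 :=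
  block_of_check (k := 8) rfl (by decide +kernel)

theorem b5626 : Block F al 1440256 1440512 256 :=
  block_of_check (k := 8) rfl (by decide +kernel)

theorem b5627 : Block F al 1440512 1440768 256 :=
  block_of_check (k := 8) rfl (by decide +kernel)

end Cfsg.Agent.TcData.HN.I1539000
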