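import Mathlib
import Cfsg.Agent.TcData.HN.I1539000.Tab

set_option autoImplicit false
set_option Elab.async false
set_option maxRecDepth 100000
set_option linter.all false

namespace Cfsg.Agent.TcData.HN.I1539000

open Cfsg.Spor Cfsg.Agent.Lib.TcFacts Cfsg.Agent.Lib.TcBits Cfsg.Agent.Lib.TcPres Cfsg.Spor.HN Cfsg.Agent.TcData.HN

theorem b5628 : Block F al 1440768 1441024 256 :=
  block_of_check (k := 8) rfl (by decide +kernel)

theorem b5629 : Block F al 1441024 1441280 256 :=
  block_of_check (k := 8) rfl (by decide +kernel)

theorem b5630 : Block F al 1441280 1441536 256 :=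
  block_of_check (k := 8) rfl (by decide +kernel)

theorem b5631 : Block F al 1441536 1441792 256 :=
  block_of_check (k := 8) rfl (by decide +kernel)

theorem b5632 : Block F al 1441792 1442048 256 :=
  block_of_check (k := 8) rfl (by decide +kernel)

theorem b5633 : Block F al 1442048 1442304 254 :=
  block_of_check (k := 8) rfl (by decide +kernel)

theorem b5634 : Block F al 1442304 1442560 256 :=
  block_of_check (k := 8) rfl (by decide +kernel)

theorem b5635 : Block F al 1442560 1442816 256 :=
  block_of_check (k := 8) rfl (by decide +kernel)

theorem b5636 : Block F al 1442816 1443072 256 :=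
  block_of_check (k := 8) rfl (by decide +kernel)

theorem b5637 : Block F al 1443072 1443328 255 :=
  block_of_check (k := 8) rfl (by decide +kernel)

theorem b5638 : Block F al 1443328 1443584 255 :=
  block_of_check (k := 8) rfl (by decide +kernel)

theorem b5639 : Block F al 1443584 1443840 256 :=
  block_of_check (k := 8) rfl (by decide +kernel)

theorem b5640 : Block F al 1443840 1444096 256 :=
  block_of_check (k := 8) rfl (by decide +kernel)

theorem b5641 : Block F al 1444096 1444352 256 :=
  block_of_check (k := 8) rfl (by decide +kernel)

theorem b5642 : Block F al 1444352 1444608 256 :=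
  block_of_check (k := 8) rfl (by decide +kernel)

theorem b5643 : Block F al 1444608 1444864 256 :=
  block_of_check (k := 8) rfl (by decide +kernel)

theorem b5644 : Block F al 1444864 1445120 256 :=
  block_of_check (k := 8) rfl (by decide +kernel)

theorem b5645 : Block F al 1445120 1445376 256 :=
  block_of_check (k := 8) rfl (by decide +kernel)

theorem b5646 : Block F al 1445376 1445632 256 :=
  block_of_check (k := 8) rfl (by decide +kernel)

theorem b5647 : Block F al 1445632 1445888 256 :=
  block_of_check (k := 8) rfl (by decide +kernel)

theorem b5648 : Block F al 1445888 1446144 255 :=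
  block_of_check (k := 8) rfl (by decide +kernel)

theorem b5649 : Block F al 1446144 1446400 254 :=
  block_of_check (k := 8) rfl (by decide +kernel)

theorem b5650 : Block F al 1446400 1446656 256 :=
  block_of_check (k := 8) rfl (by decide +kernel)

theorem b5651 : Block F al 1446656 1446912 256 :=
  block_of_check (k := 8) rfl (by decide +kernel)

theorem b5652 : Block F al 1446912 1447168 256 :=
  block_of_check (k := 8) rfl (by decide +kernel)

theorem b5653 : Block F al 1447168 1447424 255 :=
  block_of_check (k := 8) rfl (by decide +kernel)

theorem b5654 : Block F al 1447424 1447680 256 :=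
  block_of_check (k := 8) rfl (by decide +kernel)

theorem b5655 : Block F al 1447680 1447936 256 :=
  block_of_check (k := 8) rfl (by decide +kernel)

end Cfsg.Agent.TcData.HN.I1539000
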