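import Mathlib
import Cfsg.Agent.TcData.HN.I1539000.Tab

set_option autoImplicit false
set_option Elab.async false
set_option maxRecDepth 100000
set_option linter.all false

namespace Cfsg.Agent.TcData.HN.I1539000

open Cfsg.Spor Cfsg.Agent.Lib.TcFacts Cfsg.Agent.Lib.TcBits Cfsg.Agent.Lib.TcPres Cfsg.Spor.HN Cfsg.Agent.TcData.HN

theorem b5656 : Block F al 1447936 1448192 256 :=
  block_of_check (k := 8) rfl (by decide +kernel)

theorem b5657 : Block F al 1448192 1448448 256 :=
  block_of_check (k := 8) rfl (by decide +kernel)

theorem b5658 : Block F al 1448448 1448704 255 :=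
  block_of_check (k := 8) rfl (by decide +kernel)

theorem b5659 : Block F al 1448704 1448960 256 :=
  block_of_check (k := 8) rfl (by decide +kernel)

theorem b5660 : Block F al 1448960 1449216 255 :=
  block_of_check (k := 8) rfl (by decide +kernel)

theorem b5661 : Block F al 1449216 1449472 256 :=
  block_of_check (k := 8) rfl (by decide +kernel)

theorem b5662 : Block F al 1449472 1449728 256 :=
  block_of_check (k := 8) rfl (by decide +kernel)

theorem b5663 : Block F al 1449728 1449984 256 :=
  block_of_check (k := 8) rfl (by decide +kernel)

theorem b5664 : Block F al 1449984 1450240 256 :=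
  block_of_check (k := 8) rfl (by decide +kernel)

theorem b5665 : Block F al 1450240 1450496 254 :=
  block_of_check (k := 8) rfl (by decide +kernel)

theorem b5666 : Block F al 1450496 1450752 256 :=
  block_of_check (k := 8) rfl (by decide +kernel)

theorem b5667 : Block F al 1450752 1451008 256 :=
  block_of_check (k := 8) rfl (by decide +kernel)

theorem b5668 : Block F al 1451008 1451264 256 :=
  block_of_check (k := 8) rfl (by decide +kernel)

theorem b5669 : Block F al 1451264 1451520 255 :=
  block_of_check (k := 8) rfl (by decide +kernel)

theorem b5670 : Block F al 1451520 1451776 256 :=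
  block_of_check (k := 8) rfl (by decide +kernel)

theorem b5671 : Block F al 1451776 1452032 255 :=
  block_of_check (k := 8) rfl (by decide +kernel)

theorem b5672 : Block F al 1452032 1452288 254 :=
  block_of_check (k := 8) rfl (by decide +kernel)

theorem b5673 : Block F al 1452288 1452544 254 :=
  block_of_check (k := 8) rfl (by decide +kernel)

theorem b5674 : Block F al 1452544 1452800 256 :=
  block_of_check (k := 8) rfl (by decide +kernel)

theorem b5675 : Block F al 1452800 1453056 256 :=
  block_of_check (k := 8) rfl (by decide +kernel)

theorem b5676 : Block F al 1453056 1453312 256 :=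
  block_of_check (k := 8) rfl (by decide +kernel)

theorem b5677 : Block F al 1453312 1453568 256 :=
  block_of_check (k := 8) rfl (by decide +kernel)

theorem b5678 : Block F al 1453568 1453824 256 :=
  block_of_check (k := 8) rfl (by decide +kernel)

theorem b5679 : Block F al 1453824 1454080 256 :=
  block_of_check (k := 8) rfl (by decide +kernel)

theorem b5680 : Block F al 1454080 1454336 256 :=
  block_of_check (k := 8) rfl (by decide +kernel)

theorem b5681 : Block F al 1454336 1454592 255 :=
  block_of_check (k := 8) rfl (by decide +kernel)

theorem b5682 : Block F al 1454592 1454848 256 :=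
  block_of_check (k := 8) rfl (by decide +kernel)

theorem b5683 : Block F al 1454848 1455104 255 :=
  block_of_check (k := 8) rfl (by decide +kernel)

end Cfsg.Agent.TcData.HN.I1539000
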