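import Mathlib
import Cfsg.Agent.TcData.HN.I1539000.Tab

set_option autoImplicit false
set_option Elab.async false
set_option maxRecDepth 100000
set_option linter.all false

namespace Cfsg.Agent.TcData.HN.I1539000

open Cfsg.Spor Cfsg.Agent.Lib.TcFacts Cfsg.Agent.Lib.TcBits Cfsg.Agent.Lib.TcPres Cfsg.Spor.HN Cfsg.Agent.TcData.HN

theorem b5684 : Block F al 1455104 1455360 256 :=
  block_of_check (k := 8) rfl (by decide +kernel)

theorem b5685 : Block F al 1455360 1455616 256 :=
  block_of_check (k := 8) rfl (by decide +kernel)

theorem b5686 : Block F al 1455616 1455872 256 :=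
  block_of_check (k := 8) rfl (by decide +kernel)

theorem b5687 : Block F al 1455872 1456128 256 :=
  block_of_check (k := 8) rfl (by decide +kernel)

theorem b5688 : Block F al 1456128 1456384 256 :=
  block_of_check (k := 8) rfl (by decide +kernel)

theorem b5689 : Block F al 1456384 1456640 256 :=
  block_of_check (k := 8) rfl (by decide +kernel)

theorem b5690 : Block F al 1456640 1456896 256 :=
  block_of_check (k := 8) rfl (by decide +kernel)

theorem b5691 : Block F al 1456896 1457152 256 :=
  block_of_check (k := 8) rfl (by decide +kernel)

theorem b5692 : Block F al 1457152 1457408 254 :=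
  block_of_check (k := 8) rfl (by decide +kernel)

theorem b5693 : Block F al 1457408 1457664 256 :=
  block_of_check (k := 8) rfl (by decide +kernel)

theorem b5694 : Block F al 1457664 1457920 256 :=
  block_of_check (k := 8) rfl (by decide +kernel)

theorem b5695 : Block F al 1457920 1458176 252 :=
  block_of_check (k := 8) rfl (by decide +kernel)

theorem b5696 : Block F al 1458176 1458432 254 :=
  block_of_check (k := 8) rfl (by decide +kernel)

theorem b5697 : Block F al 1458432 1458688 256 :=
  block_of_check (k := 8) rfl (by decide +kernel)

theorem b5698 : Block F al 1458688 1458944 256 :=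
  block_of_check (k := 8) rfl (by decide +kernel)

theorem b5699 : Block F al 1458944 1459200 256 :=
  block_of_check (k := 8) rfl (by decide +kernel)

theorem b5700 : Block F al 1459200 1459456 256 :=
  block_of_check (k := 8) rfl (by decide +kernel)

theorem b5701 : Block F al 1459456 1459712 256 :=
  block_of_check (k := 8) rfl (by decide +kernel)

theorem b5702 : Block F al 1459712 1459968 256 :=
  block_of_check (k := 8) rfl (by decide +kernel)

theorem b5703 : Block F al 1459968 1460224 256 :=
  block_of_check (k := 8) rfl (by decide +kernel)

theorem b5704 : Block F al 1460224 1460480 256 :=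
  block_of_check (k := 8) rfl (by decide +kernel)

theorem b5705 : Block F al 1460480 1460736 256 :=
  block_of_check (k := 8) rfl (by decide +kernel)

theorem b5706 : Block F al 1460736 1460992 252 :=
  block_of_check (k := 8) rfl (by decide +kernel)

theorem b5707 : Block F al 1460992 1461248 256 :=
  block_of_check (k := 8) rfl (by decide +kernel)

theorem b5708 : Block F al 1461248 1461504 256 :=
  block_of_check (k := 8) rfl (by decide +kernel)

theorem b5709 : Block F al 1461504 1461760 256 :=
  block_of_check (k := 8) rfl (by decide +kernel)

theorem b5710 : Block F al 1461760 1462016 256 :=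
  block_of_check (k := 8) rfl (by decide +kernel)

end Cfsg.Agent.TcData.HN.I1539000
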