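import Mathlib
import Cfsg.Agent.TcData.HN.I1539000.Tab

set_option autoImplicit false
set_option Elab.async false
set_option maxRecDepth 100000
set_option linter.all false

namespace Cfsg.Agent.TcData.HN.I1539000

open Cfsg.Spor Cfsg.Agent.Lib.TcFacts Cfsg.Agent.Lib.TcBits Cfsg.Agent.Lib.TcPres Cfsg.Spor.HN Cfsg.Agent.TcData.HN

theorem b5711 : Block F al 1462016 1462272 256 :=
  block_of_check (k := 8) rfl (by decide +kernel)

theorem b5712 : Block F al 1462272 1462528 256 :=
  block_of_check (k := 8) rfl (by decide +kernel)

theorem b5713 : Block F al 1462528 1462784 256 :=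
  block_of_check (k := 8) rfl (by decide +kernel)

theorem b5714 : Block F al 1462784 1463040 253 :=
  block_of_check (k := 8) rfl (by decide +kernel)

theorem b5715 : Block F al 1463040 1463296 256 :=
  block_of_check (k := 8) rfl (by decide +kernel)

theorem b5716 : Block F al 1463296 1463552 256 :=
  block_of_check (k := 8) rfl (by decide +kernel)

theorem b5717 : Block F al 1463552 1463808 256 :=
  block_of_check (k := 8) rfl (by decide +kernel)

theorem b5718 : Block F al 1463808 1464064 256 :=
  block_of_check (k := 8) rfl (by decide +kernel)

theorem b5719 : Block F al 1464064 1464320 256 :=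
  block_of_check (k := 8) rfl (by decide +kernel)

theorem b5720 : Block F al 1464320 1464576 256 :=
  block_of_check (k := 8) rfl (by decide +kernel)

theorem b5721 : Block F al 1464576 1464832 256 :=
  block_of_check (k := 8) rfl (by decide +kernel)

theorem b5722 : Block F al 1464832 1465088 254 :=
  block_of_check (k := 8) rfl (by decide +kernel)

theorem b5723 : Block F al 1465088 1465344 256 :=
  block_of_check (k := 8) rfl (by decide +kernel)

theorem b5724 : Block F al 1465344 1465600 256 :=
  block_of_check (k := 8) rfl (by decide +kernel)

theorem b5725 : Block F al 1465600 1465856 256 :=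
  block_of_check (k := 8) rfl (by decide +kernel)

theorem b5726 : Block F al 1465856 1466112 256 :=
  block_of_check (k := 8) rfl (by decide +kernel)

theorem b5727 : Block F al 1466112 1466368 254 :=
  block_of_check (k := 8) rfl (by decide +kernel)

theorem b5728 : Block F al 1466368 1466624 256 :=
  block_of_check (k := 8) rfl (by decide +kernel)

theorem b5729 : Block F al 1466624 1466880 254 :=
  block_of_check (k := 8) rfl (by decide +kernel)

theorem b5730 : Block F al 1466880 1467136 256 :=
  block_of_check (k := 8) rfl (by decide +kernel)

theorem b5731 : Block F al 1467136 1467392 256 :=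
  block_of_check (k := 8) rfl (by decide +kernel)

theorem b5732 : Block F al 1467392 1467648 256 :=
  block_of_check (k := 8) rfl (by decide +kernel)

theorem b5733 : Block F al 1467648 1467904 256 :=
  block_of_check (k := 8) rfl (by decide +kernel)

theorem b5734 : Block F al 1467904 1468160 256 :=
  block_of_check (k := 8) rfl (by decide +kernel)

theorem b5735 : Block F al 1468160 1468416 256 :=
  block_of_check (k := 8) rfl (by decide +kernel)

theorem b5736 : Block F al 1468416 1468672 256 :=
  block_of_check (k := 8) rfl (by decide +kernel)

theorem b5737 : Block F al 1468672 1468928 256 :=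
  block_of_check (k := 8) rfl (by decide +kernel)

end Cfsg.Agent.TcData.HN.I1539000
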