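import Mathlib
import Cfsg.Agent.TcData.HN.I1539000.Tab

set_option autoImplicit false
set_option Elab.async false
set_option maxRecDepth 100000
set_option linter.all false

namespace Cfsg.Agent.TcData.HN.I1539000

open Cfsg.Spor Cfsg.Agent.Lib.TcFacts Cfsg.Agent.Lib.TcBits Cfsg.Agent.Lib.TcPres Cfsg.Spor.HN Cfsg.Agent.TcData.HN

theorem b5738 : Block F al 1468928 1469184 256 :=
  block_of_check (k := 8) rfl (by decide +kernel)

theorem b5739 : Block F al 1469184 1469440 256 :=
  block_of_check (k := 8) rfl (by decide +kernel)

theorem b5740 : Block F al 1469440 1469696 256 :=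
  block_of_check (k := 8) rfl (by decide +kernel)

theorem b5741 : Block F al 1469696 1469952 256 :=
  block_of_check (k := 8) rfl (by decide +kernel)

theorem b5742 : Block F al 1469952 1470208 256 :=
  block_of_check (k := 8) rfl (by decide +kernel)

theorem b5743 : Block F al 1470208 1470464 256 :=
  block_of_check (k := 8) rfl (by decide +kernel)

theorem b5744 : Block F al 1470464 1470720 256 :=
  block_of_check (k := 8) rfl (by decide +kernel)

theorem b5745 : Block F al 1470720 1470976 256 :=
  block_of_check (k := 8) rfl (by decide +kernel)

theorem b5746 : Block F al 1470976 1471232 255 :=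
  block_of_check (k := 8) rfl (by decide +kernel)

theorem b5747 : Block F al 1471232 1471488 255 :=
  block_of_check (k := 8) rfl (by decide +kernel)

theorem b5748 : Block F al 1471488 1471744 256 :=
  block_of_check (k := 8) rfl (by decide +kernel)

theorem b5749 : Block F al 1471744 1472000 256 :=
  block_of_check (k := 8) rfl (by decide +kernel)

theorem b5750 : Block F al 1472000 1472256 256 :=
  block_of_check (k := 8) rfl (by decide +kernel)

theorem b5751 : Block F al 1472256 1472512 256 :=
  block_of_check (k := 8) rfl (by decide +kernel)

theorem b5752 : Block F al 1472512 1472768 256 :=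
  block_of_check (k := 8) rfl (by decide +kernel)

theorem b5753 : Block F al 1472768 1473024 256 :=
  block_of_check (k := 8) rfl (by decide +kernel)

theorem b5754 : Block F al 1473024 1473280 256 :=
  block_of_check (k := 8) rfl (by decide +kernel)

theorem b5755 : Block F al 1473280 1473536 256 :=
  block_of_check (k := 8) rfl (by decide +kernel)

theorem b5756 : Block F al 1473536 1473792 256 :=
  block_of_check (k := 8) rfl (by decide +kernel)

theorem b5757 : Block F al 1473792 1474048 256 :=
  block_of_check (k := 8) rfl (by decide +kernel)

theorem b5758 : Block F al 1474048 1474304 256 :=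
  block_of_check (k := 8) rfl (by decide +kernel)

theorem b5759 : Block F al 1474304 1474560 256 :=
  block_of_check (k := 8) rfl (by decide +kernel)

theorem b5760 : Block F al 1474560 1474816 256 :=
  block_of_check (k := 8) rfl (by decide +kernel)

theorem b5761 : Block F al 1474816 1475072 256 :=
  block_of_check (k := 8) rfl (by decide +kernel)

theorem b5762 : Block F al 1475072 1475328 256 :=
  block_of_check (k := 8) rfl (by decide +kernel)

theorem b5763 : Block F al 1475328 1475584 256 :=
  block_of_check (k := 8) rfl (by decide +kernel)

end Cfsg.Agent.TcData.HN.I1539000
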