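import Mathlib
import Cfsg.Agent.TcData.HN.I1539000.Tab

set_option autoImplicit false
set_option Elab.async false
set_option maxRecDepth 100000
set_option linter.all false

namespace Cfsg.Agent.TcData.HN.I1539000

open Cfsg.Spor Cfsg.Agent.Lib.TcFacts Cfsg.Agent.Lib.TcBits Cfsg.Agent.Lib.TcPres Cfsg.Spor.HN Cfsg.Agent.TcData.HN

theorem b774 : Block F al 198144 198400 248 :=
  block_of_check (k := 8) rfl (by decide +kernel)

theorem b775 : Block F al 198400 198656 207 :=
  block_of_check (k := 8) rfl (by decide +kernel)

theorem b776 : Block F al 198656 198912 256 :=
  block_of_check (k := 8) rfl (by decide +kernel)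

theorem b777 : Block F al 198912 199168 254 :=
  block_of_check (k := 8) rfl (by decide +kernel)

theorem b778 : Block F al 199168 199424 237 :=
  block_of_check (k := 8) rfl (by decide +kernel)

theorem b779 : Block F al 199424 199680 238 :=
  block_of_check (k := 8) rfl (by decide +kernel)

theorem b780 : Block F al 199680 199936 244 :=
  block_of_check (k := 8) rfl (by decide +kernel)

theorem b781 : Block F al 199936 200192 230 :=
  block_of_check (k := 8) rfl (by decide +kernel)

theorem b782 : Block F al 200192 200448 244 :=
  block_of_check (k := 8) rfl (by decide +kernel)

theorem b783 : Block F al 200448 200704 246 :=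
  block_of_check (k := 8) rfl (by decide +kernel)

theorem b784 : Block F al 200704 200960 253 :=
  block_of_check (k := 8) rfl (by decide +kernel)

theorem b785 : Block F al 200960 201216 249 :=
  block_of_check (k := 8) rfl (by decide +kernel)

theorem b786 : Block F al 201216 201472 236 :=
  block_of_check (k := 8) rfl (by decide +kernel)

theorem b787 : Block F al 201472 201728 240 :=
  block_of_check (k := 8) rfl (by decide +kernel)

theorem b788 : Block F al 201728 201984 243 :=
  block_of_check (k := 8) rfl (by decide +kernel)

theorem b789 : Block F al 201984 202240 233 :=
  block_of_check (k := 8) rfl (by decide +kernel)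

theorem b790 : Block F al 202240 202496 242 :=
  block_of_check (k := 8) rfl (by decide +kernel)

theorem b791 : Block F al 202496 202752 223 :=
  block_of_check (k := 8) rfl (by decide +kernel)

theorem b792 : Block F al 202752 203008 228 :=
  block_of_check (k := 8) rfl (by decide +kernel)

theorem b793 : Block F al 203008 203264 233 :=
  block_of_check (k := 8) rfl (by decide +kernel)

theorem b794 : Block F al 203264 203520 220 :=
  block_of_check (k := 8) rfl (by decide +kernel)

theorem b795 : Block F al 203520 203776 229 :=
  block_of_check (k := 8) rfl (by decide +kernel)

theorem b796 : Block F al 203776 204032 226 :=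
  block_of_check (k := 8) rfl (by decide +kernel)

theorem b797 : Block F al 204032 204288 218 :=
  block_of_check (k := 8) rfl (by decide +kernel)

theorem b798 : Block F al 204288 204544 239 :=
  block_of_check (k := 8) rfl (by decide +kernel)

theorem b799 : Block F al 204544 204800 224 :=
  block_of_check (k := 8) rfl (by decide +kernel)

theorem b800 : Block F al 204800 205056 221 :=
  block_of_check (k := 8) rfl (by decide +kernel)

theorem b801 : Block F al 205056 205312 245 :=
  block_of_check (k := 8) rfl (by decide +kernel)

theorem b802 : Block F al 205312 205568 240 :=
  block_of_check (k := 8) rfl (by decide +kernel)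

theorem b803 : Block F al 205568 205824 232 :=
  block_of_check (k := 8) rfl (by decide +kernel)

theorem b804 : Block F al 205824 206080 230 :=
  block_of_check (k := 8) rfl (by decide +kernel)

theorem b805 : Block F al 206080 206336 240 :=
  block_of_check (k := 8) rfl (by decide +kernel)

theorem b806 : Block F al 206336 206592 248 :=
  block_of_check (k := 8) rfl (by decide +kernel)

theorem b807 : Block F al 206592 206848 238 :=
  block_of_check (k := 8) rfl (by decide +kernel)

theorem b808 : Block F al 206848 207104 236 :=
  block_of_check (k := 8) rfl (by decide +kernel)

theorem b809 : Block F al 207104 207360 235 :=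
  block_of_check (k := 8) rfl (by decide +kernel)

theorem b810 : Block F al 207360 207616 230 :=
  block_of_check (k := 8) rfl (by decide +kernel)

theorem b811 : Block F al 207616 207872 194 :=
  block_of_check (k := 8) rfl (by decide +kernel)

theorem b812 : Block F al 207872 208128 218 :=
  block_of_check (k := 8) rfl (by decide +kernel)

theorem b813 : Block F al 208128 208384 237 :=
  block_of_check (k := 8) rfl (by decide +kernel)

theorem b814 : Block F al 208384 208640 238 :=
  block_of_check (k := 8) rfl (by decide +kernel)

theorem b815 : Block F al 208640 208896 232 :=
  block_of_check (k := 8) rfl (by decide +kernel)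

theorem b816 : Block F al 208896 209152 230 :=
  block_of_check (k := 8) rfl (by decide +kernel)

theorem b817 : Block F al 209152 209408 246 :=
  block_of_check (k := 8) rfl (by decide +kernel)

theorem b818 : Block F al 209408 209664 214 :=
  block_of_check (k := 8) rfl (by decide +kernel)

theorem b819 : Block F al 209664 209920 235 :=
  block_of_check (k := 8) rfl (by decide +kernel)

theorem b820 : Block F al 209920 210176 232 :=
  block_of_check (k := 8) rfl (by decide +kernel)

theorem b821 : Block F al 210176 210432 239 :=
  block_of_check (k := 8) rfl (by decide +kernel)

end Cfsg.Agent.TcData.HN.I1539000
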