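import Mathlib
import Cfsg.Agent.TcData.HN.I1539000.Tab

set_option autoImplicit false
set_option Elab.async false
set_option maxRecDepth 100000
set_option linter.all false

namespace Cfsg.Agent.TcData.HN.I1539000

open Cfsg.Spor Cfsg.Agent.Lib.TcFacts Cfsg.Agent.Lib.TcBits Cfsg.Agent.Lib.TcPres Cfsg.Spor.HN Cfsg.Agent.TcData.HN

theorem b5764 : Block F al 1475584 1475840 256 :=
  block_of_check (k := 8) rfl (by decide +kernel)

theorem b5765 : Block F al 1475840 1476096 256 :=
  block_of_check (k := 8) rfl (by decide +kernel)

theorem b5766 : Block F al 1476096 1476352 256 :=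
  block_of_check (k := 8) rfl (by decide +kernel)

theorem b5767 : Block F al 1476352 1476608 256 :=
  block_of_check (k := 8) rfl (by decide +kernel)

theorem b5768 : Block F al 1476608 1476864 256 :=
  block_of_check (k := 8) rfl (by decide +kernel)

theorem b5769 : Block F al 1476864 1477120 256 :=
  block_of_check (k := 8) rfl (by decide +kernel)

theorem b5770 : Block F al 1477120 1477376 254 :=
  block_of_check (k := 8) rfl (by decide +kernel)

theorem b5771 : Block F al 1477376 1477632 256 :=
  block_of_check (k := 8) rfl (by decide +kernel)

theorem b5772 : Block F al 1477632 1477888 256 :=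
  block_of_check (k := 8) rfl (by decide +kernel)

theorem b5773 : Block F al 1477888 1478144 256 :=
  block_of_check (k := 8) rfl (by decide +kernel)

theorem b5774 : Block F al 1478144 1478400 256 :=
  block_of_check (k := 8) rfl (by decide +kernel)

theorem b5775 : Block F al 1478400 1478656 256 :=
  block_of_check (k := 8) rfl (by decide +kernel)

theorem b5776 : Block F al 1478656 1478912 256 :=
  block_of_check (k := 8) rfl (by decide +kernel)

theorem b5777 : Block F al 1478912 1479168 256 :=
  block_of_check (k := 8) rfl (by decide +kernel)

theorem b5778 : Block F al 1479168 1479424 256 :=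
  block_of_check (k := 8) rfl (by decide +kernel)

theorem b5779 : Block F al 1479424 1479680 256 :=
  block_of_check (k := 8) rfl (by decide +kernel)

theorem b5780 : Block F al 1479680 1479936 256 :=
  block_of_check (k := 8) rfl (by decide +kernel)

theorem b5781 : Block F al 1479936 1480192 256 :=
  block_of_check (k := 8) rfl (by decide +kernel)

theorem b5782 : Block F al 1480192 1480448 256 :=
  block_of_check (k := 8) rfl (by decide +kernel)

theorem b5783 : Block F al 1480448 1480704 256 :=
  block_of_check (k := 8) rfl (by decide +kernel)

theorem b5784 : Block F al 1480704 1480960 256 :=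
  block_of_check (k := 8) rfl (by decide +kernel)

theorem b5785 : Block F al 1480960 1481216 256 :=
  block_of_check (k := 8) rfl (by decide +kernel)

theorem b5786 : Block F al 1481216 1481472 256 :=
  block_of_check (k := 8) rfl (by decide +kernel)

theorem b5787 : Block F al 1481472 1481728 256 :=
  block_of_check (k := 8) rfl (by decide +kernel)

theorem b5788 : Block F al 1481728 1481984 256 :=
  block_of_check (k := 8) rfl (by decide +kernel)

theorem b5789 : Block F al 1481984 1482240 256 :=
  block_of_check (k := 8) rfl (by decide +kernel)

end Cfsg.Agent.TcData.HN.I1539000
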