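import Mathlib
import Cfsg.Agent.TcData.HN.I1539000.Tab

set_option autoImplicit false
set_option Elab.async false
set_option maxRecDepth 100000
set_option linter.all false

namespace Cfsg.Agent.TcData.HN.I1539000

open Cfsg.Spor Cfsg.Agent.Lib.TcFacts Cfsg.Agent.Lib.TcBits Cfsg.Agent.Lib.TcPres Cfsg.Spor.HN Cfsg.Agent.TcData.HN

theorem b5790 : Block F al 1482240 1482496 256 :=
  block_of_check (k := 8) rfl (by decide +kernel)

theorem b5791 : Block F al 1482496 1482752 256 :=
  block_of_check (k := 8) rfl (by decide +kernel)

theorem b5792 : Block F al 1482752 1483008 256 :=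
  block_of_check (k := 8) rfl (by decide +kernel)

theorem b5793 : Block F al 1483008 1483264 256 :=
  block_of_check (k := 8) rfl (by decide +kernel)

theorem b5794 : Block F al 1483264 1483520 256 :=
  block_of_check (k := 8) rfl (by decide +kernel)

theorem b5795 : Block F al 1483520 1483776 255 :=
  block_of_check (k := 8) rfl (by decide +kernel)

theorem b5796 : Block F al 1483776 1484032 256 :=
  block_of_check (k := 8) rfl (by decide +kernel)

theorem b5797 : Block F al 1484032 1484288 256 :=
  block_of_check (k := 8) rfl (by decide +kernel)

theorem b5798 : Block F al 1484288 1484544 256 :=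
  block_of_check (k := 8) rfl (by decide +kernel)

theorem b5799 : Block F al 1484544 1484800 256 :=
  block_of_check (k := 8) rfl (by decide +kernel)

theorem b5800 : Block F al 1484800 1485056 254 :=
  block_of_check (k := 8) rfl (by decide +kernel)

theorem b5801 : Block F al 1485056 1485312 256 :=
  block_of_check (k := 8) rfl (by decide +kernel)

theorem b5802 : Block F al 1485312 1485568 256 :=
  block_of_check (k := 8) rfl (by decide +kernel)

theorem b5803 : Block F al 1485568 1485824 256 :=
  block_of_check (k := 8) rfl (by decide +kernel)

theorem b5804 : Block F al 1485824 1486080 256 :=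
  block_of_check (k := 8) rfl (by decide +kernel)

theorem b5805 : Block F al 1486080 1486336 255 :=
  block_of_check (k := 8) rfl (by decide +kernel)

theorem b5806 : Block F al 1486336 1486592 256 :=
  block_of_check (k := 8) rfl (by decide +kernel)

theorem b5807 : Block F al 1486592 1486848 256 :=
  block_of_check (k := 8) rfl (by decide +kernel)

theorem b5808 : Block F al 1486848 1487104 256 :=
  block_of_check (k := 8) rfl (by decide +kernel)

theorem b5809 : Block F al 1487104 1487360 256 :=
  block_of_check (k := 8) rfl (by decide +kernel)

theorem b5810 : Block F al 1487360 1487616 256 :=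
  block_of_check (k := 8) rfl (by decide +kernel)

theorem b5811 : Block F al 1487616 1487872 256 :=
  block_of_check (k := 8) rfl (by decide +kernel)

theorem b5812 : Block F al 1487872 1488128 256 :=
  block_of_check (k := 8) rfl (by decide +kernel)

theorem b5813 : Block F al 1488128 1488384 256 :=
  block_of_check (k := 8) rfl (by decide +kernel)

theorem b5814 : Block F al 1488384 1488640 256 :=
  block_of_check (k := 8) rfl (by decide +kernel)

end Cfsg.Agent.TcData.HN.I1539000
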