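import Mathlib
import Cfsg.Agent.TcData.HN.I1539000.Tab

set_option autoImplicit false
set_option Elab.async false
set_option maxRecDepth 100000
set_option linter.all false

namespace Cfsg.Agent.TcData.HN.I1539000

open Cfsg.Spor Cfsg.Agent.Lib.TcFacts Cfsg.Agent.Lib.TcBits Cfsg.Agent.Lib.TcPres Cfsg.Spor.HN Cfsg.Agent.TcData.HN

theorem b5815 : Block F al 1488640 1488896 255 :=
  block_of_check (k := 8) rfl (by decide +kernel)

theorem b5816 : Block F al 1488896 1489152 256 :=
  block_of_check (k := 8) rfl (by decide +kernel)

theorem b5817 : Block F al 1489152 1489408 255 :=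
  block_of_check (k := 8) rfl (by decide +kernel)

theorem b5818 : Block F al 1489408 1489664 256 :=
  block_of_check (k := 8) rfl (by decide +kernel)

theorem b5819 : Block F al 1489664 1489920 256 :=
  block_of_check (k := 8) rfl (by decide +kernel)

theorem b5820 : Block F al 1489920 1490176 255 :=
  block_of_check (k := 8) rfl (by decide +kernel)

theorem b5821 : Block F al 1490176 1490432 256 :=
  block_of_check (k := 8) rfl (by decide +kernel)

theorem b5822 : Block F al 1490432 1490688 256 :=
  block_of_check (k := 8) rfl (by decide +kernel)

theorem b5823 : Block F al 1490688 1490944 256 :=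
  block_of_check (k := 8) rfl (by decide +kernel)

theorem b5824 : Block F al 1490944 1491200 256 :=
  block_of_check (k := 8) rfl (by decide +kernel)

theorem b5825 : Block F al 1491200 1491456 256 :=
  block_of_check (k := 8) rfl (by decide +kernel)

theorem b5826 : Block F al 1491456 1491712 256 :=
  block_of_check (k := 8) rfl (by decide +kernel)

theorem b5827 : Block F al 1491712 1491968 255 :=
  block_of_check (k := 8) rfl (by decide +kernel)

theorem b5828 : Block F al 1491968 1492224 256 :=
  block_of_check (k := 8) rfl (by decide +kernel)

theorem b5829 : Block F al 1492224 1492480 256 :=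
  block_of_check (k := 8) rfl (by decide +kernel)

theorem b5830 : Block F al 1492480 1492736 256 :=
  block_of_check (k := 8) rfl (by decide +kernel)

theorem b5831 : Block F al 1492736 1492992 256 :=
  block_of_check (k := 8) rfl (by decide +kernel)

theorem b5832 : Block F al 1492992 1493248 256 :=
  block_of_check (k := 8) rfl (by decide +kernel)

theorem b5833 : Block F al 1493248 1493504 256 :=
  block_of_check (k := 8) rfl (by decide +kernel)

theorem b5834 : Block F al 1493504 1493760 256 :=
  block_of_check (k := 8) rfl (by decide +kernel)

theorem b5835 : Block F al 1493760 1494016 254 :=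
  block_of_check (k := 8) rfl (by decide +kernel)

theorem b5836 : Block F al 1494016 1494272 252 :=
  block_of_check (k := 8) rfl (by decide +kernel)

theorem b5837 : Block F al 1494272 1494528 254 :=
  block_of_check (k := 8) rfl (by decide +kernel)

theorem b5838 : Block F al 1494528 1494784 256 :=
  block_of_check (k := 8) rfl (by decide +kernel)

theorem b5839 : Block F al 1494784 1495040 256 :=
  block_of_check (k := 8) rfl (by decide +kernel)

theorem b5840 : Block F al 1495040 1495296 256 :=
  block_of_check (k := 8) rfl (by decide +kernel)

end Cfsg.Agent.TcData.HN.I1539000
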