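import Mathlib
import Cfsg.Agent.TcData.HN.I1539000.Tab

set_option autoImplicit false
set_option Elab.async false
set_option maxRecDepth 100000
set_option linter.all false

namespace Cfsg.Agent.TcData.HN.I1539000

open Cfsg.Spor Cfsg.Agent.Lib.TcFacts Cfsg.Agent.Lib.TcBits Cfsg.Agent.Lib.TcPres Cfsg.Spor.HN Cfsg.Agent.TcData.HN

theorem b5841 : Block F al 1495296 1495552 256 :=
  block_of_check (k := 8) rfl (by decide +kernel)

theorem b5842 : Block F al 1495552 1495808 256 :=
  block_of_check (k := 8) rfl (by decide +kernel)

theorem b5843 : Block F al 1495808 1496064 256 :=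
  block_of_check (k := 8) rfl (by decide +kernel)

theorem b5844 : Block F al 1496064 1496320 256 :=
  block_of_check (k := 8) rfl (by decide +kernel)

theorem b5845 : Block F al 1496320 1496576 256 :=
  block_of_check (k := 8) rfl (by decide +kernel)

theorem b5846 : Block F al 1496576 1496832 254 :=
  block_of_check (k := 8) rfl (by decide +kernel)

theorem b5847 : Block F al 1496832 1497088 256 :=
  block_of_check (k := 8) rfl (by decide +kernel)

theorem b5848 : Block F al 1497088 1497344 256 :=
  block_of_check (k := 8) rfl (by decide +kernel)

theorem b5849 : Block F al 1497344 1497600 256 :=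
  block_of_check (k := 8) rfl (by decide +kernel)

theorem b5850 : Block F al 1497600 1497856 256 :=
  block_of_check (k := 8) rfl (by decide +kernel)

theorem b5851 : Block F al 1497856 1498112 256 :=
  block_of_check (k := 8) rfl (by decide +kernel)

theorem b5852 : Block F al 1498112 1498368 256 :=
  block_of_check (k := 8) rfl (by decide +kernel)

theorem b5853 : Block F al 1498368 1498624 256 :=
  block_of_check (k := 8) rfl (by decide +kernel)

theorem b5854 : Block F al 1498624 1498880 250 :=
  block_of_check (k := 8) rfl (by decide +kernel)

theorem b5855 : Block F al 1498880 1499136 253 :=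
  block_of_check (k := 8) rfl (by decide +kernel)

theorem b5856 : Block F al 1499136 1499392 256 :=
  block_of_check (k := 8) rfl (by decide +kernel)

theorem b5857 : Block F al 1499392 1499648 253 :=
  block_of_check (k := 8) rfl (by decide +kernel)

theorem b5858 : Block F al 1499648 1499904 256 :=
  block_of_check (k := 8) rfl (by decide +kernel)

theorem b5859 : Block F al 1499904 1500160 256 :=
  block_of_check (k := 8) rfl (by decide +kernel)

theorem b5860 : Block F al 1500160 1500416 256 :=
  block_of_check (k := 8) rfl (by decide +kernel)

theorem b5861 : Block F al 1500416 1500672 256 :=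
  block_of_check (k := 8) rfl (by decide +kernel)

theorem b5862 : Block F al 1500672 1500928 255 :=
  block_of_check (k := 8) rfl (by decide +kernel)

theorem b5863 : Block F al 1500928 1501184 256 :=
  block_of_check (k := 8) rfl (by decide +kernel)

theorem b5864 : Block F al 1501184 1501440 256 :=
  block_of_check (k := 8) rfl (by decide +kernel)

theorem b5865 : Block F al 1501440 1501696 256 :=
  block_of_check (k := 8) rfl (by decide +kernel)

theorem b5866 : Block F al 1501696 1501952 256 :=
  block_of_check (k := 8) rfl (by decide +kernel)

end Cfsg.Agent.TcData.HN.I1539000
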