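import Mathlib
import Cfsg.Agent.TcData.HN.I1539000.Tab

set_option autoImplicit false
set_option Elab.async false
set_option maxRecDepth 100000
set_option linter.all false

namespace Cfsg.Agent.TcData.HN.I1539000

open Cfsg.Spor Cfsg.Agent.Lib.TcFacts Cfsg.Agent.Lib.TcBits Cfsg.Agent.Lib.TcPres Cfsg.Spor.HN Cfsg.Agent.TcData.HN

theorem b5867 : Block F al 1501952 1502208 256 :=
  block_of_check (k := 8) rfl (by decide +kernel)

theorem b5868 : Block F al 1502208 1502464 256 :=
  block_of_check (k := 8) rfl (by decide +kernel)

theorem b5869 : Block F al 1502464 1502720 256 :=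
  block_of_check (k := 8) rfl (by decide +kernel)

theorem b5870 : Block F al 1502720 1502976 256 :=
  block_of_check (k := 8) rfl (by decide +kernel)

theorem b5871 : Block F al 1502976 1503232 256 :=
  block_of_check (k := 8) rfl (by decide +kernel)

theorem b5872 : Block F al 1503232 1503488 256 :=
  block_of_check (k := 8) rfl (by decide +kernel)

theorem b5873 : Block F al 1503488 1503744 256 :=
  block_of_check (k := 8) rfl (by decide +kernel)

theorem b5874 : Block F al 1503744 1504000 254 :=
  block_of_check (k := 8) rfl (by decide +kernel)

theorem b5875 : Block F al 1504000 1504256 256 :=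
  block_of_check (k := 8) rfl (by decide +kernel)

theorem b5876 : Block F al 1504256 1504512 256 :=
  block_of_check (k := 8) rfl (by decide +kernel)

theorem b5877 : Block F al 1504512 1504768 256 :=
  block_of_check (k := 8) rfl (by decide +kernel)

theorem b5878 : Block F al 1504768 1505024 256 :=
  block_of_check (k := 8) rfl (by decide +kernel)

theorem b5879 : Block F al 1505024 1505280 256 :=
  block_of_check (k := 8) rfl (by decide +kernel)

theorem b5880 : Block F al 1505280 1505536 256 :=
  block_of_check (k := 8) rfl (by decide +kernel)

theorem b5881 : Block F al 1505536 1505792 256 :=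
  block_of_check (k := 8) rfl (by decide +kernel)

theorem b5882 : Block F al 1505792 1506048 256 :=
  block_of_check (k := 8) rfl (by decide +kernel)

theorem b5883 : Block F al 1506048 1506304 256 :=
  block_of_check (k := 8) rfl (by decide +kernel)

theorem b5884 : Block F al 1506304 1506560 256 :=
  block_of_check (k := 8) rfl (by decide +kernel)

theorem b5885 : Block F al 1506560 1506816 256 :=
  block_of_check (k := 8) rfl (by decide +kernel)

theorem b5886 : Block F al 1506816 1507072 256 :=
  block_of_check (k := 8) rfl (by decide +kernel)

theorem b5887 : Block F al 1507072 1507328 256 :=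
  block_of_check (k := 8) rfl (by decide +kernel)

theorem b5888 : Block F al 1507328 1507584 256 :=
  block_of_check (k := 8) rfl (by decide +kernel)

theorem b5889 : Block F al 1507584 1507840 256 :=
  block_of_check (k := 8) rfl (by decide +kernel)

theorem b5890 : Block F al 1507840 1508096 256 :=
  block_of_check (k := 8) rfl (by decide +kernel)

theorem b5891 : Block F al 1508096 1508352 256 :=
  block_of_check (k := 8) rfl (by decide +kernel)

end Cfsg.Agent.TcData.HN.I1539000
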