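import Mathlib
import Cfsg.Agent.TcData.HN.I1539000.Tab

set_option autoImplicit false
set_option Elab.async false
set_option maxRecDepth 100000
set_option linter.all false

namespace Cfsg.Agent.TcData.HN.I1539000

open Cfsg.Spor Cfsg.Agent.Lib.TcFacts Cfsg.Agent.Lib.TcBits Cfsg.Agent.Lib.TcPres Cfsg.Spor.HN Cfsg.Agent.TcData.HN

theorem b5917 : Block F al 1514752 1515008 256 :=
  block_of_check (k := 8) rfl (by decide +kernel)

theorem b5918 : Block F al 1515008 1515264 256 :=
  block_of_check (k := 8) rfl (by decide +kernel)

theorem b5919 : Block F al 1515264 1515520 256 :=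
  block_of_check (k := 8) rfl (by decide +kernel)

theorem b5920 : Block F al 1515520 1515776 256 :=
  block_of_check (k := 8) rfl (by decide +kernel)

theorem b5921 : Block F al 1515776 1516032 256 :=
  block_of_check (k := 8) rfl (by decide +kernel)

theorem b5922 : Block F al 1516032 1516288 256 :=
  block_of_check (k := 8) rfl (by decide +kernel)

theorem b5923 : Block F al 1516288 1516544 256 :=
  block_of_check (k := 8) rfl (by decide +kernel)

theorem b5924 : Block F al 1516544 1516800 256 :=
  block_of_check (k := 8) rfl (by decide +kernel)

theorem b5925 : Block F al 1516800 1517056 256 :=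
  block_of_check (k := 8) rfl (by decide +kernel)

theorem b5926 : Block F al 1517056 1517312 256 :=
  block_of_check (k := 8) rfl (by decide +kernel)

theorem b5927 : Block F al 1517312 1517568 256 :=
  block_of_check (k := 8) rfl (by decide +kernel)

theorem b5928 : Block F al 1517568 1517824 256 :=
  block_of_check (k := 8) rfl (by decide +kernel)

theorem b5929 : Block F al 1517824 1518080 256 :=
  block_of_check (k := 8) rfl (by decide +kernel)

theorem b5930 : Block F al 1518080 1518336 256 :=
  block_of_check (k := 8) rfl (by decide +kernel)

theorem b5931 : Block F al 1518336 1518592 256 :=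
  block_of_check (k := 8) rfl (by decide +kernel)

theorem b5932 : Block F al 1518592 1518848 256 :=
  block_of_check (k := 8) rfl (by decide +kernel)

theorem b5933 : Block F al 1518848 1519104 256 :=
  block_of_check (k := 8) rfl (by decide +kernel)

theorem b5934 : Block F al 1519104 1519360 256 :=
  block_of_check (k := 8) rfl (by decide +kernel)

theorem b5935 : Block F al 1519360 1519616 256 :=
  block_of_check (k := 8) rfl (by decide +kernel)

theorem b5936 : Block F al 1519616 1519872 256 :=
  block_of_check (k := 8) rfl (by decide +kernel)

theorem b5937 : Block F al 1519872 1520128 256 :=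
  block_of_check (k := 8) rfl (by decide +kernel)

theorem b5938 : Block F al 1520128 1520384 256 :=
  block_of_check (k := 8) rfl (by decide +kernel)

theorem b5939 : Block F al 1520384 1520640 256 :=
  block_of_check (k := 8) rfl (by decide +kernel)

theorem b5940 : Block F al 1520640 1520896 256 :=
  block_of_check (k := 8) rfl (by decide +kernel)

theorem b5941 : Block F al 1520896 1521152 256 :=
  block_of_check (k := 8) rfl (by decide +kernel)

end Cfsg.Agent.TcData.HN.I1539000
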