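import Mathlib
import Cfsg.Agent.TcData.HN.I1539000.Tab

set_option autoImplicit false
set_option Elab.async false
set_option maxRecDepth 100000
set_option linter.all false

namespace Cfsg.Agent.TcData.HN.I1539000

open Cfsg.Spor Cfsg.Agent.Lib.TcFacts Cfsg.Agent.Lib.TcBits Cfsg.Agent.Lib.TcPres Cfsg.Spor.HN Cfsg.Agent.TcData.HN

theorem b5942 : Block F al 1521152 1521408 256 :=
  block_of_check (k := 8) rfl (by decide +kernel)

theorem b5943 : Block F al 1521408 1521664 256 :=
  block_of_check (k := 8) rfl (by decide +kernel)

theorem b5944 : Block F al 1521664 1521920 256 :=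
  block_of_check (k := 8) rfl (by decide +kernel)

theorem b5945 : Block F al 1521920 1522176 256 :=
  block_of_check (k := 8) rfl (by decide +kernel)

theorem b5946 : Block F al 1522176 1522432 256 :=
  block_of_check (k := 8) rfl (by decide +kernel)

theorem b5947 : Block F al 1522432 1522688 254 :=
  block_of_check (k := 8) rfl (by decide +kernel)

theorem b5948 : Block F al 1522688 1522944 256 :=
  block_of_check (k := 8) rfl (by decide +kernel)

theorem b5949 : Block F al 1522944 1523200 256 :=
  block_of_check (k := 8) rfl (by decide +kernel)

theorem b5950 : Block F al 1523200 1523456 256 :=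
  block_of_check (k := 8) rfl (by decide +kernel)

theorem b5951 : Block F al 1523456 1523712 256 :=
  block_of_check (k := 8) rfl (by decide +kernel)

theorem b5952 : Block F al 1523712 1523968 256 :=
  block_of_check (k := 8) rfl (by decide +kernel)

theorem b5953 : Block F al 1523968 1524224 256 :=
  block_of_check (k := 8) rfl (by decide +kernel)

theorem b5954 : Block F al 1524224 1524480 254 :=
  block_of_check (k := 8) rfl (by decide +kernel)

theorem b5955 : Block F al 1524480 1524736 256 :=
  block_of_check (k := 8) rfl (by decide +kernel)

theorem b5956 : Block F al 1524736 1524992 256 :=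
  block_of_check (k := 8) rfl (by decide +kernel)

theorem b5957 : Block F al 1524992 1525248 256 :=
  block_of_check (k := 8) rfl (by decide +kernel)

theorem b5958 : Block F al 1525248 1525504 256 :=
  block_of_check (k := 8) rfl (by decide +kernel)

theorem b5959 : Block F al 1525504 1525760 256 :=
  block_of_check (k := 8) rfl (by decide +kernel)

theorem b5960 : Block F al 1525760 1526016 256 :=
  block_of_check (k := 8) rfl (by decide +kernel)

theorem b5961 : Block F al 1526016 1526272 256 :=
  block_of_check (k := 8) rfl (by decide +kernel)

theorem b5962 : Block F al 1526272 1526528 256 :=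
  block_of_check (k := 8) rfl (by decide +kernel)

theorem b5963 : Block F al 1526528 1526784 256 :=
  block_of_check (k := 8) rfl (by decide +kernel)

theorem b5964 : Block F al 1526784 1527040 256 :=
  block_of_check (k := 8) rfl (by decide +kernel)

theorem b5965 : Block F al 1527040 1527296 256 :=
  block_of_check (k := 8) rfl (by decide +kernel)

end Cfsg.Agent.TcData.HN.I1539000
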