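import Mathlib
import Cfsg.Agent.TcData.HN.I1539000.Tab

set_option autoImplicit false
set_option Elab.async false
set_option maxRecDepth 100000
set_option linter.all false

namespace Cfsg.Agent.TcData.HN.I1539000

open Cfsg.Spor Cfsg.Agent.Lib.TcFacts Cfsg.Agent.Lib.TcBits Cfsg.Agent.Lib.TcPres Cfsg.Spor.HN Cfsg.Agent.TcData.HN

theorem b5966 : Block F al 1527296 1527552 256 :=
  block_of_check (k := 8) rfl (by decide +kernel)

theorem b5967 : Block F al 1527552 1527808 256 :=
  block_of_check (k := 8) rfl (by decide +kernel)

theorem b5968 : Block F al 1527808 1528064 255 :=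
  block_of_check (k := 8) rfl (by decide +kernel)

theorem b5969 : Block F al 1528064 1528320 256 :=
  block_of_check (k := 8) rfl (by decide +kernel)

theorem b5970 : Block F al 1528320 1528576 253 :=
  block_of_check (k := 8) rfl (by decide +kernel)

theorem b5971 : Block F al 1528576 1528832 256 :=
  block_of_check (k := 8) rfl (by decide +kernel)

theorem b5972 : Block F al 1528832 1529088 254 :=
  block_of_check (k := 8) rfl (by decide +kernel)

theorem b5973 : Block F al 1529088 1529344 256 :=
  block_of_check (k := 8) rfl (by decide +kernel)

theorem b5974 : Block F al 1529344 1529600 256 :=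
  block_of_check (k := 8) rfl (by decide +kernel)

theorem b5975 : Block F al 1529600 1529856 256 :=
  block_of_check (k := 8) rfl (by decide +kernel)

theorem b5976 : Block F al 1529856 1530112 256 :=
  block_of_check (k := 8) rfl (by decide +kernel)

theorem b5977 : Block F al 1530112 1530368 256 :=
  block_of_check (k := 8) rfl (by decide +kernel)

theorem b5978 : Block F al 1530368 1530624 256 :=
  block_of_check (k := 8) rfl (by decide +kernel)

theorem b5979 : Block F al 1530624 1530880 256 :=
  block_of_check (k := 8) rfl (by decide +kernel)

theorem b5980 : Block F al 1530880 1531136 256 :=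
  block_of_check (k := 8) rfl (by decide +kernel)

theorem b5981 : Block F al 1531136 1531392 255 :=
  block_of_check (k := 8) rfl (by decide +kernel)

theorem b5982 : Block F al 1531392 1531648 256 :=
  block_of_check (k := 8) rfl (by decide +kernel)

theorem b5983 : Block F al 1531648 1531904 255 :=
  block_of_check (k := 8) rfl (by decide +kernel)

theorem b5984 : Block F al 1531904 1532160 256 :=
  block_of_check (k := 8) rfl (by decide +kernel)

theorem b5985 : Block F al 1532160 1532416 256 :=
  block_of_check (k := 8) rfl (by decide +kernel)

theorem b5986 : Block F al 1532416 1532672 256 :=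
  block_of_check (k := 8) rfl (by decide +kernel)

theorem b5987 : Block F al 1532672 1532928 256 :=
  block_of_check (k := 8) rfl (by decide +kernel)

theorem b5988 : Block F al 1532928 1533184 256 :=
  block_of_check (k := 8) rfl (by decide +kernel)

theorem b5989 : Block F al 1533184 1533440 256 :=
  block_of_check (k := 8) rfl (by decide +kernel)

theorem b5990 : Block F al 1533440 1533696 256 :=
  block_of_check (k := 8) rfl (by decide +kernel)

end Cfsg.Agent.TcData.HN.I1539000
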