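import Mathlib
import Cfsg.Agent.TcData.HN.I1539000.Tab

set_option autoImplicit false
set_option Elab.async false
set_option maxRecDepth 100000
set_option linter.all false

namespace Cfsg.Agent.TcData.HN.I1539000

open Cfsg.Spor Cfsg.Agent.Lib.TcFacts Cfsg.Agent.Lib.TcBits Cfsg.Agent.Lib.TcPres Cfsg.Spor.HN Cfsg.Agent.TcData.HN

theorem b5991 : Block F al 1533696 1533952 256 :=
  block_of_check (k := 8) rfl (by decide +kernel)

theorem b5992 : Block F al 1533952 1534208 256 :=
  block_of_check (k := 8) rfl (by decide +kernel)

theorem b5993 : Block F al 1534208 1534464 256 :=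
  block_of_check (k := 8) rfl (by decide +kernel)

theorem b5994 : Block F al 1534464 1534720 255 :=
  block_of_check (k := 8) rfl (by decide +kernel)

theorem b5995 : Block F al 1534720 1534976 256 :=
  block_of_check (k := 8) rfl (by decide +kernel)

theorem b5996 : Block F al 1534976 1535232 256 :=
  block_of_check (k := 8) rfl (by decide +kernel)

theorem b5997 : Block F al 1535232 1535488 256 :=
  block_of_check (k := 8) rfl (by decide +kernel)

theorem b5998 : Block F al 1535488 1535744 256 :=
  block_of_check (k := 8) rfl (by decide +kernel)

theorem b5999 : Block F al 1535744 1536000 256 :=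
  block_of_check (k := 8) rfl (by decide +kernel)

theorem b6000 : Block F al 1536000 1536256 256 :=
  block_of_check (k := 8) rfl (by decide +kernel)

theorem b6001 : Block F al 1536256 1536512 256 :=
  block_of_check (k := 8) rfl (by decide +kernel)

theorem b6002 : Block F al 1536512 1536768 256 :=
  block_of_check (k := 8) rfl (by decide +kernel)

theorem b6003 : Block F al 1536768 1537024 256 :=
  block_of_check (k := 8) rfl (by decide +kernel)

theorem b6004 : Block F al 1537024 1537280 256 :=
  block_of_check (k := 8) rfl (by decide +kernel)

theorem b6005 : Block F al 1537280 1537536 256 :=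
  block_of_check (k := 8) rfl (by decide +kernel)

theorem b6006 : Block F al 1537536 1537792 256 :=
  block_of_check (k := 8) rfl (by decide +kernel)

theorem b6007 : Block F al 1537792 1538048 256 :=
  block_of_check (k := 8) rfl (by decide +kernel)

theorem b6008 : Block F al 1538048 1538304 256 :=
  block_of_check (k := 8) rfl (by decide +kernel)

theorem b6009 : Block F al 1538304 1538560 256 :=
  block_of_check (k := 8) rfl (by decide +kernel)

theorem b6010 : Block F al 1538560 1538816 256 :=
  block_of_check (k := 8) rfl (by decide +kernel)

theorem b6011 : Block F al 1538816 1539072 256 :=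
  block_of_check (k := 8) rfl (by decide +kernel)

theorem b6012 : Block F al 1539072 1539328 256 :=
  block_of_check (k := 8) rfl (by decide +kernel)

theorem b6013 : Block F al 1539328 1539584 256 :=
  block_of_check (k := 8) rfl (by decide +kernel)

theorem b6014 : Block F al 1539584 1539840 256 :=
  block_of_check (k := 8) rfl (by decide +kernel)

end Cfsg.Agent.TcData.HN.I1539000
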