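import Mathlib
import Cfsg.Agent.TcData.HN.I1539000.Tab

set_option autoImplicit false
set_option Elab.async false
set_option maxRecDepth 100000
set_option linter.all false

namespace Cfsg.Agent.TcData.HN.I1539000

open Cfsg.Spor Cfsg.Agent.Lib.TcFacts Cfsg.Agent.Lib.TcBits Cfsg.Agent.Lib.TcPres Cfsg.Spor.HN Cfsg.Agent.TcData.HN

theorem b822 : Block F al 210432 210688 239 :=
  block_of_check (k := 8) rfl (by decide +kernel)

theorem b823 : Block F al 210688 210944 240 :=
  block_of_check (k := 8) rfl (by decide +kernel)

theorem b824 : Block F al 210944 211200 243 :=
  block_of_check (k := 8) rfl (by decide +kernel)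

theorem b825 : Block F al 211200 211456 233 :=
  block_of_check (k := 8) rfl (by decide +kernel)

theorem b826 : Block F al 211456 211712 242 :=
  block_of_check (k := 8) rfl (by decide +kernel)

theorem b827 : Block F al 211712 211968 244 :=
  block_of_check (k := 8) rfl (by decide +kernel)

theorem b828 : Block F al 211968 212224 242 :=
  block_of_check (k := 8) rfl (by decide +kernel)

theorem b829 : Block F al 212224 212480 232 :=
  block_of_check (k := 8) rfl (by decide +kernel)

theorem b830 : Block F al 212480 212736 250 :=
  block_of_check (k := 8) rfl (by decide +kernel)

theorem b831 : Block F al 212736 212992 237 :=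
  block_of_check (k := 8) rfl (by decide +kernel)

theorem b832 : Block F al 212992 213248 232 :=
  block_of_check (k := 8) rfl (by decide +kernel)

theorem b833 : Block F al 213248 213504 246 :=
  block_of_check (k := 8) rfl (by decide +kernel)

theorem b834 : Block F al 213504 213760 233 :=
  block_of_check (k := 8) rfl (by decide +kernel)

theorem b835 : Block F al 213760 214016 226 :=
  block_of_check (k := 8) rfl (by decide +kernel)

theorem b836 : Block F al 214016 214272 249 :=
  block_of_check (k := 8) rfl (by decide +kernel)

theorem b837 : Block F al 214272 214528 235 :=
  block_of_check (k := 8) rfl (by decide +kernel)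

theorem b838 : Block F al 214528 214784 239 :=
  block_of_check (k := 8) rfl (by decide +kernel)

theorem b839 : Block F al 214784 215040 252 :=
  block_of_check (k := 8) rfl (by decide +kernel)

theorem b840 : Block F al 215040 215296 252 :=
  block_of_check (k := 8) rfl (by decide +kernel)

theorem b841 : Block F al 215296 215552 228 :=
  block_of_check (k := 8) rfl (by decide +kernel)

theorem b842 : Block F al 215552 215808 254 :=
  block_of_check (k := 8) rfl (by decide +kernel)

theorem b843 : Block F al 215808 216064 253 :=
  block_of_check (k := 8) rfl (by decide +kernel)

theorem b844 : Block F al 216064 216320 250 :=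
  block_of_check (k := 8) rfl (by decide +kernel)

theorem b845 : Block F al 216320 216576 250 :=
  block_of_check (k := 8) rfl (by decide +kernel)

theorem b846 : Block F al 216576 216832 254 :=
  block_of_check (k := 8) rfl (by decide +kernel)

theorem b847 : Block F al 216832 217088 249 :=
  block_of_check (k := 8) rfl (by decide +kernel)

theorem b848 : Block F al 217088 217344 240 :=
  block_of_check (k := 8) rfl (by decide +kernel)

theorem b849 : Block F al 217344 217600 245 :=
  block_of_check (k := 8) rfl (by decide +kernel)

theorem b850 : Block F al 217600 217856 245 :=
  block_of_check (k := 8) rfl (by decide +kernel)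

theorem b851 : Block F al 217856 218112 207 :=
  block_of_check (k := 8) rfl (by decide +kernel)

theorem b852 : Block F al 218112 218368 243 :=
  block_of_check (k := 8) rfl (by decide +kernel)

theorem b853 : Block F al 218368 218624 183 :=
  block_of_check (k := 8) rfl (by decide +kernel)

theorem b854 : Block F al 218624 218880 237 :=
  block_of_check (k := 8) rfl (by decide +kernel)

theorem b855 : Block F al 218880 219136 250 :=
  block_of_check (k := 8) rfl (by decide +kernel)

theorem b856 : Block F al 219136 219392 253 :=
  block_of_check (k := 8) rfl (by decide +kernel)

theorem b857 : Block F al 219392 219648 252 :=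
  block_of_check (k := 8) rfl (by decide +kernel)

theorem b858 : Block F al 219648 219904 254 :=
  block_of_check (k := 8) rfl (by decide +kernel)

theorem b859 : Block F al 219904 220160 243 :=
  block_of_check (k := 8) rfl (by decide +kernel)

theorem b860 : Block F al 220160 220416 247 :=
  block_of_check (k := 8) rfl (by decide +kernel)

theorem b861 : Block F al 220416 220672 254 :=
  block_of_check (k := 8) rfl (by decide +kernel)

theorem b862 : Block F al 220672 220928 256 :=
  block_of_check (k := 8) rfl (by decide +kernel)

theorem b863 : Block F al 220928 221184 238 :=
  block_of_check (k := 8) rfl (by decide +kernel)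

theorem b864 : Block F al 221184 221440 242 :=
  block_of_check (k := 8) rfl (by decide +kernel)

theorem b865 : Block F al 221440 221696 241 :=
  block_of_check (k := 8) rfl (by decide +kernel)

theorem b866 : Block F al 221696 221952 248 :=
  block_of_check (k := 8) rfl (by decide +kernel)

theorem b867 : Block F al 221952 222208 244 :=
  block_of_check (k := 8) rfl (by decide +kernel)

theorem b868 : Block F al 222208 222464 252 :=
  block_of_check (k := 8) rfl (by decide +kernel)

theorem b869 : Block F al 222464 222720 253 :=
  block_of_check (k := 8) rfl (by decide +kernel)

end Cfsg.Agent.TcData.HN.I1539000
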