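import Mathlib
import Cfsg.Agent.TcData.HN.I1539000.Tab

set_option autoImplicit false
set_option Elab.async false
set_option maxRecDepth 100000
set_option linter.all false

namespace Cfsg.Agent.TcData.HN.I1539000

open Cfsg.Spor Cfsg.Agent.Lib.TcFacts Cfsg.Agent.Lib.TcBits Cfsg.Agent.Lib.TcPres Cfsg.Spor.HN Cfsg.Agent.TcData.HN

theorem b6015 : Block F al 1539840 1540096 256 :=
  block_of_check (k := 8) rfl (by decide +kernel)

theorem b6016 : Block F al 1540096 1540352 256 :=
  block_of_check (k := 8) rfl (by decide +kernel)

theorem b6017 : Block F al 1540352 1540608 256 :=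
  block_of_check (k := 8) rfl (by decide +kernel)

theorem b6018 : Block F al 1540608 1540864 256 :=
  block_of_check (k := 8) rfl (by decide +kernel)

theorem b6019 : Block F al 1540864 1541120 256 :=
  block_of_check (k := 8) rfl (by decide +kernel)

theorem b6020 : Block F al 1541120 1541376 256 :=
  block_of_check (k := 8) rfl (by decide +kernel)

theorem b6021 : Block F al 1541376 1541632 256 :=
  block_of_check (k := 8) rfl (by decide +kernel)

theorem b6022 : Block F al 1541632 1541888 256 :=
  block_of_check (k := 8) rfl (by decide +kernel)

theorem b6023 : Block F al 1541888 1542144 256 :=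
  block_of_check (k := 8) rfl (by decide +kernel)

theorem b6024 : Block F al 1542144 1542400 256 :=
  block_of_check (k := 8) rfl (by decide +kernel)

theorem b6025 : Block F al 1542400 1542656 256 :=
  block_of_check (k := 8) rfl (by decide +kernel)

theorem b6026 : Block F al 1542656 1542912 256 :=
  block_of_check (k := 8) rfl (by decide +kernel)

theorem b6027 : Block F al 1542912 1543168 256 :=
  block_of_check (k := 8) rfl (by decide +kernel)

theorem b6028 : Block F al 1543168 1543424 256 :=
  block_of_check (k := 8) rfl (by decide +kernel)

theorem b6029 : Block F al 1543424 1543680 256 :=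
  block_of_check (k := 8) rfl (by decide +kernel)

theorem b6030 : Block F al 1543680 1543936 256 :=
  block_of_check (k := 8) rfl (by decide +kernel)

theorem b6031 : Block F al 1543936 1544192 256 :=
  block_of_check (k := 8) rfl (by decide +kernel)

theorem b6032 : Block F al 1544192 1544448 256 :=
  block_of_check (k := 8) rfl (by decide +kernel)

theorem b6033 : Block F al 1544448 1544704 256 :=
  block_of_check (k := 8) rfl (by decide +kernel)

theorem b6034 : Block F al 1544704 1544960 254 :=
  block_of_check (k := 8) rfl (by decide +kernel)

theorem b6035 : Block F al 1544960 1545216 256 :=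
  block_of_check (k := 8) rfl (by decide +kernel)

theorem b6036 : Block F al 1545216 1545472 256 :=
  block_of_check (k := 8) rfl (by decide +kernel)

theorem b6037 : Block F al 1545472 1545728 255 :=
  block_of_check (k := 8) rfl (by decide +kernel)

theorem b6038 : Block F al 1545728 1545984 256 :=
  block_of_check (k := 8) rfl (by decide +kernel)

end Cfsg.Agent.TcData.HN.I1539000
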