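import Mathlib
import Cfsg.Agent.TcData.HN.I1539000.Tab

set_option autoImplicit false
set_option Elab.async false
set_option maxRecDepth 100000
set_option linter.all false

namespace Cfsg.Agent.TcData.HN.I1539000

open Cfsg.Spor Cfsg.Agent.Lib.TcFacts Cfsg.Agent.Lib.TcBits Cfsg.Agent.Lib.TcPres Cfsg.Spor.HN Cfsg.Agent.TcData.HN

theorem b6039 : Block F al 1545984 1546240 256 :=
  block_of_check (k := 8) rfl (by decide +kernel)

theorem b6040 : Block F al 1546240 1546496 256 :=
  block_of_check (k := 8) rfl (by decide +kernel)

theorem b6041 : Block F al 1546496 1546752 256 :=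
  block_of_check (k := 8) rfl (by decide +kernel)

theorem b6042 : Block F al 1546752 1547008 256 :=
  block_of_check (k := 8) rfl (by decide +kernel)

theorem b6043 : Block F al 1547008 1547264 256 :=
  block_of_check (k := 8) rfl (by decide +kernel)

theorem b6044 : Block F al 1547264 1547520 256 :=
  block_of_check (k := 8) rfl (by decide +kernel)

theorem b6045 : Block F al 1547520 1547776 256 :=
  block_of_check (k := 8) rfl (by decide +kernel)

theorem b6046 : Block F al 1547776 1548032 256 :=
  block_of_check (k := 8) rfl (by decide +kernel)

theorem b6047 : Block F al 1548032 1548288 256 :=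
  block_of_check (k := 8) rfl (by decide +kernel)

theorem b6048 : Block F al 1548288 1548544 256 :=
  block_of_check (k := 8) rfl (by decide +kernel)

theorem b6049 : Block F al 1548544 1548800 256 :=
  block_of_check (k := 8) rfl (by decide +kernel)

theorem b6050 : Block F al 1548800 1549056 256 :=
  block_of_check (k := 8) rfl (by decide +kernel)

theorem b6051 : Block F al 1549056 1549312 256 :=
  block_of_check (k := 8) rfl (by decide +kernel)

theorem b6052 : Block F al 1549312 1549568 255 :=
  block_of_check (k := 8) rfl (by decide +kernel)

theorem b6053 : Block F al 1549568 1549824 256 :=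
  block_of_check (k := 8) rfl (by decide +kernel)

theorem b6054 : Block F al 1549824 1550080 256 :=
  block_of_check (k := 8) rfl (by decide +kernel)

theorem b6055 : Block F al 1550080 1550336 256 :=
  block_of_check (k := 8) rfl (by decide +kernel)

theorem b6056 : Block F al 1550336 1550592 256 :=
  block_of_check (k := 8) rfl (by decide +kernel)

theorem b6057 : Block F al 1550592 1550848 256 :=
  block_of_check (k := 8) rfl (by decide +kernel)

theorem b6058 : Block F al 1550848 1551104 256 :=
  block_of_check (k := 8) rfl (by decide +kernel)

theorem b6059 : Block F al 1551104 1551360 256 :=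
  block_of_check (k := 8) rfl (by decide +kernel)

theorem b6060 : Block F al 1551360 1551616 256 :=
  block_of_check (k := 8) rfl (by decide +kernel)

theorem b6061 : Block F al 1551616 1551872 256 :=
  block_of_check (k := 8) rfl (by decide +kernel)

theorem b6062 : Block F al 1551872 1552128 256 :=
  block_of_check (k := 8) rfl (by decide +kernel)

end Cfsg.Agent.TcData.HN.I1539000
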