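import Mathlib
import Cfsg.Agent.TcData.HN.I1539000.Tab

set_option autoImplicit false
set_option Elab.async false
set_option maxRecDepth 100000
set_option linter.all false

namespace Cfsg.Agent.TcData.HN.I1539000

open Cfsg.Spor Cfsg.Agent.Lib.TcFacts Cfsg.Agent.Lib.TcBits Cfsg.Agent.Lib.TcPres Cfsg.Spor.HN Cfsg.Agent.TcData.HN

theorem b6063 : Block F al 1552128 1552384 256 :=
  block_of_check (k := 8) rfl (by decide +kernel)

theorem b6064 : Block F al 1552384 1552640 256 :=
  block_of_check (k := 8) rfl (by decide +kernel)

theorem b6065 : Block F al 1552640 1552896 256 :=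
  block_of_check (k := 8) rfl (by decide +kernel)

theorem b6066 : Block F al 1552896 1553152 256 :=
  block_of_check (k := 8) rfl (by decide +kernel)

theorem b6067 : Block F al 1553152 1553408 256 :=
  block_of_check (k := 8) rfl (by decide +kernel)

theorem b6068 : Block F al 1553408 1553664 256 :=
  block_of_check (k := 8) rfl (by decide +kernel)

theorem b6069 : Block F al 1553664 1553920 255 :=
  block_of_check (k := 8) rfl (by decide +kernel)

theorem b6070 : Block F al 1553920 1554176 256 :=
  block_of_check (k := 8) rfl (by decide +kernel)

theorem b6071 : Block F al 1554176 1554432 254 :=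
  block_of_check (k := 8) rfl (by decide +kernel)

theorem b6072 : Block F al 1554432 1554688 256 :=
  block_of_check (k := 8) rfl (by decide +kernel)

theorem b6073 : Block F al 1554688 1554944 256 :=
  block_of_check (k := 8) rfl (by decide +kernel)

theorem b6074 : Block F al 1554944 1555200 256 :=
  block_of_check (k := 8) rfl (by decide +kernel)

theorem b6075 : Block F al 1555200 1555456 256 :=
  block_of_check (k := 8) rfl (by decide +kernel)

theorem b6076 : Block F al 1555456 1555712 256 :=
  block_of_check (k := 8) rfl (by decide +kernel)

theorem b6077 : Block F al 1555712 1555968 256 :=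
  block_of_check (k := 8) rfl (by decide +kernel)

theorem b6078 : Block F al 1555968 1556224 256 :=
  block_of_check (k := 8) rfl (by decide +kernel)

theorem b6079 : Block F al 1556224 1556480 256 :=
  block_of_check (k := 8) rfl (by decide +kernel)

theorem b6080 : Block F al 1556480 1556736 256 :=
  block_of_check (k := 8) rfl (by decide +kernel)

theorem b6081 : Block F al 1556736 1556992 256 :=
  block_of_check (k := 8) rfl (by decide +kernel)

theorem b6082 : Block F al 1556992 1557248 256 :=
  block_of_check (k := 8) rfl (by decide +kernel)

theorem b6083 : Block F al 1557248 1557504 256 :=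
  block_of_check (k := 8) rfl (by decide +kernel)

theorem b6084 : Block F al 1557504 1557760 256 :=
  block_of_check (k := 8) rfl (by decide +kernel)

theorem b6085 : Block F al 1557760 1558016 256 :=
  block_of_check (k := 8) rfl (by decide +kernel)

end Cfsg.Agent.TcData.HN.I1539000
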