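import Mathlib
import Cfsg.Agent.TcData.HN.I1539000.Tab

set_option autoImplicit false
set_option Elab.async false
set_option maxRecDepth 100000
set_option linter.all false

namespace Cfsg.Agent.TcData.HN.I1539000

open Cfsg.Spor Cfsg.Agent.Lib.TcFacts Cfsg.Agent.Lib.TcBits Cfsg.Agent.Lib.TcPres Cfsg.Spor.HN Cfsg.Agent.TcData.HN

theorem b6086 : Block F al 1558016 1558272 256 :=
  block_of_check (k := 8) rfl (by decide +kernel)

theorem b6087 : Block F al 1558272 1558528 256 :=
  block_of_check (k := 8) rfl (by decide +kernel)

theorem b6088 : Block F al 1558528 1558784 256 :=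
  block_of_check (k := 8) rfl (by decide +kernel)

theorem b6089 : Block F al 1558784 1559040 256 :=
  block_of_check (k := 8) rfl (by decide +kernel)

theorem b6090 : Block F al 1559040 1559296 256 :=
  block_of_check (k := 8) rfl (by decide +kernel)

theorem b6091 : Block F al 1559296 1559552 256 :=
  block_of_check (k := 8) rfl (by decide +kernel)

theorem b6092 : Block F al 1559552 1559808 256 :=
  block_of_check (k := 8) rfl (by decide +kernel)

theorem b6093 : Block F al 1559808 1560064 256 :=
  block_of_check (k := 8) rfl (by decide +kernel)

theorem b6094 : Block F al 1560064 1560320 256 :=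
  block_of_check (k := 8) rfl (by decide +kernel)

theorem b6095 : Block F al 1560320 1560576 256 :=
  block_of_check (k := 8) rfl (by decide +kernel)

theorem b6096 : Block F al 1560576 1560832 256 :=
  block_of_check (k := 8) rfl (by decide +kernel)

theorem b6097 : Block F al 1560832 1561088 256 :=
  block_of_check (k := 8) rfl (by decide +kernel)

theorem b6098 : Block F al 1561088 1561344 256 :=
  block_of_check (k := 8) rfl (by decide +kernel)

theorem b6099 : Block F al 1561344 1561600 255 :=
  block_of_check (k := 8) rfl (by decide +kernel)

theorem b6100 : Block F al 1561600 1561856 256 :=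
  block_of_check (k := 8) rfl (by decide +kernel)

theorem b6101 : Block F al 1561856 1562112 256 :=
  block_of_check (k := 8) rfl (by decide +kernel)

theorem b6102 : Block F al 1562112 1562368 256 :=
  block_of_check (k := 8) rfl (by decide +kernel)

theorem b6103 : Block F al 1562368 1562624 256 :=
  block_of_check (k := 8) rfl (by decide +kernel)

theorem b6104 : Block F al 1562624 1562880 256 :=
  block_of_check (k := 8) rfl (by decide +kernel)

theorem b6105 : Block F al 1562880 1563136 256 :=
  block_of_check (k := 8) rfl (by decide +kernel)

theorem b6106 : Block F al 1563136 1563392 256 :=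
  block_of_check (k := 8) rfl (by decide +kernel)

theorem b6107 : Block F al 1563392 1563648 256 :=
  block_of_check (k := 8) rfl (by decide +kernel)

theorem b6108 : Block F al 1563648 1563904 254 :=
  block_of_check (k := 8) rfl (by decide +kernel)

end Cfsg.Agent.TcData.HN.I1539000
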