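import Mathlib
import Cfsg.Agent.TcData.HN.I1539000.Tab

set_option autoImplicit false
set_option Elab.async false
set_option maxRecDepth 100000
set_option linter.all false

namespace Cfsg.Agent.TcData.HN.I1539000

open Cfsg.Spor Cfsg.Agent.Lib.TcFacts Cfsg.Agent.Lib.TcBits Cfsg.Agent.Lib.TcPres Cfsg.Spor.HN Cfsg.Agent.TcData.HN

theorem b6109 : Block F al 1563904 1564160 256 :=
  block_of_check (k := 8) rfl (by decide +kernel)

theorem b6110 : Block F al 1564160 1564416 256 :=
  block_of_check (k := 8) rfl (by decide +kernel)

theorem b6111 : Block F al 1564416 1564672 256 :=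
  block_of_check (k := 8) rfl (by decide +kernel)

theorem b6112 : Block F al 1564672 1564928 256 :=
  block_of_check (k := 8) rfl (by decide +kernel)

theorem b6113 : Block F al 1564928 1565184 256 :=
  block_of_check (k := 8) rfl (by decide +kernel)

theorem b6114 : Block F al 1565184 1565440 256 :=
  block_of_check (k := 8) rfl (by decide +kernel)

theorem b6115 : Block F al 1565440 1565696 256 :=
  block_of_check (k := 8) rfl (by decide +kernel)

theorem b6116 : Block F al 1565696 1565952 256 :=
  block_of_check (k := 8) rfl (by decide +kernel)

theorem b6117 : Block F al 1565952 1566208 256 :=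
  block_of_check (k := 8) rfl (by decide +kernel)

theorem b6118 : Block F al 1566208 1566464 256 :=
  block_of_check (k := 8) rfl (by decide +kernel)

theorem b6119 : Block F al 1566464 1566720 255 :=
  block_of_check (k := 8) rfl (by decide +kernel)

theorem b6120 : Block F al 1566720 1566976 256 :=
  block_of_check (k := 8) rfl (by decide +kernel)

theorem b6121 : Block F al 1566976 1567232 256 :=
  block_of_check (k := 8) rfl (by decide +kernel)

theorem b6122 : Block F al 1567232 1567488 256 :=
  block_of_check (k := 8) rfl (by decide +kernel)

theorem b6123 : Block F al 1567488 1567744 256 :=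
  block_of_check (k := 8) rfl (by decide +kernel)

theorem b6124 : Block F al 1567744 1568000 256 :=
  block_of_check (k := 8) rfl (by decide +kernel)

theorem b6125 : Block F al 1568000 1568256 256 :=
  block_of_check (k := 8) rfl (by decide +kernel)

theorem b6126 : Block F al 1568256 1568512 256 :=
  block_of_check (k := 8) rfl (by decide +kernel)

theorem b6127 : Block F al 1568512 1568768 256 :=
  block_of_check (k := 8) rfl (by decide +kernel)

theorem b6128 : Block F al 1568768 1569024 256 :=
  block_of_check (k := 8) rfl (by decide +kernel)

theorem b6129 : Block F al 1569024 1569280 256 :=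
  block_of_check (k := 8) rfl (by decide +kernel)

theorem b6130 : Block F al 1569280 1569536 256 :=
  block_of_check (k := 8) rfl (by decide +kernel)

theorem b6131 : Block F al 1569536 1569792 256 :=
  block_of_check (k := 8) rfl (by decide +kernel)

theorem b6132 : Block F al 1569792 1570048 256 :=
  block_of_check (k := 8) rfl (by decide +kernel)

end Cfsg.Agent.TcData.HN.I1539000
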