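import Mathlib
import Cfsg.Agent.TcData.HN.I1539000.Tab

set_option autoImplicit false
set_option Elab.async false
set_option maxRecDepth 100000
set_option linter.all false

namespace Cfsg.Agent.TcData.HN.I1539000

open Cfsg.Spor Cfsg.Agent.Lib.TcFacts Cfsg.Agent.Lib.TcBits Cfsg.Agent.Lib.TcPres Cfsg.Spor.HN Cfsg.Agent.TcData.HN

theorem b6133 : Block F al 1570048 1570304 256 :=
  block_of_check (k := 8) rfl (by decide +kernel)

theorem b6134 : Block F al 1570304 1570560 256 :=
  block_of_check (k := 8) rfl (by decide +kernel)

theorem b6135 : Block F al 1570560 1570816 256 :=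
  block_of_check (k := 8) rfl (by decide +kernel)

theorem b6136 : Block F al 1570816 1571072 256 :=
  block_of_check (k := 8) rfl (by decide +kernel)

theorem b6137 : Block F al 1571072 1571328 256 :=
  block_of_check (k := 8) rfl (by decide +kernel)

theorem b6138 : Block F al 1571328 1571584 256 :=
  block_of_check (k := 8) rfl (by decide +kernel)

theorem b6139 : Block F al 1571584 1571840 256 :=
  block_of_check (k := 8) rfl (by decide +kernel)

theorem b6140 : Block F al 1571840 1572096 255 :=
  block_of_check (k := 8) rfl (by decide +kernel)

theorem b6141 : Block F al 1572096 1572352 256 :=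
  block_of_check (k := 8) rfl (by decide +kernel)

theorem b6142 : Block F al 1572352 1572608 256 :=
  block_of_check (k := 8) rfl (by decide +kernel)

theorem b6143 : Block F al 1572608 1572864 256 :=
  block_of_check (k := 8) rfl (by decide +kernel)

theorem b6144 : Block F al 1572864 1573120 256 :=
  block_of_check (k := 8) rfl (by decide +kernel)

theorem b6145 : Block F al 1573120 1573376 256 :=
  block_of_check (k := 8) rfl (by decide +kernel)

theorem b6146 : Block F al 1573376 1573632 256 :=
  block_of_check (k := 8) rfl (by decide +kernel)

theorem b6147 : Block F al 1573632 1573888 256 :=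
  block_of_check (k := 8) rfl (by decide +kernel)

theorem b6148 : Block F al 1573888 1574144 256 :=
  block_of_check (k := 8) rfl (by decide +kernel)

theorem b6149 : Block F al 1574144 1574400 256 :=
  block_of_check (k := 8) rfl (by decide +kernel)

theorem b6150 : Block F al 1574400 1574656 256 :=
  block_of_check (k := 8) rfl (by decide +kernel)

theorem b6151 : Block F al 1574656 1574912 256 :=
  block_of_check (k := 8) rfl (by decide +kernel)

theorem b6152 : Block F al 1574912 1575168 256 :=
  block_of_check (k := 8) rfl (by decide +kernel)

theorem b6153 : Block F al 1575168 1575424 256 :=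
  block_of_check (k := 8) rfl (by decide +kernel)

theorem b6154 : Block F al 1575424 1575680 256 :=
  block_of_check (k := 8) rfl (by decide +kernel)

theorem b6155 : Block F al 1575680 1575936 256 :=
  block_of_check (k := 8) rfl (by decide +kernel)

end Cfsg.Agent.TcData.HN.I1539000
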