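import Mathlib
import Cfsg.Agent.TcData.HN.I1539000.Tab

set_option autoImplicit false
set_option Elab.async false
set_option maxRecDepth 100000
set_option linter.all false

namespace Cfsg.Agent.TcData.HN.I1539000

open Cfsg.Spor Cfsg.Agent.Lib.TcFacts Cfsg.Agent.Lib.TcBits Cfsg.Agent.Lib.TcPres Cfsg.Spor.HN Cfsg.Agent.TcData.HN

theorem b6156 : Block F al 1575936 1576192 256 :=
  block_of_check (k := 8) rfl (by decide +kernel)

theorem b6157 : Block F al 1576192 1576448 256 :=
  block_of_check (k := 8) rfl (by decide +kernel)

theorem b6158 : Block F al 1576448 1576704 256 :=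
  block_of_check (k := 8) rfl (by decide +kernel)

theorem b6159 : Block F al 1576704 1576960 256 :=
  block_of_check (k := 8) rfl (by decide +kernel)

theorem b6160 : Block F al 1576960 1577216 256 :=
  block_of_check (k := 8) rfl (by decide +kernel)

theorem b6161 : Block F al 1577216 1577472 256 :=
  block_of_check (k := 8) rfl (by decide +kernel)

theorem b6162 : Block F al 1577472 1577728 256 :=
  block_of_check (k := 8) rfl (by decide +kernel)

theorem b6163 : Block F al 1577728 1577984 256 :=
  block_of_check (k := 8) rfl (by decide +kernel)

theorem b6164 : Block F al 1577984 1578240 256 :=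
  block_of_check (k := 8) rfl (by decide +kernel)

theorem b6165 : Block F al 1578240 1578496 256 :=
  block_of_check (k := 8) rfl (by decide +kernel)

theorem b6166 : Block F al 1578496 1578752 256 :=
  block_of_check (k := 8) rfl (by decide +kernel)

theorem b6167 : Block F al 1578752 1579008 255 :=
  block_of_check (k := 8) rfl (by decide +kernel)

theorem b6168 : Block F al 1579008 1579264 256 :=
  block_of_check (k := 8) rfl (by decide +kernel)

theorem b6169 : Block F al 1579264 1579520 256 :=
  block_of_check (k := 8) rfl (by decide +kernel)

theorem b6170 : Block F al 1579520 1579776 256 :=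
  block_of_check (k := 8) rfl (by decide +kernel)

theorem b6171 : Block F al 1579776 1580032 256 :=
  block_of_check (k := 8) rfl (by decide +kernel)

theorem b6172 : Block F al 1580032 1580288 256 :=
  block_of_check (k := 8) rfl (by decide +kernel)

theorem b6173 : Block F al 1580288 1580544 256 :=
  block_of_check (k := 8) rfl (by decide +kernel)

theorem b6174 : Block F al 1580544 1580800 256 :=
  block_of_check (k := 8) rfl (by decide +kernel)

theorem b6175 : Block F al 1580800 1581056 256 :=
  block_of_check (k := 8) rfl (by decide +kernel)

theorem b6176 : Block F al 1581056 1581312 256 :=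
  block_of_check (k := 8) rfl (by decide +kernel)

theorem b6177 : Block F al 1581312 1581568 256 :=
  block_of_check (k := 8) rfl (by decide +kernel)

theorem b6178 : Block F al 1581568 1581824 256 :=
  block_of_check (k := 8) rfl (by decide +kernel)

end Cfsg.Agent.TcData.HN.I1539000
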