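import Mathlib
import Cfsg.Agent.TcData.HN.I1539000.Tab

set_option autoImplicit false
set_option Elab.async false
set_option maxRecDepth 100000
set_option linter.all false

namespace Cfsg.Agent.TcData.HN.I1539000

open Cfsg.Spor Cfsg.Agent.Lib.TcFacts Cfsg.Agent.Lib.TcBits Cfsg.Agent.Lib.TcPres Cfsg.Spor.HN Cfsg.Agent.TcData.HN

theorem b6202 : Block F al 1587712 1587968 256 :=
  block_of_check (k := 8) rfl (by decide +kernel)

theorem b6203 : Block F al 1587968 1588224 256 :=
  block_of_check (k := 8) rfl (by decide +kernel)

theorem b6204 : Block F al 1588224 1588480 256 :=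
  block_of_check (k := 8) rfl (by decide +kernel)

theorem b6205 : Block F al 1588480 1588736 256 :=
  block_of_check (k := 8) rfl (by decide +kernel)

theorem b6206 : Block F al 1588736 1588992 256 :=
  block_of_check (k := 8) rfl (by decide +kernel)

theorem b6207 : Block F al 1588992 1589248 256 :=
  block_of_check (k := 8) rfl (by decide +kernel)

theorem b6208 : Block F al 1589248 1589504 256 :=
  block_of_check (k := 8) rfl (by decide +kernel)

theorem b6209 : Block F al 1589504 1589760 256 :=
  block_of_check (k := 8) rfl (by decide +kernel)

theorem b6210 : Block F al 1589760 1590016 256 :=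
  block_of_check (k := 8) rfl (by decide +kernel)

theorem b6211 : Block F al 1590016 1590272 256 :=
  block_of_check (k := 8) rfl (by decide +kernel)

theorem b6212 : Block F al 1590272 1590528 256 :=
  block_of_check (k := 8) rfl (by decide +kernel)

theorem b6213 : Block F al 1590528 1590784 256 :=
  block_of_check (k := 8) rfl (by decide +kernel)

theorem b6214 : Block F al 1590784 1591040 256 :=
  block_of_check (k := 8) rfl (by decide +kernel)

theorem b6215 : Block F al 1591040 1591296 256 :=
  block_of_check (k := 8) rfl (by decide +kernel)

theorem b6216 : Block F al 1591296 1591552 256 :=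
  block_of_check (k := 8) rfl (by decide +kernel)

theorem b6217 : Block F al 1591552 1591808 256 :=
  block_of_check (k := 8) rfl (by decide +kernel)

theorem b6218 : Block F al 1591808 1592064 256 :=
  block_of_check (k := 8) rfl (by decide +kernel)

theorem b6219 : Block F al 1592064 1592320 256 :=
  block_of_check (k := 8) rfl (by decide +kernel)

theorem b6220 : Block F al 1592320 1592576 256 :=
  block_of_check (k := 8) rfl (by decide +kernel)

theorem b6221 : Block F al 1592576 1592832 256 :=
  block_of_check (k := 8) rfl (by decide +kernel)

theorem b6222 : Block F al 1592832 1593088 256 :=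
  block_of_check (k := 8) rfl (by decide +kernel)

theorem b6223 : Block F al 1593088 1593344 256 :=
  block_of_check (k := 8) rfl (by decide +kernel)

end Cfsg.Agent.TcData.HN.I1539000
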