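import Mathlib
import Cfsg.Agent.TcData.HN.I1539000.Tab

set_option autoImplicit false
set_option Elab.async false
set_option maxRecDepth 100000
set_option linter.all false

namespace Cfsg.Agent.TcData.HN.I1539000

open Cfsg.Spor Cfsg.Agent.Lib.TcFacts Cfsg.Agent.Lib.TcBits Cfsg.Agent.Lib.TcPres Cfsg.Spor.HN Cfsg.Agent.TcData.HN

theorem b6224 : Block F al 1593344 1593600 256 :=
  block_of_check (k := 8) rfl (by decide +kernel)

theorem b6225 : Block F al 1593600 1593856 256 :=
  block_of_check (k := 8) rfl (by decide +kernel)

theorem b6226 : Block F al 1593856 1594112 255 :=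
  block_of_check (k := 8) rfl (by decide +kernel)

theorem b6227 : Block F al 1594112 1594368 256 :=
  block_of_check (k := 8) rfl (by decide +kernel)

theorem b6228 : Block F al 1594368 1594624 256 :=
  block_of_check (k := 8) rfl (by decide +kernel)

theorem b6229 : Block F al 1594624 1594880 256 :=
  block_of_check (k := 8) rfl (by decide +kernel)

theorem b6230 : Block F al 1594880 1595136 256 :=
  block_of_check (k := 8) rfl (by decide +kernel)

theorem b6231 : Block F al 1595136 1595392 256 :=
  block_of_check (k := 8) rfl (by decide +kernel)

theorem b6232 : Block F al 1595392 1595648 256 :=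
  block_of_check (k := 8) rfl (by decide +kernel)

theorem b6233 : Block F al 1595648 1595904 256 :=
  block_of_check (k := 8) rfl (by decide +kernel)

theorem b6234 : Block F al 1595904 1596160 256 :=
  block_of_check (k := 8) rfl (by decide +kernel)

theorem b6235 : Block F al 1596160 1596416 256 :=
  block_of_check (k := 8) rfl (by decide +kernel)

theorem b6236 : Block F al 1596416 1596672 256 :=
  block_of_check (k := 8) rfl (by decide +kernel)

theorem b6237 : Block F al 1596672 1596928 256 :=
  block_of_check (k := 8) rfl (by decide +kernel)

theorem b6238 : Block F al 1596928 1597184 256 :=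
  block_of_check (k := 8) rfl (by decide +kernel)

theorem b6239 : Block F al 1597184 1597440 254 :=
  block_of_check (k := 8) rfl (by decide +kernel)

theorem b6240 : Block F al 1597440 1597696 254 :=
  block_of_check (k := 8) rfl (by decide +kernel)

theorem b6241 : Block F al 1597696 1597952 256 :=
  block_of_check (k := 8) rfl (by decide +kernel)

theorem b6242 : Block F al 1597952 1598208 256 :=
  block_of_check (k := 8) rfl (by decide +kernel)

theorem b6243 : Block F al 1598208 1598464 256 :=
  block_of_check (k := 8) rfl (by decide +kernel)

theorem b6244 : Block F al 1598464 1598720 256 :=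
  block_of_check (k := 8) rfl (by decide +kernel)

theorem b6245 : Block F al 1598720 1598976 256 :=
  block_of_check (k := 8) rfl (by decide +kernel)

end Cfsg.Agent.TcData.HN.I1539000
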