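import Mathlib
import Cfsg.Agent.TcData.HN.I1539000.Tab

set_option autoImplicit false
set_option Elab.async false
set_option maxRecDepth 100000
set_option linter.all false

namespace Cfsg.Agent.TcData.HN.I1539000

open Cfsg.Spor Cfsg.Agent.Lib.TcFacts Cfsg.Agent.Lib.TcBits Cfsg.Agent.Lib.TcPres Cfsg.Spor.HN Cfsg.Agent.TcData.HN

theorem b870 : Block F al 222720 222976 253 :=
  block_of_check (k := 8) rfl (by decide +kernel)

theorem b871 : Block F al 222976 223232 243 :=
  block_of_check (k := 8) rfl (by decide +kernel)

theorem b872 : Block F al 223232 223488 246 :=
  block_of_check (k := 8) rfl (by decide +kernel)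

theorem b873 : Block F al 223488 223744 245 :=
  block_of_check (k := 8) rfl (by decide +kernel)

theorem b874 : Block F al 223744 224000 245 :=
  block_of_check (k := 8) rfl (by decide +kernel)

theorem b875 : Block F al 224000 224256 247 :=
  block_of_check (k := 8) rfl (by decide +kernel)

theorem b876 : Block F al 224256 224512 246 :=
  block_of_check (k := 8) rfl (by decide +kernel)

theorem b877 : Block F al 224512 224768 234 :=
  block_of_check (k := 8) rfl (by decide +kernel)

theorem b878 : Block F al 224768 225024 238 :=
  block_of_check (k := 8) rfl (by decide +kernel)

theorem b879 : Block F al 225024 225280 237 :=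
  block_of_check (k := 8) rfl (by decide +kernel)

theorem b880 : Block F al 225280 225536 243 :=
  block_of_check (k := 8) rfl (by decide +kernel)

theorem b881 : Block F al 225536 225792 240 :=
  block_of_check (k := 8) rfl (by decide +kernel)

theorem b882 : Block F al 225792 226048 227 :=
  block_of_check (k := 8) rfl (by decide +kernel)

theorem b883 : Block F al 226048 226304 234 :=
  block_of_check (k := 8) rfl (by decide +kernel)

theorem b884 : Block F al 226304 226560 255 :=
  block_of_check (k := 8) rfl (by decide +kernel)

theorem b885 : Block F al 226560 226816 235 :=
  block_of_check (k := 8) rfl (by decide +kernel)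

theorem b886 : Block F al 226816 227072 243 :=
  block_of_check (k := 8) rfl (by decide +kernel)

theorem b887 : Block F al 227072 227328 239 :=
  block_of_check (k := 8) rfl (by decide +kernel)

theorem b888 : Block F al 227328 227584 229 :=
  block_of_check (k := 8) rfl (by decide +kernel)

theorem b889 : Block F al 227584 227840 229 :=
  block_of_check (k := 8) rfl (by decide +kernel)

theorem b890 : Block F al 227840 228096 218 :=
  block_of_check (k := 8) rfl (by decide +kernel)

theorem b891 : Block F al 228096 228352 239 :=
  block_of_check (k := 8) rfl (by decide +kernel)

theorem b892 : Block F al 228352 228608 240 :=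
  block_of_check (k := 8) rfl (by decide +kernel)

theorem b893 : Block F al 228608 228864 243 :=
  block_of_check (k := 8) rfl (by decide +kernel)

theorem b894 : Block F al 228864 229120 252 :=
  block_of_check (k := 8) rfl (by decide +kernel)

theorem b895 : Block F al 229120 229376 249 :=
  block_of_check (k := 8) rfl (by decide +kernel)

theorem b896 : Block F al 229376 229632 244 :=
  block_of_check (k := 8) rfl (by decide +kernel)

theorem b897 : Block F al 229632 229888 249 :=
  block_of_check (k := 8) rfl (by decide +kernel)

theorem b898 : Block F al 229888 230144 237 :=
  block_of_check (k := 8) rfl (by decide +kernel)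

theorem b899 : Block F al 230144 230400 244 :=
  block_of_check (k := 8) rfl (by decide +kernel)

theorem b900 : Block F al 230400 230656 226 :=
  block_of_check (k := 8) rfl (by decide +kernel)

theorem b901 : Block F al 230656 230912 229 :=
  block_of_check (k := 8) rfl (by decide +kernel)

theorem b902 : Block F al 230912 231168 208 :=
  block_of_check (k := 8) rfl (by decide +kernel)

theorem b903 : Block F al 231168 231424 233 :=
  block_of_check (k := 8) rfl (by decide +kernel)

theorem b904 : Block F al 231424 231680 242 :=
  block_of_check (k := 8) rfl (by decide +kernel)

theorem b905 : Block F al 231680 231936 203 :=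
  block_of_check (k := 8) rfl (by decide +kernel)

theorem b906 : Block F al 231936 232192 247 :=
  block_of_check (k := 8) rfl (by decide +kernel)

theorem b907 : Block F al 232192 232448 243 :=
  block_of_check (k := 8) rfl (by decide +kernel)

theorem b908 : Block F al 232448 232704 236 :=
  block_of_check (k := 8) rfl (by decide +kernel)

theorem b909 : Block F al 232704 232960 235 :=
  block_of_check (k := 8) rfl (by decide +kernel)

theorem b910 : Block F al 232960 233216 222 :=
  block_of_check (k := 8) rfl (by decide +kernel)

theorem b911 : Block F al 233216 233472 250 :=
  block_of_check (k := 8) rfl (by decide +kernel)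

theorem b912 : Block F al 233472 233728 241 :=
  block_of_check (k := 8) rfl (by decide +kernel)

theorem b913 : Block F al 233728 233984 242 :=
  block_of_check (k := 8) rfl (by decide +kernel)

theorem b914 : Block F al 233984 234240 236 :=
  block_of_check (k := 8) rfl (by decide +kernel)

theorem b915 : Block F al 234240 234496 222 :=
  block_of_check (k := 8) rfl (by decide +kernel)

theorem b916 : Block F al 234496 234752 224 :=
  block_of_check (k := 8) rfl (by decide +kernel)

theorem b917 : Block F al 234752 235008 246 :=
  block_of_check (k := 8) rfl (by decide +kernel)

end Cfsg.Agent.TcData.HN.I1539000
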