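import Mathlib
import Cfsg.Agent.TcData.HN.I1539000.Tab

set_option autoImplicit false
set_option Elab.async false
set_option maxRecDepth 100000
set_option linter.all false

namespace Cfsg.Agent.TcData.HN.I1539000

open Cfsg.Spor Cfsg.Agent.Lib.TcFacts Cfsg.Agent.Lib.TcBits Cfsg.Agent.Lib.TcPres Cfsg.Spor.HN Cfsg.Agent.TcData.HN

theorem b6246 : Block F al 1598976 1599232 256 :=
  block_of_check (k := 8) rfl (by decide +kernel)

theorem b6247 : Block F al 1599232 1599488 256 :=
  block_of_check (k := 8) rfl (by decide +kernel)

theorem b6248 : Block F al 1599488 1599744 256 :=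
  block_of_check (k := 8) rfl (by decide +kernel)

theorem b6249 : Block F al 1599744 1600000 256 :=
  block_of_check (k := 8) rfl (by decide +kernel)

theorem b6250 : Block F al 1600000 1600256 256 :=
  block_of_check (k := 8) rfl (by decide +kernel)

theorem b6251 : Block F al 1600256 1600512 256 :=
  block_of_check (k := 8) rfl (by decide +kernel)

theorem b6252 : Block F al 1600512 1600768 256 :=
  block_of_check (k := 8) rfl (by decide +kernel)

theorem b6253 : Block F al 1600768 1601024 256 :=
  block_of_check (k := 8) rfl (by decide +kernel)

theorem b6254 : Block F al 1601024 1601280 256 :=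
  block_of_check (k := 8) rfl (by decide +kernel)

theorem b6255 : Block F al 1601280 1601536 255 :=
  block_of_check (k := 8) rfl (by decide +kernel)

theorem b6256 : Block F al 1601536 1601792 256 :=
  block_of_check (k := 8) rfl (by decide +kernel)

theorem b6257 : Block F al 1601792 1602048 256 :=
  block_of_check (k := 8) rfl (by decide +kernel)

theorem b6258 : Block F al 1602048 1602304 256 :=
  block_of_check (k := 8) rfl (by decide +kernel)

theorem b6259 : Block F al 1602304 1602560 256 :=
  block_of_check (k := 8) rfl (by decide +kernel)

theorem b6260 : Block F al 1602560 1602816 256 :=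
  block_of_check (k := 8) rfl (by decide +kernel)

theorem b6261 : Block F al 1602816 1603072 256 :=
  block_of_check (k := 8) rfl (by decide +kernel)

theorem b6262 : Block F al 1603072 1603328 256 :=
  block_of_check (k := 8) rfl (by decide +kernel)

theorem b6263 : Block F al 1603328 1603584 256 :=
  block_of_check (k := 8) rfl (by decide +kernel)

theorem b6264 : Block F al 1603584 1603840 256 :=
  block_of_check (k := 8) rfl (by decide +kernel)

theorem b6265 : Block F al 1603840 1604096 254 :=
  block_of_check (k := 8) rfl (by decide +kernel)

theorem b6266 : Block F al 1604096 1604352 256 :=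
  block_of_check (k := 8) rfl (by decide +kernel)

theorem b6267 : Block F al 1604352 1604608 256 :=
  block_of_check (k := 8) rfl (by decide +kernel)

end Cfsg.Agent.TcData.HN.I1539000
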