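import Mathlib
import Cfsg.Agent.TcData.HN.I1539000.Tab

set_option autoImplicit false
set_option Elab.async false
set_option maxRecDepth 100000
set_option linter.all false

namespace Cfsg.Agent.TcData.HN.I1539000

open Cfsg.Spor Cfsg.Agent.Lib.TcFacts Cfsg.Agent.Lib.TcBits Cfsg.Agent.Lib.TcPres Cfsg.Spor.HN Cfsg.Agent.TcData.HN

theorem b6268 : Block F al 1604608 1604864 256 :=
  block_of_check (k := 8) rfl (by decide +kernel)

theorem b6269 : Block F al 1604864 1605120 256 :=
  block_of_check (k := 8) rfl (by decide +kernel)

theorem b6270 : Block F al 1605120 1605376 256 :=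
  block_of_check (k := 8) rfl (by decide +kernel)

theorem b6271 : Block F al 1605376 1605632 256 :=
  block_of_check (k := 8) rfl (by decide +kernel)

theorem b6272 : Block F al 1605632 1605888 256 :=
  block_of_check (k := 8) rfl (by decide +kernel)

theorem b6273 : Block F al 1605888 1606144 256 :=
  block_of_check (k := 8) rfl (by decide +kernel)

theorem b6274 : Block F al 1606144 1606400 252 :=
  block_of_check (k := 8) rfl (by decide +kernel)

end Cfsg.Agent.TcData.HN.I1539000
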