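import Mathlib
import Cfsg.Agent.TcData.HN.I1539000.Tab

set_option autoImplicit false
set_option Elab.async false
set_option maxRecDepth 100000
set_option linter.all false

namespace Cfsg.Agent.TcData.HN.I1539000

open Cfsg.Spor Cfsg.Agent.Lib.TcFacts Cfsg.Agent.Lib.TcBits Cfsg.Agent.Lib.TcPres Cfsg.Spor.HN Cfsg.Agent.TcData.HN

theorem b918 : Block F al 235008 235264 233 :=
  block_of_check (k := 8) rfl (by decide +kernel)

theorem b919 : Block F al 235264 235520 234 :=
  block_of_check (k := 8) rfl (by decide +kernel)

theorem b920 : Block F al 235520 235776 250 :=
  block_of_check (k := 8) rfl (by decide +kernel)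

theorem b921 : Block F al 235776 236032 195 :=
  block_of_check (k := 8) rfl (by decide +kernel)

theorem b922 : Block F al 236032 236288 236 :=
  block_of_check (k := 8) rfl (by decide +kernel)

theorem b923 : Block F al 236288 236544 239 :=
  block_of_check (k := 8) rfl (by decide +kernel)

theorem b924 : Block F al 236544 236800 249 :=
  block_of_check (k := 8) rfl (by decide +kernel)

theorem b925 : Block F al 236800 237056 241 :=
  block_of_check (k := 8) rfl (by decide +kernel)

theorem b926 : Block F al 237056 237312 229 :=
  block_of_check (k := 8) rfl (by decide +kernel)

theorem b927 : Block F al 237312 237568 242 :=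
  block_of_check (k := 8) rfl (by decide +kernel)

theorem b928 : Block F al 237568 237824 241 :=
  block_of_check (k := 8) rfl (by decide +kernel)

theorem b929 : Block F al 237824 238080 247 :=
  block_of_check (k := 8) rfl (by decide +kernel)

theorem b930 : Block F al 238080 238336 243 :=
  block_of_check (k := 8) rfl (by decide +kernel)

theorem b931 : Block F al 238336 238592 244 :=
  block_of_check (k := 8) rfl (by decide +kernel)

theorem b932 : Block F al 238592 238848 221 :=
  block_of_check (k := 8) rfl (by decide +kernel)

theorem b933 : Block F al 238848 239104 241 :=
  block_of_check (k := 8) rfl (by decide +kernel)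

theorem b934 : Block F al 239104 239360 241 :=
  block_of_check (k := 8) rfl (by decide +kernel)

theorem b935 : Block F al 239360 239616 226 :=
  block_of_check (k := 8) rfl (by decide +kernel)

theorem b936 : Block F al 239616 239872 245 :=
  block_of_check (k := 8) rfl (by decide +kernel)

theorem b937 : Block F al 239872 240128 253 :=
  block_of_check (k := 8) rfl (by decide +kernel)

theorem b938 : Block F al 240128 240384 235 :=
  block_of_check (k := 8) rfl (by decide +kernel)

theorem b939 : Block F al 240384 240640 249 :=
  block_of_check (k := 8) rfl (by decide +kernel)

theorem b940 : Block F al 240640 240896 252 :=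
  block_of_check (k := 8) rfl (by decide +kernel)

theorem b941 : Block F al 240896 241152 253 :=
  block_of_check (k := 8) rfl (by decide +kernel)

theorem b942 : Block F al 241152 241408 244 :=
  block_of_check (k := 8) rfl (by decide +kernel)

theorem b943 : Block F al 241408 241664 249 :=
  block_of_check (k := 8) rfl (by decide +kernel)

theorem b944 : Block F al 241664 241920 249 :=
  block_of_check (k := 8) rfl (by decide +kernel)

theorem b945 : Block F al 241920 242176 250 :=
  block_of_check (k := 8) rfl (by decide +kernel)

theorem b946 : Block F al 242176 242432 224 :=
  block_of_check (k := 8) rfl (by decide +kernel)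

theorem b947 : Block F al 242432 242688 250 :=
  block_of_check (k := 8) rfl (by decide +kernel)

theorem b948 : Block F al 242688 242944 211 :=
  block_of_check (k := 8) rfl (by decide +kernel)

theorem b949 : Block F al 242944 243200 181 :=
  block_of_check (k := 8) rfl (by decide +kernel)

theorem b950 : Block F al 243200 243456 231 :=
  block_of_check (k := 8) rfl (by decide +kernel)

theorem b951 : Block F al 243456 243712 242 :=
  block_of_check (k := 8) rfl (by decide +kernel)

theorem b952 : Block F al 243712 243968 251 :=
  block_of_check (k := 8) rfl (by decide +kernel)

theorem b953 : Block F al 243968 244224 208 :=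
  block_of_check (k := 8) rfl (by decide +kernel)

theorem b954 : Block F al 244224 244480 216 :=
  block_of_check (k := 8) rfl (by decide +kernel)

theorem b955 : Block F al 244480 244736 230 :=
  block_of_check (k := 8) rfl (by decide +kernel)

theorem b956 : Block F al 244736 244992 246 :=
  block_of_check (k := 8) rfl (by decide +kernel)

theorem b957 : Block F al 244992 245248 219 :=
  block_of_check (k := 8) rfl (by decide +kernel)

theorem b958 : Block F al 245248 245504 228 :=
  block_of_check (k := 8) rfl (by decide +kernel)

theorem b959 : Block F al 245504 245760 223 :=
  block_of_check (k := 8) rfl (by decide +kernel)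

theorem b960 : Block F al 245760 246016 233 :=
  block_of_check (k := 8) rfl (by decide +kernel)

theorem b961 : Block F al 246016 246272 207 :=
  block_of_check (k := 8) rfl (by decide +kernel)

theorem b962 : Block F al 246272 246528 239 :=
  block_of_check (k := 8) rfl (by decide +kernel)

theorem b963 : Block F al 246528 246784 248 :=
  block_of_check (k := 8) rfl (by decide +kernel)

theorem b964 : Block F al 246784 247040 227 :=
  block_of_check (k := 8) rfl (by decide +kernel)

theorem b965 : Block F al 247040 247296 235 :=
  block_of_check (k := 8) rfl (by decide +kernel)

theorem b966 : Block F al 247296 247552 242 :=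
  block_of_check (k := 8) rfl (by decide +kernel)

theorem b967 : Block F al 247552 247808 222 :=
  block_of_check (k := 8) rfl (by decide +kernel)

end Cfsg.Agent.TcData.HN.I1539000
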