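import Mathlib
import Cfsg.Agent.TcData.HN.I1539000.Tab

set_option autoImplicit false
set_option Elab.async false
set_option maxRecDepth 100000
set_option linter.all false

namespace Cfsg.Agent.TcData.HN.I1539000

open Cfsg.Spor Cfsg.Agent.Lib.TcFacts Cfsg.Agent.Lib.TcBits Cfsg.Agent.Lib.TcPres Cfsg.Spor.HN Cfsg.Agent.TcData.HN

theorem b968 : Block F al 247808 248064 241 :=
  block_of_check (k := 8) rfl (by decide +kernel)

theorem b969 : Block F al 248064 248320 227 :=
  block_of_check (k := 8) rfl (by decide +kernel)

theorem b970 : Block F al 248320 248576 232 :=
  block_of_check (k := 8) rfl (by decide +kernel)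

theorem b971 : Block F al 248576 248832 229 :=
  block_of_check (k := 8) rfl (by decide +kernel)

theorem b972 : Block F al 248832 249088 207 :=
  block_of_check (k := 8) rfl (by decide +kernel)

theorem b973 : Block F al 249088 249344 240 :=
  block_of_check (k := 8) rfl (by decide +kernel)

theorem b974 : Block F al 249344 249600 235 :=
  block_of_check (k := 8) rfl (by decide +kernel)

theorem b975 : Block F al 249600 249856 228 :=
  block_of_check (k := 8) rfl (by decide +kernel)

theorem b976 : Block F al 249856 250112 246 :=
  block_of_check (k := 8) rfl (by decide +kernel)

theorem b977 : Block F al 250112 250368 248 :=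
  block_of_check (k := 8) rfl (by decide +kernel)

theorem b978 : Block F al 250368 250624 254 :=
  block_of_check (k := 8) rfl (by decide +kernel)

theorem b979 : Block F al 250624 250880 251 :=
  block_of_check (k := 8) rfl (by decide +kernel)

theorem b980 : Block F al 250880 251136 231 :=
  block_of_check (k := 8) rfl (by decide +kernel)

theorem b981 : Block F al 251136 251392 233 :=
  block_of_check (k := 8) rfl (by decide +kernel)

theorem b982 : Block F al 251392 251648 234 :=
  block_of_check (k := 8) rfl (by decide +kernel)

theorem b983 : Block F al 251648 251904 238 :=
  block_of_check (k := 8) rfl (by decide +kernel)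

theorem b984 : Block F al 251904 252160 241 :=
  block_of_check (k := 8) rfl (by decide +kernel)

theorem b985 : Block F al 252160 252416 251 :=
  block_of_check (k := 8) rfl (by decide +kernel)

theorem b986 : Block F al 252416 252672 249 :=
  block_of_check (k := 8) rfl (by decide +kernel)

theorem b987 : Block F al 252672 252928 224 :=
  block_of_check (k := 8) rfl (by decide +kernel)

theorem b988 : Block F al 252928 253184 247 :=
  block_of_check (k := 8) rfl (by decide +kernel)

theorem b989 : Block F al 253184 253440 248 :=
  block_of_check (k := 8) rfl (by decide +kernel)

theorem b990 : Block F al 253440 253696 248 :=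
  block_of_check (k := 8) rfl (by decide +kernel)

theorem b991 : Block F al 253696 253952 238 :=
  block_of_check (k := 8) rfl (by decide +kernel)

theorem b992 : Block F al 253952 254208 237 :=
  block_of_check (k := 8) rfl (by decide +kernel)

theorem b993 : Block F al 254208 254464 248 :=
  block_of_check (k := 8) rfl (by decide +kernel)

theorem b994 : Block F al 254464 254720 226 :=
  block_of_check (k := 8) rfl (by decide +kernel)

theorem b995 : Block F al 254720 254976 222 :=
  block_of_check (k := 8) rfl (by decide +kernel)

theorem b996 : Block F al 254976 255232 240 :=
  block_of_check (k := 8) rfl (by decide +kernel)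

theorem b997 : Block F al 255232 255488 246 :=
  block_of_check (k := 8) rfl (by decide +kernel)

theorem b998 : Block F al 255488 255744 245 :=
  block_of_check (k := 8) rfl (by decide +kernel)

theorem b999 : Block F al 255744 256000 251 :=
  block_of_check (k := 8) rfl (by decide +kernel)

theorem b1000 : Block F al 256000 256256 231 :=
  block_of_check (k := 8) rfl (by decide +kernel)

theorem b1001 : Block F al 256256 256512 231 :=
  block_of_check (k := 8) rfl (by decide +kernel)

theorem b1002 : Block F al 256512 256768 248 :=
  block_of_check (k := 8) rfl (by decide +kernel)

theorem b1003 : Block F al 256768 257024 227 :=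
  block_of_check (k := 8) rfl (by decide +kernel)

theorem b1004 : Block F al 257024 257280 252 :=
  block_of_check (k := 8) rfl (by decide +kernel)

theorem b1005 : Block F al 257280 257536 252 :=
  block_of_check (k := 8) rfl (by decide +kernel)

theorem b1006 : Block F al 257536 257792 233 :=
  block_of_check (k := 8) rfl (by decide +kernel)

theorem b1007 : Block F al 257792 258048 231 :=
  block_of_check (k := 8) rfl (by decide +kernel)

theorem b1008 : Block F al 258048 258304 232 :=
  block_of_check (k := 8) rfl (by decide +kernel)

theorem b1009 : Block F al 258304 258560 252 :=
  block_of_check (k := 8) rfl (by decide +kernel)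

theorem b1010 : Block F al 258560 258816 244 :=
  block_of_check (k := 8) rfl (by decide +kernel)

theorem b1011 : Block F al 258816 259072 236 :=
  block_of_check (k := 8) rfl (by decide +kernel)

theorem b1012 : Block F al 259072 259328 232 :=
  block_of_check (k := 8) rfl (by decide +kernel)

theorem b1013 : Block F al 259328 259584 228 :=
  block_of_check (k := 8) rfl (by decide +kernel)

theorem b1014 : Block F al 259584 259840 231 :=
  block_of_check (k := 8) rfl (by decide +kernel)

theorem b1015 : Block F al 259840 260096 243 :=
  block_of_check (k := 8) rfl (by decide +kernel)

end Cfsg.Agent.TcData.HN.I1539000
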