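import Mathlib
import Cfsg.Agent.TcData.HN.I1539000.Tab

set_option autoImplicit false
set_option Elab.async false
set_option maxRecDepth 100000
set_option linter.all false

namespace Cfsg.Agent.TcData.HN.I1539000

open Cfsg.Spor Cfsg.Agent.Lib.TcFacts Cfsg.Agent.Lib.TcBits Cfsg.Agent.Lib.TcPres Cfsg.Spor.HN Cfsg.Agent.TcData.HN

theorem b111 : Block F al 28416 28672 237 :=
  block_of_check (k := 8) rfl (by decide +kernel)

theorem b112 : Block F al 28672 28928 240 :=
  block_of_check (k := 8) rfl (by decide +kernel)

theorem b113 : Block F al 28928 29184 249 :=
  block_of_check (k := 8) rfl (by decide +kernel)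

theorem b114 : Block F al 29184 29440 221 :=
  block_of_check (k := 8) rfl (by decide +kernel)

theorem b115 : Block F al 29440 29696 206 :=
  block_of_check (k := 8) rfl (by decide +kernel)

theorem b116 : Block F al 29696 29952 235 :=
  block_of_check (k := 8) rfl (by decide +kernel)

theorem b117 : Block F al 29952 30208 238 :=
  block_of_check (k := 8) rfl (by decide +kernel)

theorem b118 : Block F al 30208 30464 224 :=
  block_of_check (k := 8) rfl (by decide +kernel)

theorem b119 : Block F al 30464 30720 238 :=
  block_of_check (k := 8) rfl (by decide +kernel)

theorem b120 : Block F al 30720 30976 228 :=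
  block_of_check (k := 8) rfl (by decide +kernel)

theorem b121 : Block F al 30976 31232 237 :=
  block_of_check (k := 8) rfl (by decide +kernel)

theorem b122 : Block F al 31232 31488 227 :=
  block_of_check (k := 8) rfl (by decide +kernel)

theorem b123 : Block F al 31488 31744 229 :=
  block_of_check (k := 8) rfl (by decide +kernel)

theorem b124 : Block F al 31744 32000 254 :=
  block_of_check (k := 8) rfl (by decide +kernel)

theorem b125 : Block F al 32000 32256 244 :=
  block_of_check (k := 8) rfl (by decide +kernel)

theorem b126 : Block F al 32256 32512 225 :=
  block_of_check (k := 8) rfl (by decide +kernel)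

theorem b127 : Block F al 32512 32768 192 :=
  block_of_check (k := 8) rfl (by decide +kernel)

theorem b128 : Block F al 32768 33024 247 :=
  block_of_check (k := 8) rfl (by decide +kernel)

theorem b129 : Block F al 33024 33280 243 :=
  block_of_check (k := 8) rfl (by decide +kernel)

theorem b130 : Block F al 33280 33536 233 :=
  block_of_check (k := 8) rfl (by decide +kernel)

theorem b131 : Block F al 33536 33792 230 :=
  block_of_check (k := 8) rfl (by decide +kernel)

theorem b132 : Block F al 33792 34048 209 :=
  block_of_check (k := 8) rfl (by decide +kernel)

theorem b133 : Block F al 34048 34304 240 :=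
  block_of_check (k := 8) rfl (by decide +kernel)

theorem b134 : Block F al 34304 34560 215 :=
  block_of_check (k := 8) rfl (by decide +kernel)

theorem b135 : Block F al 34560 34816 235 :=
  block_of_check (k := 8) rfl (by decide +kernel)

theorem b136 : Block F al 34816 35072 225 :=
  block_of_check (k := 8) rfl (by decide +kernel)

theorem b137 : Block F al 35072 35328 229 :=
  block_of_check (k := 8) rfl (by decide +kernel)

theorem b138 : Block F al 35328 35584 222 :=
  block_of_check (k := 8) rfl (by decide +kernel)

theorem b139 : Block F al 35584 35840 216 :=
  block_of_check (k := 8) rfl (by decide +kernel)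

theorem b140 : Block F al 35840 36096 248 :=
  block_of_check (k := 8) rfl (by decide +kernel)

theorem b141 : Block F al 36096 36352 234 :=
  block_of_check (k := 8) rfl (by decide +kernel)

theorem b142 : Block F al 36352 36608 244 :=
  block_of_check (k := 8) rfl (by decide +kernel)

theorem b143 : Block F al 36608 36864 238 :=
  block_of_check (k := 8) rfl (by decide +kernel)

theorem b144 : Block F al 36864 37120 198 :=
  block_of_check (k := 8) rfl (by decide +kernel)

theorem b145 : Block F al 37120 37376 240 :=
  block_of_check (k := 8) rfl (by decide +kernel)

theorem b146 : Block F al 37376 37632 233 :=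
  block_of_check (k := 8) rfl (by decide +kernel)

theorem b147 : Block F al 37632 37888 209 :=
  block_of_check (k := 8) rfl (by decide +kernel)

theorem b148 : Block F al 37888 38144 220 :=
  block_of_check (k := 8) rfl (by decide +kernel)

theorem b149 : Block F al 38144 38400 211 :=
  block_of_check (k := 8) rfl (by decide +kernel)

theorem b150 : Block F al 38400 38656 254 :=
  block_of_check (k := 8) rfl (by decide +kernel)

theorem b151 : Block F al 38656 38912 246 :=
  block_of_check (k := 8) rfl (by decide +kernel)

theorem b152 : Block F al 38912 39168 252 :=
  block_of_check (k := 8) rfl (by decide +kernel)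

theorem b153 : Block F al 39168 39424 245 :=
  block_of_check (k := 8) rfl (by decide +kernel)

theorem b154 : Block F al 39424 39680 235 :=
  block_of_check (k := 8) rfl (by decide +kernel)

theorem b155 : Block F al 39680 39936 185 :=
  block_of_check (k := 8) rfl (by decide +kernel)

theorem b156 : Block F al 39936 40192 221 :=
  block_of_check (k := 8) rfl (by decide +kernel)

theorem b157 : Block F al 40192 40448 212 :=
  block_of_check (k := 8) rfl (by decide +kernel)

theorem b158 : Block F al 40448 40704 239 :=
  block_of_check (k := 8) rfl (by decide +kernel)

theorem b159 : Block F al 40704 40960 237 :=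
  block_of_check (k := 8) rfl (by decide +kernel)

theorem b160 : Block F al 40960 41216 212 :=
  block_of_check (k := 8) rfl (by decide +kernel)

theorem b161 : Block F al 41216 41472 243 :=
  block_of_check (k := 8) rfl (by decide +kernel)

theorem b162 : Block F al 41472 41728 237 :=
  block_of_check (k := 8) rfl (by decide +kernel)

theorem b163 : Block F al 41728 41984 228 :=
  block_of_check (k := 8) rfl (by decide +kernel)

end Cfsg.Agent.TcData.HN.I1539000
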