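import Mathlib
import Cfsg.Agent.TcData.HN.I1539000.Tab

set_option autoImplicit false
set_option Elab.async false
set_option maxRecDepth 100000
set_option linter.all false

namespace Cfsg.Agent.TcData.HN.I1539000

open Cfsg.Spor Cfsg.Agent.Lib.TcFacts Cfsg.Agent.Lib.TcBits Cfsg.Agent.Lib.TcPres Cfsg.Spor.HN Cfsg.Agent.TcData.HN

theorem b1016 : Block F al 260096 260352 252 :=
  block_of_check (k := 8) rfl (by decide +kernel)

theorem b1017 : Block F al 260352 260608 253 :=
  block_of_check (k := 8) rfl (by decide +kernel)

theorem b1018 : Block F al 260608 260864 250 :=
  block_of_check (k := 8) rfl (by decide +kernel)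

theorem b1019 : Block F al 260864 261120 247 :=
  block_of_check (k := 8) rfl (by decide +kernel)

theorem b1020 : Block F al 261120 261376 242 :=
  block_of_check (k := 8) rfl (by decide +kernel)

theorem b1021 : Block F al 261376 261632 237 :=
  block_of_check (k := 8) rfl (by decide +kernel)

theorem b1022 : Block F al 261632 261888 219 :=
  block_of_check (k := 8) rfl (by decide +kernel)

theorem b1023 : Block F al 261888 262144 238 :=
  block_of_check (k := 8) rfl (by decide +kernel)

theorem b1024 : Block F al 262144 262400 240 :=
  block_of_check (k := 8) rfl (by decide +kernel)

theorem b1025 : Block F al 262400 262656 242 :=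
  block_of_check (k := 8) rfl (by decide +kernel)

theorem b1026 : Block F al 262656 262912 242 :=
  block_of_check (k := 8) rfl (by decide +kernel)

theorem b1027 : Block F al 262912 263168 243 :=
  block_of_check (k := 8) rfl (by decide +kernel)

theorem b1028 : Block F al 263168 263424 228 :=
  block_of_check (k := 8) rfl (by decide +kernel)

theorem b1029 : Block F al 263424 263680 251 :=
  block_of_check (k := 8) rfl (by decide +kernel)

theorem b1030 : Block F al 263680 263936 254 :=
  block_of_check (k := 8) rfl (by decide +kernel)

theorem b1031 : Block F al 263936 264192 253 :=
  block_of_check (k := 8) rfl (by decide +kernel)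

theorem b1032 : Block F al 264192 264448 251 :=
  block_of_check (k := 8) rfl (by decide +kernel)

theorem b1033 : Block F al 264448 264704 232 :=
  block_of_check (k := 8) rfl (by decide +kernel)

theorem b1034 : Block F al 264704 264960 244 :=
  block_of_check (k := 8) rfl (by decide +kernel)

theorem b1035 : Block F al 264960 265216 236 :=
  block_of_check (k := 8) rfl (by decide +kernel)

theorem b1036 : Block F al 265216 265472 241 :=
  block_of_check (k := 8) rfl (by decide +kernel)

theorem b1037 : Block F al 265472 265728 244 :=
  block_of_check (k := 8) rfl (by decide +kernel)

theorem b1038 : Block F al 265728 265984 247 :=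
  block_of_check (k := 8) rfl (by decide +kernel)

theorem b1039 : Block F al 265984 266240 244 :=
  block_of_check (k := 8) rfl (by decide +kernel)

theorem b1040 : Block F al 266240 266496 242 :=
  block_of_check (k := 8) rfl (by decide +kernel)

theorem b1041 : Block F al 266496 266752 249 :=
  block_of_check (k := 8) rfl (by decide +kernel)

theorem b1042 : Block F al 266752 267008 250 :=
  block_of_check (k := 8) rfl (by decide +kernel)

theorem b1043 : Block F al 267008 267264 252 :=
  block_of_check (k := 8) rfl (by decide +kernel)

theorem b1044 : Block F al 267264 267520 249 :=
  block_of_check (k := 8) rfl (by decide +kernel)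

theorem b1045 : Block F al 267520 267776 254 :=
  block_of_check (k := 8) rfl (by decide +kernel)

theorem b1046 : Block F al 267776 268032 227 :=
  block_of_check (k := 8) rfl (by decide +kernel)

theorem b1047 : Block F al 268032 268288 232 :=
  block_of_check (k := 8) rfl (by decide +kernel)

theorem b1048 : Block F al 268288 268544 241 :=
  block_of_check (k := 8) rfl (by decide +kernel)

theorem b1049 : Block F al 268544 268800 227 :=
  block_of_check (k := 8) rfl (by decide +kernel)

theorem b1050 : Block F al 268800 269056 228 :=
  block_of_check (k := 8) rfl (by decide +kernel)

theorem b1051 : Block F al 269056 269312 241 :=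
  block_of_check (k := 8) rfl (by decide +kernel)

theorem b1052 : Block F al 269312 269568 241 :=
  block_of_check (k := 8) rfl (by decide +kernel)

theorem b1053 : Block F al 269568 269824 237 :=
  block_of_check (k := 8) rfl (by decide +kernel)

theorem b1054 : Block F al 269824 270080 253 :=
  block_of_check (k := 8) rfl (by decide +kernel)

theorem b1055 : Block F al 270080 270336 252 :=
  block_of_check (k := 8) rfl (by decide +kernel)

theorem b1056 : Block F al 270336 270592 253 :=
  block_of_check (k := 8) rfl (by decide +kernel)

theorem b1057 : Block F al 270592 270848 247 :=
  block_of_check (k := 8) rfl (by decide +kernel)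

theorem b1058 : Block F al 270848 271104 236 :=
  block_of_check (k := 8) rfl (by decide +kernel)

theorem b1059 : Block F al 271104 271360 232 :=
  block_of_check (k := 8) rfl (by decide +kernel)

theorem b1060 : Block F al 271360 271616 221 :=
  block_of_check (k := 8) rfl (by decide +kernel)

end Cfsg.Agent.TcData.HN.I1539000
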