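import Mathlib
import Cfsg.Agent.TcData.HN.I1539000.Tab

set_option autoImplicit false
set_option Elab.async false
set_option maxRecDepth 100000
set_option linter.all false

namespace Cfsg.Agent.TcData.HN.I1539000

open Cfsg.Spor Cfsg.Agent.Lib.TcFacts Cfsg.Agent.Lib.TcBits Cfsg.Agent.Lib.TcPres Cfsg.Spor.HN Cfsg.Agent.TcData.HN

theorem b1061 : Block F al 271616 271872 241 :=
  block_of_check (k := 8) rfl (by decide +kernel)

theorem b1062 : Block F al 271872 272128 232 :=
  block_of_check (k := 8) rfl (by decide +kernel)

theorem b1063 : Block F al 272128 272384 249 :=
  block_of_check (k := 8) rfl (by decide +kernel)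

theorem b1064 : Block F al 272384 272640 239 :=
  block_of_check (k := 8) rfl (by decide +kernel)

theorem b1065 : Block F al 272640 272896 244 :=
  block_of_check (k := 8) rfl (by decide +kernel)

theorem b1066 : Block F al 272896 273152 248 :=
  block_of_check (k := 8) rfl (by decide +kernel)

theorem b1067 : Block F al 273152 273408 227 :=
  block_of_check (k := 8) rfl (by decide +kernel)

theorem b1068 : Block F al 273408 273664 231 :=
  block_of_check (k := 8) rfl (by decide +kernel)

theorem b1069 : Block F al 273664 273920 227 :=
  block_of_check (k := 8) rfl (by decide +kernel)

theorem b1070 : Block F al 273920 274176 237 :=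
  block_of_check (k := 8) rfl (by decide +kernel)

theorem b1071 : Block F al 274176 274432 231 :=
  block_of_check (k := 8) rfl (by decide +kernel)

theorem b1072 : Block F al 274432 274688 236 :=
  block_of_check (k := 8) rfl (by decide +kernel)

theorem b1073 : Block F al 274688 274944 240 :=
  block_of_check (k := 8) rfl (by decide +kernel)

theorem b1074 : Block F al 274944 275200 238 :=
  block_of_check (k := 8) rfl (by decide +kernel)

theorem b1075 : Block F al 275200 275456 246 :=
  block_of_check (k := 8) rfl (by decide +kernel)

theorem b1076 : Block F al 275456 275712 237 :=
  block_of_check (k := 8) rfl (by decide +kernel)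

theorem b1077 : Block F al 275712 275968 224 :=
  block_of_check (k := 8) rfl (by decide +kernel)

theorem b1078 : Block F al 275968 276224 224 :=
  block_of_check (k := 8) rfl (by decide +kernel)

theorem b1079 : Block F al 276224 276480 243 :=
  block_of_check (k := 8) rfl (by decide +kernel)

theorem b1080 : Block F al 276480 276736 250 :=
  block_of_check (k := 8) rfl (by decide +kernel)

theorem b1081 : Block F al 276736 276992 232 :=
  block_of_check (k := 8) rfl (by decide +kernel)

theorem b1082 : Block F al 276992 277248 237 :=
  block_of_check (k := 8) rfl (by decide +kernel)

theorem b1083 : Block F al 277248 277504 253 :=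
  block_of_check (k := 8) rfl (by decide +kernel)

theorem b1084 : Block F al 277504 277760 254 :=
  block_of_check (k := 8) rfl (by decide +kernel)

theorem b1085 : Block F al 277760 278016 250 :=
  block_of_check (k := 8) rfl (by decide +kernel)

theorem b1086 : Block F al 278016 278272 231 :=
  block_of_check (k := 8) rfl (by decide +kernel)

theorem b1087 : Block F al 278272 278528 247 :=
  block_of_check (k := 8) rfl (by decide +kernel)

theorem b1088 : Block F al 278528 278784 247 :=
  block_of_check (k := 8) rfl (by decide +kernel)

theorem b1089 : Block F al 278784 279040 245 :=
  block_of_check (k := 8) rfl (by decide +kernel)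

theorem b1090 : Block F al 279040 279296 238 :=
  block_of_check (k := 8) rfl (by decide +kernel)

theorem b1091 : Block F al 279296 279552 240 :=
  block_of_check (k := 8) rfl (by decide +kernel)

theorem b1092 : Block F al 279552 279808 248 :=
  block_of_check (k := 8) rfl (by decide +kernel)

theorem b1093 : Block F al 279808 280064 242 :=
  block_of_check (k := 8) rfl (by decide +kernel)

theorem b1094 : Block F al 280064 280320 246 :=
  block_of_check (k := 8) rfl (by decide +kernel)

theorem b1095 : Block F al 280320 280576 244 :=
  block_of_check (k := 8) rfl (by decide +kernel)

theorem b1096 : Block F al 280576 280832 245 :=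
  block_of_check (k := 8) rfl (by decide +kernel)

theorem b1097 : Block F al 280832 281088 242 :=
  block_of_check (k := 8) rfl (by decide +kernel)

theorem b1098 : Block F al 281088 281344 253 :=
  block_of_check (k := 8) rfl (by decide +kernel)

theorem b1099 : Block F al 281344 281600 254 :=
  block_of_check (k := 8) rfl (by decide +kernel)

theorem b1100 : Block F al 281600 281856 248 :=
  block_of_check (k := 8) rfl (by decide +kernel)

theorem b1101 : Block F al 281856 282112 243 :=
  block_of_check (k := 8) rfl (by decide +kernel)

theorem b1102 : Block F al 282112 282368 249 :=
  block_of_check (k := 8) rfl (by decide +kernel)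

theorem b1103 : Block F al 282368 282624 229 :=
  block_of_check (k := 8) rfl (by decide +kernel)

theorem b1104 : Block F al 282624 282880 243 :=
  block_of_check (k := 8) rfl (by decide +kernel)

theorem b1105 : Block F al 282880 283136 225 :=
  block_of_check (k := 8) rfl (by decide +kernel)

theorem b1106 : Block F al 283136 283392 227 :=
  block_of_check (k := 8) rfl (by decide +kernel)

end Cfsg.Agent.TcData.HN.I1539000
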