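import Mathlib
import Cfsg.Agent.TcData.HN.I1539000.Tab

set_option autoImplicit false
set_option Elab.async false
set_option maxRecDepth 100000
set_option linter.all false

namespace Cfsg.Agent.TcData.HN.I1539000

open Cfsg.Spor Cfsg.Agent.Lib.TcFacts Cfsg.Agent.Lib.TcBits Cfsg.Agent.Lib.TcPres Cfsg.Spor.HN Cfsg.Agent.TcData.HN

theorem b1107 : Block F al 283392 283648 248 :=
  block_of_check (k := 8) rfl (by decide +kernel)

theorem b1108 : Block F al 283648 283904 247 :=
  block_of_check (k := 8) rfl (by decide +kernel)

theorem b1109 : Block F al 283904 284160 247 :=
  block_of_check (k := 8) rfl (by decide +kernel)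

theorem b1110 : Block F al 284160 284416 246 :=
  block_of_check (k := 8) rfl (by decide +kernel)

theorem b1111 : Block F al 284416 284672 230 :=
  block_of_check (k := 8) rfl (by decide +kernel)

theorem b1112 : Block F al 284672 284928 231 :=
  block_of_check (k := 8) rfl (by decide +kernel)

theorem b1113 : Block F al 284928 285184 242 :=
  block_of_check (k := 8) rfl (by decide +kernel)

theorem b1114 : Block F al 285184 285440 251 :=
  block_of_check (k := 8) rfl (by decide +kernel)

theorem b1115 : Block F al 285440 285696 238 :=
  block_of_check (k := 8) rfl (by decide +kernel)

theorem b1116 : Block F al 285696 285952 243 :=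
  block_of_check (k := 8) rfl (by decide +kernel)

theorem b1117 : Block F al 285952 286208 247 :=
  block_of_check (k := 8) rfl (by decide +kernel)

theorem b1118 : Block F al 286208 286464 254 :=
  block_of_check (k := 8) rfl (by decide +kernel)

theorem b1119 : Block F al 286464 286720 255 :=
  block_of_check (k := 8) rfl (by decide +kernel)

theorem b1120 : Block F al 286720 286976 248 :=
  block_of_check (k := 8) rfl (by decide +kernel)

theorem b1121 : Block F al 286976 287232 248 :=
  block_of_check (k := 8) rfl (by decide +kernel)

theorem b1122 : Block F al 287232 287488 252 :=
  block_of_check (k := 8) rfl (by decide +kernel)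

theorem b1123 : Block F al 287488 287744 251 :=
  block_of_check (k := 8) rfl (by decide +kernel)

theorem b1124 : Block F al 287744 288000 256 :=
  block_of_check (k := 8) rfl (by decide +kernel)

theorem b1125 : Block F al 288000 288256 247 :=
  block_of_check (k := 8) rfl (by decide +kernel)

theorem b1126 : Block F al 288256 288512 241 :=
  block_of_check (k := 8) rfl (by decide +kernel)

theorem b1127 : Block F al 288512 288768 253 :=
  block_of_check (k := 8) rfl (by decide +kernel)

theorem b1128 : Block F al 288768 289024 256 :=
  block_of_check (k := 8) rfl (by decide +kernel)

theorem b1129 : Block F al 289024 289280 243 :=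
  block_of_check (k := 8) rfl (by decide +kernel)

theorem b1130 : Block F al 289280 289536 250 :=
  block_of_check (k := 8) rfl (by decide +kernel)

theorem b1131 : Block F al 289536 289792 248 :=
  block_of_check (k := 8) rfl (by decide +kernel)

theorem b1132 : Block F al 289792 290048 252 :=
  block_of_check (k := 8) rfl (by decide +kernel)

theorem b1133 : Block F al 290048 290304 240 :=
  block_of_check (k := 8) rfl (by decide +kernel)

theorem b1134 : Block F al 290304 290560 252 :=
  block_of_check (k := 8) rfl (by decide +kernel)

theorem b1135 : Block F al 290560 290816 252 :=
  block_of_check (k := 8) rfl (by decide +kernel)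

theorem b1136 : Block F al 290816 291072 232 :=
  block_of_check (k := 8) rfl (by decide +kernel)

theorem b1137 : Block F al 291072 291328 241 :=
  block_of_check (k := 8) rfl (by decide +kernel)

theorem b1138 : Block F al 291328 291584 247 :=
  block_of_check (k := 8) rfl (by decide +kernel)

theorem b1139 : Block F al 291584 291840 245 :=
  block_of_check (k := 8) rfl (by decide +kernel)

theorem b1140 : Block F al 291840 292096 244 :=
  block_of_check (k := 8) rfl (by decide +kernel)

theorem b1141 : Block F al 292096 292352 245 :=
  block_of_check (k := 8) rfl (by decide +kernel)

theorem b1142 : Block F al 292352 292608 246 :=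
  block_of_check (k := 8) rfl (by decide +kernel)

theorem b1143 : Block F al 292608 292864 251 :=
  block_of_check (k := 8) rfl (by decide +kernel)

theorem b1144 : Block F al 292864 293120 252 :=
  block_of_check (k := 8) rfl (by decide +kernel)

theorem b1145 : Block F al 293120 293376 242 :=
  block_of_check (k := 8) rfl (by decide +kernel)

theorem b1146 : Block F al 293376 293632 255 :=
  block_of_check (k := 8) rfl (by decide +kernel)

theorem b1147 : Block F al 293632 293888 245 :=
  block_of_check (k := 8) rfl (by decide +kernel)

theorem b1148 : Block F al 293888 294144 236 :=
  block_of_check (k := 8) rfl (by decide +kernel)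

theorem b1149 : Block F al 294144 294400 225 :=
  block_of_check (k := 8) rfl (by decide +kernel)

theorem b1150 : Block F al 294400 294656 247 :=
  block_of_check (k := 8) rfl (by decide +kernel)

theorem b1151 : Block F al 294656 294912 243 :=
  block_of_check (k := 8) rfl (by decide +kernel)

theorem b1152 : Block F al 294912 295168 239 :=
  block_of_check (k := 8) rfl (by decide +kernel)

theorem b1153 : Block F al 295168 295424 224 :=
  block_of_check (k := 8) rfl (by decide +kernel)

end Cfsg.Agent.TcData.HN.I1539000
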