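import Mathlib
import Cfsg.Agent.TcData.HN.I1539000.Tab

set_option autoImplicit false
set_option Elab.async false
set_option maxRecDepth 100000
set_option linter.all false

namespace Cfsg.Agent.TcData.HN.I1539000

open Cfsg.Spor Cfsg.Agent.Lib.TcFacts Cfsg.Agent.Lib.TcBits Cfsg.Agent.Lib.TcPres Cfsg.Spor.HN Cfsg.Agent.TcData.HN

theorem b1200 : Block F al 307200 307456 248 :=
  block_of_check (k := 8) rfl (by decide +kernel)

theorem b1201 : Block F al 307456 307712 245 :=
  block_of_check (k := 8) rfl (by decide +kernel)

theorem b1202 : Block F al 307712 307968 247 :=
  block_of_check (k := 8) rfl (by decide +kernel)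

theorem b1203 : Block F al 307968 308224 241 :=
  block_of_check (k := 8) rfl (by decide +kernel)

theorem b1204 : Block F al 308224 308480 232 :=
  block_of_check (k := 8) rfl (by decide +kernel)

theorem b1205 : Block F al 308480 308736 241 :=
  block_of_check (k := 8) rfl (by decide +kernel)

theorem b1206 : Block F al 308736 308992 236 :=
  block_of_check (k := 8) rfl (by decide +kernel)

theorem b1207 : Block F al 308992 309248 229 :=
  block_of_check (k := 8) rfl (by decide +kernel)

theorem b1208 : Block F al 309248 309504 240 :=
  block_of_check (k := 8) rfl (by decide +kernel)

theorem b1209 : Block F al 309504 309760 227 :=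
  block_of_check (k := 8) rfl (by decide +kernel)

theorem b1210 : Block F al 309760 310016 238 :=
  block_of_check (k := 8) rfl (by decide +kernel)

theorem b1211 : Block F al 310016 310272 249 :=
  block_of_check (k := 8) rfl (by decide +kernel)

theorem b1212 : Block F al 310272 310528 242 :=
  block_of_check (k := 8) rfl (by decide +kernel)

theorem b1213 : Block F al 310528 310784 249 :=
  block_of_check (k := 8) rfl (by decide +kernel)

theorem b1214 : Block F al 310784 311040 244 :=
  block_of_check (k := 8) rfl (by decide +kernel)

theorem b1215 : Block F al 311040 311296 250 :=
  block_of_check (k := 8) rfl (by decide +kernel)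

theorem b1216 : Block F al 311296 311552 245 :=
  block_of_check (k := 8) rfl (by decide +kernel)

theorem b1217 : Block F al 311552 311808 243 :=
  block_of_check (k := 8) rfl (by decide +kernel)

theorem b1218 : Block F al 311808 312064 248 :=
  block_of_check (k := 8) rfl (by decide +kernel)

theorem b1219 : Block F al 312064 312320 242 :=
  block_of_check (k := 8) rfl (by decide +kernel)

theorem b1220 : Block F al 312320 312576 245 :=
  block_of_check (k := 8) rfl (by decide +kernel)

theorem b1221 : Block F al 312576 312832 238 :=
  block_of_check (k := 8) rfl (by decide +kernel)

theorem b1222 : Block F al 312832 313088 240 :=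
  block_of_check (k := 8) rfl (by decide +kernel)

theorem b1223 : Block F al 313088 313344 238 :=
  block_of_check (k := 8) rfl (by decide +kernel)

theorem b1224 : Block F al 313344 313600 250 :=
  block_of_check (k := 8) rfl (by decide +kernel)

theorem b1225 : Block F al 313600 313856 239 :=
  block_of_check (k := 8) rfl (by decide +kernel)

theorem b1226 : Block F al 313856 314112 216 :=
  block_of_check (k := 8) rfl (by decide +kernel)

theorem b1227 : Block F al 314112 314368 211 :=
  block_of_check (k := 8) rfl (by decide +kernel)

theorem b1228 : Block F al 314368 314624 235 :=
  block_of_check (k := 8) rfl (by decide +kernel)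

theorem b1229 : Block F al 314624 314880 229 :=
  block_of_check (k := 8) rfl (by decide +kernel)

theorem b1230 : Block F al 314880 315136 251 :=
  block_of_check (k := 8) rfl (by decide +kernel)

theorem b1231 : Block F al 315136 315392 240 :=
  block_of_check (k := 8) rfl (by decide +kernel)

theorem b1232 : Block F al 315392 315648 240 :=
  block_of_check (k := 8) rfl (by decide +kernel)

theorem b1233 : Block F al 315648 315904 231 :=
  block_of_check (k := 8) rfl (by decide +kernel)

theorem b1234 : Block F al 315904 316160 241 :=
  block_of_check (k := 8) rfl (by decide +kernel)

theorem b1235 : Block F al 316160 316416 219 :=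
  block_of_check (k := 8) rfl (by decide +kernel)

theorem b1236 : Block F al 316416 316672 245 :=
  block_of_check (k := 8) rfl (by decide +kernel)

theorem b1237 : Block F al 316672 316928 253 :=
  block_of_check (k := 8) rfl (by decide +kernel)

theorem b1238 : Block F al 316928 317184 222 :=
  block_of_check (k := 8) rfl (by decide +kernel)

theorem b1239 : Block F al 317184 317440 235 :=
  block_of_check (k := 8) rfl (by decide +kernel)

theorem b1240 : Block F al 317440 317696 230 :=
  block_of_check (k := 8) rfl (by decide +kernel)

theorem b1241 : Block F al 317696 317952 236 :=
  block_of_check (k := 8) rfl (by decide +kernel)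

theorem b1242 : Block F al 317952 318208 230 :=
  block_of_check (k := 8) rfl (by decide +kernel)

theorem b1243 : Block F al 318208 318464 200 :=
  block_of_check (k := 8) rfl (by decide +kernel)

theorem b1244 : Block F al 318464 318720 245 :=
  block_of_check (k := 8) rfl (by decide +kernel)

theorem b1245 : Block F al 318720 318976 250 :=
  block_of_check (k := 8) rfl (by decide +kernel)

theorem b1246 : Block F al 318976 319232 249 :=
  block_of_check (k := 8) rfl (by decide +kernel)

end Cfsg.Agent.TcData.HN.I1539000
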