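import Mathlib
import Cfsg.Agent.TcData.HN.I1539000.Tab

set_option autoImplicit false
set_option Elab.async false
set_option maxRecDepth 100000
set_option linter.all false

namespace Cfsg.Agent.TcData.HN.I1539000

open Cfsg.Spor Cfsg.Agent.Lib.TcFacts Cfsg.Agent.Lib.TcBits Cfsg.Agent.Lib.TcPres Cfsg.Spor.HN Cfsg.Agent.TcData.HN

theorem b1247 : Block F al 319232 319488 250 :=
  block_of_check (k := 8) rfl (by decide +kernel)

theorem b1248 : Block F al 319488 319744 249 :=
  block_of_check (k := 8) rfl (by decide +kernel)

theorem b1249 : Block F al 319744 320000 250 :=
  block_of_check (k := 8) rfl (by decide +kernel)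

theorem b1250 : Block F al 320000 320256 254 :=
  block_of_check (k := 8) rfl (by decide +kernel)

theorem b1251 : Block F al 320256 320512 251 :=
  block_of_check (k := 8) rfl (by decide +kernel)

theorem b1252 : Block F al 320512 320768 248 :=
  block_of_check (k := 8) rfl (by decide +kernel)

theorem b1253 : Block F al 320768 321024 245 :=
  block_of_check (k := 8) rfl (by decide +kernel)

theorem b1254 : Block F al 321024 321280 226 :=
  block_of_check (k := 8) rfl (by decide +kernel)

theorem b1255 : Block F al 321280 321536 252 :=
  block_of_check (k := 8) rfl (by decide +kernel)

theorem b1256 : Block F al 321536 321792 238 :=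
  block_of_check (k := 8) rfl (by decide +kernel)

theorem b1257 : Block F al 321792 322048 240 :=
  block_of_check (k := 8) rfl (by decide +kernel)

theorem b1258 : Block F al 322048 322304 252 :=
  block_of_check (k := 8) rfl (by decide +kernel)

theorem b1259 : Block F al 322304 322560 248 :=
  block_of_check (k := 8) rfl (by decide +kernel)

theorem b1260 : Block F al 322560 322816 252 :=
  block_of_check (k := 8) rfl (by decide +kernel)

theorem b1261 : Block F al 322816 323072 253 :=
  block_of_check (k := 8) rfl (by decide +kernel)

theorem b1262 : Block F al 323072 323328 250 :=
  block_of_check (k := 8) rfl (by decide +kernel)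

theorem b1263 : Block F al 323328 323584 237 :=
  block_of_check (k := 8) rfl (by decide +kernel)

theorem b1264 : Block F al 323584 323840 229 :=
  block_of_check (k := 8) rfl (by decide +kernel)

theorem b1265 : Block F al 323840 324096 254 :=
  block_of_check (k := 8) rfl (by decide +kernel)

theorem b1266 : Block F al 324096 324352 242 :=
  block_of_check (k := 8) rfl (by decide +kernel)

theorem b1267 : Block F al 324352 324608 245 :=
  block_of_check (k := 8) rfl (by decide +kernel)

theorem b1268 : Block F al 324608 324864 226 :=
  block_of_check (k := 8) rfl (by decide +kernel)

theorem b1269 : Block F al 324864 325120 249 :=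
  block_of_check (k := 8) rfl (by decide +kernel)

theorem b1270 : Block F al 325120 325376 253 :=
  block_of_check (k := 8) rfl (by decide +kernel)

theorem b1271 : Block F al 325376 325632 249 :=
  block_of_check (k := 8) rfl (by decide +kernel)

theorem b1272 : Block F al 325632 325888 250 :=
  block_of_check (k := 8) rfl (by decide +kernel)

theorem b1273 : Block F al 325888 326144 229 :=
  block_of_check (k := 8) rfl (by decide +kernel)

theorem b1274 : Block F al 326144 326400 233 :=
  block_of_check (k := 8) rfl (by decide +kernel)

theorem b1275 : Block F al 326400 326656 251 :=
  block_of_check (k := 8) rfl (by decide +kernel)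

theorem b1276 : Block F al 326656 326912 248 :=
  block_of_check (k := 8) rfl (by decide +kernel)

theorem b1277 : Block F al 326912 327168 252 :=
  block_of_check (k := 8) rfl (by decide +kernel)

theorem b1278 : Block F al 327168 327424 247 :=
  block_of_check (k := 8) rfl (by decide +kernel)

theorem b1279 : Block F al 327424 327680 234 :=
  block_of_check (k := 8) rfl (by decide +kernel)

theorem b1280 : Block F al 327680 327936 242 :=
  block_of_check (k := 8) rfl (by decide +kernel)

theorem b1281 : Block F al 327936 328192 249 :=
  block_of_check (k := 8) rfl (by decide +kernel)

theorem b1282 : Block F al 328192 328448 247 :=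
  block_of_check (k := 8) rfl (by decide +kernel)

theorem b1283 : Block F al 328448 328704 235 :=
  block_of_check (k := 8) rfl (by decide +kernel)

theorem b1284 : Block F al 328704 328960 224 :=
  block_of_check (k := 8) rfl (by decide +kernel)

theorem b1285 : Block F al 328960 329216 248 :=
  block_of_check (k := 8) rfl (by decide +kernel)

theorem b1286 : Block F al 329216 329472 247 :=
  block_of_check (k := 8) rfl (by decide +kernel)

theorem b1287 : Block F al 329472 329728 243 :=
  block_of_check (k := 8) rfl (by decide +kernel)

theorem b1288 : Block F al 329728 329984 252 :=
  block_of_check (k := 8) rfl (by decide +kernel)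

theorem b1289 : Block F al 329984 330240 253 :=
  block_of_check (k := 8) rfl (by decide +kernel)

theorem b1290 : Block F al 330240 330496 243 :=
  block_of_check (k := 8) rfl (by decide +kernel)

theorem b1291 : Block F al 330496 330752 232 :=
  block_of_check (k := 8) rfl (by decide +kernel)

theorem b1292 : Block F al 330752 331008 239 :=
  block_of_check (k := 8) rfl (by decide +kernel)

end Cfsg.Agent.TcData.HN.I1539000
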