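import Mathlib
import Cfsg.Agent.TcData.HN.I1539000.Tab

set_option autoImplicit false
set_option Elab.async false
set_option maxRecDepth 100000
set_option linter.all false

namespace Cfsg.Agent.TcData.HN.I1539000

open Cfsg.Spor Cfsg.Agent.Lib.TcFacts Cfsg.Agent.Lib.TcBits Cfsg.Agent.Lib.TcPres Cfsg.Spor.HN Cfsg.Agent.TcData.HN

theorem b1293 : Block F al 331008 331264 245 :=
  block_of_check (k := 8) rfl (by decide +kernel)

theorem b1294 : Block F al 331264 331520 252 :=
  block_of_check (k := 8) rfl (by decide +kernel)

theorem b1295 : Block F al 331520 331776 244 :=
  block_of_check (k := 8) rfl (by decide +kernel)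

theorem b1296 : Block F al 331776 332032 226 :=
  block_of_check (k := 8) rfl (by decide +kernel)

theorem b1297 : Block F al 332032 332288 244 :=
  block_of_check (k := 8) rfl (by decide +kernel)

theorem b1298 : Block F al 332288 332544 242 :=
  block_of_check (k := 8) rfl (by decide +kernel)

theorem b1299 : Block F al 332544 332800 243 :=
  block_of_check (k := 8) rfl (by decide +kernel)

theorem b1300 : Block F al 332800 333056 248 :=
  block_of_check (k := 8) rfl (by decide +kernel)

theorem b1301 : Block F al 333056 333312 251 :=
  block_of_check (k := 8) rfl (by decide +kernel)

theorem b1302 : Block F al 333312 333568 249 :=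
  block_of_check (k := 8) rfl (by decide +kernel)

theorem b1303 : Block F al 333568 333824 245 :=
  block_of_check (k := 8) rfl (by decide +kernel)

theorem b1304 : Block F al 333824 334080 247 :=
  block_of_check (k := 8) rfl (by decide +kernel)

theorem b1305 : Block F al 334080 334336 239 :=
  block_of_check (k := 8) rfl (by decide +kernel)

theorem b1306 : Block F al 334336 334592 246 :=
  block_of_check (k := 8) rfl (by decide +kernel)

theorem b1307 : Block F al 334592 334848 226 :=
  block_of_check (k := 8) rfl (by decide +kernel)

theorem b1308 : Block F al 334848 335104 247 :=
  block_of_check (k := 8) rfl (by decide +kernel)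

theorem b1309 : Block F al 335104 335360 246 :=
  block_of_check (k := 8) rfl (by decide +kernel)

theorem b1310 : Block F al 335360 335616 227 :=
  block_of_check (k := 8) rfl (by decide +kernel)

theorem b1311 : Block F al 335616 335872 228 :=
  block_of_check (k := 8) rfl (by decide +kernel)

theorem b1312 : Block F al 335872 336128 252 :=
  block_of_check (k := 8) rfl (by decide +kernel)

theorem b1313 : Block F al 336128 336384 251 :=
  block_of_check (k := 8) rfl (by decide +kernel)

theorem b1314 : Block F al 336384 336640 229 :=
  block_of_check (k := 8) rfl (by decide +kernel)

theorem b1315 : Block F al 336640 336896 241 :=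
  block_of_check (k := 8) rfl (by decide +kernel)

theorem b1316 : Block F al 336896 337152 242 :=
  block_of_check (k := 8) rfl (by decide +kernel)

theorem b1317 : Block F al 337152 337408 232 :=
  block_of_check (k := 8) rfl (by decide +kernel)

theorem b1318 : Block F al 337408 337664 226 :=
  block_of_check (k := 8) rfl (by decide +kernel)

theorem b1319 : Block F al 337664 337920 236 :=
  block_of_check (k := 8) rfl (by decide +kernel)

theorem b1320 : Block F al 337920 338176 246 :=
  block_of_check (k := 8) rfl (by decide +kernel)

theorem b1321 : Block F al 338176 338432 252 :=
  block_of_check (k := 8) rfl (by decide +kernel)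

theorem b1322 : Block F al 338432 338688 255 :=
  block_of_check (k := 8) rfl (by decide +kernel)

theorem b1323 : Block F al 338688 338944 251 :=
  block_of_check (k := 8) rfl (by decide +kernel)

theorem b1324 : Block F al 338944 339200 243 :=
  block_of_check (k := 8) rfl (by decide +kernel)

theorem b1325 : Block F al 339200 339456 238 :=
  block_of_check (k := 8) rfl (by decide +kernel)

theorem b1326 : Block F al 339456 339712 245 :=
  block_of_check (k := 8) rfl (by decide +kernel)

theorem b1327 : Block F al 339712 339968 231 :=
  block_of_check (k := 8) rfl (by decide +kernel)

theorem b1328 : Block F al 339968 340224 236 :=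
  block_of_check (k := 8) rfl (by decide +kernel)

theorem b1329 : Block F al 340224 340480 247 :=
  block_of_check (k := 8) rfl (by decide +kernel)

theorem b1330 : Block F al 340480 340736 239 :=
  block_of_check (k := 8) rfl (by decide +kernel)

theorem b1331 : Block F al 340736 340992 251 :=
  block_of_check (k := 8) rfl (by decide +kernel)

theorem b1332 : Block F al 340992 341248 248 :=
  block_of_check (k := 8) rfl (by decide +kernel)

theorem b1333 : Block F al 341248 341504 254 :=
  block_of_check (k := 8) rfl (by decide +kernel)

theorem b1334 : Block F al 341504 341760 250 :=
  block_of_check (k := 8) rfl (by decide +kernel)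

theorem b1335 : Block F al 341760 342016 235 :=
  block_of_check (k := 8) rfl (by decide +kernel)

theorem b1336 : Block F al 342016 342272 243 :=
  block_of_check (k := 8) rfl (by decide +kernel)

theorem b1337 : Block F al 342272 342528 247 :=
  block_of_check (k := 8) rfl (by decide +kernel)

theorem b1338 : Block F al 342528 342784 239 :=
  block_of_check (k := 8) rfl (by decide +kernel)

theorem b1339 : Block F al 342784 343040 249 :=
  block_of_check (k := 8) rfl (by decide +kernel)

theorem b1340 : Block F al 343040 343296 240 :=
  block_of_check (k := 8) rfl (by decide +kernel)

end Cfsg.Agent.TcData.HN.I1539000
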