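import Mathlib
import Cfsg.Agent.TcData.HN.I1539000.Tab

set_option autoImplicit false
set_option Elab.async false
set_option maxRecDepth 100000
set_option linter.all false

namespace Cfsg.Agent.TcData.HN.I1539000

open Cfsg.Spor Cfsg.Agent.Lib.TcFacts Cfsg.Agent.Lib.TcBits Cfsg.Agent.Lib.TcPres Cfsg.Spor.HN Cfsg.Agent.TcData.HN

theorem b1341 : Block F al 343296 343552 253 :=
  block_of_check (k := 8) rfl (by decide +kernel)

theorem b1342 : Block F al 343552 343808 250 :=
  block_of_check (k := 8) rfl (by decide +kernel)

theorem b1343 : Block F al 343808 344064 235 :=
  block_of_check (k := 8) rfl (by decide +kernel)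

theorem b1344 : Block F al 344064 344320 244 :=
  block_of_check (k := 8) rfl (by decide +kernel)

theorem b1345 : Block F al 344320 344576 248 :=
  block_of_check (k := 8) rfl (by decide +kernel)

theorem b1346 : Block F al 344576 344832 207 :=
  block_of_check (k := 8) rfl (by decide +kernel)

theorem b1347 : Block F al 344832 345088 251 :=
  block_of_check (k := 8) rfl (by decide +kernel)

theorem b1348 : Block F al 345088 345344 255 :=
  block_of_check (k := 8) rfl (by decide +kernel)

theorem b1349 : Block F al 345344 345600 253 :=
  block_of_check (k := 8) rfl (by decide +kernel)

theorem b1350 : Block F al 345600 345856 227 :=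
  block_of_check (k := 8) rfl (by decide +kernel)

theorem b1351 : Block F al 345856 346112 240 :=
  block_of_check (k := 8) rfl (by decide +kernel)

theorem b1352 : Block F al 346112 346368 198 :=
  block_of_check (k := 8) rfl (by decide +kernel)

theorem b1353 : Block F al 346368 346624 247 :=
  block_of_check (k := 8) rfl (by decide +kernel)

theorem b1354 : Block F al 346624 346880 221 :=
  block_of_check (k := 8) rfl (by decide +kernel)

theorem b1355 : Block F al 346880 347136 253 :=
  block_of_check (k := 8) rfl (by decide +kernel)

theorem b1356 : Block F al 347136 347392 232 :=
  block_of_check (k := 8) rfl (by decide +kernel)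

theorem b1357 : Block F al 347392 347648 251 :=
  block_of_check (k := 8) rfl (by decide +kernel)

theorem b1358 : Block F al 347648 347904 236 :=
  block_of_check (k := 8) rfl (by decide +kernel)

theorem b1359 : Block F al 347904 348160 236 :=
  block_of_check (k := 8) rfl (by decide +kernel)

theorem b1360 : Block F al 348160 348416 236 :=
  block_of_check (k := 8) rfl (by decide +kernel)

theorem b1361 : Block F al 348416 348672 231 :=
  block_of_check (k := 8) rfl (by decide +kernel)

theorem b1362 : Block F al 348672 348928 253 :=
  block_of_check (k := 8) rfl (by decide +kernel)

theorem b1363 : Block F al 348928 349184 242 :=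
  block_of_check (k := 8) rfl (by decide +kernel)

theorem b1364 : Block F al 349184 349440 229 :=
  block_of_check (k := 8) rfl (by decide +kernel)

theorem b1365 : Block F al 349440 349696 243 :=
  block_of_check (k := 8) rfl (by decide +kernel)

theorem b1366 : Block F al 349696 349952 239 :=
  block_of_check (k := 8) rfl (by decide +kernel)

theorem b1367 : Block F al 349952 350208 247 :=
  block_of_check (k := 8) rfl (by decide +kernel)

theorem b1368 : Block F al 350208 350464 252 :=
  block_of_check (k := 8) rfl (by decide +kernel)

theorem b1369 : Block F al 350464 350720 242 :=
  block_of_check (k := 8) rfl (by decide +kernel)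

theorem b1370 : Block F al 350720 350976 235 :=
  block_of_check (k := 8) rfl (by decide +kernel)

theorem b1371 : Block F al 350976 351232 244 :=
  block_of_check (k := 8) rfl (by decide +kernel)

theorem b1372 : Block F al 351232 351488 248 :=
  block_of_check (k := 8) rfl (by decide +kernel)

theorem b1373 : Block F al 351488 351744 250 :=
  block_of_check (k := 8) rfl (by decide +kernel)

theorem b1374 : Block F al 351744 352000 250 :=
  block_of_check (k := 8) rfl (by decide +kernel)

theorem b1375 : Block F al 352000 352256 248 :=
  block_of_check (k := 8) rfl (by decide +kernel)

theorem b1376 : Block F al 352256 352512 243 :=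
  block_of_check (k := 8) rfl (by decide +kernel)

theorem b1377 : Block F al 352512 352768 251 :=
  block_of_check (k := 8) rfl (by decide +kernel)

theorem b1378 : Block F al 352768 353024 241 :=
  block_of_check (k := 8) rfl (by decide +kernel)

theorem b1379 : Block F al 353024 353280 224 :=
  block_of_check (k := 8) rfl (by decide +kernel)

theorem b1380 : Block F al 353280 353536 239 :=
  block_of_check (k := 8) rfl (by decide +kernel)

theorem b1381 : Block F al 353536 353792 239 :=
  block_of_check (k := 8) rfl (by decide +kernel)

theorem b1382 : Block F al 353792 354048 241 :=
  block_of_check (k := 8) rfl (by decide +kernel)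

theorem b1383 : Block F al 354048 354304 248 :=
  block_of_check (k := 8) rfl (by decide +kernel)

theorem b1384 : Block F al 354304 354560 242 :=
  block_of_check (k := 8) rfl (by decide +kernel)

theorem b1385 : Block F al 354560 354816 248 :=
  block_of_check (k := 8) rfl (by decide +kernel)

end Cfsg.Agent.TcData.HN.I1539000
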