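import Mathlib
import Cfsg.Agent.TcData.HN.I1539000.Tab

set_option autoImplicit false
set_option Elab.async false
set_option maxRecDepth 100000
set_option linter.all false

namespace Cfsg.Agent.TcData.HN.I1539000

open Cfsg.Spor Cfsg.Agent.Lib.TcFacts Cfsg.Agent.Lib.TcBits Cfsg.Agent.Lib.TcPres Cfsg.Spor.HN Cfsg.Agent.TcData.HN

theorem b1386 : Block F al 354816 355072 254 :=
  block_of_check (k := 8) rfl (by decide +kernel)

theorem b1387 : Block F al 355072 355328 249 :=
  block_of_check (k := 8) rfl (by decide +kernel)

theorem b1388 : Block F al 355328 355584 247 :=
  block_of_check (k := 8) rfl (by decide +kernel)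

theorem b1389 : Block F al 355584 355840 248 :=
  block_of_check (k := 8) rfl (by decide +kernel)

theorem b1390 : Block F al 355840 356096 255 :=
  block_of_check (k := 8) rfl (by decide +kernel)

theorem b1391 : Block F al 356096 356352 250 :=
  block_of_check (k := 8) rfl (by decide +kernel)

theorem b1392 : Block F al 356352 356608 249 :=
  block_of_check (k := 8) rfl (by decide +kernel)

theorem b1393 : Block F al 356608 356864 253 :=
  block_of_check (k := 8) rfl (by decide +kernel)

theorem b1394 : Block F al 356864 357120 250 :=
  block_of_check (k := 8) rfl (by decide +kernel)

theorem b1395 : Block F al 357120 357376 249 :=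
  block_of_check (k := 8) rfl (by decide +kernel)

theorem b1396 : Block F al 357376 357632 248 :=
  block_of_check (k := 8) rfl (by decide +kernel)

theorem b1397 : Block F al 357632 357888 251 :=
  block_of_check (k := 8) rfl (by decide +kernel)

theorem b1398 : Block F al 357888 358144 246 :=
  block_of_check (k := 8) rfl (by decide +kernel)

theorem b1399 : Block F al 358144 358400 249 :=
  block_of_check (k := 8) rfl (by decide +kernel)

theorem b1400 : Block F al 358400 358656 246 :=
  block_of_check (k := 8) rfl (by decide +kernel)

theorem b1401 : Block F al 358656 358912 239 :=
  block_of_check (k := 8) rfl (by decide +kernel)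

theorem b1402 : Block F al 358912 359168 221 :=
  block_of_check (k := 8) rfl (by decide +kernel)

theorem b1403 : Block F al 359168 359424 243 :=
  block_of_check (k := 8) rfl (by decide +kernel)

theorem b1404 : Block F al 359424 359680 242 :=
  block_of_check (k := 8) rfl (by decide +kernel)

theorem b1405 : Block F al 359680 359936 243 :=
  block_of_check (k := 8) rfl (by decide +kernel)

theorem b1406 : Block F al 359936 360192 242 :=
  block_of_check (k := 8) rfl (by decide +kernel)

theorem b1407 : Block F al 360192 360448 243 :=
  block_of_check (k := 8) rfl (by decide +kernel)

theorem b1408 : Block F al 360448 360704 247 :=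
  block_of_check (k := 8) rfl (by decide +kernel)

theorem b1409 : Block F al 360704 360960 213 :=
  block_of_check (k := 8) rfl (by decide +kernel)

theorem b1410 : Block F al 360960 361216 247 :=
  block_of_check (k := 8) rfl (by decide +kernel)

theorem b1411 : Block F al 361216 361472 250 :=
  block_of_check (k := 8) rfl (by decide +kernel)

theorem b1412 : Block F al 361472 361728 246 :=
  block_of_check (k := 8) rfl (by decide +kernel)

theorem b1413 : Block F al 361728 361984 251 :=
  block_of_check (k := 8) rfl (by decide +kernel)

theorem b1414 : Block F al 361984 362240 243 :=
  block_of_check (k := 8) rfl (by decide +kernel)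

theorem b1415 : Block F al 362240 362496 241 :=
  block_of_check (k := 8) rfl (by decide +kernel)

theorem b1416 : Block F al 362496 362752 245 :=
  block_of_check (k := 8) rfl (by decide +kernel)

theorem b1417 : Block F al 362752 363008 250 :=
  block_of_check (k := 8) rfl (by decide +kernel)

theorem b1418 : Block F al 363008 363264 251 :=
  block_of_check (k := 8) rfl (by decide +kernel)

theorem b1419 : Block F al 363264 363520 252 :=
  block_of_check (k := 8) rfl (by decide +kernel)

theorem b1420 : Block F al 363520 363776 244 :=
  block_of_check (k := 8) rfl (by decide +kernel)

theorem b1421 : Block F al 363776 364032 236 :=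
  block_of_check (k := 8) rfl (by decide +kernel)

theorem b1422 : Block F al 364032 364288 235 :=
  block_of_check (k := 8) rfl (by decide +kernel)

theorem b1423 : Block F al 364288 364544 252 :=
  block_of_check (k := 8) rfl (by decide +kernel)

theorem b1424 : Block F al 364544 364800 247 :=
  block_of_check (k := 8) rfl (by decide +kernel)

theorem b1425 : Block F al 364800 365056 247 :=
  block_of_check (k := 8) rfl (by decide +kernel)

theorem b1426 : Block F al 365056 365312 247 :=
  block_of_check (k := 8) rfl (by decide +kernel)

theorem b1427 : Block F al 365312 365568 239 :=
  block_of_check (k := 8) rfl (by decide +kernel)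

theorem b1428 : Block F al 365568 365824 249 :=
  block_of_check (k := 8) rfl (by decide +kernel)

theorem b1429 : Block F al 365824 366080 226 :=
  block_of_check (k := 8) rfl (by decide +kernel)

theorem b1430 : Block F al 366080 366336 234 :=
  block_of_check (k := 8) rfl (by decide +kernel)

end Cfsg.Agent.TcData.HN.I1539000
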