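import Mathlib
import Cfsg.Agent.TcData.HN.I1539000.Tab

set_option autoImplicit false
set_option Elab.async false
set_option maxRecDepth 100000
set_option linter.all false

namespace Cfsg.Agent.TcData.HN.I1539000

open Cfsg.Spor Cfsg.Agent.Lib.TcFacts Cfsg.Agent.Lib.TcBits Cfsg.Agent.Lib.TcPres Cfsg.Spor.HN Cfsg.Agent.TcData.HN

theorem b1431 : Block F al 366336 366592 250 :=
  block_of_check (k := 8) rfl (by decide +kernel)

theorem b1432 : Block F al 366592 366848 247 :=
  block_of_check (k := 8) rfl (by decide +kernel)

theorem b1433 : Block F al 366848 367104 236 :=
  block_of_check (k := 8) rfl (by decide +kernel)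

theorem b1434 : Block F al 367104 367360 232 :=
  block_of_check (k := 8) rfl (by decide +kernel)

theorem b1435 : Block F al 367360 367616 245 :=
  block_of_check (k := 8) rfl (by decide +kernel)

theorem b1436 : Block F al 367616 367872 227 :=
  block_of_check (k := 8) rfl (by decide +kernel)

theorem b1437 : Block F al 367872 368128 243 :=
  block_of_check (k := 8) rfl (by decide +kernel)

theorem b1438 : Block F al 368128 368384 226 :=
  block_of_check (k := 8) rfl (by decide +kernel)

theorem b1439 : Block F al 368384 368640 248 :=
  block_of_check (k := 8) rfl (by decide +kernel)

theorem b1440 : Block F al 368640 368896 238 :=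
  block_of_check (k := 8) rfl (by decide +kernel)

theorem b1441 : Block F al 368896 369152 245 :=
  block_of_check (k := 8) rfl (by decide +kernel)

theorem b1442 : Block F al 369152 369408 247 :=
  block_of_check (k := 8) rfl (by decide +kernel)

theorem b1443 : Block F al 369408 369664 243 :=
  block_of_check (k := 8) rfl (by decide +kernel)

theorem b1444 : Block F al 369664 369920 243 :=
  block_of_check (k := 8) rfl (by decide +kernel)

theorem b1445 : Block F al 369920 370176 241 :=
  block_of_check (k := 8) rfl (by decide +kernel)

theorem b1446 : Block F al 370176 370432 241 :=
  block_of_check (k := 8) rfl (by decide +kernel)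

theorem b1447 : Block F al 370432 370688 235 :=
  block_of_check (k := 8) rfl (by decide +kernel)

theorem b1448 : Block F al 370688 370944 249 :=
  block_of_check (k := 8) rfl (by decide +kernel)

theorem b1449 : Block F al 370944 371200 247 :=
  block_of_check (k := 8) rfl (by decide +kernel)

theorem b1450 : Block F al 371200 371456 251 :=
  block_of_check (k := 8) rfl (by decide +kernel)

theorem b1451 : Block F al 371456 371712 243 :=
  block_of_check (k := 8) rfl (by decide +kernel)

theorem b1452 : Block F al 371712 371968 240 :=
  block_of_check (k := 8) rfl (by decide +kernel)

theorem b1453 : Block F al 371968 372224 229 :=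
  block_of_check (k := 8) rfl (by decide +kernel)

theorem b1454 : Block F al 372224 372480 249 :=
  block_of_check (k := 8) rfl (by decide +kernel)

theorem b1455 : Block F al 372480 372736 236 :=
  block_of_check (k := 8) rfl (by decide +kernel)

theorem b1456 : Block F al 372736 372992 244 :=
  block_of_check (k := 8) rfl (by decide +kernel)

theorem b1457 : Block F al 372992 373248 237 :=
  block_of_check (k := 8) rfl (by decide +kernel)

theorem b1458 : Block F al 373248 373504 246 :=
  block_of_check (k := 8) rfl (by decide +kernel)

theorem b1459 : Block F al 373504 373760 234 :=
  block_of_check (k := 8) rfl (by decide +kernel)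

theorem b1460 : Block F al 373760 374016 228 :=
  block_of_check (k := 8) rfl (by decide +kernel)

theorem b1461 : Block F al 374016 374272 233 :=
  block_of_check (k := 8) rfl (by decide +kernel)

theorem b1462 : Block F al 374272 374528 218 :=
  block_of_check (k := 8) rfl (by decide +kernel)

theorem b1463 : Block F al 374528 374784 233 :=
  block_of_check (k := 8) rfl (by decide +kernel)

theorem b1464 : Block F al 374784 375040 235 :=
  block_of_check (k := 8) rfl (by decide +kernel)

theorem b1465 : Block F al 375040 375296 237 :=
  block_of_check (k := 8) rfl (by decide +kernel)

theorem b1466 : Block F al 375296 375552 233 :=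
  block_of_check (k := 8) rfl (by decide +kernel)

theorem b1467 : Block F al 375552 375808 242 :=
  block_of_check (k := 8) rfl (by decide +kernel)

theorem b1468 : Block F al 375808 376064 241 :=
  block_of_check (k := 8) rfl (by decide +kernel)

theorem b1469 : Block F al 376064 376320 233 :=
  block_of_check (k := 8) rfl (by decide +kernel)

theorem b1470 : Block F al 376320 376576 245 :=
  block_of_check (k := 8) rfl (by decide +kernel)

theorem b1471 : Block F al 376576 376832 243 :=
  block_of_check (k := 8) rfl (by decide +kernel)

theorem b1472 : Block F al 376832 377088 239 :=
  block_of_check (k := 8) rfl (by decide +kernel)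

theorem b1473 : Block F al 377088 377344 234 :=
  block_of_check (k := 8) rfl (by decide +kernel)

theorem b1474 : Block F al 377344 377600 233 :=
  block_of_check (k := 8) rfl (by decide +kernel)

theorem b1475 : Block F al 377600 377856 247 :=
  block_of_check (k := 8) rfl (by decide +kernel)

end Cfsg.Agent.TcData.HN.I1539000
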