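import Mathlib
import Cfsg.Agent.TcData.HN.I1539000.Tab

set_option autoImplicit false
set_option Elab.async false
set_option maxRecDepth 100000
set_option linter.all false

namespace Cfsg.Agent.TcData.HN.I1539000

open Cfsg.Spor Cfsg.Agent.Lib.TcFacts Cfsg.Agent.Lib.TcBits Cfsg.Agent.Lib.TcPres Cfsg.Spor.HN Cfsg.Agent.TcData.HN

theorem b164 : Block F al 41984 42240 224 :=
  block_of_check (k := 8) rfl (by decide +kernel)

theorem b165 : Block F al 42240 42496 235 :=
  block_of_check (k := 8) rfl (by decide +kernel)

theorem b166 : Block F al 42496 42752 240 :=
  block_of_check (k := 8) rfl (by decide +kernel)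

theorem b167 : Block F al 42752 43008 247 :=
  block_of_check (k := 8) rfl (by decide +kernel)

theorem b168 : Block F al 43008 43264 232 :=
  block_of_check (k := 8) rfl (by decide +kernel)

theorem b169 : Block F al 43264 43520 226 :=
  block_of_check (k := 8) rfl (by decide +kernel)

theorem b170 : Block F al 43520 43776 249 :=
  block_of_check (k := 8) rfl (by decide +kernel)

theorem b171 : Block F al 43776 44032 252 :=
  block_of_check (k := 8) rfl (by decide +kernel)

theorem b172 : Block F al 44032 44288 253 :=
  block_of_check (k := 8) rfl (by decide +kernel)

theorem b173 : Block F al 44288 44544 247 :=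
  block_of_check (k := 8) rfl (by decide +kernel)

theorem b174 : Block F al 44544 44800 248 :=
  block_of_check (k := 8) rfl (by decide +kernel)

theorem b175 : Block F al 44800 45056 249 :=
  block_of_check (k := 8) rfl (by decide +kernel)

theorem b176 : Block F al 45056 45312 255 :=
  block_of_check (k := 8) rfl (by decide +kernel)

theorem b177 : Block F al 45312 45568 229 :=
  block_of_check (k := 8) rfl (by decide +kernel)

theorem b178 : Block F al 45568 45824 223 :=
  block_of_check (k := 8) rfl (by decide +kernel)

theorem b179 : Block F al 45824 46080 235 :=
  block_of_check (k := 8) rfl (by decide +kernel)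

theorem b180 : Block F al 46080 46336 235 :=
  block_of_check (k := 8) rfl (by decide +kernel)

theorem b181 : Block F al 46336 46592 227 :=
  block_of_check (k := 8) rfl (by decide +kernel)

theorem b182 : Block F al 46592 46848 253 :=
  block_of_check (k := 8) rfl (by decide +kernel)

theorem b183 : Block F al 46848 47104 247 :=
  block_of_check (k := 8) rfl (by decide +kernel)

theorem b184 : Block F al 47104 47360 248 :=
  block_of_check (k := 8) rfl (by decide +kernel)

theorem b185 : Block F al 47360 47616 250 :=
  block_of_check (k := 8) rfl (by decide +kernel)

theorem b186 : Block F al 47616 47872 241 :=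
  block_of_check (k := 8) rfl (by decide +kernel)

theorem b187 : Block F al 47872 48128 255 :=
  block_of_check (k := 8) rfl (by decide +kernel)

theorem b188 : Block F al 48128 48384 250 :=
  block_of_check (k := 8) rfl (by decide +kernel)

theorem b189 : Block F al 48384 48640 247 :=
  block_of_check (k := 8) rfl (by decide +kernel)

theorem b190 : Block F al 48640 48896 237 :=
  block_of_check (k := 8) rfl (by decide +kernel)

theorem b191 : Block F al 48896 49152 242 :=
  block_of_check (k := 8) rfl (by decide +kernel)

theorem b192 : Block F al 49152 49408 223 :=
  block_of_check (k := 8) rfl (by decide +kernel)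

theorem b193 : Block F al 49408 49664 250 :=
  block_of_check (k := 8) rfl (by decide +kernel)

theorem b194 : Block F al 49664 49920 247 :=
  block_of_check (k := 8) rfl (by decide +kernel)

theorem b195 : Block F al 49920 50176 245 :=
  block_of_check (k := 8) rfl (by decide +kernel)

theorem b196 : Block F al 50176 50432 249 :=
  block_of_check (k := 8) rfl (by decide +kernel)

theorem b197 : Block F al 50432 50688 247 :=
  block_of_check (k := 8) rfl (by decide +kernel)

theorem b198 : Block F al 50688 50944 250 :=
  block_of_check (k := 8) rfl (by decide +kernel)

theorem b199 : Block F al 50944 51200 224 :=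
  block_of_check (k := 8) rfl (by decide +kernel)

theorem b200 : Block F al 51200 51456 232 :=
  block_of_check (k := 8) rfl (by decide +kernel)

theorem b201 : Block F al 51456 51712 240 :=
  block_of_check (k := 8) rfl (by decide +kernel)

theorem b202 : Block F al 51712 51968 252 :=
  block_of_check (k := 8) rfl (by decide +kernel)

theorem b203 : Block F al 51968 52224 254 :=
  block_of_check (k := 8) rfl (by decide +kernel)

theorem b204 : Block F al 52224 52480 242 :=
  block_of_check (k := 8) rfl (by decide +kernel)

theorem b205 : Block F al 52480 52736 247 :=
  block_of_check (k := 8) rfl (by decide +kernel)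

theorem b206 : Block F al 52736 52992 228 :=
  block_of_check (k := 8) rfl (by decide +kernel)

theorem b207 : Block F al 52992 53248 184 :=
  block_of_check (k := 8) rfl (by decide +kernel)

theorem b208 : Block F al 53248 53504 215 :=
  block_of_check (k := 8) rfl (by decide +kernel)

theorem b209 : Block F al 53504 53760 228 :=
  block_of_check (k := 8) rfl (by decide +kernel)

theorem b210 : Block F al 53760 54016 232 :=
  block_of_check (k := 8) rfl (by decide +kernel)

theorem b211 : Block F al 54016 54272 240 :=
  block_of_check (k := 8) rfl (by decide +kernel)

theorem b212 : Block F al 54272 54528 248 :=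
  block_of_check (k := 8) rfl (by decide +kernel)

theorem b213 : Block F al 54528 54784 245 :=
  block_of_check (k := 8) rfl (by decide +kernel)

theorem b214 : Block F al 54784 55040 238 :=
  block_of_check (k := 8) rfl (by decide +kernel)

theorem b215 : Block F al 55040 55296 252 :=
  block_of_check (k := 8) rfl (by decide +kernel)

theorem b216 : Block F al 55296 55552 229 :=
  block_of_check (k := 8) rfl (by decide +kernel)

end Cfsg.Agent.TcData.HN.I1539000
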