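import Mathlib
import Cfsg.Agent.TcData.HN.I1539000.Tab

set_option autoImplicit false
set_option Elab.async false
set_option maxRecDepth 100000
set_option linter.all false

namespace Cfsg.Agent.TcData.HN.I1539000

open Cfsg.Spor Cfsg.Agent.Lib.TcFacts Cfsg.Agent.Lib.TcBits Cfsg.Agent.Lib.TcPres Cfsg.Spor.HN Cfsg.Agent.TcData.HN

theorem b1476 : Block F al 377856 378112 236 :=
  block_of_check (k := 8) rfl (by decide +kernel)

theorem b1477 : Block F al 378112 378368 217 :=
  block_of_check (k := 8) rfl (by decide +kernel)

theorem b1478 : Block F al 378368 378624 203 :=
  block_of_check (k := 8) rfl (by decide +kernel)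

theorem b1479 : Block F al 378624 378880 240 :=
  block_of_check (k := 8) rfl (by decide +kernel)

theorem b1480 : Block F al 378880 379136 233 :=
  block_of_check (k := 8) rfl (by decide +kernel)

theorem b1481 : Block F al 379136 379392 235 :=
  block_of_check (k := 8) rfl (by decide +kernel)

theorem b1482 : Block F al 379392 379648 242 :=
  block_of_check (k := 8) rfl (by decide +kernel)

theorem b1483 : Block F al 379648 379904 211 :=
  block_of_check (k := 8) rfl (by decide +kernel)

theorem b1484 : Block F al 379904 380160 235 :=
  block_of_check (k := 8) rfl (by decide +kernel)

theorem b1485 : Block F al 380160 380416 244 :=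
  block_of_check (k := 8) rfl (by decide +kernel)

theorem b1486 : Block F al 380416 380672 249 :=
  block_of_check (k := 8) rfl (by decide +kernel)

theorem b1487 : Block F al 380672 380928 238 :=
  block_of_check (k := 8) rfl (by decide +kernel)

theorem b1488 : Block F al 380928 381184 226 :=
  block_of_check (k := 8) rfl (by decide +kernel)

theorem b1489 : Block F al 381184 381440 211 :=
  block_of_check (k := 8) rfl (by decide +kernel)

theorem b1490 : Block F al 381440 381696 218 :=
  block_of_check (k := 8) rfl (by decide +kernel)

theorem b1491 : Block F al 381696 381952 193 :=
  block_of_check (k := 8) rfl (by decide +kernel)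

theorem b1492 : Block F al 381952 382208 242 :=
  block_of_check (k := 8) rfl (by decide +kernel)

theorem b1493 : Block F al 382208 382464 236 :=
  block_of_check (k := 8) rfl (by decide +kernel)

theorem b1494 : Block F al 382464 382720 232 :=
  block_of_check (k := 8) rfl (by decide +kernel)

theorem b1495 : Block F al 382720 382976 242 :=
  block_of_check (k := 8) rfl (by decide +kernel)

theorem b1496 : Block F al 382976 383232 255 :=
  block_of_check (k := 8) rfl (by decide +kernel)

theorem b1497 : Block F al 383232 383488 251 :=
  block_of_check (k := 8) rfl (by decide +kernel)

theorem b1498 : Block F al 383488 383744 240 :=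
  block_of_check (k := 8) rfl (by decide +kernel)

theorem b1499 : Block F al 383744 384000 242 :=
  block_of_check (k := 8) rfl (by decide +kernel)

theorem b1500 : Block F al 384000 384256 249 :=
  block_of_check (k := 8) rfl (by decide +kernel)

theorem b1501 : Block F al 384256 384512 248 :=
  block_of_check (k := 8) rfl (by decide +kernel)

theorem b1502 : Block F al 384512 384768 238 :=
  block_of_check (k := 8) rfl (by decide +kernel)

theorem b1503 : Block F al 384768 385024 246 :=
  block_of_check (k := 8) rfl (by decide +kernel)

theorem b1504 : Block F al 385024 385280 237 :=
  block_of_check (k := 8) rfl (by decide +kernel)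

theorem b1505 : Block F al 385280 385536 249 :=
  block_of_check (k := 8) rfl (by decide +kernel)

theorem b1506 : Block F al 385536 385792 239 :=
  block_of_check (k := 8) rfl (by decide +kernel)

theorem b1507 : Block F al 385792 386048 236 :=
  block_of_check (k := 8) rfl (by decide +kernel)

theorem b1508 : Block F al 386048 386304 242 :=
  block_of_check (k := 8) rfl (by decide +kernel)

theorem b1509 : Block F al 386304 386560 240 :=
  block_of_check (k := 8) rfl (by decide +kernel)

theorem b1510 : Block F al 386560 386816 226 :=
  block_of_check (k := 8) rfl (by decide +kernel)

theorem b1511 : Block F al 386816 387072 240 :=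
  block_of_check (k := 8) rfl (by decide +kernel)

theorem b1512 : Block F al 387072 387328 234 :=
  block_of_check (k := 8) rfl (by decide +kernel)

theorem b1513 : Block F al 387328 387584 247 :=
  block_of_check (k := 8) rfl (by decide +kernel)

theorem b1514 : Block F al 387584 387840 254 :=
  block_of_check (k := 8) rfl (by decide +kernel)

theorem b1515 : Block F al 387840 388096 240 :=
  block_of_check (k := 8) rfl (by decide +kernel)

theorem b1516 : Block F al 388096 388352 245 :=
  block_of_check (k := 8) rfl (by decide +kernel)

theorem b1517 : Block F al 388352 388608 244 :=
  block_of_check (k := 8) rfl (by decide +kernel)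

theorem b1518 : Block F al 388608 388864 247 :=
  block_of_check (k := 8) rfl (by decide +kernel)

theorem b1519 : Block F al 388864 389120 252 :=
  block_of_check (k := 8) rfl (by decide +kernel)

theorem b1520 : Block F al 389120 389376 238 :=
  block_of_check (k := 8) rfl (by decide +kernel)

theorem b1521 : Block F al 389376 389632 243 :=
  block_of_check (k := 8) rfl (by decide +kernel)

end Cfsg.Agent.TcData.HN.I1539000
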