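import Mathlib
import Cfsg.Agent.TcData.HN.I1539000.Tab

set_option autoImplicit false
set_option Elab.async false
set_option maxRecDepth 100000
set_option linter.all false

namespace Cfsg.Agent.TcData.HN.I1539000

open Cfsg.Spor Cfsg.Agent.Lib.TcFacts Cfsg.Agent.Lib.TcBits Cfsg.Agent.Lib.TcPres Cfsg.Spor.HN Cfsg.Agent.TcData.HN

theorem b1522 : Block F al 389632 389888 250 :=
  block_of_check (k := 8) rfl (by decide +kernel)

theorem b1523 : Block F al 389888 390144 235 :=
  block_of_check (k := 8) rfl (by decide +kernel)

theorem b1524 : Block F al 390144 390400 236 :=
  block_of_check (k := 8) rfl (by decide +kernel)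

theorem b1525 : Block F al 390400 390656 249 :=
  block_of_check (k := 8) rfl (by decide +kernel)

theorem b1526 : Block F al 390656 390912 248 :=
  block_of_check (k := 8) rfl (by decide +kernel)

theorem b1527 : Block F al 390912 391168 243 :=
  block_of_check (k := 8) rfl (by decide +kernel)

theorem b1528 : Block F al 391168 391424 222 :=
  block_of_check (k := 8) rfl (by decide +kernel)

theorem b1529 : Block F al 391424 391680 239 :=
  block_of_check (k := 8) rfl (by decide +kernel)

theorem b1530 : Block F al 391680 391936 251 :=
  block_of_check (k := 8) rfl (by decide +kernel)

theorem b1531 : Block F al 391936 392192 206 :=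
  block_of_check (k := 8) rfl (by decide +kernel)

theorem b1532 : Block F al 392192 392448 250 :=
  block_of_check (k := 8) rfl (by decide +kernel)

theorem b1533 : Block F al 392448 392704 231 :=
  block_of_check (k := 8) rfl (by decide +kernel)

theorem b1534 : Block F al 392704 392960 226 :=
  block_of_check (k := 8) rfl (by decide +kernel)

theorem b1535 : Block F al 392960 393216 226 :=
  block_of_check (k := 8) rfl (by decide +kernel)

theorem b1536 : Block F al 393216 393472 234 :=
  block_of_check (k := 8) rfl (by decide +kernel)

theorem b1537 : Block F al 393472 393728 218 :=
  block_of_check (k := 8) rfl (by decide +kernel)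

theorem b1538 : Block F al 393728 393984 240 :=
  block_of_check (k := 8) rfl (by decide +kernel)

theorem b1539 : Block F al 393984 394240 243 :=
  block_of_check (k := 8) rfl (by decide +kernel)

theorem b1540 : Block F al 394240 394496 228 :=
  block_of_check (k := 8) rfl (by decide +kernel)

theorem b1541 : Block F al 394496 394752 234 :=
  block_of_check (k := 8) rfl (by decide +kernel)

theorem b1542 : Block F al 394752 395008 247 :=
  block_of_check (k := 8) rfl (by decide +kernel)

theorem b1543 : Block F al 395008 395264 244 :=
  block_of_check (k := 8) rfl (by decide +kernel)

theorem b1544 : Block F al 395264 395520 239 :=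
  block_of_check (k := 8) rfl (by decide +kernel)

theorem b1545 : Block F al 395520 395776 231 :=
  block_of_check (k := 8) rfl (by decide +kernel)

theorem b1546 : Block F al 395776 396032 219 :=
  block_of_check (k := 8) rfl (by decide +kernel)

theorem b1547 : Block F al 396032 396288 222 :=
  block_of_check (k := 8) rfl (by decide +kernel)

theorem b1548 : Block F al 396288 396544 229 :=
  block_of_check (k := 8) rfl (by decide +kernel)

theorem b1549 : Block F al 396544 396800 243 :=
  block_of_check (k := 8) rfl (by decide +kernel)

theorem b1550 : Block F al 396800 397056 244 :=
  block_of_check (k := 8) rfl (by decide +kernel)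

theorem b1551 : Block F al 397056 397312 234 :=
  block_of_check (k := 8) rfl (by decide +kernel)

theorem b1552 : Block F al 397312 397568 236 :=
  block_of_check (k := 8) rfl (by decide +kernel)

theorem b1553 : Block F al 397568 397824 229 :=
  block_of_check (k := 8) rfl (by decide +kernel)

theorem b1554 : Block F al 397824 398080 232 :=
  block_of_check (k := 8) rfl (by decide +kernel)

theorem b1555 : Block F al 398080 398336 238 :=
  block_of_check (k := 8) rfl (by decide +kernel)

theorem b1556 : Block F al 398336 398592 230 :=
  block_of_check (k := 8) rfl (by decide +kernel)

theorem b1557 : Block F al 398592 398848 227 :=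
  block_of_check (k := 8) rfl (by decide +kernel)

theorem b1558 : Block F al 398848 399104 235 :=
  block_of_check (k := 8) rfl (by decide +kernel)

theorem b1559 : Block F al 399104 399360 211 :=
  block_of_check (k := 8) rfl (by decide +kernel)

theorem b1560 : Block F al 399360 399616 219 :=
  block_of_check (k := 8) rfl (by decide +kernel)

theorem b1561 : Block F al 399616 399872 229 :=
  block_of_check (k := 8) rfl (by decide +kernel)

theorem b1562 : Block F al 399872 400128 245 :=
  block_of_check (k := 8) rfl (by decide +kernel)

theorem b1563 : Block F al 400128 400384 240 :=
  block_of_check (k := 8) rfl (by decide +kernel)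

theorem b1564 : Block F al 400384 400640 231 :=
  block_of_check (k := 8) rfl (by decide +kernel)

theorem b1565 : Block F al 400640 400896 234 :=
  block_of_check (k := 8) rfl (by decide +kernel)

theorem b1566 : Block F al 400896 401152 232 :=
  block_of_check (k := 8) rfl (by decide +kernel)

theorem b1567 : Block F al 401152 401408 234 :=
  block_of_check (k := 8) rfl (by decide +kernel)

theorem b1568 : Block F al 401408 401664 243 :=
  block_of_check (k := 8) rfl (by decide +kernel)

end Cfsg.Agent.TcData.HN.I1539000
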