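import Mathlib
import Cfsg.Agent.TcData.HN.I1539000.Tab

set_option autoImplicit false
set_option Elab.async false
set_option maxRecDepth 100000
set_option linter.all false

namespace Cfsg.Agent.TcData.HN.I1539000

open Cfsg.Spor Cfsg.Agent.Lib.TcFacts Cfsg.Agent.Lib.TcBits Cfsg.Agent.Lib.TcPres Cfsg.Spor.HN Cfsg.Agent.TcData.HN

theorem b1569 : Block F al 401664 401920 227 :=
  block_of_check (k := 8) rfl (by decide +kernel)

theorem b1570 : Block F al 401920 402176 236 :=
  block_of_check (k := 8) rfl (by decide +kernel)

theorem b1571 : Block F al 402176 402432 239 :=
  block_of_check (k := 8) rfl (by decide +kernel)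

theorem b1572 : Block F al 402432 402688 238 :=
  block_of_check (k := 8) rfl (by decide +kernel)

theorem b1573 : Block F al 402688 402944 230 :=
  block_of_check (k := 8) rfl (by decide +kernel)

theorem b1574 : Block F al 402944 403200 220 :=
  block_of_check (k := 8) rfl (by decide +kernel)

theorem b1575 : Block F al 403200 403456 246 :=
  block_of_check (k := 8) rfl (by decide +kernel)

theorem b1576 : Block F al 403456 403712 224 :=
  block_of_check (k := 8) rfl (by decide +kernel)

theorem b1577 : Block F al 403712 403968 230 :=
  block_of_check (k := 8) rfl (by decide +kernel)

theorem b1578 : Block F al 403968 404224 225 :=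
  block_of_check (k := 8) rfl (by decide +kernel)

theorem b1579 : Block F al 404224 404480 203 :=
  block_of_check (k := 8) rfl (by decide +kernel)

theorem b1580 : Block F al 404480 404736 221 :=
  block_of_check (k := 8) rfl (by decide +kernel)

theorem b1581 : Block F al 404736 404992 238 :=
  block_of_check (k := 8) rfl (by decide +kernel)

theorem b1582 : Block F al 404992 405248 228 :=
  block_of_check (k := 8) rfl (by decide +kernel)

theorem b1583 : Block F al 405248 405504 244 :=
  block_of_check (k := 8) rfl (by decide +kernel)

theorem b1584 : Block F al 405504 405760 223 :=
  block_of_check (k := 8) rfl (by decide +kernel)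

theorem b1585 : Block F al 405760 406016 234 :=
  block_of_check (k := 8) rfl (by decide +kernel)

theorem b1586 : Block F al 406016 406272 223 :=
  block_of_check (k := 8) rfl (by decide +kernel)

theorem b1587 : Block F al 406272 406528 256 :=
  block_of_check (k := 8) rfl (by decide +kernel)

theorem b1588 : Block F al 406528 406784 248 :=
  block_of_check (k := 8) rfl (by decide +kernel)

theorem b1589 : Block F al 406784 407040 246 :=
  block_of_check (k := 8) rfl (by decide +kernel)

theorem b1590 : Block F al 407040 407296 244 :=
  block_of_check (k := 8) rfl (by decide +kernel)

theorem b1591 : Block F al 407296 407552 245 :=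
  block_of_check (k := 8) rfl (by decide +kernel)

theorem b1592 : Block F al 407552 407808 249 :=
  block_of_check (k := 8) rfl (by decide +kernel)

theorem b1593 : Block F al 407808 408064 244 :=
  block_of_check (k := 8) rfl (by decide +kernel)

theorem b1594 : Block F al 408064 408320 250 :=
  block_of_check (k := 8) rfl (by decide +kernel)

theorem b1595 : Block F al 408320 408576 246 :=
  block_of_check (k := 8) rfl (by decide +kernel)

theorem b1596 : Block F al 408576 408832 228 :=
  block_of_check (k := 8) rfl (by decide +kernel)

theorem b1597 : Block F al 408832 409088 252 :=
  block_of_check (k := 8) rfl (by decide +kernel)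

theorem b1598 : Block F al 409088 409344 234 :=
  block_of_check (k := 8) rfl (by decide +kernel)

theorem b1599 : Block F al 409344 409600 238 :=
  block_of_check (k := 8) rfl (by decide +kernel)

theorem b1600 : Block F al 409600 409856 238 :=
  block_of_check (k := 8) rfl (by decide +kernel)

theorem b1601 : Block F al 409856 410112 250 :=
  block_of_check (k := 8) rfl (by decide +kernel)

theorem b1602 : Block F al 410112 410368 240 :=
  block_of_check (k := 8) rfl (by decide +kernel)

theorem b1603 : Block F al 410368 410624 245 :=
  block_of_check (k := 8) rfl (by decide +kernel)

theorem b1604 : Block F al 410624 410880 245 :=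
  block_of_check (k := 8) rfl (by decide +kernel)

theorem b1605 : Block F al 410880 411136 247 :=
  block_of_check (k := 8) rfl (by decide +kernel)

theorem b1606 : Block F al 411136 411392 253 :=
  block_of_check (k := 8) rfl (by decide +kernel)

theorem b1607 : Block F al 411392 411648 245 :=
  block_of_check (k := 8) rfl (by decide +kernel)

theorem b1608 : Block F al 411648 411904 250 :=
  block_of_check (k := 8) rfl (by decide +kernel)

theorem b1609 : Block F al 411904 412160 252 :=
  block_of_check (k := 8) rfl (by decide +kernel)

theorem b1610 : Block F al 412160 412416 250 :=
  block_of_check (k := 8) rfl (by decide +kernel)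

theorem b1611 : Block F al 412416 412672 249 :=
  block_of_check (k := 8) rfl (by decide +kernel)

theorem b1612 : Block F al 412672 412928 252 :=
  block_of_check (k := 8) rfl (by decide +kernel)

end Cfsg.Agent.TcData.HN.I1539000
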