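import Mathlib
import Cfsg.Agent.TcData.HN.I1539000.Tab

set_option autoImplicit false
set_option Elab.async false
set_option maxRecDepth 100000
set_option linter.all false

namespace Cfsg.Agent.TcData.HN.I1539000

open Cfsg.Spor Cfsg.Agent.Lib.TcFacts Cfsg.Agent.Lib.TcBits Cfsg.Agent.Lib.TcPres Cfsg.Spor.HN Cfsg.Agent.TcData.HN

theorem b1613 : Block F al 412928 413184 248 :=
  block_of_check (k := 8) rfl (by decide +kernel)

theorem b1614 : Block F al 413184 413440 256 :=
  block_of_check (k := 8) rfl (by decide +kernel)

theorem b1615 : Block F al 413440 413696 244 :=
  block_of_check (k := 8) rfl (by decide +kernel)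

theorem b1616 : Block F al 413696 413952 243 :=
  block_of_check (k := 8) rfl (by decide +kernel)

theorem b1617 : Block F al 413952 414208 239 :=
  block_of_check (k := 8) rfl (by decide +kernel)

theorem b1618 : Block F al 414208 414464 249 :=
  block_of_check (k := 8) rfl (by decide +kernel)

theorem b1619 : Block F al 414464 414720 243 :=
  block_of_check (k := 8) rfl (by decide +kernel)

theorem b1620 : Block F al 414720 414976 245 :=
  block_of_check (k := 8) rfl (by decide +kernel)

theorem b1621 : Block F al 414976 415232 250 :=
  block_of_check (k := 8) rfl (by decide +kernel)

theorem b1622 : Block F al 415232 415488 253 :=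
  block_of_check (k := 8) rfl (by decide +kernel)

theorem b1623 : Block F al 415488 415744 249 :=
  block_of_check (k := 8) rfl (by decide +kernel)

theorem b1624 : Block F al 415744 416000 249 :=
  block_of_check (k := 8) rfl (by decide +kernel)

theorem b1625 : Block F al 416000 416256 231 :=
  block_of_check (k := 8) rfl (by decide +kernel)

theorem b1626 : Block F al 416256 416512 238 :=
  block_of_check (k := 8) rfl (by decide +kernel)

theorem b1627 : Block F al 416512 416768 245 :=
  block_of_check (k := 8) rfl (by decide +kernel)

theorem b1628 : Block F al 416768 417024 236 :=
  block_of_check (k := 8) rfl (by decide +kernel)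

theorem b1629 : Block F al 417024 417280 241 :=
  block_of_check (k := 8) rfl (by decide +kernel)

theorem b1630 : Block F al 417280 417536 241 :=
  block_of_check (k := 8) rfl (by decide +kernel)

theorem b1631 : Block F al 417536 417792 237 :=
  block_of_check (k := 8) rfl (by decide +kernel)

theorem b1632 : Block F al 417792 418048 250 :=
  block_of_check (k := 8) rfl (by decide +kernel)

theorem b1633 : Block F al 418048 418304 236 :=
  block_of_check (k := 8) rfl (by decide +kernel)

theorem b1634 : Block F al 418304 418560 235 :=
  block_of_check (k := 8) rfl (by decide +kernel)

theorem b1635 : Block F al 418560 418816 253 :=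
  block_of_check (k := 8) rfl (by decide +kernel)

theorem b1636 : Block F al 418816 419072 251 :=
  block_of_check (k := 8) rfl (by decide +kernel)

theorem b1637 : Block F al 419072 419328 240 :=
  block_of_check (k := 8) rfl (by decide +kernel)

theorem b1638 : Block F al 419328 419584 247 :=
  block_of_check (k := 8) rfl (by decide +kernel)

theorem b1639 : Block F al 419584 419840 248 :=
  block_of_check (k := 8) rfl (by decide +kernel)

theorem b1640 : Block F al 419840 420096 240 :=
  block_of_check (k := 8) rfl (by decide +kernel)

theorem b1641 : Block F al 420096 420352 249 :=
  block_of_check (k := 8) rfl (by decide +kernel)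

theorem b1642 : Block F al 420352 420608 238 :=
  block_of_check (k := 8) rfl (by decide +kernel)

theorem b1643 : Block F al 420608 420864 250 :=
  block_of_check (k := 8) rfl (by decide +kernel)

theorem b1644 : Block F al 420864 421120 245 :=
  block_of_check (k := 8) rfl (by decide +kernel)

theorem b1645 : Block F al 421120 421376 248 :=
  block_of_check (k := 8) rfl (by decide +kernel)

theorem b1646 : Block F al 421376 421632 252 :=
  block_of_check (k := 8) rfl (by decide +kernel)

theorem b1647 : Block F al 421632 421888 251 :=
  block_of_check (k := 8) rfl (by decide +kernel)

theorem b1648 : Block F al 421888 422144 245 :=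
  block_of_check (k := 8) rfl (by decide +kernel)

theorem b1649 : Block F al 422144 422400 244 :=
  block_of_check (k := 8) rfl (by decide +kernel)

theorem b1650 : Block F al 422400 422656 252 :=
  block_of_check (k := 8) rfl (by decide +kernel)

theorem b1651 : Block F al 422656 422912 239 :=
  block_of_check (k := 8) rfl (by decide +kernel)

theorem b1652 : Block F al 422912 423168 249 :=
  block_of_check (k := 8) rfl (by decide +kernel)

theorem b1653 : Block F al 423168 423424 242 :=
  block_of_check (k := 8) rfl (by decide +kernel)

theorem b1654 : Block F al 423424 423680 243 :=
  block_of_check (k := 8) rfl (by decide +kernel)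

end Cfsg.Agent.TcData.HN.I1539000
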