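import Mathlib
import Cfsg.Agent.TcData.HN.I1539000.Tab

set_option autoImplicit false
set_option Elab.async false
set_option maxRecDepth 100000
set_option linter.all false

namespace Cfsg.Agent.TcData.HN.I1539000

open Cfsg.Spor Cfsg.Agent.Lib.TcFacts Cfsg.Agent.Lib.TcBits Cfsg.Agent.Lib.TcPres Cfsg.Spor.HN Cfsg.Agent.TcData.HN

theorem b1655 : Block F al 423680 423936 242 :=
  block_of_check (k := 8) rfl (by decide +kernel)

theorem b1656 : Block F al 423936 424192 244 :=
  block_of_check (k := 8) rfl (by decide +kernel)

theorem b1657 : Block F al 424192 424448 253 :=
  block_of_check (k := 8) rfl (by decide +kernel)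

theorem b1658 : Block F al 424448 424704 245 :=
  block_of_check (k := 8) rfl (by decide +kernel)

theorem b1659 : Block F al 424704 424960 249 :=
  block_of_check (k := 8) rfl (by decide +kernel)

theorem b1660 : Block F al 424960 425216 239 :=
  block_of_check (k := 8) rfl (by decide +kernel)

theorem b1661 : Block F al 425216 425472 236 :=
  block_of_check (k := 8) rfl (by decide +kernel)

theorem b1662 : Block F al 425472 425728 226 :=
  block_of_check (k := 8) rfl (by decide +kernel)

theorem b1663 : Block F al 425728 425984 241 :=
  block_of_check (k := 8) rfl (by decide +kernel)

theorem b1664 : Block F al 425984 426240 231 :=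
  block_of_check (k := 8) rfl (by decide +kernel)

theorem b1665 : Block F al 426240 426496 250 :=
  block_of_check (k := 8) rfl (by decide +kernel)

theorem b1666 : Block F al 426496 426752 241 :=
  block_of_check (k := 8) rfl (by decide +kernel)

theorem b1667 : Block F al 426752 427008 253 :=
  block_of_check (k := 8) rfl (by decide +kernel)

theorem b1668 : Block F al 427008 427264 246 :=
  block_of_check (k := 8) rfl (by decide +kernel)

theorem b1669 : Block F al 427264 427520 241 :=
  block_of_check (k := 8) rfl (by decide +kernel)

theorem b1670 : Block F al 427520 427776 243 :=
  block_of_check (k := 8) rfl (by decide +kernel)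

theorem b1671 : Block F al 427776 428032 250 :=
  block_of_check (k := 8) rfl (by decide +kernel)

theorem b1672 : Block F al 428032 428288 243 :=
  block_of_check (k := 8) rfl (by decide +kernel)

theorem b1673 : Block F al 428288 428544 241 :=
  block_of_check (k := 8) rfl (by decide +kernel)

theorem b1674 : Block F al 428544 428800 243 :=
  block_of_check (k := 8) rfl (by decide +kernel)

theorem b1675 : Block F al 428800 429056 246 :=
  block_of_check (k := 8) rfl (by decide +kernel)

theorem b1676 : Block F al 429056 429312 245 :=
  block_of_check (k := 8) rfl (by decide +kernel)

theorem b1677 : Block F al 429312 429568 255 :=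
  block_of_check (k := 8) rfl (by decide +kernel)

theorem b1678 : Block F al 429568 429824 253 :=
  block_of_check (k := 8) rfl (by decide +kernel)

theorem b1679 : Block F al 429824 430080 249 :=
  block_of_check (k := 8) rfl (by decide +kernel)

theorem b1680 : Block F al 430080 430336 244 :=
  block_of_check (k := 8) rfl (by decide +kernel)

theorem b1681 : Block F al 430336 430592 219 :=
  block_of_check (k := 8) rfl (by decide +kernel)

theorem b1682 : Block F al 430592 430848 244 :=
  block_of_check (k := 8) rfl (by decide +kernel)

theorem b1683 : Block F al 430848 431104 253 :=
  block_of_check (k := 8) rfl (by decide +kernel)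

theorem b1684 : Block F al 431104 431360 252 :=
  block_of_check (k := 8) rfl (by decide +kernel)

theorem b1685 : Block F al 431360 431616 241 :=
  block_of_check (k := 8) rfl (by decide +kernel)

theorem b1686 : Block F al 431616 431872 243 :=
  block_of_check (k := 8) rfl (by decide +kernel)

theorem b1687 : Block F al 431872 432128 250 :=
  block_of_check (k := 8) rfl (by decide +kernel)

theorem b1688 : Block F al 432128 432384 252 :=
  block_of_check (k := 8) rfl (by decide +kernel)

theorem b1689 : Block F al 432384 432640 234 :=
  block_of_check (k := 8) rfl (by decide +kernel)

theorem b1690 : Block F al 432640 432896 246 :=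
  block_of_check (k := 8) rfl (by decide +kernel)

theorem b1691 : Block F al 432896 433152 249 :=
  block_of_check (k := 8) rfl (by decide +kernel)

theorem b1692 : Block F al 433152 433408 251 :=
  block_of_check (k := 8) rfl (by decide +kernel)

theorem b1693 : Block F al 433408 433664 251 :=
  block_of_check (k := 8) rfl (by decide +kernel)

theorem b1694 : Block F al 433664 433920 246 :=
  block_of_check (k := 8) rfl (by decide +kernel)

theorem b1695 : Block F al 433920 434176 247 :=
  block_of_check (k := 8) rfl (by decide +kernel)

theorem b1696 : Block F al 434176 434432 234 :=
  block_of_check (k := 8) rfl (by decide +kernel)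

theorem b1697 : Block F al 434432 434688 231 :=
  block_of_check (k := 8) rfl (by decide +kernel)

theorem b1698 : Block F al 434688 434944 244 :=
  block_of_check (k := 8) rfl (by decide +kernel)

end Cfsg.Agent.TcData.HN.I1539000
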