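import Mathlib
import Cfsg.Agent.TcData.HN.I1539000.Tab

set_option autoImplicit false
set_option Elab.async false
set_option maxRecDepth 100000
set_option linter.all false

namespace Cfsg.Agent.TcData.HN.I1539000

open Cfsg.Spor Cfsg.Agent.Lib.TcFacts Cfsg.Agent.Lib.TcBits Cfsg.Agent.Lib.TcPres Cfsg.Spor.HN Cfsg.Agent.TcData.HN

theorem b1742 : Block F al 445952 446208 237 :=
  block_of_check (k := 8) rfl (by decide +kernel)

theorem b1743 : Block F al 446208 446464 233 :=
  block_of_check (k := 8) rfl (by decide +kernel)

theorem b1744 : Block F al 446464 446720 244 :=
  block_of_check (k := 8) rfl (by decide +kernel)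

theorem b1745 : Block F al 446720 446976 248 :=
  block_of_check (k := 8) rfl (by decide +kernel)

theorem b1746 : Block F al 446976 447232 241 :=
  block_of_check (k := 8) rfl (by decide +kernel)

theorem b1747 : Block F al 447232 447488 247 :=
  block_of_check (k := 8) rfl (by decide +kernel)

theorem b1748 : Block F al 447488 447744 249 :=
  block_of_check (k := 8) rfl (by decide +kernel)

theorem b1749 : Block F al 447744 448000 240 :=
  block_of_check (k := 8) rfl (by decide +kernel)

theorem b1750 : Block F al 448000 448256 240 :=
  block_of_check (k := 8) rfl (by decide +kernel)

theorem b1751 : Block F al 448256 448512 250 :=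
  block_of_check (k := 8) rfl (by decide +kernel)

theorem b1752 : Block F al 448512 448768 246 :=
  block_of_check (k := 8) rfl (by decide +kernel)

theorem b1753 : Block F al 448768 449024 238 :=
  block_of_check (k := 8) rfl (by decide +kernel)

theorem b1754 : Block F al 449024 449280 249 :=
  block_of_check (k := 8) rfl (by decide +kernel)

theorem b1755 : Block F al 449280 449536 249 :=
  block_of_check (k := 8) rfl (by decide +kernel)

theorem b1756 : Block F al 449536 449792 255 :=
  block_of_check (k := 8) rfl (by decide +kernel)

theorem b1757 : Block F al 449792 450048 247 :=
  block_of_check (k := 8) rfl (by decide +kernel)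

theorem b1758 : Block F al 450048 450304 243 :=
  block_of_check (k := 8) rfl (by decide +kernel)

theorem b1759 : Block F al 450304 450560 230 :=
  block_of_check (k := 8) rfl (by decide +kernel)

theorem b1760 : Block F al 450560 450816 225 :=
  block_of_check (k := 8) rfl (by decide +kernel)

theorem b1761 : Block F al 450816 451072 233 :=
  block_of_check (k := 8) rfl (by decide +kernel)

theorem b1762 : Block F al 451072 451328 245 :=
  block_of_check (k := 8) rfl (by decide +kernel)

theorem b1763 : Block F al 451328 451584 254 :=
  block_of_check (k := 8) rfl (by decide +kernel)

theorem b1764 : Block F al 451584 451840 253 :=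
  block_of_check (k := 8) rfl (by decide +kernel)

theorem b1765 : Block F al 451840 452096 245 :=
  block_of_check (k := 8) rfl (by decide +kernel)

theorem b1766 : Block F al 452096 452352 241 :=
  block_of_check (k := 8) rfl (by decide +kernel)

theorem b1767 : Block F al 452352 452608 243 :=
  block_of_check (k := 8) rfl (by decide +kernel)

theorem b1768 : Block F al 452608 452864 252 :=
  block_of_check (k := 8) rfl (by decide +kernel)

theorem b1769 : Block F al 452864 453120 237 :=
  block_of_check (k := 8) rfl (by decide +kernel)

theorem b1770 : Block F al 453120 453376 243 :=
  block_of_check (k := 8) rfl (by decide +kernel)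

theorem b1771 : Block F al 453376 453632 239 :=
  block_of_check (k := 8) rfl (by decide +kernel)

theorem b1772 : Block F al 453632 453888 235 :=
  block_of_check (k := 8) rfl (by decide +kernel)

theorem b1773 : Block F al 453888 454144 225 :=
  block_of_check (k := 8) rfl (by decide +kernel)

theorem b1774 : Block F al 454144 454400 230 :=
  block_of_check (k := 8) rfl (by decide +kernel)

theorem b1775 : Block F al 454400 454656 232 :=
  block_of_check (k := 8) rfl (by decide +kernel)

theorem b1776 : Block F al 454656 454912 243 :=
  block_of_check (k := 8) rfl (by decide +kernel)

theorem b1777 : Block F al 454912 455168 250 :=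
  block_of_check (k := 8) rfl (by decide +kernel)

theorem b1778 : Block F al 455168 455424 253 :=
  block_of_check (k := 8) rfl (by decide +kernel)

theorem b1779 : Block F al 455424 455680 244 :=
  block_of_check (k := 8) rfl (by decide +kernel)

theorem b1780 : Block F al 455680 455936 230 :=
  block_of_check (k := 8) rfl (by decide +kernel)

theorem b1781 : Block F al 455936 456192 242 :=
  block_of_check (k := 8) rfl (by decide +kernel)

theorem b1782 : Block F al 456192 456448 246 :=
  block_of_check (k := 8) rfl (by decide +kernel)

theorem b1783 : Block F al 456448 456704 244 :=
  block_of_check (k := 8) rfl (by decide +kernel)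

theorem b1784 : Block F al 456704 456960 245 :=
  block_of_check (k := 8) rfl (by decide +kernel)

theorem b1785 : Block F al 456960 457216 231 :=
  block_of_check (k := 8) rfl (by decide +kernel)

end Cfsg.Agent.TcData.HN.I1539000
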