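import Mathlib
import Cfsg.Agent.TcData.HN.I1539000.Tab

set_option autoImplicit false
set_option Elab.async false
set_option maxRecDepth 100000
set_option linter.all false

namespace Cfsg.Agent.TcData.HN.I1539000

open Cfsg.Spor Cfsg.Agent.Lib.TcFacts Cfsg.Agent.Lib.TcBits Cfsg.Agent.Lib.TcPres Cfsg.Spor.HN Cfsg.Agent.TcData.HN

theorem b1786 : Block F al 457216 457472 250 :=
  block_of_check (k := 8) rfl (by decide +kernel)

theorem b1787 : Block F al 457472 457728 246 :=
  block_of_check (k := 8) rfl (by decide +kernel)

theorem b1788 : Block F al 457728 457984 256 :=
  block_of_check (k := 8) rfl (by decide +kernel)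

theorem b1789 : Block F al 457984 458240 248 :=
  block_of_check (k := 8) rfl (by decide +kernel)

theorem b1790 : Block F al 458240 458496 243 :=
  block_of_check (k := 8) rfl (by decide +kernel)

theorem b1791 : Block F al 458496 458752 241 :=
  block_of_check (k := 8) rfl (by decide +kernel)

theorem b1792 : Block F al 458752 459008 235 :=
  block_of_check (k := 8) rfl (by decide +kernel)

theorem b1793 : Block F al 459008 459264 236 :=
  block_of_check (k := 8) rfl (by decide +kernel)

theorem b1794 : Block F al 459264 459520 248 :=
  block_of_check (k := 8) rfl (by decide +kernel)

theorem b1795 : Block F al 459520 459776 234 :=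
  block_of_check (k := 8) rfl (by decide +kernel)

theorem b1796 : Block F al 459776 460032 241 :=
  block_of_check (k := 8) rfl (by decide +kernel)

theorem b1797 : Block F al 460032 460288 237 :=
  block_of_check (k := 8) rfl (by decide +kernel)

theorem b1798 : Block F al 460288 460544 244 :=
  block_of_check (k := 8) rfl (by decide +kernel)

theorem b1799 : Block F al 460544 460800 252 :=
  block_of_check (k := 8) rfl (by decide +kernel)

theorem b1800 : Block F al 460800 461056 246 :=
  block_of_check (k := 8) rfl (by decide +kernel)

theorem b1801 : Block F al 461056 461312 249 :=
  block_of_check (k := 8) rfl (by decide +kernel)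

theorem b1802 : Block F al 461312 461568 244 :=
  block_of_check (k := 8) rfl (by decide +kernel)

theorem b1803 : Block F al 461568 461824 244 :=
  block_of_check (k := 8) rfl (by decide +kernel)

theorem b1804 : Block F al 461824 462080 242 :=
  block_of_check (k := 8) rfl (by decide +kernel)

theorem b1805 : Block F al 462080 462336 243 :=
  block_of_check (k := 8) rfl (by decide +kernel)

theorem b1806 : Block F al 462336 462592 241 :=
  block_of_check (k := 8) rfl (by decide +kernel)

theorem b1807 : Block F al 462592 462848 244 :=
  block_of_check (k := 8) rfl (by decide +kernel)

theorem b1808 : Block F al 462848 463104 244 :=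
  block_of_check (k := 8) rfl (by decide +kernel)

theorem b1809 : Block F al 463104 463360 221 :=
  block_of_check (k := 8) rfl (by decide +kernel)

theorem b1810 : Block F al 463360 463616 234 :=
  block_of_check (k := 8) rfl (by decide +kernel)

theorem b1811 : Block F al 463616 463872 232 :=
  block_of_check (k := 8) rfl (by decide +kernel)

theorem b1812 : Block F al 463872 464128 239 :=
  block_of_check (k := 8) rfl (by decide +kernel)

theorem b1813 : Block F al 464128 464384 247 :=
  block_of_check (k := 8) rfl (by decide +kernel)

theorem b1814 : Block F al 464384 464640 245 :=
  block_of_check (k := 8) rfl (by decide +kernel)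

theorem b1815 : Block F al 464640 464896 248 :=
  block_of_check (k := 8) rfl (by decide +kernel)

theorem b1816 : Block F al 464896 465152 250 :=
  block_of_check (k := 8) rfl (by decide +kernel)

theorem b1817 : Block F al 465152 465408 250 :=
  block_of_check (k := 8) rfl (by decide +kernel)

theorem b1818 : Block F al 465408 465664 253 :=
  block_of_check (k := 8) rfl (by decide +kernel)

theorem b1819 : Block F al 465664 465920 254 :=
  block_of_check (k := 8) rfl (by decide +kernel)

theorem b1820 : Block F al 465920 466176 240 :=
  block_of_check (k := 8) rfl (by decide +kernel)

theorem b1821 : Block F al 466176 466432 231 :=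
  block_of_check (k := 8) rfl (by decide +kernel)

theorem b1822 : Block F al 466432 466688 246 :=
  block_of_check (k := 8) rfl (by decide +kernel)

theorem b1823 : Block F al 466688 466944 245 :=
  block_of_check (k := 8) rfl (by decide +kernel)

theorem b1824 : Block F al 466944 467200 244 :=
  block_of_check (k := 8) rfl (by decide +kernel)

theorem b1825 : Block F al 467200 467456 254 :=
  block_of_check (k := 8) rfl (by decide +kernel)

theorem b1826 : Block F al 467456 467712 231 :=
  block_of_check (k := 8) rfl (by decide +kernel)

theorem b1827 : Block F al 467712 467968 239 :=
  block_of_check (k := 8) rfl (by decide +kernel)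

theorem b1828 : Block F al 467968 468224 237 :=
  block_of_check (k := 8) rfl (by decide +kernel)

theorem b1829 : Block F al 468224 468480 250 :=
  block_of_check (k := 8) rfl (by decide +kernel)

theorem b1830 : Block F al 468480 468736 253 :=
  block_of_check (k := 8) rfl (by decide +kernel)

end Cfsg.Agent.TcData.HN.I1539000
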