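import Mathlib
import Cfsg.Agent.TcData.HN.I1539000.Tab

set_option autoImplicit false
set_option Elab.async false
set_option maxRecDepth 100000
set_option linter.all false

namespace Cfsg.Agent.TcData.HN.I1539000

open Cfsg.Spor Cfsg.Agent.Lib.TcFacts Cfsg.Agent.Lib.TcBits Cfsg.Agent.Lib.TcPres Cfsg.Spor.HN Cfsg.Agent.TcData.HN

theorem b1831 : Block F al 468736 468992 244 :=
  block_of_check (k := 8) rfl (by decide +kernel)

theorem b1832 : Block F al 468992 469248 254 :=
  block_of_check (k := 8) rfl (by decide +kernel)

theorem b1833 : Block F al 469248 469504 252 :=
  block_of_check (k := 8) rfl (by decide +kernel)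

theorem b1834 : Block F al 469504 469760 240 :=
  block_of_check (k := 8) rfl (by decide +kernel)

theorem b1835 : Block F al 469760 470016 239 :=
  block_of_check (k := 8) rfl (by decide +kernel)

theorem b1836 : Block F al 470016 470272 243 :=
  block_of_check (k := 8) rfl (by decide +kernel)

theorem b1837 : Block F al 470272 470528 232 :=
  block_of_check (k := 8) rfl (by decide +kernel)

theorem b1838 : Block F al 470528 470784 238 :=
  block_of_check (k := 8) rfl (by decide +kernel)

theorem b1839 : Block F al 470784 471040 246 :=
  block_of_check (k := 8) rfl (by decide +kernel)

theorem b1840 : Block F al 471040 471296 243 :=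
  block_of_check (k := 8) rfl (by decide +kernel)

theorem b1841 : Block F al 471296 471552 231 :=
  block_of_check (k := 8) rfl (by decide +kernel)

theorem b1842 : Block F al 471552 471808 248 :=
  block_of_check (k := 8) rfl (by decide +kernel)

theorem b1843 : Block F al 471808 472064 230 :=
  block_of_check (k := 8) rfl (by decide +kernel)

theorem b1844 : Block F al 472064 472320 251 :=
  block_of_check (k := 8) rfl (by decide +kernel)

theorem b1845 : Block F al 472320 472576 227 :=
  block_of_check (k := 8) rfl (by decide +kernel)

theorem b1846 : Block F al 472576 472832 239 :=
  block_of_check (k := 8) rfl (by decide +kernel)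

theorem b1847 : Block F al 472832 473088 247 :=
  block_of_check (k := 8) rfl (by decide +kernel)

theorem b1848 : Block F al 473088 473344 232 :=
  block_of_check (k := 8) rfl (by decide +kernel)

theorem b1849 : Block F al 473344 473600 228 :=
  block_of_check (k := 8) rfl (by decide +kernel)

theorem b1850 : Block F al 473600 473856 229 :=
  block_of_check (k := 8) rfl (by decide +kernel)

theorem b1851 : Block F al 473856 474112 241 :=
  block_of_check (k := 8) rfl (by decide +kernel)

theorem b1852 : Block F al 474112 474368 189 :=
  block_of_check (k := 8) rfl (by decide +kernel)

theorem b1853 : Block F al 474368 474624 237 :=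
  block_of_check (k := 8) rfl (by decide +kernel)

theorem b1854 : Block F al 474624 474880 243 :=
  block_of_check (k := 8) rfl (by decide +kernel)

theorem b1855 : Block F al 474880 475136 251 :=
  block_of_check (k := 8) rfl (by decide +kernel)

theorem b1856 : Block F al 475136 475392 252 :=
  block_of_check (k := 8) rfl (by decide +kernel)

theorem b1857 : Block F al 475392 475648 237 :=
  block_of_check (k := 8) rfl (by decide +kernel)

theorem b1858 : Block F al 475648 475904 234 :=
  block_of_check (k := 8) rfl (by decide +kernel)

theorem b1859 : Block F al 475904 476160 228 :=
  block_of_check (k := 8) rfl (by decide +kernel)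

theorem b1860 : Block F al 476160 476416 256 :=
  block_of_check (k := 8) rfl (by decide +kernel)

theorem b1861 : Block F al 476416 476672 254 :=
  block_of_check (k := 8) rfl (by decide +kernel)

theorem b1862 : Block F al 476672 476928 250 :=
  block_of_check (k := 8) rfl (by decide +kernel)

theorem b1863 : Block F al 476928 477184 247 :=
  block_of_check (k := 8) rfl (by decide +kernel)

theorem b1864 : Block F al 477184 477440 247 :=
  block_of_check (k := 8) rfl (by decide +kernel)

theorem b1865 : Block F al 477440 477696 254 :=
  block_of_check (k := 8) rfl (by decide +kernel)

theorem b1866 : Block F al 477696 477952 247 :=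
  block_of_check (k := 8) rfl (by decide +kernel)

theorem b1867 : Block F al 477952 478208 242 :=
  block_of_check (k := 8) rfl (by decide +kernel)

theorem b1868 : Block F al 478208 478464 234 :=
  block_of_check (k := 8) rfl (by decide +kernel)

theorem b1869 : Block F al 478464 478720 242 :=
  block_of_check (k := 8) rfl (by decide +kernel)

theorem b1870 : Block F al 478720 478976 238 :=
  block_of_check (k := 8) rfl (by decide +kernel)

theorem b1871 : Block F al 478976 479232 249 :=
  block_of_check (k := 8) rfl (by decide +kernel)

theorem b1872 : Block F al 479232 479488 240 :=
  block_of_check (k := 8) rfl (by decide +kernel)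

theorem b1873 : Block F al 479488 479744 249 :=
  block_of_check (k := 8) rfl (by decide +kernel)

theorem b1874 : Block F al 479744 480000 242 :=
  block_of_check (k := 8) rfl (by decide +kernel)

end Cfsg.Agent.TcData.HN.I1539000
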