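import Mathlib
import Cfsg.Agent.TcData.HN.I1539000.Tab

set_option autoImplicit false
set_option Elab.async false
set_option maxRecDepth 100000
set_option linter.all false

namespace Cfsg.Agent.TcData.HN.I1539000

open Cfsg.Spor Cfsg.Agent.Lib.TcFacts Cfsg.Agent.Lib.TcBits Cfsg.Agent.Lib.TcPres Cfsg.Spor.HN Cfsg.Agent.TcData.HN

theorem b1875 : Block F al 480000 480256 249 :=
  block_of_check (k := 8) rfl (by decide +kernel)

theorem b1876 : Block F al 480256 480512 247 :=
  block_of_check (k := 8) rfl (by decide +kernel)

theorem b1877 : Block F al 480512 480768 249 :=
  block_of_check (k := 8) rfl (by decide +kernel)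

theorem b1878 : Block F al 480768 481024 244 :=
  block_of_check (k := 8) rfl (by decide +kernel)

theorem b1879 : Block F al 481024 481280 242 :=
  block_of_check (k := 8) rfl (by decide +kernel)

theorem b1880 : Block F al 481280 481536 248 :=
  block_of_check (k := 8) rfl (by decide +kernel)

theorem b1881 : Block F al 481536 481792 242 :=
  block_of_check (k := 8) rfl (by decide +kernel)

theorem b1882 : Block F al 481792 482048 246 :=
  block_of_check (k := 8) rfl (by decide +kernel)

theorem b1883 : Block F al 482048 482304 227 :=
  block_of_check (k := 8) rfl (by decide +kernel)

theorem b1884 : Block F al 482304 482560 250 :=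
  block_of_check (k := 8) rfl (by decide +kernel)

theorem b1885 : Block F al 482560 482816 252 :=
  block_of_check (k := 8) rfl (by decide +kernel)

theorem b1886 : Block F al 482816 483072 252 :=
  block_of_check (k := 8) rfl (by decide +kernel)

theorem b1887 : Block F al 483072 483328 253 :=
  block_of_check (k := 8) rfl (by decide +kernel)

theorem b1888 : Block F al 483328 483584 248 :=
  block_of_check (k := 8) rfl (by decide +kernel)

theorem b1889 : Block F al 483584 483840 233 :=
  block_of_check (k := 8) rfl (by decide +kernel)

theorem b1890 : Block F al 483840 484096 233 :=
  block_of_check (k := 8) rfl (by decide +kernel)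

theorem b1891 : Block F al 484096 484352 246 :=
  block_of_check (k := 8) rfl (by decide +kernel)

theorem b1892 : Block F al 484352 484608 246 :=
  block_of_check (k := 8) rfl (by decide +kernel)

theorem b1893 : Block F al 484608 484864 251 :=
  block_of_check (k := 8) rfl (by decide +kernel)

theorem b1894 : Block F al 484864 485120 250 :=
  block_of_check (k := 8) rfl (by decide +kernel)

theorem b1895 : Block F al 485120 485376 245 :=
  block_of_check (k := 8) rfl (by decide +kernel)

theorem b1896 : Block F al 485376 485632 243 :=
  block_of_check (k := 8) rfl (by decide +kernel)

theorem b1897 : Block F al 485632 485888 249 :=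
  block_of_check (k := 8) rfl (by decide +kernel)

theorem b1898 : Block F al 485888 486144 252 :=
  block_of_check (k := 8) rfl (by decide +kernel)

theorem b1899 : Block F al 486144 486400 226 :=
  block_of_check (k := 8) rfl (by decide +kernel)

theorem b1900 : Block F al 486400 486656 252 :=
  block_of_check (k := 8) rfl (by decide +kernel)

theorem b1901 : Block F al 486656 486912 241 :=
  block_of_check (k := 8) rfl (by decide +kernel)

theorem b1902 : Block F al 486912 487168 238 :=
  block_of_check (k := 8) rfl (by decide +kernel)

theorem b1903 : Block F al 487168 487424 242 :=
  block_of_check (k := 8) rfl (by decide +kernel)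

theorem b1904 : Block F al 487424 487680 235 :=
  block_of_check (k := 8) rfl (by decide +kernel)

theorem b1905 : Block F al 487680 487936 248 :=
  block_of_check (k := 8) rfl (by decide +kernel)

theorem b1906 : Block F al 487936 488192 240 :=
  block_of_check (k := 8) rfl (by decide +kernel)

theorem b1907 : Block F al 488192 488448 210 :=
  block_of_check (k := 8) rfl (by decide +kernel)

theorem b1908 : Block F al 488448 488704 243 :=
  block_of_check (k := 8) rfl (by decide +kernel)

theorem b1909 : Block F al 488704 488960 231 :=
  block_of_check (k := 8) rfl (by decide +kernel)

theorem b1910 : Block F al 488960 489216 246 :=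
  block_of_check (k := 8) rfl (by decide +kernel)

theorem b1911 : Block F al 489216 489472 249 :=
  block_of_check (k := 8) rfl (by decide +kernel)

theorem b1912 : Block F al 489472 489728 230 :=
  block_of_check (k := 8) rfl (by decide +kernel)

theorem b1913 : Block F al 489728 489984 237 :=
  block_of_check (k := 8) rfl (by decide +kernel)

theorem b1914 : Block F al 489984 490240 236 :=
  block_of_check (k := 8) rfl (by decide +kernel)

theorem b1915 : Block F al 490240 490496 241 :=
  block_of_check (k := 8) rfl (by decide +kernel)

theorem b1916 : Block F al 490496 490752 237 :=
  block_of_check (k := 8) rfl (by decide +kernel)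

theorem b1917 : Block F al 490752 491008 250 :=
  block_of_check (k := 8) rfl (by decide +kernel)

end Cfsg.Agent.TcData.HN.I1539000
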