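import Mathlib
import Cfsg.Agent.TcData.HN.I1539000.Tab

set_option autoImplicit false
set_option Elab.async false
set_option maxRecDepth 100000
set_option linter.all false

namespace Cfsg.Agent.TcData.HN.I1539000

open Cfsg.Spor Cfsg.Agent.Lib.TcFacts Cfsg.Agent.Lib.TcBits Cfsg.Agent.Lib.TcPres Cfsg.Spor.HN Cfsg.Agent.TcData.HN

theorem b217 : Block F al 55552 55808 245 :=
  block_of_check (k := 8) rfl (by decide +kernel)

theorem b218 : Block F al 55808 56064 236 :=
  block_of_check (k := 8) rfl (by decide +kernel)

theorem b219 : Block F al 56064 56320 197 :=
  block_of_check (k := 8) rfl (by decide +kernel)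

theorem b220 : Block F al 56320 56576 255 :=
  block_of_check (k := 8) rfl (by decide +kernel)

theorem b221 : Block F al 56576 56832 226 :=
  block_of_check (k := 8) rfl (by decide +kernel)

theorem b222 : Block F al 56832 57088 252 :=
  block_of_check (k := 8) rfl (by decide +kernel)

theorem b223 : Block F al 57088 57344 252 :=
  block_of_check (k := 8) rfl (by decide +kernel)

theorem b224 : Block F al 57344 57600 256 :=
  block_of_check (k := 8) rfl (by decide +kernel)

theorem b225 : Block F al 57600 57856 239 :=
  block_of_check (k := 8) rfl (by decide +kernel)

theorem b226 : Block F al 57856 58112 253 :=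
  block_of_check (k := 8) rfl (by decide +kernel)

theorem b227 : Block F al 58112 58368 248 :=
  block_of_check (k := 8) rfl (by decide +kernel)

theorem b228 : Block F al 58368 58624 235 :=
  block_of_check (k := 8) rfl (by decide +kernel)

theorem b229 : Block F al 58624 58880 247 :=
  block_of_check (k := 8) rfl (by decide +kernel)

theorem b230 : Block F al 58880 59136 238 :=
  block_of_check (k := 8) rfl (by decide +kernel)

theorem b231 : Block F al 59136 59392 252 :=
  block_of_check (k := 8) rfl (by decide +kernel)

theorem b232 : Block F al 59392 59648 256 :=
  block_of_check (k := 8) rfl (by decide +kernel)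

theorem b233 : Block F al 59648 59904 254 :=
  block_of_check (k := 8) rfl (by decide +kernel)

theorem b234 : Block F al 59904 60160 239 :=
  block_of_check (k := 8) rfl (by decide +kernel)

theorem b235 : Block F al 60160 60416 246 :=
  block_of_check (k := 8) rfl (by decide +kernel)

theorem b236 : Block F al 60416 60672 227 :=
  block_of_check (k := 8) rfl (by decide +kernel)

theorem b237 : Block F al 60672 60928 238 :=
  block_of_check (k := 8) rfl (by decide +kernel)

theorem b238 : Block F al 60928 61184 250 :=
  block_of_check (k := 8) rfl (by decide +kernel)

theorem b239 : Block F al 61184 61440 246 :=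
  block_of_check (k := 8) rfl (by decide +kernel)

theorem b240 : Block F al 61440 61696 252 :=
  block_of_check (k := 8) rfl (by decide +kernel)

theorem b241 : Block F al 61696 61952 254 :=
  block_of_check (k := 8) rfl (by decide +kernel)

theorem b242 : Block F al 61952 62208 238 :=
  block_of_check (k := 8) rfl (by decide +kernel)

theorem b243 : Block F al 62208 62464 244 :=
  block_of_check (k := 8) rfl (by decide +kernel)

theorem b244 : Block F al 62464 62720 256 :=
  block_of_check (k := 8) rfl (by decide +kernel)

theorem b245 : Block F al 62720 62976 253 :=
  block_of_check (k := 8) rfl (by decide +kernel)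

theorem b246 : Block F al 62976 63232 246 :=
  block_of_check (k := 8) rfl (by decide +kernel)

theorem b247 : Block F al 63232 63488 245 :=
  block_of_check (k := 8) rfl (by decide +kernel)

theorem b248 : Block F al 63488 63744 243 :=
  block_of_check (k := 8) rfl (by decide +kernel)

theorem b249 : Block F al 63744 64000 239 :=
  block_of_check (k := 8) rfl (by decide +kernel)

theorem b250 : Block F al 64000 64256 222 :=
  block_of_check (k := 8) rfl (by decide +kernel)

theorem b251 : Block F al 64256 64512 232 :=
  block_of_check (k := 8) rfl (by decide +kernel)

theorem b252 : Block F al 64512 64768 245 :=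
  block_of_check (k := 8) rfl (by decide +kernel)

theorem b253 : Block F al 64768 65024 238 :=
  block_of_check (k := 8) rfl (by decide +kernel)

theorem b254 : Block F al 65024 65280 235 :=
  block_of_check (k := 8) rfl (by decide +kernel)

theorem b255 : Block F al 65280 65536 238 :=
  block_of_check (k := 8) rfl (by decide +kernel)

theorem b256 : Block F al 65536 65792 255 :=
  block_of_check (k := 8) rfl (by decide +kernel)

theorem b257 : Block F al 65792 66048 249 :=
  block_of_check (k := 8) rfl (by decide +kernel)

theorem b258 : Block F al 66048 66304 231 :=
  block_of_check (k := 8) rfl (by decide +kernel)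

theorem b259 : Block F al 66304 66560 233 :=
  block_of_check (k := 8) rfl (by decide +kernel)

theorem b260 : Block F al 66560 66816 245 :=
  block_of_check (k := 8) rfl (by decide +kernel)

theorem b261 : Block F al 66816 67072 239 :=
  block_of_check (k := 8) rfl (by decide +kernel)

theorem b262 : Block F al 67072 67328 244 :=
  block_of_check (k := 8) rfl (by decide +kernel)

theorem b263 : Block F al 67328 67584 249 :=
  block_of_check (k := 8) rfl (by decide +kernel)

theorem b264 : Block F al 67584 67840 239 :=
  block_of_check (k := 8) rfl (by decide +kernel)

theorem b265 : Block F al 67840 68096 218 :=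
  block_of_check (k := 8) rfl (by decide +kernel)

theorem b266 : Block F al 68096 68352 241 :=
  block_of_check (k := 8) rfl (by decide +kernel)

theorem b267 : Block F al 68352 68608 245 :=
  block_of_check (k := 8) rfl (by decide +kernel)

theorem b268 : Block F al 68608 68864 228 :=
  block_of_check (k := 8) rfl (by decide +kernel)

theorem b269 : Block F al 68864 69120 248 :=
  block_of_check (k := 8) rfl (by decide +kernel)

end Cfsg.Agent.TcData.HN.I1539000
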