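import Mathlib
import Cfsg.Agent.TcData.HN.I1539000.Tab

set_option autoImplicit false
set_option Elab.async false
set_option maxRecDepth 100000
set_option linter.all false

namespace Cfsg.Agent.TcData.HN.I1539000

open Cfsg.Spor Cfsg.Agent.Lib.TcFacts Cfsg.Agent.Lib.TcBits Cfsg.Agent.Lib.TcPres Cfsg.Spor.HN Cfsg.Agent.TcData.HN

theorem b1918 : Block F al 491008 491264 232 :=
  block_of_check (k := 8) rfl (by decide +kernel)

theorem b1919 : Block F al 491264 491520 232 :=
  block_of_check (k := 8) rfl (by decide +kernel)

theorem b1920 : Block F al 491520 491776 246 :=
  block_of_check (k := 8) rfl (by decide +kernel)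

theorem b1921 : Block F al 491776 492032 233 :=
  block_of_check (k := 8) rfl (by decide +kernel)

theorem b1922 : Block F al 492032 492288 252 :=
  block_of_check (k := 8) rfl (by decide +kernel)

theorem b1923 : Block F al 492288 492544 227 :=
  block_of_check (k := 8) rfl (by decide +kernel)

theorem b1924 : Block F al 492544 492800 245 :=
  block_of_check (k := 8) rfl (by decide +kernel)

theorem b1925 : Block F al 492800 493056 248 :=
  block_of_check (k := 8) rfl (by decide +kernel)

theorem b1926 : Block F al 493056 493312 247 :=
  block_of_check (k := 8) rfl (by decide +kernel)

theorem b1927 : Block F al 493312 493568 242 :=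
  block_of_check (k := 8) rfl (by decide +kernel)

theorem b1928 : Block F al 493568 493824 234 :=
  block_of_check (k := 8) rfl (by decide +kernel)

theorem b1929 : Block F al 493824 494080 250 :=
  block_of_check (k := 8) rfl (by decide +kernel)

theorem b1930 : Block F al 494080 494336 247 :=
  block_of_check (k := 8) rfl (by decide +kernel)

theorem b1931 : Block F al 494336 494592 242 :=
  block_of_check (k := 8) rfl (by decide +kernel)

theorem b1932 : Block F al 494592 494848 230 :=
  block_of_check (k := 8) rfl (by decide +kernel)

theorem b1933 : Block F al 494848 495104 243 :=
  block_of_check (k := 8) rfl (by decide +kernel)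

theorem b1934 : Block F al 495104 495360 229 :=
  block_of_check (k := 8) rfl (by decide +kernel)

theorem b1935 : Block F al 495360 495616 227 :=
  block_of_check (k := 8) rfl (by decide +kernel)

theorem b1936 : Block F al 495616 495872 246 :=
  block_of_check (k := 8) rfl (by decide +kernel)

theorem b1937 : Block F al 495872 496128 241 :=
  block_of_check (k := 8) rfl (by decide +kernel)

theorem b1938 : Block F al 496128 496384 242 :=
  block_of_check (k := 8) rfl (by decide +kernel)

theorem b1939 : Block F al 496384 496640 237 :=
  block_of_check (k := 8) rfl (by decide +kernel)

theorem b1940 : Block F al 496640 496896 239 :=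
  block_of_check (k := 8) rfl (by decide +kernel)

theorem b1941 : Block F al 496896 497152 243 :=
  block_of_check (k := 8) rfl (by decide +kernel)

theorem b1942 : Block F al 497152 497408 247 :=
  block_of_check (k := 8) rfl (by decide +kernel)

theorem b1943 : Block F al 497408 497664 244 :=
  block_of_check (k := 8) rfl (by decide +kernel)

theorem b1944 : Block F al 497664 497920 251 :=
  block_of_check (k := 8) rfl (by decide +kernel)

theorem b1945 : Block F al 497920 498176 242 :=
  block_of_check (k := 8) rfl (by decide +kernel)

theorem b1946 : Block F al 498176 498432 236 :=
  block_of_check (k := 8) rfl (by decide +kernel)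

theorem b1947 : Block F al 498432 498688 240 :=
  block_of_check (k := 8) rfl (by decide +kernel)

theorem b1948 : Block F al 498688 498944 246 :=
  block_of_check (k := 8) rfl (by decide +kernel)

theorem b1949 : Block F al 498944 499200 246 :=
  block_of_check (k := 8) rfl (by decide +kernel)

theorem b1950 : Block F al 499200 499456 236 :=
  block_of_check (k := 8) rfl (by decide +kernel)

theorem b1951 : Block F al 499456 499712 249 :=
  block_of_check (k := 8) rfl (by decide +kernel)

theorem b1952 : Block F al 499712 499968 246 :=
  block_of_check (k := 8) rfl (by decide +kernel)

theorem b1953 : Block F al 499968 500224 252 :=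
  block_of_check (k := 8) rfl (by decide +kernel)

theorem b1954 : Block F al 500224 500480 242 :=
  block_of_check (k := 8) rfl (by decide +kernel)

theorem b1955 : Block F al 500480 500736 237 :=
  block_of_check (k := 8) rfl (by decide +kernel)

theorem b1956 : Block F al 500736 500992 252 :=
  block_of_check (k := 8) rfl (by decide +kernel)

theorem b1957 : Block F al 500992 501248 242 :=
  block_of_check (k := 8) rfl (by decide +kernel)

theorem b1958 : Block F al 501248 501504 249 :=
  block_of_check (k := 8) rfl (by decide +kernel)

theorem b1959 : Block F al 501504 501760 251 :=
  block_of_check (k := 8) rfl (by decide +kernel)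

end Cfsg.Agent.TcData.HN.I1539000
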