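import Mathlib
import Cfsg.Agent.TcData.HN.I1539000.Tab

set_option autoImplicit false
set_option Elab.async false
set_option maxRecDepth 100000
set_option linter.all false

namespace Cfsg.Agent.TcData.HN.I1539000

open Cfsg.Spor Cfsg.Agent.Lib.TcFacts Cfsg.Agent.Lib.TcBits Cfsg.Agent.Lib.TcPres Cfsg.Spor.HN Cfsg.Agent.TcData.HN

theorem b1960 : Block F al 501760 502016 250 :=
  block_of_check (k := 8) rfl (by decide +kernel)

theorem b1961 : Block F al 502016 502272 245 :=
  block_of_check (k := 8) rfl (by decide +kernel)

theorem b1962 : Block F al 502272 502528 243 :=
  block_of_check (k := 8) rfl (by decide +kernel)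

theorem b1963 : Block F al 502528 502784 226 :=
  block_of_check (k := 8) rfl (by decide +kernel)

theorem b1964 : Block F al 502784 503040 220 :=
  block_of_check (k := 8) rfl (by decide +kernel)

theorem b1965 : Block F al 503040 503296 219 :=
  block_of_check (k := 8) rfl (by decide +kernel)

theorem b1966 : Block F al 503296 503552 249 :=
  block_of_check (k := 8) rfl (by decide +kernel)

theorem b1967 : Block F al 503552 503808 250 :=
  block_of_check (k := 8) rfl (by decide +kernel)

theorem b1968 : Block F al 503808 504064 249 :=
  block_of_check (k := 8) rfl (by decide +kernel)

theorem b1969 : Block F al 504064 504320 241 :=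
  block_of_check (k := 8) rfl (by decide +kernel)

theorem b1970 : Block F al 504320 504576 242 :=
  block_of_check (k := 8) rfl (by decide +kernel)

theorem b1971 : Block F al 504576 504832 239 :=
  block_of_check (k := 8) rfl (by decide +kernel)

theorem b1972 : Block F al 504832 505088 246 :=
  block_of_check (k := 8) rfl (by decide +kernel)

theorem b1973 : Block F al 505088 505344 235 :=
  block_of_check (k := 8) rfl (by decide +kernel)

theorem b1974 : Block F al 505344 505600 223 :=
  block_of_check (k := 8) rfl (by decide +kernel)

theorem b1975 : Block F al 505600 505856 208 :=
  block_of_check (k := 8) rfl (by decide +kernel)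

theorem b1976 : Block F al 505856 506112 223 :=
  block_of_check (k := 8) rfl (by decide +kernel)

theorem b1977 : Block F al 506112 506368 238 :=
  block_of_check (k := 8) rfl (by decide +kernel)

theorem b1978 : Block F al 506368 506624 253 :=
  block_of_check (k := 8) rfl (by decide +kernel)

theorem b1979 : Block F al 506624 506880 243 :=
  block_of_check (k := 8) rfl (by decide +kernel)

theorem b1980 : Block F al 506880 507136 250 :=
  block_of_check (k := 8) rfl (by decide +kernel)

theorem b1981 : Block F al 507136 507392 248 :=
  block_of_check (k := 8) rfl (by decide +kernel)

theorem b1982 : Block F al 507392 507648 248 :=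
  block_of_check (k := 8) rfl (by decide +kernel)

theorem b1983 : Block F al 507648 507904 250 :=
  block_of_check (k := 8) rfl (by decide +kernel)

theorem b1984 : Block F al 507904 508160 252 :=
  block_of_check (k := 8) rfl (by decide +kernel)

theorem b1985 : Block F al 508160 508416 235 :=
  block_of_check (k := 8) rfl (by decide +kernel)

theorem b1986 : Block F al 508416 508672 249 :=
  block_of_check (k := 8) rfl (by decide +kernel)

theorem b1987 : Block F al 508672 508928 222 :=
  block_of_check (k := 8) rfl (by decide +kernel)

theorem b1988 : Block F al 508928 509184 240 :=
  block_of_check (k := 8) rfl (by decide +kernel)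

theorem b1989 : Block F al 509184 509440 231 :=
  block_of_check (k := 8) rfl (by decide +kernel)

theorem b1990 : Block F al 509440 509696 249 :=
  block_of_check (k := 8) rfl (by decide +kernel)

theorem b1991 : Block F al 509696 509952 244 :=
  block_of_check (k := 8) rfl (by decide +kernel)

theorem b1992 : Block F al 509952 510208 248 :=
  block_of_check (k := 8) rfl (by decide +kernel)

theorem b1993 : Block F al 510208 510464 241 :=
  block_of_check (k := 8) rfl (by decide +kernel)

theorem b1994 : Block F al 510464 510720 252 :=
  block_of_check (k := 8) rfl (by decide +kernel)

theorem b1995 : Block F al 510720 510976 246 :=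
  block_of_check (k := 8) rfl (by decide +kernel)

theorem b1996 : Block F al 510976 511232 251 :=
  block_of_check (k := 8) rfl (by decide +kernel)

theorem b1997 : Block F al 511232 511488 246 :=
  block_of_check (k := 8) rfl (by decide +kernel)

theorem b1998 : Block F al 511488 511744 250 :=
  block_of_check (k := 8) rfl (by decide +kernel)

theorem b1999 : Block F al 511744 512000 233 :=
  block_of_check (k := 8) rfl (by decide +kernel)

theorem b2000 : Block F al 512000 512256 207 :=
  block_of_check (k := 8) rfl (by decide +kernel)

theorem b2001 : Block F al 512256 512512 209 :=
  block_of_check (k := 8) rfl (by decide +kernel)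

theorem b2002 : Block F al 512512 512768 218 :=
  block_of_check (k := 8) rfl (by decide +kernel)

theorem b2003 : Block F al 512768 513024 253 :=
  block_of_check (k := 8) rfl (by decide +kernel)

end Cfsg.Agent.TcData.HN.I1539000
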