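import Mathlib
import Cfsg.Agent.TcData.HN.I1539000.Tab

set_option autoImplicit false
set_option Elab.async false
set_option maxRecDepth 100000
set_option linter.all false

namespace Cfsg.Agent.TcData.HN.I1539000

open Cfsg.Spor Cfsg.Agent.Lib.TcFacts Cfsg.Agent.Lib.TcBits Cfsg.Agent.Lib.TcPres Cfsg.Spor.HN Cfsg.Agent.TcData.HN

theorem b2004 : Block F al 513024 513280 246 :=
  block_of_check (k := 8) rfl (by decide +kernel)

theorem b2005 : Block F al 513280 513536 241 :=
  block_of_check (k := 8) rfl (by decide +kernel)

theorem b2006 : Block F al 513536 513792 256 :=
  block_of_check (k := 8) rfl (by decide +kernel)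

theorem b2007 : Block F al 513792 514048 236 :=
  block_of_check (k := 8) rfl (by decide +kernel)

theorem b2008 : Block F al 514048 514304 254 :=
  block_of_check (k := 8) rfl (by decide +kernel)

theorem b2009 : Block F al 514304 514560 240 :=
  block_of_check (k := 8) rfl (by decide +kernel)

theorem b2010 : Block F al 514560 514816 225 :=
  block_of_check (k := 8) rfl (by decide +kernel)

theorem b2011 : Block F al 514816 515072 247 :=
  block_of_check (k := 8) rfl (by decide +kernel)

theorem b2012 : Block F al 515072 515328 254 :=
  block_of_check (k := 8) rfl (by decide +kernel)

theorem b2013 : Block F al 515328 515584 231 :=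
  block_of_check (k := 8) rfl (by decide +kernel)

theorem b2014 : Block F al 515584 515840 242 :=
  block_of_check (k := 8) rfl (by decide +kernel)

theorem b2015 : Block F al 515840 516096 244 :=
  block_of_check (k := 8) rfl (by decide +kernel)

theorem b2016 : Block F al 516096 516352 232 :=
  block_of_check (k := 8) rfl (by decide +kernel)

theorem b2017 : Block F al 516352 516608 210 :=
  block_of_check (k := 8) rfl (by decide +kernel)

theorem b2018 : Block F al 516608 516864 233 :=
  block_of_check (k := 8) rfl (by decide +kernel)

theorem b2019 : Block F al 516864 517120 254 :=
  block_of_check (k := 8) rfl (by decide +kernel)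

theorem b2020 : Block F al 517120 517376 241 :=
  block_of_check (k := 8) rfl (by decide +kernel)

theorem b2021 : Block F al 517376 517632 243 :=
  block_of_check (k := 8) rfl (by decide +kernel)

theorem b2022 : Block F al 517632 517888 249 :=
  block_of_check (k := 8) rfl (by decide +kernel)

theorem b2023 : Block F al 517888 518144 240 :=
  block_of_check (k := 8) rfl (by decide +kernel)

theorem b2024 : Block F al 518144 518400 241 :=
  block_of_check (k := 8) rfl (by decide +kernel)

theorem b2025 : Block F al 518400 518656 235 :=
  block_of_check (k := 8) rfl (by decide +kernel)

theorem b2026 : Block F al 518656 518912 238 :=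
  block_of_check (k := 8) rfl (by decide +kernel)

theorem b2027 : Block F al 518912 519168 241 :=
  block_of_check (k := 8) rfl (by decide +kernel)

theorem b2028 : Block F al 519168 519424 240 :=
  block_of_check (k := 8) rfl (by decide +kernel)

theorem b2029 : Block F al 519424 519680 251 :=
  block_of_check (k := 8) rfl (by decide +kernel)

theorem b2030 : Block F al 519680 519936 247 :=
  block_of_check (k := 8) rfl (by decide +kernel)

theorem b2031 : Block F al 519936 520192 251 :=
  block_of_check (k := 8) rfl (by decide +kernel)

theorem b2032 : Block F al 520192 520448 239 :=
  block_of_check (k := 8) rfl (by decide +kernel)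

theorem b2033 : Block F al 520448 520704 226 :=
  block_of_check (k := 8) rfl (by decide +kernel)

theorem b2034 : Block F al 520704 520960 221 :=
  block_of_check (k := 8) rfl (by decide +kernel)

theorem b2035 : Block F al 520960 521216 207 :=
  block_of_check (k := 8) rfl (by decide +kernel)

theorem b2036 : Block F al 521216 521472 239 :=
  block_of_check (k := 8) rfl (by decide +kernel)

theorem b2037 : Block F al 521472 521728 212 :=
  block_of_check (k := 8) rfl (by decide +kernel)

theorem b2038 : Block F al 521728 521984 198 :=
  block_of_check (k := 8) rfl (by decide +kernel)

theorem b2039 : Block F al 521984 522240 224 :=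
  block_of_check (k := 8) rfl (by decide +kernel)

theorem b2040 : Block F al 522240 522496 243 :=
  block_of_check (k := 8) rfl (by decide +kernel)

theorem b2041 : Block F al 522496 522752 232 :=
  block_of_check (k := 8) rfl (by decide +kernel)

theorem b2042 : Block F al 522752 523008 229 :=
  block_of_check (k := 8) rfl (by decide +kernel)

theorem b2043 : Block F al 523008 523264 236 :=
  block_of_check (k := 8) rfl (by decide +kernel)

theorem b2044 : Block F al 523264 523520 242 :=
  block_of_check (k := 8) rfl (by decide +kernel)

theorem b2045 : Block F al 523520 523776 232 :=
  block_of_check (k := 8) rfl (by decide +kernel)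

theorem b2046 : Block F al 523776 524032 230 :=
  block_of_check (k := 8) rfl (by decide +kernel)

theorem b2047 : Block F al 524032 524288 238 :=
  block_of_check (k := 8) rfl (by decide +kernel)

end Cfsg.Agent.TcData.HN.I1539000
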