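import Mathlib
import Cfsg.Agent.TcData.HN.I1539000.Tab

set_option autoImplicit false
set_option Elab.async false
set_option maxRecDepth 100000
set_option linter.all false

namespace Cfsg.Agent.TcData.HN.I1539000

open Cfsg.Spor Cfsg.Agent.Lib.TcFacts Cfsg.Agent.Lib.TcBits Cfsg.Agent.Lib.TcPres Cfsg.Spor.HN Cfsg.Agent.TcData.HN

theorem b2048 : Block F al 524288 524544 236 :=
  block_of_check (k := 8) rfl (by decide +kernel)

theorem b2049 : Block F al 524544 524800 246 :=
  block_of_check (k := 8) rfl (by decide +kernel)

theorem b2050 : Block F al 524800 525056 237 :=
  block_of_check (k := 8) rfl (by decide +kernel)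

theorem b2051 : Block F al 525056 525312 227 :=
  block_of_check (k := 8) rfl (by decide +kernel)

theorem b2052 : Block F al 525312 525568 215 :=
  block_of_check (k := 8) rfl (by decide +kernel)

theorem b2053 : Block F al 525568 525824 229 :=
  block_of_check (k := 8) rfl (by decide +kernel)

theorem b2054 : Block F al 525824 526080 235 :=
  block_of_check (k := 8) rfl (by decide +kernel)

theorem b2055 : Block F al 526080 526336 246 :=
  block_of_check (k := 8) rfl (by decide +kernel)

theorem b2056 : Block F al 526336 526592 242 :=
  block_of_check (k := 8) rfl (by decide +kernel)

theorem b2057 : Block F al 526592 526848 236 :=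
  block_of_check (k := 8) rfl (by decide +kernel)

theorem b2058 : Block F al 526848 527104 238 :=
  block_of_check (k := 8) rfl (by decide +kernel)

theorem b2059 : Block F al 527104 527360 218 :=
  block_of_check (k := 8) rfl (by decide +kernel)

theorem b2060 : Block F al 527360 527616 234 :=
  block_of_check (k := 8) rfl (by decide +kernel)

theorem b2061 : Block F al 527616 527872 238 :=
  block_of_check (k := 8) rfl (by decide +kernel)

theorem b2062 : Block F al 527872 528128 228 :=
  block_of_check (k := 8) rfl (by decide +kernel)

theorem b2063 : Block F al 528128 528384 231 :=
  block_of_check (k := 8) rfl (by decide +kernel)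

theorem b2064 : Block F al 528384 528640 240 :=
  block_of_check (k := 8) rfl (by decide +kernel)

theorem b2065 : Block F al 528640 528896 234 :=
  block_of_check (k := 8) rfl (by decide +kernel)

theorem b2066 : Block F al 528896 529152 238 :=
  block_of_check (k := 8) rfl (by decide +kernel)

theorem b2067 : Block F al 529152 529408 243 :=
  block_of_check (k := 8) rfl (by decide +kernel)

theorem b2068 : Block F al 529408 529664 235 :=
  block_of_check (k := 8) rfl (by decide +kernel)

theorem b2069 : Block F al 529664 529920 226 :=
  block_of_check (k := 8) rfl (by decide +kernel)

theorem b2070 : Block F al 529920 530176 218 :=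
  block_of_check (k := 8) rfl (by decide +kernel)

theorem b2071 : Block F al 530176 530432 232 :=
  block_of_check (k := 8) rfl (by decide +kernel)

theorem b2072 : Block F al 530432 530688 239 :=
  block_of_check (k := 8) rfl (by decide +kernel)

theorem b2073 : Block F al 530688 530944 241 :=
  block_of_check (k := 8) rfl (by decide +kernel)

theorem b2074 : Block F al 530944 531200 239 :=
  block_of_check (k := 8) rfl (by decide +kernel)

theorem b2075 : Block F al 531200 531456 224 :=
  block_of_check (k := 8) rfl (by decide +kernel)

theorem b2076 : Block F al 531456 531712 234 :=
  block_of_check (k := 8) rfl (by decide +kernel)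

theorem b2077 : Block F al 531712 531968 245 :=
  block_of_check (k := 8) rfl (by decide +kernel)

theorem b2078 : Block F al 531968 532224 245 :=
  block_of_check (k := 8) rfl (by decide +kernel)

theorem b2079 : Block F al 532224 532480 253 :=
  block_of_check (k := 8) rfl (by decide +kernel)

theorem b2080 : Block F al 532480 532736 243 :=
  block_of_check (k := 8) rfl (by decide +kernel)

theorem b2081 : Block F al 532736 532992 248 :=
  block_of_check (k := 8) rfl (by decide +kernel)

theorem b2082 : Block F al 532992 533248 247 :=
  block_of_check (k := 8) rfl (by decide +kernel)

theorem b2083 : Block F al 533248 533504 249 :=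
  block_of_check (k := 8) rfl (by decide +kernel)

theorem b2084 : Block F al 533504 533760 242 :=
  block_of_check (k := 8) rfl (by decide +kernel)

theorem b2085 : Block F al 533760 534016 254 :=
  block_of_check (k := 8) rfl (by decide +kernel)

theorem b2086 : Block F al 534016 534272 249 :=
  block_of_check (k := 8) rfl (by decide +kernel)

theorem b2087 : Block F al 534272 534528 249 :=
  block_of_check (k := 8) rfl (by decide +kernel)

theorem b2088 : Block F al 534528 534784 251 :=
  block_of_check (k := 8) rfl (by decide +kernel)

theorem b2089 : Block F al 534784 535040 252 :=
  block_of_check (k := 8) rfl (by decide +kernel)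

theorem b2090 : Block F al 535040 535296 241 :=
  block_of_check (k := 8) rfl (by decide +kernel)

end Cfsg.Agent.TcData.HN.I1539000
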