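import Mathlib
import Cfsg.Agent.TcData.HN.I1539000.Tab

set_option autoImplicit false
set_option Elab.async false
set_option maxRecDepth 100000
set_option linter.all false

namespace Cfsg.Agent.TcData.HN.I1539000

open Cfsg.Spor Cfsg.Agent.Lib.TcFacts Cfsg.Agent.Lib.TcBits Cfsg.Agent.Lib.TcPres Cfsg.Spor.HN Cfsg.Agent.TcData.HN

theorem b2091 : Block F al 535296 535552 245 :=
  block_of_check (k := 8) rfl (by decide +kernel)

theorem b2092 : Block F al 535552 535808 253 :=
  block_of_check (k := 8) rfl (by decide +kernel)

theorem b2093 : Block F al 535808 536064 251 :=
  block_of_check (k := 8) rfl (by decide +kernel)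

theorem b2094 : Block F al 536064 536320 240 :=
  block_of_check (k := 8) rfl (by decide +kernel)

theorem b2095 : Block F al 536320 536576 229 :=
  block_of_check (k := 8) rfl (by decide +kernel)

theorem b2096 : Block F al 536576 536832 225 :=
  block_of_check (k := 8) rfl (by decide +kernel)

theorem b2097 : Block F al 536832 537088 223 :=
  block_of_check (k := 8) rfl (by decide +kernel)

theorem b2098 : Block F al 537088 537344 245 :=
  block_of_check (k := 8) rfl (by decide +kernel)

theorem b2099 : Block F al 537344 537600 235 :=
  block_of_check (k := 8) rfl (by decide +kernel)

theorem b2100 : Block F al 537600 537856 249 :=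
  block_of_check (k := 8) rfl (by decide +kernel)

theorem b2101 : Block F al 537856 538112 224 :=
  block_of_check (k := 8) rfl (by decide +kernel)

theorem b2102 : Block F al 538112 538368 251 :=
  block_of_check (k := 8) rfl (by decide +kernel)

theorem b2103 : Block F al 538368 538624 242 :=
  block_of_check (k := 8) rfl (by decide +kernel)

theorem b2104 : Block F al 538624 538880 249 :=
  block_of_check (k := 8) rfl (by decide +kernel)

theorem b2105 : Block F al 538880 539136 245 :=
  block_of_check (k := 8) rfl (by decide +kernel)

theorem b2106 : Block F al 539136 539392 240 :=
  block_of_check (k := 8) rfl (by decide +kernel)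

theorem b2107 : Block F al 539392 539648 242 :=
  block_of_check (k := 8) rfl (by decide +kernel)

theorem b2108 : Block F al 539648 539904 245 :=
  block_of_check (k := 8) rfl (by decide +kernel)

theorem b2109 : Block F al 539904 540160 233 :=
  block_of_check (k := 8) rfl (by decide +kernel)

theorem b2110 : Block F al 540160 540416 250 :=
  block_of_check (k := 8) rfl (by decide +kernel)

theorem b2111 : Block F al 540416 540672 244 :=
  block_of_check (k := 8) rfl (by decide +kernel)

theorem b2112 : Block F al 540672 540928 238 :=
  block_of_check (k := 8) rfl (by decide +kernel)

theorem b2113 : Block F al 540928 541184 248 :=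
  block_of_check (k := 8) rfl (by decide +kernel)

theorem b2114 : Block F al 541184 541440 229 :=
  block_of_check (k := 8) rfl (by decide +kernel)

theorem b2115 : Block F al 541440 541696 239 :=
  block_of_check (k := 8) rfl (by decide +kernel)

theorem b2116 : Block F al 541696 541952 243 :=
  block_of_check (k := 8) rfl (by decide +kernel)

theorem b2117 : Block F al 541952 542208 252 :=
  block_of_check (k := 8) rfl (by decide +kernel)

theorem b2118 : Block F al 542208 542464 247 :=
  block_of_check (k := 8) rfl (by decide +kernel)

theorem b2119 : Block F al 542464 542720 236 :=
  block_of_check (k := 8) rfl (by decide +kernel)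

theorem b2120 : Block F al 542720 542976 245 :=
  block_of_check (k := 8) rfl (by decide +kernel)

theorem b2121 : Block F al 542976 543232 218 :=
  block_of_check (k := 8) rfl (by decide +kernel)

theorem b2122 : Block F al 543232 543488 228 :=
  block_of_check (k := 8) rfl (by decide +kernel)

theorem b2123 : Block F al 543488 543744 245 :=
  block_of_check (k := 8) rfl (by decide +kernel)

theorem b2124 : Block F al 543744 544000 243 :=
  block_of_check (k := 8) rfl (by decide +kernel)

theorem b2125 : Block F al 544000 544256 239 :=
  block_of_check (k := 8) rfl (by decide +kernel)

theorem b2126 : Block F al 544256 544512 213 :=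
  block_of_check (k := 8) rfl (by decide +kernel)

theorem b2127 : Block F al 544512 544768 228 :=
  block_of_check (k := 8) rfl (by decide +kernel)

theorem b2128 : Block F al 544768 545024 246 :=
  block_of_check (k := 8) rfl (by decide +kernel)

theorem b2129 : Block F al 545024 545280 246 :=
  block_of_check (k := 8) rfl (by decide +kernel)

theorem b2130 : Block F al 545280 545536 244 :=
  block_of_check (k := 8) rfl (by decide +kernel)

theorem b2131 : Block F al 545536 545792 252 :=
  block_of_check (k := 8) rfl (by decide +kernel)

theorem b2132 : Block F al 545792 546048 237 :=
  block_of_check (k := 8) rfl (by decide +kernel)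

theorem b2133 : Block F al 546048 546304 222 :=
  block_of_check (k := 8) rfl (by decide +kernel)

end Cfsg.Agent.TcData.HN.I1539000
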