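import Mathlib
import Cfsg.Agent.TcData.HN.I1539000.Tab

set_option autoImplicit false
set_option Elab.async false
set_option maxRecDepth 100000
set_option linter.all false

namespace Cfsg.Agent.TcData.HN.I1539000

open Cfsg.Spor Cfsg.Agent.Lib.TcFacts Cfsg.Agent.Lib.TcBits Cfsg.Agent.Lib.TcPres Cfsg.Spor.HN Cfsg.Agent.TcData.HN

theorem b2134 : Block F al 546304 546560 232 :=
  block_of_check (k := 8) rfl (by decide +kernel)

theorem b2135 : Block F al 546560 546816 241 :=
  block_of_check (k := 8) rfl (by decide +kernel)

theorem b2136 : Block F al 546816 547072 253 :=
  block_of_check (k := 8) rfl (by decide +kernel)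

theorem b2137 : Block F al 547072 547328 240 :=
  block_of_check (k := 8) rfl (by decide +kernel)

theorem b2138 : Block F al 547328 547584 236 :=
  block_of_check (k := 8) rfl (by decide +kernel)

theorem b2139 : Block F al 547584 547840 239 :=
  block_of_check (k := 8) rfl (by decide +kernel)

theorem b2140 : Block F al 547840 548096 238 :=
  block_of_check (k := 8) rfl (by decide +kernel)

theorem b2141 : Block F al 548096 548352 234 :=
  block_of_check (k := 8) rfl (by decide +kernel)

theorem b2142 : Block F al 548352 548608 240 :=
  block_of_check (k := 8) rfl (by decide +kernel)

theorem b2143 : Block F al 548608 548864 242 :=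
  block_of_check (k := 8) rfl (by decide +kernel)

theorem b2144 : Block F al 548864 549120 232 :=
  block_of_check (k := 8) rfl (by decide +kernel)

theorem b2145 : Block F al 549120 549376 226 :=
  block_of_check (k := 8) rfl (by decide +kernel)

theorem b2146 : Block F al 549376 549632 230 :=
  block_of_check (k := 8) rfl (by decide +kernel)

theorem b2147 : Block F al 549632 549888 238 :=
  block_of_check (k := 8) rfl (by decide +kernel)

theorem b2148 : Block F al 549888 550144 238 :=
  block_of_check (k := 8) rfl (by decide +kernel)

theorem b2149 : Block F al 550144 550400 245 :=
  block_of_check (k := 8) rfl (by decide +kernel)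

theorem b2150 : Block F al 550400 550656 252 :=
  block_of_check (k := 8) rfl (by decide +kernel)

theorem b2151 : Block F al 550656 550912 247 :=
  block_of_check (k := 8) rfl (by decide +kernel)

theorem b2152 : Block F al 550912 551168 247 :=
  block_of_check (k := 8) rfl (by decide +kernel)

theorem b2153 : Block F al 551168 551424 248 :=
  block_of_check (k := 8) rfl (by decide +kernel)

theorem b2154 : Block F al 551424 551680 246 :=
  block_of_check (k := 8) rfl (by decide +kernel)

theorem b2155 : Block F al 551680 551936 251 :=
  block_of_check (k := 8) rfl (by decide +kernel)

theorem b2156 : Block F al 551936 552192 246 :=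
  block_of_check (k := 8) rfl (by decide +kernel)

theorem b2157 : Block F al 552192 552448 255 :=
  block_of_check (k := 8) rfl (by decide +kernel)

theorem b2158 : Block F al 552448 552704 252 :=
  block_of_check (k := 8) rfl (by decide +kernel)

theorem b2159 : Block F al 552704 552960 239 :=
  block_of_check (k := 8) rfl (by decide +kernel)

theorem b2160 : Block F al 552960 553216 245 :=
  block_of_check (k := 8) rfl (by decide +kernel)

theorem b2161 : Block F al 553216 553472 238 :=
  block_of_check (k := 8) rfl (by decide +kernel)

theorem b2162 : Block F al 553472 553728 243 :=
  block_of_check (k := 8) rfl (by decide +kernel)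

theorem b2163 : Block F al 553728 553984 244 :=
  block_of_check (k := 8) rfl (by decide +kernel)

theorem b2164 : Block F al 553984 554240 252 :=
  block_of_check (k := 8) rfl (by decide +kernel)

theorem b2165 : Block F al 554240 554496 252 :=
  block_of_check (k := 8) rfl (by decide +kernel)

theorem b2166 : Block F al 554496 554752 250 :=
  block_of_check (k := 8) rfl (by decide +kernel)

theorem b2167 : Block F al 554752 555008 241 :=
  block_of_check (k := 8) rfl (by decide +kernel)

theorem b2168 : Block F al 555008 555264 250 :=
  block_of_check (k := 8) rfl (by decide +kernel)

theorem b2169 : Block F al 555264 555520 231 :=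
  block_of_check (k := 8) rfl (by decide +kernel)

theorem b2170 : Block F al 555520 555776 245 :=
  block_of_check (k := 8) rfl (by decide +kernel)

theorem b2171 : Block F al 555776 556032 243 :=
  block_of_check (k := 8) rfl (by decide +kernel)

theorem b2172 : Block F al 556032 556288 249 :=
  block_of_check (k := 8) rfl (by decide +kernel)

theorem b2173 : Block F al 556288 556544 251 :=
  block_of_check (k := 8) rfl (by decide +kernel)

theorem b2174 : Block F al 556544 556800 250 :=
  block_of_check (k := 8) rfl (by decide +kernel)

end Cfsg.Agent.TcData.HN.I1539000
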