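import Mathlib
import Cfsg.Agent.TcData.HN.I1539000.Tab

set_option autoImplicit false
set_option Elab.async false
set_option maxRecDepth 100000
set_option linter.all false

namespace Cfsg.Agent.TcData.HN.I1539000

open Cfsg.Spor Cfsg.Agent.Lib.TcFacts Cfsg.Agent.Lib.TcBits Cfsg.Agent.Lib.TcPres Cfsg.Spor.HN Cfsg.Agent.TcData.HN

theorem b2175 : Block F al 556800 557056 243 :=
  block_of_check (k := 8) rfl (by decide +kernel)

theorem b2176 : Block F al 557056 557312 244 :=
  block_of_check (k := 8) rfl (by decide +kernel)

theorem b2177 : Block F al 557312 557568 240 :=
  block_of_check (k := 8) rfl (by decide +kernel)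

theorem b2178 : Block F al 557568 557824 253 :=
  block_of_check (k := 8) rfl (by decide +kernel)

theorem b2179 : Block F al 557824 558080 242 :=
  block_of_check (k := 8) rfl (by decide +kernel)

theorem b2180 : Block F al 558080 558336 251 :=
  block_of_check (k := 8) rfl (by decide +kernel)

theorem b2181 : Block F al 558336 558592 241 :=
  block_of_check (k := 8) rfl (by decide +kernel)

theorem b2182 : Block F al 558592 558848 249 :=
  block_of_check (k := 8) rfl (by decide +kernel)

theorem b2183 : Block F al 558848 559104 225 :=
  block_of_check (k := 8) rfl (by decide +kernel)

theorem b2184 : Block F al 559104 559360 238 :=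
  block_of_check (k := 8) rfl (by decide +kernel)

theorem b2185 : Block F al 559360 559616 240 :=
  block_of_check (k := 8) rfl (by decide +kernel)

theorem b2186 : Block F al 559616 559872 249 :=
  block_of_check (k := 8) rfl (by decide +kernel)

theorem b2187 : Block F al 559872 560128 229 :=
  block_of_check (k := 8) rfl (by decide +kernel)

theorem b2188 : Block F al 560128 560384 239 :=
  block_of_check (k := 8) rfl (by decide +kernel)

theorem b2189 : Block F al 560384 560640 243 :=
  block_of_check (k := 8) rfl (by decide +kernel)

theorem b2190 : Block F al 560640 560896 245 :=
  block_of_check (k := 8) rfl (by decide +kernel)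

theorem b2191 : Block F al 560896 561152 240 :=
  block_of_check (k := 8) rfl (by decide +kernel)

theorem b2192 : Block F al 561152 561408 246 :=
  block_of_check (k := 8) rfl (by decide +kernel)

theorem b2193 : Block F al 561408 561664 248 :=
  block_of_check (k := 8) rfl (by decide +kernel)

theorem b2194 : Block F al 561664 561920 242 :=
  block_of_check (k := 8) rfl (by decide +kernel)

theorem b2195 : Block F al 561920 562176 236 :=
  block_of_check (k := 8) rfl (by decide +kernel)

theorem b2196 : Block F al 562176 562432 251 :=
  block_of_check (k := 8) rfl (by decide +kernel)

theorem b2197 : Block F al 562432 562688 238 :=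
  block_of_check (k := 8) rfl (by decide +kernel)

theorem b2198 : Block F al 562688 562944 242 :=
  block_of_check (k := 8) rfl (by decide +kernel)

theorem b2199 : Block F al 562944 563200 251 :=
  block_of_check (k := 8) rfl (by decide +kernel)

theorem b2200 : Block F al 563200 563456 230 :=
  block_of_check (k := 8) rfl (by decide +kernel)

theorem b2201 : Block F al 563456 563712 244 :=
  block_of_check (k := 8) rfl (by decide +kernel)

theorem b2202 : Block F al 563712 563968 248 :=
  block_of_check (k := 8) rfl (by decide +kernel)

theorem b2203 : Block F al 563968 564224 241 :=
  block_of_check (k := 8) rfl (by decide +kernel)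

theorem b2204 : Block F al 564224 564480 229 :=
  block_of_check (k := 8) rfl (by decide +kernel)

theorem b2205 : Block F al 564480 564736 231 :=
  block_of_check (k := 8) rfl (by decide +kernel)

theorem b2206 : Block F al 564736 564992 233 :=
  block_of_check (k := 8) rfl (by decide +kernel)

theorem b2207 : Block F al 564992 565248 235 :=
  block_of_check (k := 8) rfl (by decide +kernel)

theorem b2208 : Block F al 565248 565504 243 :=
  block_of_check (k := 8) rfl (by decide +kernel)

theorem b2209 : Block F al 565504 565760 250 :=
  block_of_check (k := 8) rfl (by decide +kernel)

theorem b2210 : Block F al 565760 566016 238 :=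
  block_of_check (k := 8) rfl (by decide +kernel)

theorem b2211 : Block F al 566016 566272 239 :=
  block_of_check (k := 8) rfl (by decide +kernel)

theorem b2212 : Block F al 566272 566528 240 :=
  block_of_check (k := 8) rfl (by decide +kernel)

theorem b2213 : Block F al 566528 566784 237 :=
  block_of_check (k := 8) rfl (by decide +kernel)

theorem b2214 : Block F al 566784 567040 235 :=
  block_of_check (k := 8) rfl (by decide +kernel)

theorem b2215 : Block F al 567040 567296 243 :=
  block_of_check (k := 8) rfl (by decide +kernel)

theorem b2216 : Block F al 567296 567552 236 :=
  block_of_check (k := 8) rfl (by decide +kernel)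

end Cfsg.Agent.TcData.HN.I1539000
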