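import Mathlib
import Cfsg.Agent.TcData.HN.I1539000.Tab

set_option autoImplicit false
set_option Elab.async false
set_option maxRecDepth 100000
set_option linter.all false

namespace Cfsg.Agent.TcData.HN.I1539000

open Cfsg.Spor Cfsg.Agent.Lib.TcFacts Cfsg.Agent.Lib.TcBits Cfsg.Agent.Lib.TcPres Cfsg.Spor.HN Cfsg.Agent.TcData.HN

theorem b2258 : Block F al 578048 578304 243 :=
  block_of_check (k := 8) rfl (by decide +kernel)

theorem b2259 : Block F al 578304 578560 237 :=
  block_of_check (k := 8) rfl (by decide +kernel)

theorem b2260 : Block F al 578560 578816 242 :=
  block_of_check (k := 8) rfl (by decide +kernel)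

theorem b2261 : Block F al 578816 579072 242 :=
  block_of_check (k := 8) rfl (by decide +kernel)

theorem b2262 : Block F al 579072 579328 238 :=
  block_of_check (k := 8) rfl (by decide +kernel)

theorem b2263 : Block F al 579328 579584 237 :=
  block_of_check (k := 8) rfl (by decide +kernel)

theorem b2264 : Block F al 579584 579840 244 :=
  block_of_check (k := 8) rfl (by decide +kernel)

theorem b2265 : Block F al 579840 580096 247 :=
  block_of_check (k := 8) rfl (by decide +kernel)

theorem b2266 : Block F al 580096 580352 242 :=
  block_of_check (k := 8) rfl (by decide +kernel)

theorem b2267 : Block F al 580352 580608 240 :=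
  block_of_check (k := 8) rfl (by decide +kernel)

theorem b2268 : Block F al 580608 580864 242 :=
  block_of_check (k := 8) rfl (by decide +kernel)

theorem b2269 : Block F al 580864 581120 231 :=
  block_of_check (k := 8) rfl (by decide +kernel)

theorem b2270 : Block F al 581120 581376 249 :=
  block_of_check (k := 8) rfl (by decide +kernel)

theorem b2271 : Block F al 581376 581632 240 :=
  block_of_check (k := 8) rfl (by decide +kernel)

theorem b2272 : Block F al 581632 581888 244 :=
  block_of_check (k := 8) rfl (by decide +kernel)

theorem b2273 : Block F al 581888 582144 239 :=
  block_of_check (k := 8) rfl (by decide +kernel)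

theorem b2274 : Block F al 582144 582400 245 :=
  block_of_check (k := 8) rfl (by decide +kernel)

theorem b2275 : Block F al 582400 582656 247 :=
  block_of_check (k := 8) rfl (by decide +kernel)

theorem b2276 : Block F al 582656 582912 236 :=
  block_of_check (k := 8) rfl (by decide +kernel)

theorem b2277 : Block F al 582912 583168 237 :=
  block_of_check (k := 8) rfl (by decide +kernel)

theorem b2278 : Block F al 583168 583424 235 :=
  block_of_check (k := 8) rfl (by decide +kernel)

theorem b2279 : Block F al 583424 583680 240 :=
  block_of_check (k := 8) rfl (by decide +kernel)

theorem b2280 : Block F al 583680 583936 241 :=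
  block_of_check (k := 8) rfl (by decide +kernel)

theorem b2281 : Block F al 583936 584192 241 :=
  block_of_check (k := 8) rfl (by decide +kernel)

theorem b2282 : Block F al 584192 584448 238 :=
  block_of_check (k := 8) rfl (by decide +kernel)

theorem b2283 : Block F al 584448 584704 246 :=
  block_of_check (k := 8) rfl (by decide +kernel)

theorem b2284 : Block F al 584704 584960 228 :=
  block_of_check (k := 8) rfl (by decide +kernel)

theorem b2285 : Block F al 584960 585216 224 :=
  block_of_check (k := 8) rfl (by decide +kernel)

theorem b2286 : Block F al 585216 585472 246 :=
  block_of_check (k := 8) rfl (by decide +kernel)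

theorem b2287 : Block F al 585472 585728 233 :=
  block_of_check (k := 8) rfl (by decide +kernel)

theorem b2288 : Block F al 585728 585984 248 :=
  block_of_check (k := 8) rfl (by decide +kernel)

theorem b2289 : Block F al 585984 586240 243 :=
  block_of_check (k := 8) rfl (by decide +kernel)

theorem b2290 : Block F al 586240 586496 238 :=
  block_of_check (k := 8) rfl (by decide +kernel)

theorem b2291 : Block F al 586496 586752 243 :=
  block_of_check (k := 8) rfl (by decide +kernel)

theorem b2292 : Block F al 586752 587008 231 :=
  block_of_check (k := 8) rfl (by decide +kernel)

theorem b2293 : Block F al 587008 587264 220 :=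
  block_of_check (k := 8) rfl (by decide +kernel)

theorem b2294 : Block F al 587264 587520 236 :=
  block_of_check (k := 8) rfl (by decide +kernel)

theorem b2295 : Block F al 587520 587776 239 :=
  block_of_check (k := 8) rfl (by decide +kernel)

theorem b2296 : Block F al 587776 588032 236 :=
  block_of_check (k := 8) rfl (by decide +kernel)

theorem b2297 : Block F al 588032 588288 242 :=
  block_of_check (k := 8) rfl (by decide +kernel)

theorem b2298 : Block F al 588288 588544 246 :=
  block_of_check (k := 8) rfl (by decide +kernel)

theorem b2299 : Block F al 588544 588800 232 :=
  block_of_check (k := 8) rfl (by decide +kernel)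

end Cfsg.Agent.TcData.HN.I1539000
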