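import Mathlib
import Cfsg.Agent.TcData.HN.I1539000.Tab

set_option autoImplicit false
set_option Elab.async false
set_option maxRecDepth 100000
set_option linter.all false

namespace Cfsg.Agent.TcData.HN.I1539000

open Cfsg.Spor Cfsg.Agent.Lib.TcFacts Cfsg.Agent.Lib.TcBits Cfsg.Agent.Lib.TcPres Cfsg.Spor.HN Cfsg.Agent.TcData.HN

theorem b2300 : Block F al 588800 589056 238 :=
  block_of_check (k := 8) rfl (by decide +kernel)

theorem b2301 : Block F al 589056 589312 238 :=
  block_of_check (k := 8) rfl (by decide +kernel)

theorem b2302 : Block F al 589312 589568 243 :=
  block_of_check (k := 8) rfl (by decide +kernel)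

theorem b2303 : Block F al 589568 589824 239 :=
  block_of_check (k := 8) rfl (by decide +kernel)

theorem b2304 : Block F al 589824 590080 243 :=
  block_of_check (k := 8) rfl (by decide +kernel)

theorem b2305 : Block F al 590080 590336 235 :=
  block_of_check (k := 8) rfl (by decide +kernel)

theorem b2306 : Block F al 590336 590592 235 :=
  block_of_check (k := 8) rfl (by decide +kernel)

theorem b2307 : Block F al 590592 590848 235 :=
  block_of_check (k := 8) rfl (by decide +kernel)

theorem b2308 : Block F al 590848 591104 254 :=
  block_of_check (k := 8) rfl (by decide +kernel)

theorem b2309 : Block F al 591104 591360 247 :=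
  block_of_check (k := 8) rfl (by decide +kernel)

theorem b2310 : Block F al 591360 591616 251 :=
  block_of_check (k := 8) rfl (by decide +kernel)

theorem b2311 : Block F al 591616 591872 251 :=
  block_of_check (k := 8) rfl (by decide +kernel)

theorem b2312 : Block F al 591872 592128 242 :=
  block_of_check (k := 8) rfl (by decide +kernel)

theorem b2313 : Block F al 592128 592384 251 :=
  block_of_check (k := 8) rfl (by decide +kernel)

theorem b2314 : Block F al 592384 592640 241 :=
  block_of_check (k := 8) rfl (by decide +kernel)

theorem b2315 : Block F al 592640 592896 254 :=
  block_of_check (k := 8) rfl (by decide +kernel)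

theorem b2316 : Block F al 592896 593152 237 :=
  block_of_check (k := 8) rfl (by decide +kernel)

theorem b2317 : Block F al 593152 593408 241 :=
  block_of_check (k := 8) rfl (by decide +kernel)

theorem b2318 : Block F al 593408 593664 240 :=
  block_of_check (k := 8) rfl (by decide +kernel)

theorem b2319 : Block F al 593664 593920 221 :=
  block_of_check (k := 8) rfl (by decide +kernel)

theorem b2320 : Block F al 593920 594176 244 :=
  block_of_check (k := 8) rfl (by decide +kernel)

theorem b2321 : Block F al 594176 594432 252 :=
  block_of_check (k := 8) rfl (by decide +kernel)

theorem b2322 : Block F al 594432 594688 238 :=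
  block_of_check (k := 8) rfl (by decide +kernel)

theorem b2323 : Block F al 594688 594944 220 :=
  block_of_check (k := 8) rfl (by decide +kernel)

theorem b2324 : Block F al 594944 595200 236 :=
  block_of_check (k := 8) rfl (by decide +kernel)

theorem b2325 : Block F al 595200 595456 241 :=
  block_of_check (k := 8) rfl (by decide +kernel)

theorem b2326 : Block F al 595456 595712 231 :=
  block_of_check (k := 8) rfl (by decide +kernel)

theorem b2327 : Block F al 595712 595968 249 :=
  block_of_check (k := 8) rfl (by decide +kernel)

theorem b2328 : Block F al 595968 596224 243 :=
  block_of_check (k := 8) rfl (by decide +kernel)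

theorem b2329 : Block F al 596224 596480 228 :=
  block_of_check (k := 8) rfl (by decide +kernel)

theorem b2330 : Block F al 596480 596736 248 :=
  block_of_check (k := 8) rfl (by decide +kernel)

theorem b2331 : Block F al 596736 596992 247 :=
  block_of_check (k := 8) rfl (by decide +kernel)

theorem b2332 : Block F al 596992 597248 239 :=
  block_of_check (k := 8) rfl (by decide +kernel)

theorem b2333 : Block F al 597248 597504 251 :=
  block_of_check (k := 8) rfl (by decide +kernel)

theorem b2334 : Block F al 597504 597760 249 :=
  block_of_check (k := 8) rfl (by decide +kernel)

theorem b2335 : Block F al 597760 598016 243 :=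
  block_of_check (k := 8) rfl (by decide +kernel)

theorem b2336 : Block F al 598016 598272 252 :=
  block_of_check (k := 8) rfl (by decide +kernel)

theorem b2337 : Block F al 598272 598528 241 :=
  block_of_check (k := 8) rfl (by decide +kernel)

theorem b2338 : Block F al 598528 598784 252 :=
  block_of_check (k := 8) rfl (by decide +kernel)

theorem b2339 : Block F al 598784 599040 247 :=
  block_of_check (k := 8) rfl (by decide +kernel)

end Cfsg.Agent.TcData.HN.I1539000
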