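import Mathlib
import Cfsg.Agent.TcData.HN.I1539000.Tab

set_option autoImplicit false
set_option Elab.async false
set_option maxRecDepth 100000
set_option linter.all false

namespace Cfsg.Agent.TcData.HN.I1539000

open Cfsg.Spor Cfsg.Agent.Lib.TcFacts Cfsg.Agent.Lib.TcBits Cfsg.Agent.Lib.TcPres Cfsg.Spor.HN Cfsg.Agent.TcData.HN

theorem b270 : Block F al 69120 69376 199 :=
  block_of_check (k := 8) rfl (by decide +kernel)

theorem b271 : Block F al 69376 69632 221 :=
  block_of_check (k := 8) rfl (by decide +kernel)

theorem b272 : Block F al 69632 69888 242 :=
  block_of_check (k := 8) rfl (by decide +kernel)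

theorem b273 : Block F al 69888 70144 249 :=
  block_of_check (k := 8) rfl (by decide +kernel)

theorem b274 : Block F al 70144 70400 242 :=
  block_of_check (k := 8) rfl (by decide +kernel)

theorem b275 : Block F al 70400 70656 245 :=
  block_of_check (k := 8) rfl (by decide +kernel)

theorem b276 : Block F al 70656 70912 243 :=
  block_of_check (k := 8) rfl (by decide +kernel)

theorem b277 : Block F al 70912 71168 249 :=
  block_of_check (k := 8) rfl (by decide +kernel)

theorem b278 : Block F al 71168 71424 224 :=
  block_of_check (k := 8) rfl (by decide +kernel)

theorem b279 : Block F al 71424 71680 239 :=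
  block_of_check (k := 8) rfl (by decide +kernel)

theorem b280 : Block F al 71680 71936 231 :=
  block_of_check (k := 8) rfl (by decide +kernel)

theorem b281 : Block F al 71936 72192 228 :=
  block_of_check (k := 8) rfl (by decide +kernel)

theorem b282 : Block F al 72192 72448 250 :=
  block_of_check (k := 8) rfl (by decide +kernel)

theorem b283 : Block F al 72448 72704 252 :=
  block_of_check (k := 8) rfl (by decide +kernel)

theorem b284 : Block F al 72704 72960 254 :=
  block_of_check (k := 8) rfl (by decide +kernel)

theorem b285 : Block F al 72960 73216 234 :=
  block_of_check (k := 8) rfl (by decide +kernel)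

theorem b286 : Block F al 73216 73472 242 :=
  block_of_check (k := 8) rfl (by decide +kernel)

theorem b287 : Block F al 73472 73728 234 :=
  block_of_check (k := 8) rfl (by decide +kernel)

theorem b288 : Block F al 73728 73984 235 :=
  block_of_check (k := 8) rfl (by decide +kernel)

theorem b289 : Block F al 73984 74240 254 :=
  block_of_check (k := 8) rfl (by decide +kernel)

theorem b290 : Block F al 74240 74496 253 :=
  block_of_check (k := 8) rfl (by decide +kernel)

theorem b291 : Block F al 74496 74752 251 :=
  block_of_check (k := 8) rfl (by decide +kernel)

theorem b292 : Block F al 74752 75008 241 :=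
  block_of_check (k := 8) rfl (by decide +kernel)

theorem b293 : Block F al 75008 75264 224 :=
  block_of_check (k := 8) rfl (by decide +kernel)

theorem b294 : Block F al 75264 75520 235 :=
  block_of_check (k := 8) rfl (by decide +kernel)

theorem b295 : Block F al 75520 75776 243 :=
  block_of_check (k := 8) rfl (by decide +kernel)

theorem b296 : Block F al 75776 76032 199 :=
  block_of_check (k := 8) rfl (by decide +kernel)

theorem b297 : Block F al 76032 76288 245 :=
  block_of_check (k := 8) rfl (by decide +kernel)

theorem b298 : Block F al 76288 76544 222 :=
  block_of_check (k := 8) rfl (by decide +kernel)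

theorem b299 : Block F al 76544 76800 192 :=
  block_of_check (k := 8) rfl (by decide +kernel)

theorem b300 : Block F al 76800 77056 218 :=
  block_of_check (k := 8) rfl (by decide +kernel)

theorem b301 : Block F al 77056 77312 218 :=
  block_of_check (k := 8) rfl (by decide +kernel)

theorem b302 : Block F al 77312 77568 233 :=
  block_of_check (k := 8) rfl (by decide +kernel)

theorem b303 : Block F al 77568 77824 238 :=
  block_of_check (k := 8) rfl (by decide +kernel)

theorem b304 : Block F al 77824 78080 250 :=
  block_of_check (k := 8) rfl (by decide +kernel)

theorem b305 : Block F al 78080 78336 228 :=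
  block_of_check (k := 8) rfl (by decide +kernel)

theorem b306 : Block F al 78336 78592 227 :=
  block_of_check (k := 8) rfl (by decide +kernel)

theorem b307 : Block F al 78592 78848 232 :=
  block_of_check (k := 8) rfl (by decide +kernel)

theorem b308 : Block F al 78848 79104 244 :=
  block_of_check (k := 8) rfl (by decide +kernel)

theorem b309 : Block F al 79104 79360 238 :=
  block_of_check (k := 8) rfl (by decide +kernel)

theorem b310 : Block F al 79360 79616 234 :=
  block_of_check (k := 8) rfl (by decide +kernel)

theorem b311 : Block F al 79616 79872 247 :=
  block_of_check (k := 8) rfl (by decide +kernel)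

theorem b312 : Block F al 79872 80128 221 :=
  block_of_check (k := 8) rfl (by decide +kernel)

theorem b313 : Block F al 80128 80384 236 :=
  block_of_check (k := 8) rfl (by decide +kernel)

theorem b314 : Block F al 80384 80640 232 :=
  block_of_check (k := 8) rfl (by decide +kernel)

theorem b315 : Block F al 80640 80896 239 :=
  block_of_check (k := 8) rfl (by decide +kernel)

theorem b316 : Block F al 80896 81152 232 :=
  block_of_check (k := 8) rfl (by decide +kernel)

theorem b317 : Block F al 81152 81408 236 :=
  block_of_check (k := 8) rfl (by decide +kernel)

theorem b318 : Block F al 81408 81664 222 :=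
  block_of_check (k := 8) rfl (by decide +kernel)

theorem b319 : Block F al 81664 81920 222 :=
  block_of_check (k := 8) rfl (by decide +kernel)

theorem b320 : Block F al 81920 82176 248 :=
  block_of_check (k := 8) rfl (by decide +kernel)

theorem b321 : Block F al 82176 82432 240 :=
  block_of_check (k := 8) rfl (by decide +kernel)

theorem b322 : Block F al 82432 82688 244 :=
  block_of_check (k := 8) rfl (by decide +kernel)

end Cfsg.Agent.TcData.HN.I1539000
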