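import Mathlib
import Cfsg.Agent.TcData.HN.I1539000.Tab

set_option autoImplicit false
set_option Elab.async false
set_option maxRecDepth 100000
set_option linter.all false

namespace Cfsg.Agent.TcData.HN.I1539000

open Cfsg.Spor Cfsg.Agent.Lib.TcFacts Cfsg.Agent.Lib.TcBits Cfsg.Agent.Lib.TcPres Cfsg.Spor.HN Cfsg.Agent.TcData.HN

theorem b2340 : Block F al 599040 599296 230 :=
  block_of_check (k := 8) rfl (by decide +kernel)

theorem b2341 : Block F al 599296 599552 234 :=
  block_of_check (k := 8) rfl (by decide +kernel)

theorem b2342 : Block F al 599552 599808 245 :=
  block_of_check (k := 8) rfl (by decide +kernel)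

theorem b2343 : Block F al 599808 600064 236 :=
  block_of_check (k := 8) rfl (by decide +kernel)

theorem b2344 : Block F al 600064 600320 246 :=
  block_of_check (k := 8) rfl (by decide +kernel)

theorem b2345 : Block F al 600320 600576 249 :=
  block_of_check (k := 8) rfl (by decide +kernel)

theorem b2346 : Block F al 600576 600832 252 :=
  block_of_check (k := 8) rfl (by decide +kernel)

theorem b2347 : Block F al 600832 601088 245 :=
  block_of_check (k := 8) rfl (by decide +kernel)

theorem b2348 : Block F al 601088 601344 242 :=
  block_of_check (k := 8) rfl (by decide +kernel)

theorem b2349 : Block F al 601344 601600 239 :=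
  block_of_check (k := 8) rfl (by decide +kernel)

theorem b2350 : Block F al 601600 601856 238 :=
  block_of_check (k := 8) rfl (by decide +kernel)

theorem b2351 : Block F al 601856 602112 236 :=
  block_of_check (k := 8) rfl (by decide +kernel)

theorem b2352 : Block F al 602112 602368 243 :=
  block_of_check (k := 8) rfl (by decide +kernel)

theorem b2353 : Block F al 602368 602624 229 :=
  block_of_check (k := 8) rfl (by decide +kernel)

theorem b2354 : Block F al 602624 602880 237 :=
  block_of_check (k := 8) rfl (by decide +kernel)

theorem b2355 : Block F al 602880 603136 245 :=
  block_of_check (k := 8) rfl (by decide +kernel)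

theorem b2356 : Block F al 603136 603392 240 :=
  block_of_check (k := 8) rfl (by decide +kernel)

theorem b2357 : Block F al 603392 603648 220 :=
  block_of_check (k := 8) rfl (by decide +kernel)

theorem b2358 : Block F al 603648 603904 234 :=
  block_of_check (k := 8) rfl (by decide +kernel)

theorem b2359 : Block F al 603904 604160 234 :=
  block_of_check (k := 8) rfl (by decide +kernel)

theorem b2360 : Block F al 604160 604416 253 :=
  block_of_check (k := 8) rfl (by decide +kernel)

theorem b2361 : Block F al 604416 604672 237 :=
  block_of_check (k := 8) rfl (by decide +kernel)

theorem b2362 : Block F al 604672 604928 228 :=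
  block_of_check (k := 8) rfl (by decide +kernel)

theorem b2363 : Block F al 604928 605184 239 :=
  block_of_check (k := 8) rfl (by decide +kernel)

theorem b2364 : Block F al 605184 605440 227 :=
  block_of_check (k := 8) rfl (by decide +kernel)

theorem b2365 : Block F al 605440 605696 236 :=
  block_of_check (k := 8) rfl (by decide +kernel)

theorem b2366 : Block F al 605696 605952 222 :=
  block_of_check (k := 8) rfl (by decide +kernel)

theorem b2367 : Block F al 605952 606208 217 :=
  block_of_check (k := 8) rfl (by decide +kernel)

theorem b2368 : Block F al 606208 606464 218 :=
  block_of_check (k := 8) rfl (by decide +kernel)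

theorem b2369 : Block F al 606464 606720 231 :=
  block_of_check (k := 8) rfl (by decide +kernel)

theorem b2370 : Block F al 606720 606976 236 :=
  block_of_check (k := 8) rfl (by decide +kernel)

theorem b2371 : Block F al 606976 607232 234 :=
  block_of_check (k := 8) rfl (by decide +kernel)

theorem b2372 : Block F al 607232 607488 223 :=
  block_of_check (k := 8) rfl (by decide +kernel)

theorem b2373 : Block F al 607488 607744 241 :=
  block_of_check (k := 8) rfl (by decide +kernel)

theorem b2374 : Block F al 607744 608000 226 :=
  block_of_check (k := 8) rfl (by decide +kernel)

theorem b2375 : Block F al 608000 608256 218 :=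
  block_of_check (k := 8) rfl (by decide +kernel)

theorem b2376 : Block F al 608256 608512 217 :=
  block_of_check (k := 8) rfl (by decide +kernel)

theorem b2377 : Block F al 608512 608768 206 :=
  block_of_check (k := 8) rfl (by decide +kernel)

theorem b2378 : Block F al 608768 609024 233 :=
  block_of_check (k := 8) rfl (by decide +kernel)

theorem b2379 : Block F al 609024 609280 220 :=
  block_of_check (k := 8) rfl (by decide +kernel)

theorem b2380 : Block F al 609280 609536 231 :=
  block_of_check (k := 8) rfl (by decide +kernel)

theorem b2381 : Block F al 609536 609792 244 :=
  block_of_check (k := 8) rfl (by decide +kernel)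

theorem b2382 : Block F al 609792 610048 243 :=
  block_of_check (k := 8) rfl (by decide +kernel)

end Cfsg.Agent.TcData.HN.I1539000
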