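import Mathlib
import Cfsg.Agent.TcData.HN.I1539000.Tab

set_option autoImplicit false
set_option Elab.async false
set_option maxRecDepth 100000
set_option linter.all false

namespace Cfsg.Agent.TcData.HN.I1539000

open Cfsg.Spor Cfsg.Agent.Lib.TcFacts Cfsg.Agent.Lib.TcBits Cfsg.Agent.Lib.TcPres Cfsg.Spor.HN Cfsg.Agent.TcData.HN

theorem b2383 : Block F al 610048 610304 239 :=
  block_of_check (k := 8) rfl (by decide +kernel)

theorem b2384 : Block F al 610304 610560 249 :=
  block_of_check (k := 8) rfl (by decide +kernel)

theorem b2385 : Block F al 610560 610816 239 :=
  block_of_check (k := 8) rfl (by decide +kernel)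

theorem b2386 : Block F al 610816 611072 223 :=
  block_of_check (k := 8) rfl (by decide +kernel)

theorem b2387 : Block F al 611072 611328 222 :=
  block_of_check (k := 8) rfl (by decide +kernel)

theorem b2388 : Block F al 611328 611584 232 :=
  block_of_check (k := 8) rfl (by decide +kernel)

theorem b2389 : Block F al 611584 611840 231 :=
  block_of_check (k := 8) rfl (by decide +kernel)

theorem b2390 : Block F al 611840 612096 235 :=
  block_of_check (k := 8) rfl (by decide +kernel)

theorem b2391 : Block F al 612096 612352 240 :=
  block_of_check (k := 8) rfl (by decide +kernel)

theorem b2392 : Block F al 612352 612608 235 :=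
  block_of_check (k := 8) rfl (by decide +kernel)

theorem b2393 : Block F al 612608 612864 250 :=
  block_of_check (k := 8) rfl (by decide +kernel)

theorem b2394 : Block F al 612864 613120 236 :=
  block_of_check (k := 8) rfl (by decide +kernel)

theorem b2395 : Block F al 613120 613376 244 :=
  block_of_check (k := 8) rfl (by decide +kernel)

theorem b2396 : Block F al 613376 613632 237 :=
  block_of_check (k := 8) rfl (by decide +kernel)

theorem b2397 : Block F al 613632 613888 234 :=
  block_of_check (k := 8) rfl (by decide +kernel)

theorem b2398 : Block F al 613888 614144 235 :=
  block_of_check (k := 8) rfl (by decide +kernel)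

theorem b2399 : Block F al 614144 614400 244 :=
  block_of_check (k := 8) rfl (by decide +kernel)

theorem b2400 : Block F al 614400 614656 250 :=
  block_of_check (k := 8) rfl (by decide +kernel)

theorem b2401 : Block F al 614656 614912 254 :=
  block_of_check (k := 8) rfl (by decide +kernel)

theorem b2402 : Block F al 614912 615168 241 :=
  block_of_check (k := 8) rfl (by decide +kernel)

theorem b2403 : Block F al 615168 615424 247 :=
  block_of_check (k := 8) rfl (by decide +kernel)

theorem b2404 : Block F al 615424 615680 245 :=
  block_of_check (k := 8) rfl (by decide +kernel)

theorem b2405 : Block F al 615680 615936 241 :=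
  block_of_check (k := 8) rfl (by decide +kernel)

theorem b2406 : Block F al 615936 616192 246 :=
  block_of_check (k := 8) rfl (by decide +kernel)

theorem b2407 : Block F al 616192 616448 251 :=
  block_of_check (k := 8) rfl (by decide +kernel)

theorem b2408 : Block F al 616448 616704 252 :=
  block_of_check (k := 8) rfl (by decide +kernel)

theorem b2409 : Block F al 616704 616960 246 :=
  block_of_check (k := 8) rfl (by decide +kernel)

theorem b2410 : Block F al 616960 617216 252 :=
  block_of_check (k := 8) rfl (by decide +kernel)

theorem b2411 : Block F al 617216 617472 246 :=
  block_of_check (k := 8) rfl (by decide +kernel)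

theorem b2412 : Block F al 617472 617728 212 :=
  block_of_check (k := 8) rfl (by decide +kernel)

theorem b2413 : Block F al 617728 617984 251 :=
  block_of_check (k := 8) rfl (by decide +kernel)

theorem b2414 : Block F al 617984 618240 237 :=
  block_of_check (k := 8) rfl (by decide +kernel)

theorem b2415 : Block F al 618240 618496 240 :=
  block_of_check (k := 8) rfl (by decide +kernel)

theorem b2416 : Block F al 618496 618752 243 :=
  block_of_check (k := 8) rfl (by decide +kernel)

theorem b2417 : Block F al 618752 619008 244 :=
  block_of_check (k := 8) rfl (by decide +kernel)

theorem b2418 : Block F al 619008 619264 249 :=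
  block_of_check (k := 8) rfl (by decide +kernel)

theorem b2419 : Block F al 619264 619520 239 :=
  block_of_check (k := 8) rfl (by decide +kernel)

theorem b2420 : Block F al 619520 619776 231 :=
  block_of_check (k := 8) rfl (by decide +kernel)

theorem b2421 : Block F al 619776 620032 243 :=
  block_of_check (k := 8) rfl (by decide +kernel)

theorem b2422 : Block F al 620032 620288 245 :=
  block_of_check (k := 8) rfl (by decide +kernel)

theorem b2423 : Block F al 620288 620544 230 :=
  block_of_check (k := 8) rfl (by decide +kernel)

end Cfsg.Agent.TcData.HN.I1539000
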