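import Mathlib
import Cfsg.Agent.TcData.HN.I1539000.Tab

set_option autoImplicit false
set_option Elab.async false
set_option maxRecDepth 100000
set_option linter.all false

namespace Cfsg.Agent.TcData.HN.I1539000

open Cfsg.Spor Cfsg.Agent.Lib.TcFacts Cfsg.Agent.Lib.TcBits Cfsg.Agent.Lib.TcPres Cfsg.Spor.HN Cfsg.Agent.TcData.HN

theorem b2424 : Block F al 620544 620800 239 :=
  block_of_check (k := 8) rfl (by decide +kernel)

theorem b2425 : Block F al 620800 621056 237 :=
  block_of_check (k := 8) rfl (by decide +kernel)

theorem b2426 : Block F al 621056 621312 244 :=
  block_of_check (k := 8) rfl (by decide +kernel)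

theorem b2427 : Block F al 621312 621568 237 :=
  block_of_check (k := 8) rfl (by decide +kernel)

theorem b2428 : Block F al 621568 621824 227 :=
  block_of_check (k := 8) rfl (by decide +kernel)

theorem b2429 : Block F al 621824 622080 238 :=
  block_of_check (k := 8) rfl (by decide +kernel)

theorem b2430 : Block F al 622080 622336 247 :=
  block_of_check (k := 8) rfl (by decide +kernel)

theorem b2431 : Block F al 622336 622592 245 :=
  block_of_check (k := 8) rfl (by decide +kernel)

theorem b2432 : Block F al 622592 622848 250 :=
  block_of_check (k := 8) rfl (by decide +kernel)

theorem b2433 : Block F al 622848 623104 250 :=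
  block_of_check (k := 8) rfl (by decide +kernel)

theorem b2434 : Block F al 623104 623360 237 :=
  block_of_check (k := 8) rfl (by decide +kernel)

theorem b2435 : Block F al 623360 623616 250 :=
  block_of_check (k := 8) rfl (by decide +kernel)

theorem b2436 : Block F al 623616 623872 242 :=
  block_of_check (k := 8) rfl (by decide +kernel)

theorem b2437 : Block F al 623872 624128 241 :=
  block_of_check (k := 8) rfl (by decide +kernel)

theorem b2438 : Block F al 624128 624384 241 :=
  block_of_check (k := 8) rfl (by decide +kernel)

theorem b2439 : Block F al 624384 624640 236 :=
  block_of_check (k := 8) rfl (by decide +kernel)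

theorem b2440 : Block F al 624640 624896 230 :=
  block_of_check (k := 8) rfl (by decide +kernel)

theorem b2441 : Block F al 624896 625152 246 :=
  block_of_check (k := 8) rfl (by decide +kernel)

theorem b2442 : Block F al 625152 625408 239 :=
  block_of_check (k := 8) rfl (by decide +kernel)

theorem b2443 : Block F al 625408 625664 252 :=
  block_of_check (k := 8) rfl (by decide +kernel)

theorem b2444 : Block F al 625664 625920 248 :=
  block_of_check (k := 8) rfl (by decide +kernel)

theorem b2445 : Block F al 625920 626176 249 :=
  block_of_check (k := 8) rfl (by decide +kernel)

theorem b2446 : Block F al 626176 626432 248 :=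
  block_of_check (k := 8) rfl (by decide +kernel)

theorem b2447 : Block F al 626432 626688 241 :=
  block_of_check (k := 8) rfl (by decide +kernel)

theorem b2448 : Block F al 626688 626944 237 :=
  block_of_check (k := 8) rfl (by decide +kernel)

theorem b2449 : Block F al 626944 627200 247 :=
  block_of_check (k := 8) rfl (by decide +kernel)

theorem b2450 : Block F al 627200 627456 229 :=
  block_of_check (k := 8) rfl (by decide +kernel)

theorem b2451 : Block F al 627456 627712 246 :=
  block_of_check (k := 8) rfl (by decide +kernel)

theorem b2452 : Block F al 627712 627968 246 :=
  block_of_check (k := 8) rfl (by decide +kernel)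

theorem b2453 : Block F al 627968 628224 243 :=
  block_of_check (k := 8) rfl (by decide +kernel)

theorem b2454 : Block F al 628224 628480 241 :=
  block_of_check (k := 8) rfl (by decide +kernel)

theorem b2455 : Block F al 628480 628736 242 :=
  block_of_check (k := 8) rfl (by decide +kernel)

theorem b2456 : Block F al 628736 628992 226 :=
  block_of_check (k := 8) rfl (by decide +kernel)

theorem b2457 : Block F al 628992 629248 231 :=
  block_of_check (k := 8) rfl (by decide +kernel)

theorem b2458 : Block F al 629248 629504 239 :=
  block_of_check (k := 8) rfl (by decide +kernel)

theorem b2459 : Block F al 629504 629760 244 :=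
  block_of_check (k := 8) rfl (by decide +kernel)

theorem b2460 : Block F al 629760 630016 238 :=
  block_of_check (k := 8) rfl (by decide +kernel)

theorem b2461 : Block F al 630016 630272 239 :=
  block_of_check (k := 8) rfl (by decide +kernel)

theorem b2462 : Block F al 630272 630528 237 :=
  block_of_check (k := 8) rfl (by decide +kernel)

theorem b2463 : Block F al 630528 630784 241 :=
  block_of_check (k := 8) rfl (by decide +kernel)

end Cfsg.Agent.TcData.HN.I1539000
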