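import Mathlib
import Cfsg.Agent.TcData.HN.I1539000.Tab

set_option autoImplicit false
set_option Elab.async false
set_option maxRecDepth 100000
set_option linter.all false

namespace Cfsg.Agent.TcData.HN.I1539000

open Cfsg.Spor Cfsg.Agent.Lib.TcFacts Cfsg.Agent.Lib.TcBits Cfsg.Agent.Lib.TcPres Cfsg.Spor.HN Cfsg.Agent.TcData.HN

theorem b2464 : Block F al 630784 631040 243 :=
  block_of_check (k := 8) rfl (by decide +kernel)

theorem b2465 : Block F al 631040 631296 245 :=
  block_of_check (k := 8) rfl (by decide +kernel)

theorem b2466 : Block F al 631296 631552 222 :=
  block_of_check (k := 8) rfl (by decide +kernel)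

theorem b2467 : Block F al 631552 631808 242 :=
  block_of_check (k := 8) rfl (by decide +kernel)

theorem b2468 : Block F al 631808 632064 230 :=
  block_of_check (k := 8) rfl (by decide +kernel)

theorem b2469 : Block F al 632064 632320 250 :=
  block_of_check (k := 8) rfl (by decide +kernel)

theorem b2470 : Block F al 632320 632576 242 :=
  block_of_check (k := 8) rfl (by decide +kernel)

theorem b2471 : Block F al 632576 632832 243 :=
  block_of_check (k := 8) rfl (by decide +kernel)

theorem b2472 : Block F al 632832 633088 248 :=
  block_of_check (k := 8) rfl (by decide +kernel)

theorem b2473 : Block F al 633088 633344 249 :=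
  block_of_check (k := 8) rfl (by decide +kernel)

theorem b2474 : Block F al 633344 633600 254 :=
  block_of_check (k := 8) rfl (by decide +kernel)

theorem b2475 : Block F al 633600 633856 246 :=
  block_of_check (k := 8) rfl (by decide +kernel)

theorem b2476 : Block F al 633856 634112 245 :=
  block_of_check (k := 8) rfl (by decide +kernel)

theorem b2477 : Block F al 634112 634368 246 :=
  block_of_check (k := 8) rfl (by decide +kernel)

theorem b2478 : Block F al 634368 634624 250 :=
  block_of_check (k := 8) rfl (by decide +kernel)

theorem b2479 : Block F al 634624 634880 229 :=
  block_of_check (k := 8) rfl (by decide +kernel)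

theorem b2480 : Block F al 634880 635136 246 :=
  block_of_check (k := 8) rfl (by decide +kernel)

theorem b2481 : Block F al 635136 635392 242 :=
  block_of_check (k := 8) rfl (by decide +kernel)

theorem b2482 : Block F al 635392 635648 250 :=
  block_of_check (k := 8) rfl (by decide +kernel)

theorem b2483 : Block F al 635648 635904 248 :=
  block_of_check (k := 8) rfl (by decide +kernel)

theorem b2484 : Block F al 635904 636160 245 :=
  block_of_check (k := 8) rfl (by decide +kernel)

theorem b2485 : Block F al 636160 636416 236 :=
  block_of_check (k := 8) rfl (by decide +kernel)

theorem b2486 : Block F al 636416 636672 237 :=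
  block_of_check (k := 8) rfl (by decide +kernel)

theorem b2487 : Block F al 636672 636928 236 :=
  block_of_check (k := 8) rfl (by decide +kernel)

theorem b2488 : Block F al 636928 637184 237 :=
  block_of_check (k := 8) rfl (by decide +kernel)

theorem b2489 : Block F al 637184 637440 241 :=
  block_of_check (k := 8) rfl (by decide +kernel)

theorem b2490 : Block F al 637440 637696 236 :=
  block_of_check (k := 8) rfl (by decide +kernel)

theorem b2491 : Block F al 637696 637952 243 :=
  block_of_check (k := 8) rfl (by decide +kernel)

theorem b2492 : Block F al 637952 638208 225 :=
  block_of_check (k := 8) rfl (by decide +kernel)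

theorem b2493 : Block F al 638208 638464 243 :=
  block_of_check (k := 8) rfl (by decide +kernel)

theorem b2494 : Block F al 638464 638720 239 :=
  block_of_check (k := 8) rfl (by decide +kernel)

theorem b2495 : Block F al 638720 638976 240 :=
  block_of_check (k := 8) rfl (by decide +kernel)

theorem b2496 : Block F al 638976 639232 234 :=
  block_of_check (k := 8) rfl (by decide +kernel)

theorem b2497 : Block F al 639232 639488 243 :=
  block_of_check (k := 8) rfl (by decide +kernel)

theorem b2498 : Block F al 639488 639744 247 :=
  block_of_check (k := 8) rfl (by decide +kernel)

theorem b2499 : Block F al 639744 640000 238 :=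
  block_of_check (k := 8) rfl (by decide +kernel)

theorem b2500 : Block F al 640000 640256 246 :=
  block_of_check (k := 8) rfl (by decide +kernel)

theorem b2501 : Block F al 640256 640512 245 :=
  block_of_check (k := 8) rfl (by decide +kernel)

theorem b2502 : Block F al 640512 640768 239 :=
  block_of_check (k := 8) rfl (by decide +kernel)

theorem b2503 : Block F al 640768 641024 233 :=
  block_of_check (k := 8) rfl (by decide +kernel)

end Cfsg.Agent.TcData.HN.I1539000
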