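import Mathlib
import Cfsg.Agent.TcData.HN.I1539000.Tab

set_option autoImplicit false
set_option Elab.async false
set_option maxRecDepth 100000
set_option linter.all false

namespace Cfsg.Agent.TcData.HN.I1539000

open Cfsg.Spor Cfsg.Agent.Lib.TcFacts Cfsg.Agent.Lib.TcBits Cfsg.Agent.Lib.TcPres Cfsg.Spor.HN Cfsg.Agent.TcData.HN

theorem b2504 : Block F al 641024 641280 239 :=
  block_of_check (k := 8) rfl (by decide +kernel)

theorem b2505 : Block F al 641280 641536 251 :=
  block_of_check (k := 8) rfl (by decide +kernel)

theorem b2506 : Block F al 641536 641792 252 :=
  block_of_check (k := 8) rfl (by decide +kernel)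

theorem b2507 : Block F al 641792 642048 234 :=
  block_of_check (k := 8) rfl (by decide +kernel)

theorem b2508 : Block F al 642048 642304 244 :=
  block_of_check (k := 8) rfl (by decide +kernel)

theorem b2509 : Block F al 642304 642560 240 :=
  block_of_check (k := 8) rfl (by decide +kernel)

theorem b2510 : Block F al 642560 642816 215 :=
  block_of_check (k := 8) rfl (by decide +kernel)

theorem b2511 : Block F al 642816 643072 213 :=
  block_of_check (k := 8) rfl (by decide +kernel)

theorem b2512 : Block F al 643072 643328 232 :=
  block_of_check (k := 8) rfl (by decide +kernel)

theorem b2513 : Block F al 643328 643584 238 :=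
  block_of_check (k := 8) rfl (by decide +kernel)

theorem b2514 : Block F al 643584 643840 230 :=
  block_of_check (k := 8) rfl (by decide +kernel)

theorem b2515 : Block F al 643840 644096 245 :=
  block_of_check (k := 8) rfl (by decide +kernel)

theorem b2516 : Block F al 644096 644352 241 :=
  block_of_check (k := 8) rfl (by decide +kernel)

theorem b2517 : Block F al 644352 644608 239 :=
  block_of_check (k := 8) rfl (by decide +kernel)

theorem b2518 : Block F al 644608 644864 241 :=
  block_of_check (k := 8) rfl (by decide +kernel)

theorem b2519 : Block F al 644864 645120 234 :=
  block_of_check (k := 8) rfl (by decide +kernel)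

theorem b2520 : Block F al 645120 645376 244 :=
  block_of_check (k := 8) rfl (by decide +kernel)

theorem b2521 : Block F al 645376 645632 244 :=
  block_of_check (k := 8) rfl (by decide +kernel)

theorem b2522 : Block F al 645632 645888 234 :=
  block_of_check (k := 8) rfl (by decide +kernel)

theorem b2523 : Block F al 645888 646144 241 :=
  block_of_check (k := 8) rfl (by decide +kernel)

theorem b2524 : Block F al 646144 646400 247 :=
  block_of_check (k := 8) rfl (by decide +kernel)

theorem b2525 : Block F al 646400 646656 234 :=
  block_of_check (k := 8) rfl (by decide +kernel)

theorem b2526 : Block F al 646656 646912 241 :=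
  block_of_check (k := 8) rfl (by decide +kernel)

theorem b2527 : Block F al 646912 647168 244 :=
  block_of_check (k := 8) rfl (by decide +kernel)

theorem b2528 : Block F al 647168 647424 247 :=
  block_of_check (k := 8) rfl (by decide +kernel)

theorem b2529 : Block F al 647424 647680 245 :=
  block_of_check (k := 8) rfl (by decide +kernel)

theorem b2530 : Block F al 647680 647936 249 :=
  block_of_check (k := 8) rfl (by decide +kernel)

theorem b2531 : Block F al 647936 648192 239 :=
  block_of_check (k := 8) rfl (by decide +kernel)

theorem b2532 : Block F al 648192 648448 245 :=
  block_of_check (k := 8) rfl (by decide +kernel)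

theorem b2533 : Block F al 648448 648704 244 :=
  block_of_check (k := 8) rfl (by decide +kernel)

theorem b2534 : Block F al 648704 648960 244 :=
  block_of_check (k := 8) rfl (by decide +kernel)

theorem b2535 : Block F al 648960 649216 242 :=
  block_of_check (k := 8) rfl (by decide +kernel)

theorem b2536 : Block F al 649216 649472 252 :=
  block_of_check (k := 8) rfl (by decide +kernel)

theorem b2537 : Block F al 649472 649728 250 :=
  block_of_check (k := 8) rfl (by decide +kernel)

theorem b2538 : Block F al 649728 649984 250 :=
  block_of_check (k := 8) rfl (by decide +kernel)

theorem b2539 : Block F al 649984 650240 252 :=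
  block_of_check (k := 8) rfl (by decide +kernel)

theorem b2540 : Block F al 650240 650496 236 :=
  block_of_check (k := 8) rfl (by decide +kernel)

theorem b2541 : Block F al 650496 650752 247 :=
  block_of_check (k := 8) rfl (by decide +kernel)

theorem b2542 : Block F al 650752 651008 247 :=
  block_of_check (k := 8) rfl (by decide +kernel)

theorem b2543 : Block F al 651008 651264 240 :=
  block_of_check (k := 8) rfl (by decide +kernel)

theorem b2544 : Block F al 651264 651520 241 :=
  block_of_check (k := 8) rfl (by decide +kernel)

end Cfsg.Agent.TcData.HN.I1539000
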