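import Mathlib
import Cfsg.Agent.TcData.HN.I1539000.Tab

set_option autoImplicit false
set_option Elab.async false
set_option maxRecDepth 100000
set_option linter.all false

namespace Cfsg.Agent.TcData.HN.I1539000

open Cfsg.Spor Cfsg.Agent.Lib.TcFacts Cfsg.Agent.Lib.TcBits Cfsg.Agent.Lib.TcPres Cfsg.Spor.HN Cfsg.Agent.TcData.HN

theorem b2545 : Block F al 651520 651776 240 :=
  block_of_check (k := 8) rfl (by decide +kernel)

theorem b2546 : Block F al 651776 652032 242 :=
  block_of_check (k := 8) rfl (by decide +kernel)

theorem b2547 : Block F al 652032 652288 252 :=
  block_of_check (k := 8) rfl (by decide +kernel)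

theorem b2548 : Block F al 652288 652544 246 :=
  block_of_check (k := 8) rfl (by decide +kernel)

theorem b2549 : Block F al 652544 652800 231 :=
  block_of_check (k := 8) rfl (by decide +kernel)

theorem b2550 : Block F al 652800 653056 245 :=
  block_of_check (k := 8) rfl (by decide +kernel)

theorem b2551 : Block F al 653056 653312 231 :=
  block_of_check (k := 8) rfl (by decide +kernel)

theorem b2552 : Block F al 653312 653568 227 :=
  block_of_check (k := 8) rfl (by decide +kernel)

theorem b2553 : Block F al 653568 653824 250 :=
  block_of_check (k := 8) rfl (by decide +kernel)

theorem b2554 : Block F al 653824 654080 243 :=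
  block_of_check (k := 8) rfl (by decide +kernel)

theorem b2555 : Block F al 654080 654336 233 :=
  block_of_check (k := 8) rfl (by decide +kernel)

theorem b2556 : Block F al 654336 654592 232 :=
  block_of_check (k := 8) rfl (by decide +kernel)

theorem b2557 : Block F al 654592 654848 242 :=
  block_of_check (k := 8) rfl (by decide +kernel)

theorem b2558 : Block F al 654848 655104 246 :=
  block_of_check (k := 8) rfl (by decide +kernel)

theorem b2559 : Block F al 655104 655360 235 :=
  block_of_check (k := 8) rfl (by decide +kernel)

theorem b2560 : Block F al 655360 655616 247 :=
  block_of_check (k := 8) rfl (by decide +kernel)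

theorem b2561 : Block F al 655616 655872 247 :=
  block_of_check (k := 8) rfl (by decide +kernel)

theorem b2562 : Block F al 655872 656128 246 :=
  block_of_check (k := 8) rfl (by decide +kernel)

theorem b2563 : Block F al 656128 656384 250 :=
  block_of_check (k := 8) rfl (by decide +kernel)

theorem b2564 : Block F al 656384 656640 255 :=
  block_of_check (k := 8) rfl (by decide +kernel)

theorem b2565 : Block F al 656640 656896 248 :=
  block_of_check (k := 8) rfl (by decide +kernel)

theorem b2566 : Block F al 656896 657152 222 :=
  block_of_check (k := 8) rfl (by decide +kernel)

theorem b2567 : Block F al 657152 657408 240 :=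
  block_of_check (k := 8) rfl (by decide +kernel)

theorem b2568 : Block F al 657408 657664 230 :=
  block_of_check (k := 8) rfl (by decide +kernel)

theorem b2569 : Block F al 657664 657920 247 :=
  block_of_check (k := 8) rfl (by decide +kernel)

theorem b2570 : Block F al 657920 658176 243 :=
  block_of_check (k := 8) rfl (by decide +kernel)

theorem b2571 : Block F al 658176 658432 242 :=
  block_of_check (k := 8) rfl (by decide +kernel)

theorem b2572 : Block F al 658432 658688 244 :=
  block_of_check (k := 8) rfl (by decide +kernel)

theorem b2573 : Block F al 658688 658944 251 :=
  block_of_check (k := 8) rfl (by decide +kernel)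

theorem b2574 : Block F al 658944 659200 247 :=
  block_of_check (k := 8) rfl (by decide +kernel)

theorem b2575 : Block F al 659200 659456 245 :=
  block_of_check (k := 8) rfl (by decide +kernel)

theorem b2576 : Block F al 659456 659712 240 :=
  block_of_check (k := 8) rfl (by decide +kernel)

theorem b2577 : Block F al 659712 659968 231 :=
  block_of_check (k := 8) rfl (by decide +kernel)

theorem b2578 : Block F al 659968 660224 237 :=
  block_of_check (k := 8) rfl (by decide +kernel)

theorem b2579 : Block F al 660224 660480 252 :=
  block_of_check (k := 8) rfl (by decide +kernel)

theorem b2580 : Block F al 660480 660736 239 :=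
  block_of_check (k := 8) rfl (by decide +kernel)

theorem b2581 : Block F al 660736 660992 251 :=
  block_of_check (k := 8) rfl (by decide +kernel)

theorem b2582 : Block F al 660992 661248 247 :=
  block_of_check (k := 8) rfl (by decide +kernel)

theorem b2583 : Block F al 661248 661504 253 :=
  block_of_check (k := 8) rfl (by decide +kernel)

theorem b2584 : Block F al 661504 661760 248 :=
  block_of_check (k := 8) rfl (by decide +kernel)

theorem b2585 : Block F al 661760 662016 240 :=
  block_of_check (k := 8) rfl (by decide +kernel)

end Cfsg.Agent.TcData.HN.I1539000
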