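import Mathlib
import Cfsg.Agent.TcData.HN.I1539000.Tab

set_option autoImplicit false
set_option Elab.async false
set_option maxRecDepth 100000
set_option linter.all false

namespace Cfsg.Agent.TcData.HN.I1539000

open Cfsg.Spor Cfsg.Agent.Lib.TcFacts Cfsg.Agent.Lib.TcBits Cfsg.Agent.Lib.TcPres Cfsg.Spor.HN Cfsg.Agent.TcData.HN

theorem b2586 : Block F al 662016 662272 243 :=
  block_of_check (k := 8) rfl (by decide +kernel)

theorem b2587 : Block F al 662272 662528 229 :=
  block_of_check (k := 8) rfl (by decide +kernel)

theorem b2588 : Block F al 662528 662784 241 :=
  block_of_check (k := 8) rfl (by decide +kernel)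

theorem b2589 : Block F al 662784 663040 247 :=
  block_of_check (k := 8) rfl (by decide +kernel)

theorem b2590 : Block F al 663040 663296 231 :=
  block_of_check (k := 8) rfl (by decide +kernel)

theorem b2591 : Block F al 663296 663552 226 :=
  block_of_check (k := 8) rfl (by decide +kernel)

theorem b2592 : Block F al 663552 663808 228 :=
  block_of_check (k := 8) rfl (by decide +kernel)

theorem b2593 : Block F al 663808 664064 245 :=
  block_of_check (k := 8) rfl (by decide +kernel)

theorem b2594 : Block F al 664064 664320 248 :=
  block_of_check (k := 8) rfl (by decide +kernel)

theorem b2595 : Block F al 664320 664576 243 :=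
  block_of_check (k := 8) rfl (by decide +kernel)

theorem b2596 : Block F al 664576 664832 252 :=
  block_of_check (k := 8) rfl (by decide +kernel)

theorem b2597 : Block F al 664832 665088 236 :=
  block_of_check (k := 8) rfl (by decide +kernel)

theorem b2598 : Block F al 665088 665344 242 :=
  block_of_check (k := 8) rfl (by decide +kernel)

theorem b2599 : Block F al 665344 665600 228 :=
  block_of_check (k := 8) rfl (by decide +kernel)

theorem b2600 : Block F al 665600 665856 166 :=
  block_of_check (k := 8) rfl (by decide +kernel)

theorem b2601 : Block F al 665856 666112 202 :=
  block_of_check (k := 8) rfl (by decide +kernel)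

theorem b2602 : Block F al 666112 666368 247 :=
  block_of_check (k := 8) rfl (by decide +kernel)

theorem b2603 : Block F al 666368 666624 214 :=
  block_of_check (k := 8) rfl (by decide +kernel)

theorem b2604 : Block F al 666624 666880 233 :=
  block_of_check (k := 8) rfl (by decide +kernel)

theorem b2605 : Block F al 666880 667136 220 :=
  block_of_check (k := 8) rfl (by decide +kernel)

theorem b2606 : Block F al 667136 667392 248 :=
  block_of_check (k := 8) rfl (by decide +kernel)

theorem b2607 : Block F al 667392 667648 237 :=
  block_of_check (k := 8) rfl (by decide +kernel)

theorem b2608 : Block F al 667648 667904 250 :=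
  block_of_check (k := 8) rfl (by decide +kernel)

theorem b2609 : Block F al 667904 668160 240 :=
  block_of_check (k := 8) rfl (by decide +kernel)

theorem b2610 : Block F al 668160 668416 226 :=
  block_of_check (k := 8) rfl (by decide +kernel)

theorem b2611 : Block F al 668416 668672 239 :=
  block_of_check (k := 8) rfl (by decide +kernel)

theorem b2612 : Block F al 668672 668928 253 :=
  block_of_check (k := 8) rfl (by decide +kernel)

theorem b2613 : Block F al 668928 669184 244 :=
  block_of_check (k := 8) rfl (by decide +kernel)

theorem b2614 : Block F al 669184 669440 238 :=
  block_of_check (k := 8) rfl (by decide +kernel)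

theorem b2615 : Block F al 669440 669696 213 :=
  block_of_check (k := 8) rfl (by decide +kernel)

theorem b2616 : Block F al 669696 669952 250 :=
  block_of_check (k := 8) rfl (by decide +kernel)

theorem b2617 : Block F al 669952 670208 241 :=
  block_of_check (k := 8) rfl (by decide +kernel)

theorem b2618 : Block F al 670208 670464 241 :=
  block_of_check (k := 8) rfl (by decide +kernel)

theorem b2619 : Block F al 670464 670720 246 :=
  block_of_check (k := 8) rfl (by decide +kernel)

theorem b2620 : Block F al 670720 670976 240 :=
  block_of_check (k := 8) rfl (by decide +kernel)

theorem b2621 : Block F al 670976 671232 234 :=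
  block_of_check (k := 8) rfl (by decide +kernel)

theorem b2622 : Block F al 671232 671488 236 :=
  block_of_check (k := 8) rfl (by decide +kernel)

theorem b2623 : Block F al 671488 671744 250 :=
  block_of_check (k := 8) rfl (by decide +kernel)

theorem b2624 : Block F al 671744 672000 235 :=
  block_of_check (k := 8) rfl (by decide +kernel)

theorem b2625 : Block F al 672000 672256 249 :=
  block_of_check (k := 8) rfl (by decide +kernel)

theorem b2626 : Block F al 672256 672512 251 :=
  block_of_check (k := 8) rfl (by decide +kernel)

theorem b2627 : Block F al 672512 672768 240 :=
  block_of_check (k := 8) rfl (by decide +kernel)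

end Cfsg.Agent.TcData.HN.I1539000
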