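import Mathlib
import Cfsg.Agent.TcData.HN.I1539000.Tab

set_option autoImplicit false
set_option Elab.async false
set_option maxRecDepth 100000
set_option linter.all false

namespace Cfsg.Agent.TcData.HN.I1539000

open Cfsg.Spor Cfsg.Agent.Lib.TcFacts Cfsg.Agent.Lib.TcBits Cfsg.Agent.Lib.TcPres Cfsg.Spor.HN Cfsg.Agent.TcData.HN

theorem b2628 : Block F al 672768 673024 242 :=
  block_of_check (k := 8) rfl (by decide +kernel)

theorem b2629 : Block F al 673024 673280 223 :=
  block_of_check (k := 8) rfl (by decide +kernel)

theorem b2630 : Block F al 673280 673536 246 :=
  block_of_check (k := 8) rfl (by decide +kernel)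

theorem b2631 : Block F al 673536 673792 246 :=
  block_of_check (k := 8) rfl (by decide +kernel)

theorem b2632 : Block F al 673792 674048 236 :=
  block_of_check (k := 8) rfl (by decide +kernel)

theorem b2633 : Block F al 674048 674304 230 :=
  block_of_check (k := 8) rfl (by decide +kernel)

theorem b2634 : Block F al 674304 674560 235 :=
  block_of_check (k := 8) rfl (by decide +kernel)

theorem b2635 : Block F al 674560 674816 238 :=
  block_of_check (k := 8) rfl (by decide +kernel)

theorem b2636 : Block F al 674816 675072 235 :=
  block_of_check (k := 8) rfl (by decide +kernel)

theorem b2637 : Block F al 675072 675328 237 :=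
  block_of_check (k := 8) rfl (by decide +kernel)

theorem b2638 : Block F al 675328 675584 254 :=
  block_of_check (k := 8) rfl (by decide +kernel)

theorem b2639 : Block F al 675584 675840 237 :=
  block_of_check (k := 8) rfl (by decide +kernel)

theorem b2640 : Block F al 675840 676096 252 :=
  block_of_check (k := 8) rfl (by decide +kernel)

theorem b2641 : Block F al 676096 676352 243 :=
  block_of_check (k := 8) rfl (by decide +kernel)

theorem b2642 : Block F al 676352 676608 241 :=
  block_of_check (k := 8) rfl (by decide +kernel)

theorem b2643 : Block F al 676608 676864 245 :=
  block_of_check (k := 8) rfl (by decide +kernel)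

theorem b2644 : Block F al 676864 677120 238 :=
  block_of_check (k := 8) rfl (by decide +kernel)

theorem b2645 : Block F al 677120 677376 236 :=
  block_of_check (k := 8) rfl (by decide +kernel)

theorem b2646 : Block F al 677376 677632 236 :=
  block_of_check (k := 8) rfl (by decide +kernel)

theorem b2647 : Block F al 677632 677888 230 :=
  block_of_check (k := 8) rfl (by decide +kernel)

theorem b2648 : Block F al 677888 678144 249 :=
  block_of_check (k := 8) rfl (by decide +kernel)

theorem b2649 : Block F al 678144 678400 241 :=
  block_of_check (k := 8) rfl (by decide +kernel)

theorem b2650 : Block F al 678400 678656 252 :=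
  block_of_check (k := 8) rfl (by decide +kernel)

theorem b2651 : Block F al 678656 678912 248 :=
  block_of_check (k := 8) rfl (by decide +kernel)

theorem b2652 : Block F al 678912 679168 216 :=
  block_of_check (k := 8) rfl (by decide +kernel)

theorem b2653 : Block F al 679168 679424 240 :=
  block_of_check (k := 8) rfl (by decide +kernel)

theorem b2654 : Block F al 679424 679680 233 :=
  block_of_check (k := 8) rfl (by decide +kernel)

theorem b2655 : Block F al 679680 679936 230 :=
  block_of_check (k := 8) rfl (by decide +kernel)

theorem b2656 : Block F al 679936 680192 240 :=
  block_of_check (k := 8) rfl (by decide +kernel)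

theorem b2657 : Block F al 680192 680448 246 :=
  block_of_check (k := 8) rfl (by decide +kernel)

theorem b2658 : Block F al 680448 680704 242 :=
  block_of_check (k := 8) rfl (by decide +kernel)

theorem b2659 : Block F al 680704 680960 235 :=
  block_of_check (k := 8) rfl (by decide +kernel)

theorem b2660 : Block F al 680960 681216 245 :=
  block_of_check (k := 8) rfl (by decide +kernel)

theorem b2661 : Block F al 681216 681472 236 :=
  block_of_check (k := 8) rfl (by decide +kernel)

theorem b2662 : Block F al 681472 681728 212 :=
  block_of_check (k := 8) rfl (by decide +kernel)

theorem b2663 : Block F al 681728 681984 218 :=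
  block_of_check (k := 8) rfl (by decide +kernel)

theorem b2664 : Block F al 681984 682240 246 :=
  block_of_check (k := 8) rfl (by decide +kernel)

theorem b2665 : Block F al 682240 682496 215 :=
  block_of_check (k := 8) rfl (by decide +kernel)

theorem b2666 : Block F al 682496 682752 232 :=
  block_of_check (k := 8) rfl (by decide +kernel)

theorem b2667 : Block F al 682752 683008 237 :=
  block_of_check (k := 8) rfl (by decide +kernel)

theorem b2668 : Block F al 683008 683264 210 :=
  block_of_check (k := 8) rfl (by decide +kernel)

theorem b2669 : Block F al 683264 683520 202 :=
  block_of_check (k := 8) rfl (by decide +kernel)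

end Cfsg.Agent.TcData.HN.I1539000
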