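import Mathlib
import Cfsg.Agent.TcData.HN.I1539000.Tab

set_option autoImplicit false
set_option Elab.async false
set_option maxRecDepth 100000
set_option linter.all false

namespace Cfsg.Agent.TcData.HN.I1539000

open Cfsg.Spor Cfsg.Agent.Lib.TcFacts Cfsg.Agent.Lib.TcBits Cfsg.Agent.Lib.TcPres Cfsg.Spor.HN Cfsg.Agent.TcData.HN

theorem b2670 : Block F al 683520 683776 222 :=
  block_of_check (k := 8) rfl (by decide +kernel)

theorem b2671 : Block F al 683776 684032 227 :=
  block_of_check (k := 8) rfl (by decide +kernel)

theorem b2672 : Block F al 684032 684288 250 :=
  block_of_check (k := 8) rfl (by decide +kernel)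

theorem b2673 : Block F al 684288 684544 245 :=
  block_of_check (k := 8) rfl (by decide +kernel)

theorem b2674 : Block F al 684544 684800 242 :=
  block_of_check (k := 8) rfl (by decide +kernel)

theorem b2675 : Block F al 684800 685056 249 :=
  block_of_check (k := 8) rfl (by decide +kernel)

theorem b2676 : Block F al 685056 685312 230 :=
  block_of_check (k := 8) rfl (by decide +kernel)

theorem b2677 : Block F al 685312 685568 247 :=
  block_of_check (k := 8) rfl (by decide +kernel)

theorem b2678 : Block F al 685568 685824 238 :=
  block_of_check (k := 8) rfl (by decide +kernel)

theorem b2679 : Block F al 685824 686080 238 :=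
  block_of_check (k := 8) rfl (by decide +kernel)

theorem b2680 : Block F al 686080 686336 243 :=
  block_of_check (k := 8) rfl (by decide +kernel)

theorem b2681 : Block F al 686336 686592 229 :=
  block_of_check (k := 8) rfl (by decide +kernel)

theorem b2682 : Block F al 686592 686848 249 :=
  block_of_check (k := 8) rfl (by decide +kernel)

theorem b2683 : Block F al 686848 687104 245 :=
  block_of_check (k := 8) rfl (by decide +kernel)

theorem b2684 : Block F al 687104 687360 252 :=
  block_of_check (k := 8) rfl (by decide +kernel)

theorem b2685 : Block F al 687360 687616 249 :=
  block_of_check (k := 8) rfl (by decide +kernel)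

theorem b2686 : Block F al 687616 687872 240 :=
  block_of_check (k := 8) rfl (by decide +kernel)

theorem b2687 : Block F al 687872 688128 242 :=
  block_of_check (k := 8) rfl (by decide +kernel)

theorem b2688 : Block F al 688128 688384 236 :=
  block_of_check (k := 8) rfl (by decide +kernel)

theorem b2689 : Block F al 688384 688640 250 :=
  block_of_check (k := 8) rfl (by decide +kernel)

theorem b2690 : Block F al 688640 688896 245 :=
  block_of_check (k := 8) rfl (by decide +kernel)

theorem b2691 : Block F al 688896 689152 246 :=
  block_of_check (k := 8) rfl (by decide +kernel)

theorem b2692 : Block F al 689152 689408 219 :=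
  block_of_check (k := 8) rfl (by decide +kernel)

theorem b2693 : Block F al 689408 689664 214 :=
  block_of_check (k := 8) rfl (by decide +kernel)

theorem b2694 : Block F al 689664 689920 236 :=
  block_of_check (k := 8) rfl (by decide +kernel)

theorem b2695 : Block F al 689920 690176 232 :=
  block_of_check (k := 8) rfl (by decide +kernel)

theorem b2696 : Block F al 690176 690432 238 :=
  block_of_check (k := 8) rfl (by decide +kernel)

theorem b2697 : Block F al 690432 690688 237 :=
  block_of_check (k := 8) rfl (by decide +kernel)

theorem b2698 : Block F al 690688 690944 241 :=
  block_of_check (k := 8) rfl (by decide +kernel)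

theorem b2699 : Block F al 690944 691200 224 :=
  block_of_check (k := 8) rfl (by decide +kernel)

theorem b2700 : Block F al 691200 691456 244 :=
  block_of_check (k := 8) rfl (by decide +kernel)

theorem b2701 : Block F al 691456 691712 214 :=
  block_of_check (k := 8) rfl (by decide +kernel)

theorem b2702 : Block F al 691712 691968 243 :=
  block_of_check (k := 8) rfl (by decide +kernel)

theorem b2703 : Block F al 691968 692224 249 :=
  block_of_check (k := 8) rfl (by decide +kernel)

theorem b2704 : Block F al 692224 692480 233 :=
  block_of_check (k := 8) rfl (by decide +kernel)

theorem b2705 : Block F al 692480 692736 237 :=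
  block_of_check (k := 8) rfl (by decide +kernel)

theorem b2706 : Block F al 692736 692992 245 :=
  block_of_check (k := 8) rfl (by decide +kernel)

theorem b2707 : Block F al 692992 693248 241 :=
  block_of_check (k := 8) rfl (by decide +kernel)

theorem b2708 : Block F al 693248 693504 242 :=
  block_of_check (k := 8) rfl (by decide +kernel)

theorem b2709 : Block F al 693504 693760 246 :=
  block_of_check (k := 8) rfl (by decide +kernel)

theorem b2710 : Block F al 693760 694016 236 :=
  block_of_check (k := 8) rfl (by decide +kernel)

end Cfsg.Agent.TcData.HN.I1539000
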