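import Mathlib
import Cfsg.Agent.TcData.HN.I1539000.Tab

set_option autoImplicit false
set_option Elab.async false
set_option maxRecDepth 100000
set_option linter.all false

namespace Cfsg.Agent.TcData.HN.I1539000

open Cfsg.Spor Cfsg.Agent.Lib.TcFacts Cfsg.Agent.Lib.TcBits Cfsg.Agent.Lib.TcPres Cfsg.Spor.HN Cfsg.Agent.TcData.HN

theorem b323 : Block F al 82688 82944 231 :=
  block_of_check (k := 8) rfl (by decide +kernel)

theorem b324 : Block F al 82944 83200 249 :=
  block_of_check (k := 8) rfl (by decide +kernel)

theorem b325 : Block F al 83200 83456 165 :=
  block_of_check (k := 8) rfl (by decide +kernel)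

theorem b326 : Block F al 83456 83712 243 :=
  block_of_check (k := 8) rfl (by decide +kernel)

theorem b327 : Block F al 83712 83968 254 :=
  block_of_check (k := 8) rfl (by decide +kernel)

theorem b328 : Block F al 83968 84224 229 :=
  block_of_check (k := 8) rfl (by decide +kernel)

theorem b329 : Block F al 84224 84480 225 :=
  block_of_check (k := 8) rfl (by decide +kernel)

theorem b330 : Block F al 84480 84736 200 :=
  block_of_check (k := 8) rfl (by decide +kernel)

theorem b331 : Block F al 84736 84992 256 :=
  block_of_check (k := 8) rfl (by decide +kernel)

theorem b332 : Block F al 84992 85248 234 :=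
  block_of_check (k := 8) rfl (by decide +kernel)

theorem b333 : Block F al 85248 85504 247 :=
  block_of_check (k := 8) rfl (by decide +kernel)

theorem b334 : Block F al 85504 85760 244 :=
  block_of_check (k := 8) rfl (by decide +kernel)

theorem b335 : Block F al 85760 86016 238 :=
  block_of_check (k := 8) rfl (by decide +kernel)

theorem b336 : Block F al 86016 86272 241 :=
  block_of_check (k := 8) rfl (by decide +kernel)

theorem b337 : Block F al 86272 86528 182 :=
  block_of_check (k := 8) rfl (by decide +kernel)

theorem b338 : Block F al 86528 86784 236 :=
  block_of_check (k := 8) rfl (by decide +kernel)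

theorem b339 : Block F al 86784 87040 245 :=
  block_of_check (k := 8) rfl (by decide +kernel)

theorem b340 : Block F al 87040 87296 246 :=
  block_of_check (k := 8) rfl (by decide +kernel)

theorem b341 : Block F al 87296 87552 236 :=
  block_of_check (k := 8) rfl (by decide +kernel)

theorem b342 : Block F al 87552 87808 242 :=
  block_of_check (k := 8) rfl (by decide +kernel)

theorem b343 : Block F al 87808 88064 250 :=
  block_of_check (k := 8) rfl (by decide +kernel)

theorem b344 : Block F al 88064 88320 233 :=
  block_of_check (k := 8) rfl (by decide +kernel)

theorem b345 : Block F al 88320 88576 240 :=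
  block_of_check (k := 8) rfl (by decide +kernel)

theorem b346 : Block F al 88576 88832 233 :=
  block_of_check (k := 8) rfl (by decide +kernel)

theorem b347 : Block F al 88832 89088 221 :=
  block_of_check (k := 8) rfl (by decide +kernel)

theorem b348 : Block F al 89088 89344 254 :=
  block_of_check (k := 8) rfl (by decide +kernel)

theorem b349 : Block F al 89344 89600 253 :=
  block_of_check (k := 8) rfl (by decide +kernel)

theorem b350 : Block F al 89600 89856 252 :=
  block_of_check (k := 8) rfl (by decide +kernel)

theorem b351 : Block F al 89856 90112 252 :=
  block_of_check (k := 8) rfl (by decide +kernel)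

theorem b352 : Block F al 90112 90368 246 :=
  block_of_check (k := 8) rfl (by decide +kernel)

theorem b353 : Block F al 90368 90624 250 :=
  block_of_check (k := 8) rfl (by decide +kernel)

theorem b354 : Block F al 90624 90880 249 :=
  block_of_check (k := 8) rfl (by decide +kernel)

theorem b355 : Block F al 90880 91136 249 :=
  block_of_check (k := 8) rfl (by decide +kernel)

theorem b356 : Block F al 91136 91392 253 :=
  block_of_check (k := 8) rfl (by decide +kernel)

theorem b357 : Block F al 91392 91648 249 :=
  block_of_check (k := 8) rfl (by decide +kernel)

theorem b358 : Block F al 91648 91904 253 :=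
  block_of_check (k := 8) rfl (by decide +kernel)

theorem b359 : Block F al 91904 92160 254 :=
  block_of_check (k := 8) rfl (by decide +kernel)

theorem b360 : Block F al 92160 92416 252 :=
  block_of_check (k := 8) rfl (by decide +kernel)

theorem b361 : Block F al 92416 92672 247 :=
  block_of_check (k := 8) rfl (by decide +kernel)

theorem b362 : Block F al 92672 92928 244 :=
  block_of_check (k := 8) rfl (by decide +kernel)

theorem b363 : Block F al 92928 93184 235 :=
  block_of_check (k := 8) rfl (by decide +kernel)

theorem b364 : Block F al 93184 93440 244 :=
  block_of_check (k := 8) rfl (by decide +kernel)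

theorem b365 : Block F al 93440 93696 230 :=
  block_of_check (k := 8) rfl (by decide +kernel)

theorem b366 : Block F al 93696 93952 220 :=
  block_of_check (k := 8) rfl (by decide +kernel)

theorem b367 : Block F al 93952 94208 225 :=
  block_of_check (k := 8) rfl (by decide +kernel)

theorem b368 : Block F al 94208 94464 214 :=
  block_of_check (k := 8) rfl (by decide +kernel)

theorem b369 : Block F al 94464 94720 247 :=
  block_of_check (k := 8) rfl (by decide +kernel)

theorem b370 : Block F al 94720 94976 235 :=
  block_of_check (k := 8) rfl (by decide +kernel)

theorem b371 : Block F al 94976 95232 253 :=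
  block_of_check (k := 8) rfl (by decide +kernel)

theorem b372 : Block F al 95232 95488 238 :=
  block_of_check (k := 8) rfl (by decide +kernel)

theorem b373 : Block F al 95488 95744 204 :=
  block_of_check (k := 8) rfl (by decide +kernel)

theorem b374 : Block F al 95744 96000 234 :=
  block_of_check (k := 8) rfl (by decide +kernel)

end Cfsg.Agent.TcData.HN.I1539000
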