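import Mathlib
import Cfsg.Agent.TcData.HN.I1539000.Tab

set_option autoImplicit false
set_option Elab.async false
set_option maxRecDepth 100000
set_option linter.all false

namespace Cfsg.Agent.TcData.HN.I1539000

open Cfsg.Spor Cfsg.Agent.Lib.TcFacts Cfsg.Agent.Lib.TcBits Cfsg.Agent.Lib.TcPres Cfsg.Spor.HN Cfsg.Agent.TcData.HN

theorem b2752 : Block F al 704512 704768 250 :=
  block_of_check (k := 8) rfl (by decide +kernel)

theorem b2753 : Block F al 704768 705024 249 :=
  block_of_check (k := 8) rfl (by decide +kernel)

theorem b2754 : Block F al 705024 705280 244 :=
  block_of_check (k := 8) rfl (by decide +kernel)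

theorem b2755 : Block F al 705280 705536 236 :=
  block_of_check (k := 8) rfl (by decide +kernel)

theorem b2756 : Block F al 705536 705792 234 :=
  block_of_check (k := 8) rfl (by decide +kernel)

theorem b2757 : Block F al 705792 706048 238 :=
  block_of_check (k := 8) rfl (by decide +kernel)

theorem b2758 : Block F al 706048 706304 247 :=
  block_of_check (k := 8) rfl (by decide +kernel)

theorem b2759 : Block F al 706304 706560 228 :=
  block_of_check (k := 8) rfl (by decide +kernel)

theorem b2760 : Block F al 706560 706816 249 :=
  block_of_check (k := 8) rfl (by decide +kernel)

theorem b2761 : Block F al 706816 707072 242 :=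
  block_of_check (k := 8) rfl (by decide +kernel)

theorem b2762 : Block F al 707072 707328 223 :=
  block_of_check (k := 8) rfl (by decide +kernel)

theorem b2763 : Block F al 707328 707584 252 :=
  block_of_check (k := 8) rfl (by decide +kernel)

theorem b2764 : Block F al 707584 707840 241 :=
  block_of_check (k := 8) rfl (by decide +kernel)

theorem b2765 : Block F al 707840 708096 245 :=
  block_of_check (k := 8) rfl (by decide +kernel)

theorem b2766 : Block F al 708096 708352 248 :=
  block_of_check (k := 8) rfl (by decide +kernel)

theorem b2767 : Block F al 708352 708608 235 :=
  block_of_check (k := 8) rfl (by decide +kernel)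

theorem b2768 : Block F al 708608 708864 242 :=
  block_of_check (k := 8) rfl (by decide +kernel)

theorem b2769 : Block F al 708864 709120 238 :=
  block_of_check (k := 8) rfl (by decide +kernel)

theorem b2770 : Block F al 709120 709376 226 :=
  block_of_check (k := 8) rfl (by decide +kernel)

theorem b2771 : Block F al 709376 709632 233 :=
  block_of_check (k := 8) rfl (by decide +kernel)

theorem b2772 : Block F al 709632 709888 237 :=
  block_of_check (k := 8) rfl (by decide +kernel)

theorem b2773 : Block F al 709888 710144 240 :=
  block_of_check (k := 8) rfl (by decide +kernel)

theorem b2774 : Block F al 710144 710400 247 :=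
  block_of_check (k := 8) rfl (by decide +kernel)

theorem b2775 : Block F al 710400 710656 244 :=
  block_of_check (k := 8) rfl (by decide +kernel)

theorem b2776 : Block F al 710656 710912 247 :=
  block_of_check (k := 8) rfl (by decide +kernel)

theorem b2777 : Block F al 710912 711168 248 :=
  block_of_check (k := 8) rfl (by decide +kernel)

theorem b2778 : Block F al 711168 711424 246 :=
  block_of_check (k := 8) rfl (by decide +kernel)

theorem b2779 : Block F al 711424 711680 230 :=
  block_of_check (k := 8) rfl (by decide +kernel)

theorem b2780 : Block F al 711680 711936 256 :=
  block_of_check (k := 8) rfl (by decide +kernel)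

theorem b2781 : Block F al 711936 712192 244 :=
  block_of_check (k := 8) rfl (by decide +kernel)

theorem b2782 : Block F al 712192 712448 238 :=
  block_of_check (k := 8) rfl (by decide +kernel)

theorem b2783 : Block F al 712448 712704 253 :=
  block_of_check (k := 8) rfl (by decide +kernel)

theorem b2784 : Block F al 712704 712960 245 :=
  block_of_check (k := 8) rfl (by decide +kernel)

theorem b2785 : Block F al 712960 713216 241 :=
  block_of_check (k := 8) rfl (by decide +kernel)

theorem b2786 : Block F al 713216 713472 239 :=
  block_of_check (k := 8) rfl (by decide +kernel)

theorem b2787 : Block F al 713472 713728 246 :=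
  block_of_check (k := 8) rfl (by decide +kernel)

theorem b2788 : Block F al 713728 713984 238 :=
  block_of_check (k := 8) rfl (by decide +kernel)

theorem b2789 : Block F al 713984 714240 241 :=
  block_of_check (k := 8) rfl (by decide +kernel)

theorem b2790 : Block F al 714240 714496 242 :=
  block_of_check (k := 8) rfl (by decide +kernel)

end Cfsg.Agent.TcData.HN.I1539000
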