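import Mathlib
import Cfsg.Agent.TcData.HN.I1539000.Tab

set_option autoImplicit false
set_option Elab.async false
set_option maxRecDepth 100000
set_option linter.all false

namespace Cfsg.Agent.TcData.HN.I1539000

open Cfsg.Spor Cfsg.Agent.Lib.TcFacts Cfsg.Agent.Lib.TcBits Cfsg.Agent.Lib.TcPres Cfsg.Spor.HN Cfsg.Agent.TcData.HN

theorem b2791 : Block F al 714496 714752 247 :=
  block_of_check (k := 8) rfl (by decide +kernel)

theorem b2792 : Block F al 714752 715008 240 :=
  block_of_check (k := 8) rfl (by decide +kernel)

theorem b2793 : Block F al 715008 715264 247 :=
  block_of_check (k := 8) rfl (by decide +kernel)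

theorem b2794 : Block F al 715264 715520 244 :=
  block_of_check (k := 8) rfl (by decide +kernel)

theorem b2795 : Block F al 715520 715776 247 :=
  block_of_check (k := 8) rfl (by decide +kernel)

theorem b2796 : Block F al 715776 716032 248 :=
  block_of_check (k := 8) rfl (by decide +kernel)

theorem b2797 : Block F al 716032 716288 207 :=
  block_of_check (k := 8) rfl (by decide +kernel)

theorem b2798 : Block F al 716288 716544 239 :=
  block_of_check (k := 8) rfl (by decide +kernel)

theorem b2799 : Block F al 716544 716800 214 :=
  block_of_check (k := 8) rfl (by decide +kernel)

theorem b2800 : Block F al 716800 717056 247 :=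
  block_of_check (k := 8) rfl (by decide +kernel)

theorem b2801 : Block F al 717056 717312 243 :=
  block_of_check (k := 8) rfl (by decide +kernel)

theorem b2802 : Block F al 717312 717568 229 :=
  block_of_check (k := 8) rfl (by decide +kernel)

theorem b2803 : Block F al 717568 717824 229 :=
  block_of_check (k := 8) rfl (by decide +kernel)

theorem b2804 : Block F al 717824 718080 233 :=
  block_of_check (k := 8) rfl (by decide +kernel)

theorem b2805 : Block F al 718080 718336 245 :=
  block_of_check (k := 8) rfl (by decide +kernel)

theorem b2806 : Block F al 718336 718592 239 :=
  block_of_check (k := 8) rfl (by decide +kernel)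

theorem b2807 : Block F al 718592 718848 229 :=
  block_of_check (k := 8) rfl (by decide +kernel)

theorem b2808 : Block F al 718848 719104 226 :=
  block_of_check (k := 8) rfl (by decide +kernel)

theorem b2809 : Block F al 719104 719360 243 :=
  block_of_check (k := 8) rfl (by decide +kernel)

theorem b2810 : Block F al 719360 719616 239 :=
  block_of_check (k := 8) rfl (by decide +kernel)

theorem b2811 : Block F al 719616 719872 246 :=
  block_of_check (k := 8) rfl (by decide +kernel)

theorem b2812 : Block F al 719872 720128 225 :=
  block_of_check (k := 8) rfl (by decide +kernel)

theorem b2813 : Block F al 720128 720384 242 :=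
  block_of_check (k := 8) rfl (by decide +kernel)

theorem b2814 : Block F al 720384 720640 250 :=
  block_of_check (k := 8) rfl (by decide +kernel)

theorem b2815 : Block F al 720640 720896 209 :=
  block_of_check (k := 8) rfl (by decide +kernel)

theorem b2816 : Block F al 720896 721152 253 :=
  block_of_check (k := 8) rfl (by decide +kernel)

theorem b2817 : Block F al 721152 721408 243 :=
  block_of_check (k := 8) rfl (by decide +kernel)

theorem b2818 : Block F al 721408 721664 245 :=
  block_of_check (k := 8) rfl (by decide +kernel)

theorem b2819 : Block F al 721664 721920 247 :=
  block_of_check (k := 8) rfl (by decide +kernel)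

theorem b2820 : Block F al 721920 722176 239 :=
  block_of_check (k := 8) rfl (by decide +kernel)

theorem b2821 : Block F al 722176 722432 245 :=
  block_of_check (k := 8) rfl (by decide +kernel)

theorem b2822 : Block F al 722432 722688 241 :=
  block_of_check (k := 8) rfl (by decide +kernel)

theorem b2823 : Block F al 722688 722944 235 :=
  block_of_check (k := 8) rfl (by decide +kernel)

theorem b2824 : Block F al 722944 723200 239 :=
  block_of_check (k := 8) rfl (by decide +kernel)

theorem b2825 : Block F al 723200 723456 239 :=
  block_of_check (k := 8) rfl (by decide +kernel)

theorem b2826 : Block F al 723456 723712 237 :=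
  block_of_check (k := 8) rfl (by decide +kernel)

theorem b2827 : Block F al 723712 723968 253 :=
  block_of_check (k := 8) rfl (by decide +kernel)

theorem b2828 : Block F al 723968 724224 250 :=
  block_of_check (k := 8) rfl (by decide +kernel)

theorem b2829 : Block F al 724224 724480 243 :=
  block_of_check (k := 8) rfl (by decide +kernel)

theorem b2830 : Block F al 724480 724736 253 :=
  block_of_check (k := 8) rfl (by decide +kernel)

end Cfsg.Agent.TcData.HN.I1539000
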