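import Mathlib
import Cfsg.Agent.TcData.HN.I1539000.Tab

set_option autoImplicit false
set_option Elab.async false
set_option maxRecDepth 100000
set_option linter.all false

namespace Cfsg.Agent.TcData.HN.I1539000

open Cfsg.Spor Cfsg.Agent.Lib.TcFacts Cfsg.Agent.Lib.TcBits Cfsg.Agent.Lib.TcPres Cfsg.Spor.HN Cfsg.Agent.TcData.HN

theorem b2831 : Block F al 724736 724992 251 :=
  block_of_check (k := 8) rfl (by decide +kernel)

theorem b2832 : Block F al 724992 725248 247 :=
  block_of_check (k := 8) rfl (by decide +kernel)

theorem b2833 : Block F al 725248 725504 251 :=
  block_of_check (k := 8) rfl (by decide +kernel)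

theorem b2834 : Block F al 725504 725760 232 :=
  block_of_check (k := 8) rfl (by decide +kernel)

theorem b2835 : Block F al 725760 726016 250 :=
  block_of_check (k := 8) rfl (by decide +kernel)

theorem b2836 : Block F al 726016 726272 247 :=
  block_of_check (k := 8) rfl (by decide +kernel)

theorem b2837 : Block F al 726272 726528 244 :=
  block_of_check (k := 8) rfl (by decide +kernel)

theorem b2838 : Block F al 726528 726784 224 :=
  block_of_check (k := 8) rfl (by decide +kernel)

theorem b2839 : Block F al 726784 727040 246 :=
  block_of_check (k := 8) rfl (by decide +kernel)

theorem b2840 : Block F al 727040 727296 236 :=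
  block_of_check (k := 8) rfl (by decide +kernel)

theorem b2841 : Block F al 727296 727552 245 :=
  block_of_check (k := 8) rfl (by decide +kernel)

theorem b2842 : Block F al 727552 727808 247 :=
  block_of_check (k := 8) rfl (by decide +kernel)

theorem b2843 : Block F al 727808 728064 220 :=
  block_of_check (k := 8) rfl (by decide +kernel)

theorem b2844 : Block F al 728064 728320 248 :=
  block_of_check (k := 8) rfl (by decide +kernel)

theorem b2845 : Block F al 728320 728576 240 :=
  block_of_check (k := 8) rfl (by decide +kernel)

theorem b2846 : Block F al 728576 728832 227 :=
  block_of_check (k := 8) rfl (by decide +kernel)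

theorem b2847 : Block F al 728832 729088 238 :=
  block_of_check (k := 8) rfl (by decide +kernel)

theorem b2848 : Block F al 729088 729344 224 :=
  block_of_check (k := 8) rfl (by decide +kernel)

theorem b2849 : Block F al 729344 729600 228 :=
  block_of_check (k := 8) rfl (by decide +kernel)

theorem b2850 : Block F al 729600 729856 208 :=
  block_of_check (k := 8) rfl (by decide +kernel)

theorem b2851 : Block F al 729856 730112 223 :=
  block_of_check (k := 8) rfl (by decide +kernel)

theorem b2852 : Block F al 730112 730368 235 :=
  block_of_check (k := 8) rfl (by decide +kernel)

theorem b2853 : Block F al 730368 730624 226 :=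
  block_of_check (k := 8) rfl (by decide +kernel)

theorem b2854 : Block F al 730624 730880 234 :=
  block_of_check (k := 8) rfl (by decide +kernel)

theorem b2855 : Block F al 730880 731136 223 :=
  block_of_check (k := 8) rfl (by decide +kernel)

theorem b2856 : Block F al 731136 731392 227 :=
  block_of_check (k := 8) rfl (by decide +kernel)

theorem b2857 : Block F al 731392 731648 228 :=
  block_of_check (k := 8) rfl (by decide +kernel)

theorem b2858 : Block F al 731648 731904 254 :=
  block_of_check (k := 8) rfl (by decide +kernel)

theorem b2859 : Block F al 731904 732160 246 :=
  block_of_check (k := 8) rfl (by decide +kernel)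

theorem b2860 : Block F al 732160 732416 241 :=
  block_of_check (k := 8) rfl (by decide +kernel)

theorem b2861 : Block F al 732416 732672 243 :=
  block_of_check (k := 8) rfl (by decide +kernel)

theorem b2862 : Block F al 732672 732928 237 :=
  block_of_check (k := 8) rfl (by decide +kernel)

theorem b2863 : Block F al 732928 733184 254 :=
  block_of_check (k := 8) rfl (by decide +kernel)

theorem b2864 : Block F al 733184 733440 255 :=
  block_of_check (k := 8) rfl (by decide +kernel)

theorem b2865 : Block F al 733440 733696 248 :=
  block_of_check (k := 8) rfl (by decide +kernel)

theorem b2866 : Block F al 733696 733952 251 :=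
  block_of_check (k := 8) rfl (by decide +kernel)

theorem b2867 : Block F al 733952 734208 251 :=
  block_of_check (k := 8) rfl (by decide +kernel)

theorem b2868 : Block F al 734208 734464 225 :=
  block_of_check (k := 8) rfl (by decide +kernel)

theorem b2869 : Block F al 734464 734720 243 :=
  block_of_check (k := 8) rfl (by decide +kernel)

theorem b2870 : Block F al 734720 734976 245 :=
  block_of_check (k := 8) rfl (by decide +kernel)

end Cfsg.Agent.TcData.HN.I1539000
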