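import Mathlib
import Cfsg.Agent.TcData.HN.I1539000.Tab

set_option autoImplicit false
set_option Elab.async false
set_option maxRecDepth 100000
set_option linter.all false

namespace Cfsg.Agent.TcData.HN.I1539000

open Cfsg.Spor Cfsg.Agent.Lib.TcFacts Cfsg.Agent.Lib.TcBits Cfsg.Agent.Lib.TcPres Cfsg.Spor.HN Cfsg.Agent.TcData.HN

theorem b2871 : Block F al 734976 735232 254 :=
  block_of_check (k := 8) rfl (by decide +kernel)

theorem b2872 : Block F al 735232 735488 251 :=
  block_of_check (k := 8) rfl (by decide +kernel)

theorem b2873 : Block F al 735488 735744 244 :=
  block_of_check (k := 8) rfl (by decide +kernel)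

theorem b2874 : Block F al 735744 736000 242 :=
  block_of_check (k := 8) rfl (by decide +kernel)

theorem b2875 : Block F al 736000 736256 240 :=
  block_of_check (k := 8) rfl (by decide +kernel)

theorem b2876 : Block F al 736256 736512 241 :=
  block_of_check (k := 8) rfl (by decide +kernel)

theorem b2877 : Block F al 736512 736768 239 :=
  block_of_check (k := 8) rfl (by decide +kernel)

theorem b2878 : Block F al 736768 737024 240 :=
  block_of_check (k := 8) rfl (by decide +kernel)

theorem b2879 : Block F al 737024 737280 246 :=
  block_of_check (k := 8) rfl (by decide +kernel)

theorem b2880 : Block F al 737280 737536 254 :=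
  block_of_check (k := 8) rfl (by decide +kernel)

theorem b2881 : Block F al 737536 737792 247 :=
  block_of_check (k := 8) rfl (by decide +kernel)

theorem b2882 : Block F al 737792 738048 237 :=
  block_of_check (k := 8) rfl (by decide +kernel)

theorem b2883 : Block F al 738048 738304 250 :=
  block_of_check (k := 8) rfl (by decide +kernel)

theorem b2884 : Block F al 738304 738560 246 :=
  block_of_check (k := 8) rfl (by decide +kernel)

theorem b2885 : Block F al 738560 738816 243 :=
  block_of_check (k := 8) rfl (by decide +kernel)

theorem b2886 : Block F al 738816 739072 247 :=
  block_of_check (k := 8) rfl (by decide +kernel)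

theorem b2887 : Block F al 739072 739328 247 :=
  block_of_check (k := 8) rfl (by decide +kernel)

theorem b2888 : Block F al 739328 739584 248 :=
  block_of_check (k := 8) rfl (by decide +kernel)

theorem b2889 : Block F al 739584 739840 252 :=
  block_of_check (k := 8) rfl (by decide +kernel)

theorem b2890 : Block F al 739840 740096 253 :=
  block_of_check (k := 8) rfl (by decide +kernel)

theorem b2891 : Block F al 740096 740352 243 :=
  block_of_check (k := 8) rfl (by decide +kernel)

theorem b2892 : Block F al 740352 740608 244 :=
  block_of_check (k := 8) rfl (by decide +kernel)

theorem b2893 : Block F al 740608 740864 244 :=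
  block_of_check (k := 8) rfl (by decide +kernel)

theorem b2894 : Block F al 740864 741120 242 :=
  block_of_check (k := 8) rfl (by decide +kernel)

theorem b2895 : Block F al 741120 741376 241 :=
  block_of_check (k := 8) rfl (by decide +kernel)

theorem b2896 : Block F al 741376 741632 248 :=
  block_of_check (k := 8) rfl (by decide +kernel)

theorem b2897 : Block F al 741632 741888 244 :=
  block_of_check (k := 8) rfl (by decide +kernel)

theorem b2898 : Block F al 741888 742144 242 :=
  block_of_check (k := 8) rfl (by decide +kernel)

theorem b2899 : Block F al 742144 742400 239 :=
  block_of_check (k := 8) rfl (by decide +kernel)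

theorem b2900 : Block F al 742400 742656 244 :=
  block_of_check (k := 8) rfl (by decide +kernel)

theorem b2901 : Block F al 742656 742912 253 :=
  block_of_check (k := 8) rfl (by decide +kernel)

theorem b2902 : Block F al 742912 743168 246 :=
  block_of_check (k := 8) rfl (by decide +kernel)

theorem b2903 : Block F al 743168 743424 246 :=
  block_of_check (k := 8) rfl (by decide +kernel)

theorem b2904 : Block F al 743424 743680 253 :=
  block_of_check (k := 8) rfl (by decide +kernel)

theorem b2905 : Block F al 743680 743936 256 :=
  block_of_check (k := 8) rfl (by decide +kernel)

theorem b2906 : Block F al 743936 744192 241 :=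
  block_of_check (k := 8) rfl (by decide +kernel)

theorem b2907 : Block F al 744192 744448 243 :=
  block_of_check (k := 8) rfl (by decide +kernel)

theorem b2908 : Block F al 744448 744704 243 :=
  block_of_check (k := 8) rfl (by decide +kernel)

end Cfsg.Agent.TcData.HN.I1539000
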