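import Mathlib
import Cfsg.Agent.TcData.HN.I1539000.Tab

set_option autoImplicit false
set_option Elab.async false
set_option maxRecDepth 100000
set_option linter.all false

namespace Cfsg.Agent.TcData.HN.I1539000

open Cfsg.Spor Cfsg.Agent.Lib.TcFacts Cfsg.Agent.Lib.TcBits Cfsg.Agent.Lib.TcPres Cfsg.Spor.HN Cfsg.Agent.TcData.HN

theorem b2909 : Block F al 744704 744960 243 :=
  block_of_check (k := 8) rfl (by decide +kernel)

theorem b2910 : Block F al 744960 745216 220 :=
  block_of_check (k := 8) rfl (by decide +kernel)

theorem b2911 : Block F al 745216 745472 242 :=
  block_of_check (k := 8) rfl (by decide +kernel)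

theorem b2912 : Block F al 745472 745728 251 :=
  block_of_check (k := 8) rfl (by decide +kernel)

theorem b2913 : Block F al 745728 745984 252 :=
  block_of_check (k := 8) rfl (by decide +kernel)

theorem b2914 : Block F al 745984 746240 229 :=
  block_of_check (k := 8) rfl (by decide +kernel)

theorem b2915 : Block F al 746240 746496 234 :=
  block_of_check (k := 8) rfl (by decide +kernel)

theorem b2916 : Block F al 746496 746752 242 :=
  block_of_check (k := 8) rfl (by decide +kernel)

theorem b2917 : Block F al 746752 747008 249 :=
  block_of_check (k := 8) rfl (by decide +kernel)

theorem b2918 : Block F al 747008 747264 236 :=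
  block_of_check (k := 8) rfl (by decide +kernel)

theorem b2919 : Block F al 747264 747520 238 :=
  block_of_check (k := 8) rfl (by decide +kernel)

theorem b2920 : Block F al 747520 747776 250 :=
  block_of_check (k := 8) rfl (by decide +kernel)

theorem b2921 : Block F al 747776 748032 243 :=
  block_of_check (k := 8) rfl (by decide +kernel)

theorem b2922 : Block F al 748032 748288 244 :=
  block_of_check (k := 8) rfl (by decide +kernel)

theorem b2923 : Block F al 748288 748544 244 :=
  block_of_check (k := 8) rfl (by decide +kernel)

theorem b2924 : Block F al 748544 748800 252 :=
  block_of_check (k := 8) rfl (by decide +kernel)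

theorem b2925 : Block F al 748800 749056 250 :=
  block_of_check (k := 8) rfl (by decide +kernel)

theorem b2926 : Block F al 749056 749312 251 :=
  block_of_check (k := 8) rfl (by decide +kernel)

theorem b2927 : Block F al 749312 749568 242 :=
  block_of_check (k := 8) rfl (by decide +kernel)

theorem b2928 : Block F al 749568 749824 240 :=
  block_of_check (k := 8) rfl (by decide +kernel)

theorem b2929 : Block F al 749824 750080 247 :=
  block_of_check (k := 8) rfl (by decide +kernel)

theorem b2930 : Block F al 750080 750336 249 :=
  block_of_check (k := 8) rfl (by decide +kernel)

theorem b2931 : Block F al 750336 750592 241 :=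
  block_of_check (k := 8) rfl (by decide +kernel)

theorem b2932 : Block F al 750592 750848 252 :=
  block_of_check (k := 8) rfl (by decide +kernel)

theorem b2933 : Block F al 750848 751104 244 :=
  block_of_check (k := 8) rfl (by decide +kernel)

theorem b2934 : Block F al 751104 751360 250 :=
  block_of_check (k := 8) rfl (by decide +kernel)

theorem b2935 : Block F al 751360 751616 253 :=
  block_of_check (k := 8) rfl (by decide +kernel)

theorem b2936 : Block F al 751616 751872 242 :=
  block_of_check (k := 8) rfl (by decide +kernel)

theorem b2937 : Block F al 751872 752128 240 :=
  block_of_check (k := 8) rfl (by decide +kernel)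

theorem b2938 : Block F al 752128 752384 233 :=
  block_of_check (k := 8) rfl (by decide +kernel)

theorem b2939 : Block F al 752384 752640 249 :=
  block_of_check (k := 8) rfl (by decide +kernel)

theorem b2940 : Block F al 752640 752896 253 :=
  block_of_check (k := 8) rfl (by decide +kernel)

theorem b2941 : Block F al 752896 753152 238 :=
  block_of_check (k := 8) rfl (by decide +kernel)

theorem b2942 : Block F al 753152 753408 238 :=
  block_of_check (k := 8) rfl (by decide +kernel)

theorem b2943 : Block F al 753408 753664 247 :=
  block_of_check (k := 8) rfl (by decide +kernel)

theorem b2944 : Block F al 753664 753920 240 :=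
  block_of_check (k := 8) rfl (by decide +kernel)

theorem b2945 : Block F al 753920 754176 245 :=
  block_of_check (k := 8) rfl (by decide +kernel)

theorem b2946 : Block F al 754176 754432 244 :=
  block_of_check (k := 8) rfl (by decide +kernel)

theorem b2947 : Block F al 754432 754688 243 :=
  block_of_check (k := 8) rfl (by decide +kernel)

end Cfsg.Agent.TcData.HN.I1539000
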