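import Mathlib
import Cfsg.Agent.TcData.HN.I1539000.Tab

set_option autoImplicit false
set_option Elab.async false
set_option maxRecDepth 100000
set_option linter.all false

namespace Cfsg.Agent.TcData.HN.I1539000

open Cfsg.Spor Cfsg.Agent.Lib.TcFacts Cfsg.Agent.Lib.TcBits Cfsg.Agent.Lib.TcPres Cfsg.Spor.HN Cfsg.Agent.TcData.HN

theorem b2948 : Block F al 754688 754944 240 :=
  block_of_check (k := 8) rfl (by decide +kernel)

theorem b2949 : Block F al 754944 755200 253 :=
  block_of_check (k := 8) rfl (by decide +kernel)

theorem b2950 : Block F al 755200 755456 245 :=
  block_of_check (k := 8) rfl (by decide +kernel)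

theorem b2951 : Block F al 755456 755712 243 :=
  block_of_check (k := 8) rfl (by decide +kernel)

theorem b2952 : Block F al 755712 755968 238 :=
  block_of_check (k := 8) rfl (by decide +kernel)

theorem b2953 : Block F al 755968 756224 243 :=
  block_of_check (k := 8) rfl (by decide +kernel)

theorem b2954 : Block F al 756224 756480 230 :=
  block_of_check (k := 8) rfl (by decide +kernel)

theorem b2955 : Block F al 756480 756736 249 :=
  block_of_check (k := 8) rfl (by decide +kernel)

theorem b2956 : Block F al 756736 756992 246 :=
  block_of_check (k := 8) rfl (by decide +kernel)

theorem b2957 : Block F al 756992 757248 239 :=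
  block_of_check (k := 8) rfl (by decide +kernel)

theorem b2958 : Block F al 757248 757504 248 :=
  block_of_check (k := 8) rfl (by decide +kernel)

theorem b2959 : Block F al 757504 757760 244 :=
  block_of_check (k := 8) rfl (by decide +kernel)

theorem b2960 : Block F al 757760 758016 234 :=
  block_of_check (k := 8) rfl (by decide +kernel)

theorem b2961 : Block F al 758016 758272 250 :=
  block_of_check (k := 8) rfl (by decide +kernel)

theorem b2962 : Block F al 758272 758528 232 :=
  block_of_check (k := 8) rfl (by decide +kernel)

theorem b2963 : Block F al 758528 758784 249 :=
  block_of_check (k := 8) rfl (by decide +kernel)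

theorem b2964 : Block F al 758784 759040 254 :=
  block_of_check (k := 8) rfl (by decide +kernel)

theorem b2965 : Block F al 759040 759296 245 :=
  block_of_check (k := 8) rfl (by decide +kernel)

theorem b2966 : Block F al 759296 759552 246 :=
  block_of_check (k := 8) rfl (by decide +kernel)

theorem b2967 : Block F al 759552 759808 252 :=
  block_of_check (k := 8) rfl (by decide +kernel)

theorem b2968 : Block F al 759808 760064 236 :=
  block_of_check (k := 8) rfl (by decide +kernel)

theorem b2969 : Block F al 760064 760320 252 :=
  block_of_check (k := 8) rfl (by decide +kernel)

theorem b2970 : Block F al 760320 760576 250 :=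
  block_of_check (k := 8) rfl (by decide +kernel)

theorem b2971 : Block F al 760576 760832 246 :=
  block_of_check (k := 8) rfl (by decide +kernel)

theorem b2972 : Block F al 760832 761088 242 :=
  block_of_check (k := 8) rfl (by decide +kernel)

theorem b2973 : Block F al 761088 761344 244 :=
  block_of_check (k := 8) rfl (by decide +kernel)

theorem b2974 : Block F al 761344 761600 255 :=
  block_of_check (k := 8) rfl (by decide +kernel)

theorem b2975 : Block F al 761600 761856 242 :=
  block_of_check (k := 8) rfl (by decide +kernel)

theorem b2976 : Block F al 761856 762112 253 :=
  block_of_check (k := 8) rfl (by decide +kernel)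

theorem b2977 : Block F al 762112 762368 248 :=
  block_of_check (k := 8) rfl (by decide +kernel)

theorem b2978 : Block F al 762368 762624 238 :=
  block_of_check (k := 8) rfl (by decide +kernel)

theorem b2979 : Block F al 762624 762880 250 :=
  block_of_check (k := 8) rfl (by decide +kernel)

theorem b2980 : Block F al 762880 763136 241 :=
  block_of_check (k := 8) rfl (by decide +kernel)

theorem b2981 : Block F al 763136 763392 250 :=
  block_of_check (k := 8) rfl (by decide +kernel)

theorem b2982 : Block F al 763392 763648 248 :=
  block_of_check (k := 8) rfl (by decide +kernel)

theorem b2983 : Block F al 763648 763904 243 :=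
  block_of_check (k := 8) rfl (by decide +kernel)

theorem b2984 : Block F al 763904 764160 240 :=
  block_of_check (k := 8) rfl (by decide +kernel)

theorem b2985 : Block F al 764160 764416 243 :=
  block_of_check (k := 8) rfl (by decide +kernel)

theorem b2986 : Block F al 764416 764672 244 :=
  block_of_check (k := 8) rfl (by decide +kernel)

end Cfsg.Agent.TcData.HN.I1539000
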