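import Mathlib
import Cfsg.Agent.TcData.HN.I1539000.Tab

set_option autoImplicit false
set_option Elab.async false
set_option maxRecDepth 100000
set_option linter.all false

namespace Cfsg.Agent.TcData.HN.I1539000

open Cfsg.Spor Cfsg.Agent.Lib.TcFacts Cfsg.Agent.Lib.TcBits Cfsg.Agent.Lib.TcPres Cfsg.Spor.HN Cfsg.Agent.TcData.HN

theorem b2987 : Block F al 764672 764928 242 :=
  block_of_check (k := 8) rfl (by decide +kernel)

theorem b2988 : Block F al 764928 765184 246 :=
  block_of_check (k := 8) rfl (by decide +kernel)

theorem b2989 : Block F al 765184 765440 245 :=
  block_of_check (k := 8) rfl (by decide +kernel)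

theorem b2990 : Block F al 765440 765696 247 :=
  block_of_check (k := 8) rfl (by decide +kernel)

theorem b2991 : Block F al 765696 765952 239 :=
  block_of_check (k := 8) rfl (by decide +kernel)

theorem b2992 : Block F al 765952 766208 243 :=
  block_of_check (k := 8) rfl (by decide +kernel)

theorem b2993 : Block F al 766208 766464 244 :=
  block_of_check (k := 8) rfl (by decide +kernel)

theorem b2994 : Block F al 766464 766720 242 :=
  block_of_check (k := 8) rfl (by decide +kernel)

theorem b2995 : Block F al 766720 766976 241 :=
  block_of_check (k := 8) rfl (by decide +kernel)

theorem b2996 : Block F al 766976 767232 245 :=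
  block_of_check (k := 8) rfl (by decide +kernel)

theorem b2997 : Block F al 767232 767488 251 :=
  block_of_check (k := 8) rfl (by decide +kernel)

theorem b2998 : Block F al 767488 767744 249 :=
  block_of_check (k := 8) rfl (by decide +kernel)

theorem b2999 : Block F al 767744 768000 244 :=
  block_of_check (k := 8) rfl (by decide +kernel)

theorem b3000 : Block F al 768000 768256 254 :=
  block_of_check (k := 8) rfl (by decide +kernel)

theorem b3001 : Block F al 768256 768512 245 :=
  block_of_check (k := 8) rfl (by decide +kernel)

theorem b3002 : Block F al 768512 768768 244 :=
  block_of_check (k := 8) rfl (by decide +kernel)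

theorem b3003 : Block F al 768768 769024 239 :=
  block_of_check (k := 8) rfl (by decide +kernel)

theorem b3004 : Block F al 769024 769280 222 :=
  block_of_check (k := 8) rfl (by decide +kernel)

theorem b3005 : Block F al 769280 769536 239 :=
  block_of_check (k := 8) rfl (by decide +kernel)

theorem b3006 : Block F al 769536 769792 241 :=
  block_of_check (k := 8) rfl (by decide +kernel)

theorem b3007 : Block F al 769792 770048 247 :=
  block_of_check (k := 8) rfl (by decide +kernel)

theorem b3008 : Block F al 770048 770304 244 :=
  block_of_check (k := 8) rfl (by decide +kernel)

theorem b3009 : Block F al 770304 770560 241 :=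
  block_of_check (k := 8) rfl (by decide +kernel)

theorem b3010 : Block F al 770560 770816 248 :=
  block_of_check (k := 8) rfl (by decide +kernel)

theorem b3011 : Block F al 770816 771072 252 :=
  block_of_check (k := 8) rfl (by decide +kernel)

theorem b3012 : Block F al 771072 771328 251 :=
  block_of_check (k := 8) rfl (by decide +kernel)

theorem b3013 : Block F al 771328 771584 239 :=
  block_of_check (k := 8) rfl (by decide +kernel)

theorem b3014 : Block F al 771584 771840 249 :=
  block_of_check (k := 8) rfl (by decide +kernel)

theorem b3015 : Block F al 771840 772096 249 :=
  block_of_check (k := 8) rfl (by decide +kernel)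

theorem b3016 : Block F al 772096 772352 236 :=
  block_of_check (k := 8) rfl (by decide +kernel)

theorem b3017 : Block F al 772352 772608 245 :=
  block_of_check (k := 8) rfl (by decide +kernel)

theorem b3018 : Block F al 772608 772864 240 :=
  block_of_check (k := 8) rfl (by decide +kernel)

theorem b3019 : Block F al 772864 773120 239 :=
  block_of_check (k := 8) rfl (by decide +kernel)

theorem b3020 : Block F al 773120 773376 239 :=
  block_of_check (k := 8) rfl (by decide +kernel)

theorem b3021 : Block F al 773376 773632 236 :=
  block_of_check (k := 8) rfl (by decide +kernel)

theorem b3022 : Block F al 773632 773888 243 :=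
  block_of_check (k := 8) rfl (by decide +kernel)

theorem b3023 : Block F al 773888 774144 239 :=
  block_of_check (k := 8) rfl (by decide +kernel)

theorem b3024 : Block F al 774144 774400 236 :=
  block_of_check (k := 8) rfl (by decide +kernel)

theorem b3025 : Block F al 774400 774656 247 :=
  block_of_check (k := 8) rfl (by decide +kernel)

theorem b3026 : Block F al 774656 774912 256 :=
  block_of_check (k := 8) rfl (by decide +kernel)

end Cfsg.Agent.TcData.HN.I1539000
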