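import Mathlib
import Cfsg.Agent.TcData.HN.I1539000.Tab

set_option autoImplicit false
set_option Elab.async false
set_option maxRecDepth 100000
set_option linter.all false

namespace Cfsg.Agent.TcData.HN.I1539000

open Cfsg.Spor Cfsg.Agent.Lib.TcFacts Cfsg.Agent.Lib.TcBits Cfsg.Agent.Lib.TcPres Cfsg.Spor.HN Cfsg.Agent.TcData.HN

theorem b3027 : Block F al 774912 775168 235 :=
  block_of_check (k := 8) rfl (by decide +kernel)

theorem b3028 : Block F al 775168 775424 234 :=
  block_of_check (k := 8) rfl (by decide +kernel)

theorem b3029 : Block F al 775424 775680 244 :=
  block_of_check (k := 8) rfl (by decide +kernel)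

theorem b3030 : Block F al 775680 775936 239 :=
  block_of_check (k := 8) rfl (by decide +kernel)

theorem b3031 : Block F al 775936 776192 227 :=
  block_of_check (k := 8) rfl (by decide +kernel)

theorem b3032 : Block F al 776192 776448 239 :=
  block_of_check (k := 8) rfl (by decide +kernel)

theorem b3033 : Block F al 776448 776704 250 :=
  block_of_check (k := 8) rfl (by decide +kernel)

theorem b3034 : Block F al 776704 776960 247 :=
  block_of_check (k := 8) rfl (by decide +kernel)

theorem b3035 : Block F al 776960 777216 238 :=
  block_of_check (k := 8) rfl (by decide +kernel)

theorem b3036 : Block F al 777216 777472 240 :=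
  block_of_check (k := 8) rfl (by decide +kernel)

theorem b3037 : Block F al 777472 777728 244 :=
  block_of_check (k := 8) rfl (by decide +kernel)

theorem b3038 : Block F al 777728 777984 238 :=
  block_of_check (k := 8) rfl (by decide +kernel)

theorem b3039 : Block F al 777984 778240 228 :=
  block_of_check (k := 8) rfl (by decide +kernel)

theorem b3040 : Block F al 778240 778496 238 :=
  block_of_check (k := 8) rfl (by decide +kernel)

theorem b3041 : Block F al 778496 778752 228 :=
  block_of_check (k := 8) rfl (by decide +kernel)

theorem b3042 : Block F al 778752 779008 235 :=
  block_of_check (k := 8) rfl (by decide +kernel)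

theorem b3043 : Block F al 779008 779264 243 :=
  block_of_check (k := 8) rfl (by decide +kernel)

theorem b3044 : Block F al 779264 779520 245 :=
  block_of_check (k := 8) rfl (by decide +kernel)

theorem b3045 : Block F al 779520 779776 227 :=
  block_of_check (k := 8) rfl (by decide +kernel)

theorem b3046 : Block F al 779776 780032 219 :=
  block_of_check (k := 8) rfl (by decide +kernel)

theorem b3047 : Block F al 780032 780288 247 :=
  block_of_check (k := 8) rfl (by decide +kernel)

theorem b3048 : Block F al 780288 780544 246 :=
  block_of_check (k := 8) rfl (by decide +kernel)

theorem b3049 : Block F al 780544 780800 239 :=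
  block_of_check (k := 8) rfl (by decide +kernel)

theorem b3050 : Block F al 780800 781056 241 :=
  block_of_check (k := 8) rfl (by decide +kernel)

theorem b3051 : Block F al 781056 781312 255 :=
  block_of_check (k := 8) rfl (by decide +kernel)

theorem b3052 : Block F al 781312 781568 245 :=
  block_of_check (k := 8) rfl (by decide +kernel)

theorem b3053 : Block F al 781568 781824 243 :=
  block_of_check (k := 8) rfl (by decide +kernel)

theorem b3054 : Block F al 781824 782080 244 :=
  block_of_check (k := 8) rfl (by decide +kernel)

theorem b3055 : Block F al 782080 782336 237 :=
  block_of_check (k := 8) rfl (by decide +kernel)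

theorem b3056 : Block F al 782336 782592 250 :=
  block_of_check (k := 8) rfl (by decide +kernel)

theorem b3057 : Block F al 782592 782848 245 :=
  block_of_check (k := 8) rfl (by decide +kernel)

theorem b3058 : Block F al 782848 783104 240 :=
  block_of_check (k := 8) rfl (by decide +kernel)

theorem b3059 : Block F al 783104 783360 242 :=
  block_of_check (k := 8) rfl (by decide +kernel)

theorem b3060 : Block F al 783360 783616 250 :=
  block_of_check (k := 8) rfl (by decide +kernel)

theorem b3061 : Block F al 783616 783872 238 :=
  block_of_check (k := 8) rfl (by decide +kernel)

theorem b3062 : Block F al 783872 784128 237 :=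
  block_of_check (k := 8) rfl (by decide +kernel)

theorem b3063 : Block F al 784128 784384 233 :=
  block_of_check (k := 8) rfl (by decide +kernel)

theorem b3064 : Block F al 784384 784640 228 :=
  block_of_check (k := 8) rfl (by decide +kernel)

theorem b3065 : Block F al 784640 784896 251 :=
  block_of_check (k := 8) rfl (by decide +kernel)

theorem b3066 : Block F al 784896 785152 250 :=
  block_of_check (k := 8) rfl (by decide +kernel)

end Cfsg.Agent.TcData.HN.I1539000
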