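import Mathlib
import Cfsg.Agent.TcData.HN.I1539000.Tab

set_option autoImplicit false
set_option Elab.async false
set_option maxRecDepth 100000
set_option linter.all false

namespace Cfsg.Agent.TcData.HN.I1539000

open Cfsg.Spor Cfsg.Agent.Lib.TcFacts Cfsg.Agent.Lib.TcBits Cfsg.Agent.Lib.TcPres Cfsg.Spor.HN Cfsg.Agent.TcData.HN

theorem b3067 : Block F al 785152 785408 235 :=
  block_of_check (k := 8) rfl (by decide +kernel)

theorem b3068 : Block F al 785408 785664 247 :=
  block_of_check (k := 8) rfl (by decide +kernel)

theorem b3069 : Block F al 785664 785920 255 :=
  block_of_check (k := 8) rfl (by decide +kernel)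

theorem b3070 : Block F al 785920 786176 251 :=
  block_of_check (k := 8) rfl (by decide +kernel)

theorem b3071 : Block F al 786176 786432 252 :=
  block_of_check (k := 8) rfl (by decide +kernel)

theorem b3072 : Block F al 786432 786688 245 :=
  block_of_check (k := 8) rfl (by decide +kernel)

theorem b3073 : Block F al 786688 786944 232 :=
  block_of_check (k := 8) rfl (by decide +kernel)

theorem b3074 : Block F al 786944 787200 236 :=
  block_of_check (k := 8) rfl (by decide +kernel)

theorem b3075 : Block F al 787200 787456 230 :=
  block_of_check (k := 8) rfl (by decide +kernel)

theorem b3076 : Block F al 787456 787712 244 :=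
  block_of_check (k := 8) rfl (by decide +kernel)

theorem b3077 : Block F al 787712 787968 237 :=
  block_of_check (k := 8) rfl (by decide +kernel)

theorem b3078 : Block F al 787968 788224 247 :=
  block_of_check (k := 8) rfl (by decide +kernel)

theorem b3079 : Block F al 788224 788480 242 :=
  block_of_check (k := 8) rfl (by decide +kernel)

theorem b3080 : Block F al 788480 788736 241 :=
  block_of_check (k := 8) rfl (by decide +kernel)

theorem b3081 : Block F al 788736 788992 244 :=
  block_of_check (k := 8) rfl (by decide +kernel)

theorem b3082 : Block F al 788992 789248 234 :=
  block_of_check (k := 8) rfl (by decide +kernel)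

theorem b3083 : Block F al 789248 789504 237 :=
  block_of_check (k := 8) rfl (by decide +kernel)

theorem b3084 : Block F al 789504 789760 245 :=
  block_of_check (k := 8) rfl (by decide +kernel)

theorem b3085 : Block F al 789760 790016 241 :=
  block_of_check (k := 8) rfl (by decide +kernel)

theorem b3086 : Block F al 790016 790272 237 :=
  block_of_check (k := 8) rfl (by decide +kernel)

theorem b3087 : Block F al 790272 790528 238 :=
  block_of_check (k := 8) rfl (by decide +kernel)

theorem b3088 : Block F al 790528 790784 244 :=
  block_of_check (k := 8) rfl (by decide +kernel)

theorem b3089 : Block F al 790784 791040 242 :=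
  block_of_check (k := 8) rfl (by decide +kernel)

theorem b3090 : Block F al 791040 791296 251 :=
  block_of_check (k := 8) rfl (by decide +kernel)

theorem b3091 : Block F al 791296 791552 237 :=
  block_of_check (k := 8) rfl (by decide +kernel)

theorem b3092 : Block F al 791552 791808 238 :=
  block_of_check (k := 8) rfl (by decide +kernel)

theorem b3093 : Block F al 791808 792064 243 :=
  block_of_check (k := 8) rfl (by decide +kernel)

theorem b3094 : Block F al 792064 792320 240 :=
  block_of_check (k := 8) rfl (by decide +kernel)

theorem b3095 : Block F al 792320 792576 236 :=
  block_of_check (k := 8) rfl (by decide +kernel)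

theorem b3096 : Block F al 792576 792832 237 :=
  block_of_check (k := 8) rfl (by decide +kernel)

theorem b3097 : Block F al 792832 793088 236 :=
  block_of_check (k := 8) rfl (by decide +kernel)

theorem b3098 : Block F al 793088 793344 230 :=
  block_of_check (k := 8) rfl (by decide +kernel)

theorem b3099 : Block F al 793344 793600 244 :=
  block_of_check (k := 8) rfl (by decide +kernel)

theorem b3100 : Block F al 793600 793856 244 :=
  block_of_check (k := 8) rfl (by decide +kernel)

theorem b3101 : Block F al 793856 794112 250 :=
  block_of_check (k := 8) rfl (by decide +kernel)

theorem b3102 : Block F al 794112 794368 236 :=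
  block_of_check (k := 8) rfl (by decide +kernel)

theorem b3103 : Block F al 794368 794624 245 :=
  block_of_check (k := 8) rfl (by decide +kernel)

theorem b3104 : Block F al 794624 794880 235 :=
  block_of_check (k := 8) rfl (by decide +kernel)

theorem b3105 : Block F al 794880 795136 238 :=
  block_of_check (k := 8) rfl (by decide +kernel)

theorem b3106 : Block F al 795136 795392 236 :=
  block_of_check (k := 8) rfl (by decide +kernel)

theorem b3107 : Block F al 795392 795648 237 :=
  block_of_check (k := 8) rfl (by decide +kernel)

end Cfsg.Agent.TcData.HN.I1539000
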