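import Mathlib
import Cfsg.Agent.TcData.HN.I1539000.Tab

set_option autoImplicit false
set_option Elab.async false
set_option maxRecDepth 100000
set_option linter.all false

namespace Cfsg.Agent.TcData.HN.I1539000

open Cfsg.Spor Cfsg.Agent.Lib.TcFacts Cfsg.Agent.Lib.TcBits Cfsg.Agent.Lib.TcPres Cfsg.Spor.HN Cfsg.Agent.TcData.HN

theorem b3108 : Block F al 795648 795904 234 :=
  block_of_check (k := 8) rfl (by decide +kernel)

theorem b3109 : Block F al 795904 796160 246 :=
  block_of_check (k := 8) rfl (by decide +kernel)

theorem b3110 : Block F al 796160 796416 248 :=
  block_of_check (k := 8) rfl (by decide +kernel)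

theorem b3111 : Block F al 796416 796672 234 :=
  block_of_check (k := 8) rfl (by decide +kernel)

theorem b3112 : Block F al 796672 796928 247 :=
  block_of_check (k := 8) rfl (by decide +kernel)

theorem b3113 : Block F al 796928 797184 243 :=
  block_of_check (k := 8) rfl (by decide +kernel)

theorem b3114 : Block F al 797184 797440 240 :=
  block_of_check (k := 8) rfl (by decide +kernel)

theorem b3115 : Block F al 797440 797696 250 :=
  block_of_check (k := 8) rfl (by decide +kernel)

theorem b3116 : Block F al 797696 797952 238 :=
  block_of_check (k := 8) rfl (by decide +kernel)

theorem b3117 : Block F al 797952 798208 241 :=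
  block_of_check (k := 8) rfl (by decide +kernel)

theorem b3118 : Block F al 798208 798464 236 :=
  block_of_check (k := 8) rfl (by decide +kernel)

theorem b3119 : Block F al 798464 798720 239 :=
  block_of_check (k := 8) rfl (by decide +kernel)

theorem b3120 : Block F al 798720 798976 242 :=
  block_of_check (k := 8) rfl (by decide +kernel)

theorem b3121 : Block F al 798976 799232 240 :=
  block_of_check (k := 8) rfl (by decide +kernel)

theorem b3122 : Block F al 799232 799488 238 :=
  block_of_check (k := 8) rfl (by decide +kernel)

theorem b3123 : Block F al 799488 799744 230 :=
  block_of_check (k := 8) rfl (by decide +kernel)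

theorem b3124 : Block F al 799744 800000 242 :=
  block_of_check (k := 8) rfl (by decide +kernel)

theorem b3125 : Block F al 800000 800256 237 :=
  block_of_check (k := 8) rfl (by decide +kernel)

theorem b3126 : Block F al 800256 800512 243 :=
  block_of_check (k := 8) rfl (by decide +kernel)

theorem b3127 : Block F al 800512 800768 242 :=
  block_of_check (k := 8) rfl (by decide +kernel)

theorem b3128 : Block F al 800768 801024 241 :=
  block_of_check (k := 8) rfl (by decide +kernel)

theorem b3129 : Block F al 801024 801280 237 :=
  block_of_check (k := 8) rfl (by decide +kernel)

theorem b3130 : Block F al 801280 801536 238 :=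
  block_of_check (k := 8) rfl (by decide +kernel)

theorem b3131 : Block F al 801536 801792 234 :=
  block_of_check (k := 8) rfl (by decide +kernel)

theorem b3132 : Block F al 801792 802048 239 :=
  block_of_check (k := 8) rfl (by decide +kernel)

theorem b3133 : Block F al 802048 802304 247 :=
  block_of_check (k := 8) rfl (by decide +kernel)

theorem b3134 : Block F al 802304 802560 248 :=
  block_of_check (k := 8) rfl (by decide +kernel)

theorem b3135 : Block F al 802560 802816 253 :=
  block_of_check (k := 8) rfl (by decide +kernel)

theorem b3136 : Block F al 802816 803072 246 :=
  block_of_check (k := 8) rfl (by decide +kernel)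

theorem b3137 : Block F al 803072 803328 247 :=
  block_of_check (k := 8) rfl (by decide +kernel)

theorem b3138 : Block F al 803328 803584 252 :=
  block_of_check (k := 8) rfl (by decide +kernel)

theorem b3139 : Block F al 803584 803840 248 :=
  block_of_check (k := 8) rfl (by decide +kernel)

theorem b3140 : Block F al 803840 804096 248 :=
  block_of_check (k := 8) rfl (by decide +kernel)

theorem b3141 : Block F al 804096 804352 246 :=
  block_of_check (k := 8) rfl (by decide +kernel)

theorem b3142 : Block F al 804352 804608 244 :=
  block_of_check (k := 8) rfl (by decide +kernel)

theorem b3143 : Block F al 804608 804864 233 :=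
  block_of_check (k := 8) rfl (by decide +kernel)

theorem b3144 : Block F al 804864 805120 243 :=
  block_of_check (k := 8) rfl (by decide +kernel)

theorem b3145 : Block F al 805120 805376 245 :=
  block_of_check (k := 8) rfl (by decide +kernel)

theorem b3146 : Block F al 805376 805632 249 :=
  block_of_check (k := 8) rfl (by decide +kernel)

end Cfsg.Agent.TcData.HN.I1539000
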