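import Mathlib
import Cfsg.Agent.TcData.HN.I1539000.Tab

set_option autoImplicit false
set_option Elab.async false
set_option maxRecDepth 100000
set_option linter.all false

namespace Cfsg.Agent.TcData.HN.I1539000

open Cfsg.Spor Cfsg.Agent.Lib.TcFacts Cfsg.Agent.Lib.TcBits Cfsg.Agent.Lib.TcPres Cfsg.Spor.HN Cfsg.Agent.TcData.HN

theorem b375 : Block F al 96000 96256 230 :=
  block_of_check (k := 8) rfl (by decide +kernel)

theorem b376 : Block F al 96256 96512 238 :=
  block_of_check (k := 8) rfl (by decide +kernel)

theorem b377 : Block F al 96512 96768 218 :=
  block_of_check (k := 8) rfl (by decide +kernel)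

theorem b378 : Block F al 96768 97024 230 :=
  block_of_check (k := 8) rfl (by decide +kernel)

theorem b379 : Block F al 97024 97280 249 :=
  block_of_check (k := 8) rfl (by decide +kernel)

theorem b380 : Block F al 97280 97536 242 :=
  block_of_check (k := 8) rfl (by decide +kernel)

theorem b381 : Block F al 97536 97792 249 :=
  block_of_check (k := 8) rfl (by decide +kernel)

theorem b382 : Block F al 97792 98048 247 :=
  block_of_check (k := 8) rfl (by decide +kernel)

theorem b383 : Block F al 98048 98304 227 :=
  block_of_check (k := 8) rfl (by decide +kernel)

theorem b384 : Block F al 98304 98560 188 :=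
  block_of_check (k := 8) rfl (by decide +kernel)

theorem b385 : Block F al 98560 98816 249 :=
  block_of_check (k := 8) rfl (by decide +kernel)

theorem b386 : Block F al 98816 99072 253 :=
  block_of_check (k := 8) rfl (by decide +kernel)

theorem b387 : Block F al 99072 99328 246 :=
  block_of_check (k := 8) rfl (by decide +kernel)

theorem b388 : Block F al 99328 99584 235 :=
  block_of_check (k := 8) rfl (by decide +kernel)

theorem b389 : Block F al 99584 99840 232 :=
  block_of_check (k := 8) rfl (by decide +kernel)

theorem b390 : Block F al 99840 100096 240 :=
  block_of_check (k := 8) rfl (by decide +kernel)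

theorem b391 : Block F al 100096 100352 246 :=
  block_of_check (k := 8) rfl (by decide +kernel)

theorem b392 : Block F al 100352 100608 250 :=
  block_of_check (k := 8) rfl (by decide +kernel)

theorem b393 : Block F al 100608 100864 252 :=
  block_of_check (k := 8) rfl (by decide +kernel)

theorem b394 : Block F al 100864 101120 251 :=
  block_of_check (k := 8) rfl (by decide +kernel)

theorem b395 : Block F al 101120 101376 254 :=
  block_of_check (k := 8) rfl (by decide +kernel)

theorem b396 : Block F al 101376 101632 252 :=
  block_of_check (k := 8) rfl (by decide +kernel)

theorem b397 : Block F al 101632 101888 243 :=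
  block_of_check (k := 8) rfl (by decide +kernel)

theorem b398 : Block F al 101888 102144 245 :=
  block_of_check (k := 8) rfl (by decide +kernel)

theorem b399 : Block F al 102144 102400 247 :=
  block_of_check (k := 8) rfl (by decide +kernel)

theorem b400 : Block F al 102400 102656 247 :=
  block_of_check (k := 8) rfl (by decide +kernel)

theorem b401 : Block F al 102656 102912 251 :=
  block_of_check (k := 8) rfl (by decide +kernel)

theorem b402 : Block F al 102912 103168 252 :=
  block_of_check (k := 8) rfl (by decide +kernel)

theorem b403 : Block F al 103168 103424 252 :=
  block_of_check (k := 8) rfl (by decide +kernel)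

theorem b404 : Block F al 103424 103680 247 :=
  block_of_check (k := 8) rfl (by decide +kernel)

theorem b405 : Block F al 103680 103936 242 :=
  block_of_check (k := 8) rfl (by decide +kernel)

theorem b406 : Block F al 103936 104192 239 :=
  block_of_check (k := 8) rfl (by decide +kernel)

theorem b407 : Block F al 104192 104448 234 :=
  block_of_check (k := 8) rfl (by decide +kernel)

theorem b408 : Block F al 104448 104704 202 :=
  block_of_check (k := 8) rfl (by decide +kernel)

theorem b409 : Block F al 104704 104960 215 :=
  block_of_check (k := 8) rfl (by decide +kernel)

theorem b410 : Block F al 104960 105216 235 :=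
  block_of_check (k := 8) rfl (by decide +kernel)

theorem b411 : Block F al 105216 105472 207 :=
  block_of_check (k := 8) rfl (by decide +kernel)

theorem b412 : Block F al 105472 105728 229 :=
  block_of_check (k := 8) rfl (by decide +kernel)

theorem b413 : Block F al 105728 105984 220 :=
  block_of_check (k := 8) rfl (by decide +kernel)

theorem b414 : Block F al 105984 106240 229 :=
  block_of_check (k := 8) rfl (by decide +kernel)

theorem b415 : Block F al 106240 106496 240 :=
  block_of_check (k := 8) rfl (by decide +kernel)

theorem b416 : Block F al 106496 106752 237 :=
  block_of_check (k := 8) rfl (by decide +kernel)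

theorem b417 : Block F al 106752 107008 243 :=
  block_of_check (k := 8) rfl (by decide +kernel)

theorem b418 : Block F al 107008 107264 227 :=
  block_of_check (k := 8) rfl (by decide +kernel)

theorem b419 : Block F al 107264 107520 231 :=
  block_of_check (k := 8) rfl (by decide +kernel)

theorem b420 : Block F al 107520 107776 243 :=
  block_of_check (k := 8) rfl (by decide +kernel)

theorem b421 : Block F al 107776 108032 242 :=
  block_of_check (k := 8) rfl (by decide +kernel)

theorem b422 : Block F al 108032 108288 237 :=
  block_of_check (k := 8) rfl (by decide +kernel)

theorem b423 : Block F al 108288 108544 230 :=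
  block_of_check (k := 8) rfl (by decide +kernel)

theorem b424 : Block F al 108544 108800 240 :=
  block_of_check (k := 8) rfl (by decide +kernel)

theorem b425 : Block F al 108800 109056 225 :=
  block_of_check (k := 8) rfl (by decide +kernel)

theorem b426 : Block F al 109056 109312 246 :=
  block_of_check (k := 8) rfl (by decide +kernel)

end Cfsg.Agent.TcData.HN.I1539000
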