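import Mathlib
import Cfsg.Agent.TcData.HN.I1539000.Tab

set_option autoImplicit false
set_option Elab.async false
set_option maxRecDepth 100000
set_option linter.all false

namespace Cfsg.Agent.TcData.HN.I1539000

open Cfsg.Spor Cfsg.Agent.Lib.TcFacts Cfsg.Agent.Lib.TcBits Cfsg.Agent.Lib.TcPres Cfsg.Spor.HN Cfsg.Agent.TcData.HN

theorem b3147 : Block F al 805632 805888 246 :=
  block_of_check (k := 8) rfl (by decide +kernel)

theorem b3148 : Block F al 805888 806144 250 :=
  block_of_check (k := 8) rfl (by decide +kernel)

theorem b3149 : Block F al 806144 806400 240 :=
  block_of_check (k := 8) rfl (by decide +kernel)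

theorem b3150 : Block F al 806400 806656 243 :=
  block_of_check (k := 8) rfl (by decide +kernel)

theorem b3151 : Block F al 806656 806912 250 :=
  block_of_check (k := 8) rfl (by decide +kernel)

theorem b3152 : Block F al 806912 807168 250 :=
  block_of_check (k := 8) rfl (by decide +kernel)

theorem b3153 : Block F al 807168 807424 244 :=
  block_of_check (k := 8) rfl (by decide +kernel)

theorem b3154 : Block F al 807424 807680 250 :=
  block_of_check (k := 8) rfl (by decide +kernel)

theorem b3155 : Block F al 807680 807936 245 :=
  block_of_check (k := 8) rfl (by decide +kernel)

theorem b3156 : Block F al 807936 808192 249 :=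
  block_of_check (k := 8) rfl (by decide +kernel)

theorem b3157 : Block F al 808192 808448 241 :=
  block_of_check (k := 8) rfl (by decide +kernel)

theorem b3158 : Block F al 808448 808704 247 :=
  block_of_check (k := 8) rfl (by decide +kernel)

theorem b3159 : Block F al 808704 808960 253 :=
  block_of_check (k := 8) rfl (by decide +kernel)

theorem b3160 : Block F al 808960 809216 253 :=
  block_of_check (k := 8) rfl (by decide +kernel)

theorem b3161 : Block F al 809216 809472 252 :=
  block_of_check (k := 8) rfl (by decide +kernel)

theorem b3162 : Block F al 809472 809728 247 :=
  block_of_check (k := 8) rfl (by decide +kernel)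

theorem b3163 : Block F al 809728 809984 253 :=
  block_of_check (k := 8) rfl (by decide +kernel)

theorem b3164 : Block F al 809984 810240 247 :=
  block_of_check (k := 8) rfl (by decide +kernel)

theorem b3165 : Block F al 810240 810496 237 :=
  block_of_check (k := 8) rfl (by decide +kernel)

theorem b3166 : Block F al 810496 810752 247 :=
  block_of_check (k := 8) rfl (by decide +kernel)

theorem b3167 : Block F al 810752 811008 242 :=
  block_of_check (k := 8) rfl (by decide +kernel)

theorem b3168 : Block F al 811008 811264 242 :=
  block_of_check (k := 8) rfl (by decide +kernel)

theorem b3169 : Block F al 811264 811520 247 :=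
  block_of_check (k := 8) rfl (by decide +kernel)

theorem b3170 : Block F al 811520 811776 252 :=
  block_of_check (k := 8) rfl (by decide +kernel)

theorem b3171 : Block F al 811776 812032 251 :=
  block_of_check (k := 8) rfl (by decide +kernel)

theorem b3172 : Block F al 812032 812288 255 :=
  block_of_check (k := 8) rfl (by decide +kernel)

theorem b3173 : Block F al 812288 812544 255 :=
  block_of_check (k := 8) rfl (by decide +kernel)

theorem b3174 : Block F al 812544 812800 255 :=
  block_of_check (k := 8) rfl (by decide +kernel)

theorem b3175 : Block F al 812800 813056 247 :=
  block_of_check (k := 8) rfl (by decide +kernel)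

theorem b3176 : Block F al 813056 813312 239 :=
  block_of_check (k := 8) rfl (by decide +kernel)

theorem b3177 : Block F al 813312 813568 238 :=
  block_of_check (k := 8) rfl (by decide +kernel)

theorem b3178 : Block F al 813568 813824 248 :=
  block_of_check (k := 8) rfl (by decide +kernel)

theorem b3179 : Block F al 813824 814080 245 :=
  block_of_check (k := 8) rfl (by decide +kernel)

theorem b3180 : Block F al 814080 814336 238 :=
  block_of_check (k := 8) rfl (by decide +kernel)

theorem b3181 : Block F al 814336 814592 238 :=
  block_of_check (k := 8) rfl (by decide +kernel)

theorem b3182 : Block F al 814592 814848 245 :=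
  block_of_check (k := 8) rfl (by decide +kernel)

theorem b3183 : Block F al 814848 815104 242 :=
  block_of_check (k := 8) rfl (by decide +kernel)

end Cfsg.Agent.TcData.HN.I1539000
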