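import Mathlib
import Cfsg.Agent.TcData.HN.I1539000.Tab

set_option autoImplicit false
set_option Elab.async false
set_option maxRecDepth 100000
set_option linter.all false

namespace Cfsg.Agent.TcData.HN.I1539000

open Cfsg.Spor Cfsg.Agent.Lib.TcFacts Cfsg.Agent.Lib.TcBits Cfsg.Agent.Lib.TcPres Cfsg.Spor.HN Cfsg.Agent.TcData.HN

theorem b3221 : Block F al 824576 824832 247 :=
  block_of_check (k := 8) rfl (by decide +kernel)

theorem b3222 : Block F al 824832 825088 252 :=
  block_of_check (k := 8) rfl (by decide +kernel)

theorem b3223 : Block F al 825088 825344 249 :=
  block_of_check (k := 8) rfl (by decide +kernel)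

theorem b3224 : Block F al 825344 825600 245 :=
  block_of_check (k := 8) rfl (by decide +kernel)

theorem b3225 : Block F al 825600 825856 245 :=
  block_of_check (k := 8) rfl (by decide +kernel)

theorem b3226 : Block F al 825856 826112 250 :=
  block_of_check (k := 8) rfl (by decide +kernel)

theorem b3227 : Block F al 826112 826368 236 :=
  block_of_check (k := 8) rfl (by decide +kernel)

theorem b3228 : Block F al 826368 826624 252 :=
  block_of_check (k := 8) rfl (by decide +kernel)

theorem b3229 : Block F al 826624 826880 252 :=
  block_of_check (k := 8) rfl (by decide +kernel)

theorem b3230 : Block F al 826880 827136 252 :=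
  block_of_check (k := 8) rfl (by decide +kernel)

theorem b3231 : Block F al 827136 827392 253 :=
  block_of_check (k := 8) rfl (by decide +kernel)

theorem b3232 : Block F al 827392 827648 242 :=
  block_of_check (k := 8) rfl (by decide +kernel)

theorem b3233 : Block F al 827648 827904 244 :=
  block_of_check (k := 8) rfl (by decide +kernel)

theorem b3234 : Block F al 827904 828160 240 :=
  block_of_check (k := 8) rfl (by decide +kernel)

theorem b3235 : Block F al 828160 828416 242 :=
  block_of_check (k := 8) rfl (by decide +kernel)

theorem b3236 : Block F al 828416 828672 238 :=
  block_of_check (k := 8) rfl (by decide +kernel)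

theorem b3237 : Block F al 828672 828928 245 :=
  block_of_check (k := 8) rfl (by decide +kernel)

theorem b3238 : Block F al 828928 829184 236 :=
  block_of_check (k := 8) rfl (by decide +kernel)

theorem b3239 : Block F al 829184 829440 244 :=
  block_of_check (k := 8) rfl (by decide +kernel)

theorem b3240 : Block F al 829440 829696 250 :=
  block_of_check (k := 8) rfl (by decide +kernel)

theorem b3241 : Block F al 829696 829952 249 :=
  block_of_check (k := 8) rfl (by decide +kernel)

theorem b3242 : Block F al 829952 830208 248 :=
  block_of_check (k := 8) rfl (by decide +kernel)

theorem b3243 : Block F al 830208 830464 242 :=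
  block_of_check (k := 8) rfl (by decide +kernel)

theorem b3244 : Block F al 830464 830720 244 :=
  block_of_check (k := 8) rfl (by decide +kernel)

theorem b3245 : Block F al 830720 830976 250 :=
  block_of_check (k := 8) rfl (by decide +kernel)

theorem b3246 : Block F al 830976 831232 251 :=
  block_of_check (k := 8) rfl (by decide +kernel)

theorem b3247 : Block F al 831232 831488 249 :=
  block_of_check (k := 8) rfl (by decide +kernel)

theorem b3248 : Block F al 831488 831744 250 :=
  block_of_check (k := 8) rfl (by decide +kernel)

theorem b3249 : Block F al 831744 832000 243 :=
  block_of_check (k := 8) rfl (by decide +kernel)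

theorem b3250 : Block F al 832000 832256 243 :=
  block_of_check (k := 8) rfl (by decide +kernel)

theorem b3251 : Block F al 832256 832512 240 :=
  block_of_check (k := 8) rfl (by decide +kernel)

theorem b3252 : Block F al 832512 832768 250 :=
  block_of_check (k := 8) rfl (by decide +kernel)

theorem b3253 : Block F al 832768 833024 248 :=
  block_of_check (k := 8) rfl (by decide +kernel)

theorem b3254 : Block F al 833024 833280 254 :=
  block_of_check (k := 8) rfl (by decide +kernel)

theorem b3255 : Block F al 833280 833536 248 :=
  block_of_check (k := 8) rfl (by decide +kernel)

theorem b3256 : Block F al 833536 833792 250 :=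
  block_of_check (k := 8) rfl (by decide +kernel)

theorem b3257 : Block F al 833792 834048 246 :=
  block_of_check (k := 8) rfl (by decide +kernel)

end Cfsg.Agent.TcData.HN.I1539000
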