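import Mathlib
import Cfsg.Agent.TcData.HN.I1539000.Tab

set_option autoImplicit false
set_option Elab.async false
set_option maxRecDepth 100000
set_option linter.all false

namespace Cfsg.Agent.TcData.HN.I1539000

open Cfsg.Spor Cfsg.Agent.Lib.TcFacts Cfsg.Agent.Lib.TcBits Cfsg.Agent.Lib.TcPres Cfsg.Spor.HN Cfsg.Agent.TcData.HN

theorem b3258 : Block F al 834048 834304 241 :=
  block_of_check (k := 8) rfl (by decide +kernel)

theorem b3259 : Block F al 834304 834560 250 :=
  block_of_check (k := 8) rfl (by decide +kernel)

theorem b3260 : Block F al 834560 834816 247 :=
  block_of_check (k := 8) rfl (by decide +kernel)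

theorem b3261 : Block F al 834816 835072 243 :=
  block_of_check (k := 8) rfl (by decide +kernel)

theorem b3262 : Block F al 835072 835328 246 :=
  block_of_check (k := 8) rfl (by decide +kernel)

theorem b3263 : Block F al 835328 835584 251 :=
  block_of_check (k := 8) rfl (by decide +kernel)

theorem b3264 : Block F al 835584 835840 243 :=
  block_of_check (k := 8) rfl (by decide +kernel)

theorem b3265 : Block F al 835840 836096 244 :=
  block_of_check (k := 8) rfl (by decide +kernel)

theorem b3266 : Block F al 836096 836352 248 :=
  block_of_check (k := 8) rfl (by decide +kernel)

theorem b3267 : Block F al 836352 836608 250 :=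
  block_of_check (k := 8) rfl (by decide +kernel)

theorem b3268 : Block F al 836608 836864 245 :=
  block_of_check (k := 8) rfl (by decide +kernel)

theorem b3269 : Block F al 836864 837120 249 :=
  block_of_check (k := 8) rfl (by decide +kernel)

theorem b3270 : Block F al 837120 837376 246 :=
  block_of_check (k := 8) rfl (by decide +kernel)

theorem b3271 : Block F al 837376 837632 248 :=
  block_of_check (k := 8) rfl (by decide +kernel)

theorem b3272 : Block F al 837632 837888 249 :=
  block_of_check (k := 8) rfl (by decide +kernel)

theorem b3273 : Block F al 837888 838144 248 :=
  block_of_check (k := 8) rfl (by decide +kernel)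

theorem b3274 : Block F al 838144 838400 242 :=
  block_of_check (k := 8) rfl (by decide +kernel)

theorem b3275 : Block F al 838400 838656 248 :=
  block_of_check (k := 8) rfl (by decide +kernel)

theorem b3276 : Block F al 838656 838912 253 :=
  block_of_check (k := 8) rfl (by decide +kernel)

theorem b3277 : Block F al 838912 839168 247 :=
  block_of_check (k := 8) rfl (by decide +kernel)

theorem b3278 : Block F al 839168 839424 239 :=
  block_of_check (k := 8) rfl (by decide +kernel)

theorem b3279 : Block F al 839424 839680 229 :=
  block_of_check (k := 8) rfl (by decide +kernel)

theorem b3280 : Block F al 839680 839936 243 :=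
  block_of_check (k := 8) rfl (by decide +kernel)

theorem b3281 : Block F al 839936 840192 239 :=
  block_of_check (k := 8) rfl (by decide +kernel)

theorem b3282 : Block F al 840192 840448 237 :=
  block_of_check (k := 8) rfl (by decide +kernel)

theorem b3283 : Block F al 840448 840704 241 :=
  block_of_check (k := 8) rfl (by decide +kernel)

theorem b3284 : Block F al 840704 840960 242 :=
  block_of_check (k := 8) rfl (by decide +kernel)

theorem b3285 : Block F al 840960 841216 229 :=
  block_of_check (k := 8) rfl (by decide +kernel)

theorem b3286 : Block F al 841216 841472 227 :=
  block_of_check (k := 8) rfl (by decide +kernel)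

theorem b3287 : Block F al 841472 841728 250 :=
  block_of_check (k := 8) rfl (by decide +kernel)

theorem b3288 : Block F al 841728 841984 254 :=
  block_of_check (k := 8) rfl (by decide +kernel)

theorem b3289 : Block F al 841984 842240 239 :=
  block_of_check (k := 8) rfl (by decide +kernel)

theorem b3290 : Block F al 842240 842496 249 :=
  block_of_check (k := 8) rfl (by decide +kernel)

theorem b3291 : Block F al 842496 842752 244 :=
  block_of_check (k := 8) rfl (by decide +kernel)

theorem b3292 : Block F al 842752 843008 234 :=
  block_of_check (k := 8) rfl (by decide +kernel)

theorem b3293 : Block F al 843008 843264 240 :=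
  block_of_check (k := 8) rfl (by decide +kernel)

theorem b3294 : Block F al 843264 843520 229 :=
  block_of_check (k := 8) rfl (by decide +kernel)

theorem b3295 : Block F al 843520 843776 240 :=
  block_of_check (k := 8) rfl (by decide +kernel)

theorem b3296 : Block F al 843776 844032 240 :=
  block_of_check (k := 8) rfl (by decide +kernel)

end Cfsg.Agent.TcData.HN.I1539000
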