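import Mathlib
import Cfsg.Agent.TcData.HN.I1539000.Tab

set_option autoImplicit false
set_option Elab.async false
set_option maxRecDepth 100000
set_option linter.all false

namespace Cfsg.Agent.TcData.HN.I1539000

open Cfsg.Spor Cfsg.Agent.Lib.TcFacts Cfsg.Agent.Lib.TcBits Cfsg.Agent.Lib.TcPres Cfsg.Spor.HN Cfsg.Agent.TcData.HN

theorem b3297 : Block F al 844032 844288 241 :=
  block_of_check (k := 8) rfl (by decide +kernel)

theorem b3298 : Block F al 844288 844544 250 :=
  block_of_check (k := 8) rfl (by decide +kernel)

theorem b3299 : Block F al 844544 844800 232 :=
  block_of_check (k := 8) rfl (by decide +kernel)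

theorem b3300 : Block F al 844800 845056 234 :=
  block_of_check (k := 8) rfl (by decide +kernel)

theorem b3301 : Block F al 845056 845312 244 :=
  block_of_check (k := 8) rfl (by decide +kernel)

theorem b3302 : Block F al 845312 845568 231 :=
  block_of_check (k := 8) rfl (by decide +kernel)

theorem b3303 : Block F al 845568 845824 230 :=
  block_of_check (k := 8) rfl (by decide +kernel)

theorem b3304 : Block F al 845824 846080 253 :=
  block_of_check (k := 8) rfl (by decide +kernel)

theorem b3305 : Block F al 846080 846336 248 :=
  block_of_check (k := 8) rfl (by decide +kernel)

theorem b3306 : Block F al 846336 846592 238 :=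
  block_of_check (k := 8) rfl (by decide +kernel)

theorem b3307 : Block F al 846592 846848 244 :=
  block_of_check (k := 8) rfl (by decide +kernel)

theorem b3308 : Block F al 846848 847104 243 :=
  block_of_check (k := 8) rfl (by decide +kernel)

theorem b3309 : Block F al 847104 847360 246 :=
  block_of_check (k := 8) rfl (by decide +kernel)

theorem b3310 : Block F al 847360 847616 250 :=
  block_of_check (k := 8) rfl (by decide +kernel)

theorem b3311 : Block F al 847616 847872 244 :=
  block_of_check (k := 8) rfl (by decide +kernel)

theorem b3312 : Block F al 847872 848128 238 :=
  block_of_check (k := 8) rfl (by decide +kernel)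

theorem b3313 : Block F al 848128 848384 240 :=
  block_of_check (k := 8) rfl (by decide +kernel)

theorem b3314 : Block F al 848384 848640 244 :=
  block_of_check (k := 8) rfl (by decide +kernel)

theorem b3315 : Block F al 848640 848896 235 :=
  block_of_check (k := 8) rfl (by decide +kernel)

theorem b3316 : Block F al 848896 849152 249 :=
  block_of_check (k := 8) rfl (by decide +kernel)

theorem b3317 : Block F al 849152 849408 251 :=
  block_of_check (k := 8) rfl (by decide +kernel)

theorem b3318 : Block F al 849408 849664 246 :=
  block_of_check (k := 8) rfl (by decide +kernel)

theorem b3319 : Block F al 849664 849920 218 :=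
  block_of_check (k := 8) rfl (by decide +kernel)

theorem b3320 : Block F al 849920 850176 220 :=
  block_of_check (k := 8) rfl (by decide +kernel)

theorem b3321 : Block F al 850176 850432 237 :=
  block_of_check (k := 8) rfl (by decide +kernel)

theorem b3322 : Block F al 850432 850688 246 :=
  block_of_check (k := 8) rfl (by decide +kernel)

theorem b3323 : Block F al 850688 850944 250 :=
  block_of_check (k := 8) rfl (by decide +kernel)

theorem b3324 : Block F al 850944 851200 242 :=
  block_of_check (k := 8) rfl (by decide +kernel)

theorem b3325 : Block F al 851200 851456 248 :=
  block_of_check (k := 8) rfl (by decide +kernel)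

theorem b3326 : Block F al 851456 851712 247 :=
  block_of_check (k := 8) rfl (by decide +kernel)

theorem b3327 : Block F al 851712 851968 253 :=
  block_of_check (k := 8) rfl (by decide +kernel)

theorem b3328 : Block F al 851968 852224 243 :=
  block_of_check (k := 8) rfl (by decide +kernel)

theorem b3329 : Block F al 852224 852480 248 :=
  block_of_check (k := 8) rfl (by decide +kernel)

theorem b3330 : Block F al 852480 852736 250 :=
  block_of_check (k := 8) rfl (by decide +kernel)

theorem b3331 : Block F al 852736 852992 251 :=
  block_of_check (k := 8) rfl (by decide +kernel)

theorem b3332 : Block F al 852992 853248 246 :=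
  block_of_check (k := 8) rfl (by decide +kernel)

theorem b3333 : Block F al 853248 853504 240 :=
  block_of_check (k := 8) rfl (by decide +kernel)

theorem b3334 : Block F al 853504 853760 249 :=
  block_of_check (k := 8) rfl (by decide +kernel)

end Cfsg.Agent.TcData.HN.I1539000
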