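import Mathlib
import Cfsg.Agent.TcData.HN.I1539000.Tab

set_option autoImplicit false
set_option Elab.async false
set_option maxRecDepth 100000
set_option linter.all false

namespace Cfsg.Agent.TcData.HN.I1539000

open Cfsg.Spor Cfsg.Agent.Lib.TcFacts Cfsg.Agent.Lib.TcBits Cfsg.Agent.Lib.TcPres Cfsg.Spor.HN Cfsg.Agent.TcData.HN

theorem b3335 : Block F al 853760 854016 245 :=
  block_of_check (k := 8) rfl (by decide +kernel)

theorem b3336 : Block F al 854016 854272 253 :=
  block_of_check (k := 8) rfl (by decide +kernel)

theorem b3337 : Block F al 854272 854528 255 :=
  block_of_check (k := 8) rfl (by decide +kernel)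

theorem b3338 : Block F al 854528 854784 251 :=
  block_of_check (k := 8) rfl (by decide +kernel)

theorem b3339 : Block F al 854784 855040 248 :=
  block_of_check (k := 8) rfl (by decide +kernel)

theorem b3340 : Block F al 855040 855296 247 :=
  block_of_check (k := 8) rfl (by decide +kernel)

theorem b3341 : Block F al 855296 855552 251 :=
  block_of_check (k := 8) rfl (by decide +kernel)

theorem b3342 : Block F al 855552 855808 236 :=
  block_of_check (k := 8) rfl (by decide +kernel)

theorem b3343 : Block F al 855808 856064 250 :=
  block_of_check (k := 8) rfl (by decide +kernel)

theorem b3344 : Block F al 856064 856320 248 :=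
  block_of_check (k := 8) rfl (by decide +kernel)

theorem b3345 : Block F al 856320 856576 252 :=
  block_of_check (k := 8) rfl (by decide +kernel)

theorem b3346 : Block F al 856576 856832 248 :=
  block_of_check (k := 8) rfl (by decide +kernel)

theorem b3347 : Block F al 856832 857088 244 :=
  block_of_check (k := 8) rfl (by decide +kernel)

theorem b3348 : Block F al 857088 857344 250 :=
  block_of_check (k := 8) rfl (by decide +kernel)

theorem b3349 : Block F al 857344 857600 253 :=
  block_of_check (k := 8) rfl (by decide +kernel)

theorem b3350 : Block F al 857600 857856 252 :=
  block_of_check (k := 8) rfl (by decide +kernel)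

theorem b3351 : Block F al 857856 858112 248 :=
  block_of_check (k := 8) rfl (by decide +kernel)

theorem b3352 : Block F al 858112 858368 250 :=
  block_of_check (k := 8) rfl (by decide +kernel)

theorem b3353 : Block F al 858368 858624 244 :=
  block_of_check (k := 8) rfl (by decide +kernel)

theorem b3354 : Block F al 858624 858880 248 :=
  block_of_check (k := 8) rfl (by decide +kernel)

theorem b3355 : Block F al 858880 859136 250 :=
  block_of_check (k := 8) rfl (by decide +kernel)

theorem b3356 : Block F al 859136 859392 245 :=
  block_of_check (k := 8) rfl (by decide +kernel)

theorem b3357 : Block F al 859392 859648 246 :=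
  block_of_check (k := 8) rfl (by decide +kernel)

theorem b3358 : Block F al 859648 859904 251 :=
  block_of_check (k := 8) rfl (by decide +kernel)

theorem b3359 : Block F al 859904 860160 249 :=
  block_of_check (k := 8) rfl (by decide +kernel)

theorem b3360 : Block F al 860160 860416 253 :=
  block_of_check (k := 8) rfl (by decide +kernel)

theorem b3361 : Block F al 860416 860672 250 :=
  block_of_check (k := 8) rfl (by decide +kernel)

theorem b3362 : Block F al 860672 860928 243 :=
  block_of_check (k := 8) rfl (by decide +kernel)

theorem b3363 : Block F al 860928 861184 254 :=
  block_of_check (k := 8) rfl (by decide +kernel)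

theorem b3364 : Block F al 861184 861440 254 :=
  block_of_check (k := 8) rfl (by decide +kernel)

theorem b3365 : Block F al 861440 861696 249 :=
  block_of_check (k := 8) rfl (by decide +kernel)

theorem b3366 : Block F al 861696 861952 244 :=
  block_of_check (k := 8) rfl (by decide +kernel)

theorem b3367 : Block F al 861952 862208 249 :=
  block_of_check (k := 8) rfl (by decide +kernel)

theorem b3368 : Block F al 862208 862464 253 :=
  block_of_check (k := 8) rfl (by decide +kernel)

theorem b3369 : Block F al 862464 862720 253 :=
  block_of_check (k := 8) rfl (by decide +kernel)

theorem b3370 : Block F al 862720 862976 251 :=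
  block_of_check (k := 8) rfl (by decide +kernel)

theorem b3371 : Block F al 862976 863232 249 :=
  block_of_check (k := 8) rfl (by decide +kernel)

end Cfsg.Agent.TcData.HN.I1539000
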