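import Mathlib
import Cfsg.Agent.TcData.HN.I1539000.Tab

set_option autoImplicit false
set_option Elab.async false
set_option maxRecDepth 100000
set_option linter.all false

namespace Cfsg.Agent.TcData.HN.I1539000

open Cfsg.Spor Cfsg.Agent.Lib.TcFacts Cfsg.Agent.Lib.TcBits Cfsg.Agent.Lib.TcPres Cfsg.Spor.HN Cfsg.Agent.TcData.HN

theorem b3372 : Block F al 863232 863488 247 :=
  block_of_check (k := 8) rfl (by decide +kernel)

theorem b3373 : Block F al 863488 863744 240 :=
  block_of_check (k := 8) rfl (by decide +kernel)

theorem b3374 : Block F al 863744 864000 250 :=
  block_of_check (k := 8) rfl (by decide +kernel)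

theorem b3375 : Block F al 864000 864256 244 :=
  block_of_check (k := 8) rfl (by decide +kernel)

theorem b3376 : Block F al 864256 864512 245 :=
  block_of_check (k := 8) rfl (by decide +kernel)

theorem b3377 : Block F al 864512 864768 249 :=
  block_of_check (k := 8) rfl (by decide +kernel)

theorem b3378 : Block F al 864768 865024 241 :=
  block_of_check (k := 8) rfl (by decide +kernel)

theorem b3379 : Block F al 865024 865280 252 :=
  block_of_check (k := 8) rfl (by decide +kernel)

theorem b3380 : Block F al 865280 865536 246 :=
  block_of_check (k := 8) rfl (by decide +kernel)

theorem b3381 : Block F al 865536 865792 247 :=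
  block_of_check (k := 8) rfl (by decide +kernel)

theorem b3382 : Block F al 865792 866048 246 :=
  block_of_check (k := 8) rfl (by decide +kernel)

theorem b3383 : Block F al 866048 866304 248 :=
  block_of_check (k := 8) rfl (by decide +kernel)

theorem b3384 : Block F al 866304 866560 249 :=
  block_of_check (k := 8) rfl (by decide +kernel)

theorem b3385 : Block F al 866560 866816 233 :=
  block_of_check (k := 8) rfl (by decide +kernel)

theorem b3386 : Block F al 866816 867072 246 :=
  block_of_check (k := 8) rfl (by decide +kernel)

theorem b3387 : Block F al 867072 867328 251 :=
  block_of_check (k := 8) rfl (by decide +kernel)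

theorem b3388 : Block F al 867328 867584 242 :=
  block_of_check (k := 8) rfl (by decide +kernel)

theorem b3389 : Block F al 867584 867840 250 :=
  block_of_check (k := 8) rfl (by decide +kernel)

theorem b3390 : Block F al 867840 868096 254 :=
  block_of_check (k := 8) rfl (by decide +kernel)

theorem b3391 : Block F al 868096 868352 243 :=
  block_of_check (k := 8) rfl (by decide +kernel)

theorem b3392 : Block F al 868352 868608 249 :=
  block_of_check (k := 8) rfl (by decide +kernel)

theorem b3393 : Block F al 868608 868864 251 :=
  block_of_check (k := 8) rfl (by decide +kernel)

theorem b3394 : Block F al 868864 869120 248 :=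
  block_of_check (k := 8) rfl (by decide +kernel)

theorem b3395 : Block F al 869120 869376 255 :=
  block_of_check (k := 8) rfl (by decide +kernel)

theorem b3396 : Block F al 869376 869632 248 :=
  block_of_check (k := 8) rfl (by decide +kernel)

theorem b3397 : Block F al 869632 869888 253 :=
  block_of_check (k := 8) rfl (by decide +kernel)

theorem b3398 : Block F al 869888 870144 241 :=
  block_of_check (k := 8) rfl (by decide +kernel)

theorem b3399 : Block F al 870144 870400 239 :=
  block_of_check (k := 8) rfl (by decide +kernel)

theorem b3400 : Block F al 870400 870656 254 :=
  block_of_check (k := 8) rfl (by decide +kernel)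

theorem b3401 : Block F al 870656 870912 247 :=
  block_of_check (k := 8) rfl (by decide +kernel)

theorem b3402 : Block F al 870912 871168 250 :=
  block_of_check (k := 8) rfl (by decide +kernel)

theorem b3403 : Block F al 871168 871424 254 :=
  block_of_check (k := 8) rfl (by decide +kernel)

theorem b3404 : Block F al 871424 871680 230 :=
  block_of_check (k := 8) rfl (by decide +kernel)

theorem b3405 : Block F al 871680 871936 241 :=
  block_of_check (k := 8) rfl (by decide +kernel)

theorem b3406 : Block F al 871936 872192 251 :=
  block_of_check (k := 8) rfl (by decide +kernel)

theorem b3407 : Block F al 872192 872448 248 :=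
  block_of_check (k := 8) rfl (by decide +kernel)

theorem b3408 : Block F al 872448 872704 243 :=
  block_of_check (k := 8) rfl (by decide +kernel)

end Cfsg.Agent.TcData.HN.I1539000
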