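import Mathlib
import Cfsg.Agent.TcData.HN.I1539000.Tab

set_option autoImplicit false
set_option Elab.async false
set_option maxRecDepth 100000
set_option linter.all false

namespace Cfsg.Agent.TcData.HN.I1539000

open Cfsg.Spor Cfsg.Agent.Lib.TcFacts Cfsg.Agent.Lib.TcBits Cfsg.Agent.Lib.TcPres Cfsg.Spor.HN Cfsg.Agent.TcData.HN

theorem b3409 : Block F al 872704 872960 249 :=
  block_of_check (k := 8) rfl (by decide +kernel)

theorem b3410 : Block F al 872960 873216 246 :=
  block_of_check (k := 8) rfl (by decide +kernel)

theorem b3411 : Block F al 873216 873472 249 :=
  block_of_check (k := 8) rfl (by decide +kernel)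

theorem b3412 : Block F al 873472 873728 253 :=
  block_of_check (k := 8) rfl (by decide +kernel)

theorem b3413 : Block F al 873728 873984 253 :=
  block_of_check (k := 8) rfl (by decide +kernel)

theorem b3414 : Block F al 873984 874240 253 :=
  block_of_check (k := 8) rfl (by decide +kernel)

theorem b3415 : Block F al 874240 874496 254 :=
  block_of_check (k := 8) rfl (by decide +kernel)

theorem b3416 : Block F al 874496 874752 240 :=
  block_of_check (k := 8) rfl (by decide +kernel)

theorem b3417 : Block F al 874752 875008 237 :=
  block_of_check (k := 8) rfl (by decide +kernel)

theorem b3418 : Block F al 875008 875264 244 :=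
  block_of_check (k := 8) rfl (by decide +kernel)

theorem b3419 : Block F al 875264 875520 242 :=
  block_of_check (k := 8) rfl (by decide +kernel)

theorem b3420 : Block F al 875520 875776 246 :=
  block_of_check (k := 8) rfl (by decide +kernel)

theorem b3421 : Block F al 875776 876032 250 :=
  block_of_check (k := 8) rfl (by decide +kernel)

theorem b3422 : Block F al 876032 876288 243 :=
  block_of_check (k := 8) rfl (by decide +kernel)

theorem b3423 : Block F al 876288 876544 224 :=
  block_of_check (k := 8) rfl (by decide +kernel)

theorem b3424 : Block F al 876544 876800 250 :=
  block_of_check (k := 8) rfl (by decide +kernel)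

theorem b3425 : Block F al 876800 877056 246 :=
  block_of_check (k := 8) rfl (by decide +kernel)

theorem b3426 : Block F al 877056 877312 248 :=
  block_of_check (k := 8) rfl (by decide +kernel)

theorem b3427 : Block F al 877312 877568 249 :=
  block_of_check (k := 8) rfl (by decide +kernel)

theorem b3428 : Block F al 877568 877824 250 :=
  block_of_check (k := 8) rfl (by decide +kernel)

theorem b3429 : Block F al 877824 878080 251 :=
  block_of_check (k := 8) rfl (by decide +kernel)

theorem b3430 : Block F al 878080 878336 252 :=
  block_of_check (k := 8) rfl (by decide +kernel)

theorem b3431 : Block F al 878336 878592 243 :=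
  block_of_check (k := 8) rfl (by decide +kernel)

theorem b3432 : Block F al 878592 878848 239 :=
  block_of_check (k := 8) rfl (by decide +kernel)

theorem b3433 : Block F al 878848 879104 256 :=
  block_of_check (k := 8) rfl (by decide +kernel)

theorem b3434 : Block F al 879104 879360 243 :=
  block_of_check (k := 8) rfl (by decide +kernel)

theorem b3435 : Block F al 879360 879616 243 :=
  block_of_check (k := 8) rfl (by decide +kernel)

theorem b3436 : Block F al 879616 879872 237 :=
  block_of_check (k := 8) rfl (by decide +kernel)

theorem b3437 : Block F al 879872 880128 246 :=
  block_of_check (k := 8) rfl (by decide +kernel)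

theorem b3438 : Block F al 880128 880384 226 :=
  block_of_check (k := 8) rfl (by decide +kernel)

theorem b3439 : Block F al 880384 880640 254 :=
  block_of_check (k := 8) rfl (by decide +kernel)

theorem b3440 : Block F al 880640 880896 254 :=
  block_of_check (k := 8) rfl (by decide +kernel)

theorem b3441 : Block F al 880896 881152 250 :=
  block_of_check (k := 8) rfl (by decide +kernel)

theorem b3442 : Block F al 881152 881408 251 :=
  block_of_check (k := 8) rfl (by decide +kernel)

theorem b3443 : Block F al 881408 881664 251 :=
  block_of_check (k := 8) rfl (by decide +kernel)

theorem b3444 : Block F al 881664 881920 246 :=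
  block_of_check (k := 8) rfl (by decide +kernel)

theorem b3445 : Block F al 881920 882176 250 :=
  block_of_check (k := 8) rfl (by decide +kernel)

end Cfsg.Agent.TcData.HN.I1539000
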