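import Mathlib
import Cfsg.Agent.TcData.HN.I1539000.Tab

set_option autoImplicit false
set_option Elab.async false
set_option maxRecDepth 100000
set_option linter.all false

namespace Cfsg.Agent.TcData.HN.I1539000

open Cfsg.Spor Cfsg.Agent.Lib.TcFacts Cfsg.Agent.Lib.TcBits Cfsg.Agent.Lib.TcPres Cfsg.Spor.HN Cfsg.Agent.TcData.HN

theorem b3446 : Block F al 882176 882432 243 :=
  block_of_check (k := 8) rfl (by decide +kernel)

theorem b3447 : Block F al 882432 882688 245 :=
  block_of_check (k := 8) rfl (by decide +kernel)

theorem b3448 : Block F al 882688 882944 247 :=
  block_of_check (k := 8) rfl (by decide +kernel)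

theorem b3449 : Block F al 882944 883200 246 :=
  block_of_check (k := 8) rfl (by decide +kernel)

theorem b3450 : Block F al 883200 883456 240 :=
  block_of_check (k := 8) rfl (by decide +kernel)

theorem b3451 : Block F al 883456 883712 247 :=
  block_of_check (k := 8) rfl (by decide +kernel)

theorem b3452 : Block F al 883712 883968 239 :=
  block_of_check (k := 8) rfl (by decide +kernel)

theorem b3453 : Block F al 883968 884224 241 :=
  block_of_check (k := 8) rfl (by decide +kernel)

theorem b3454 : Block F al 884224 884480 248 :=
  block_of_check (k := 8) rfl (by decide +kernel)

theorem b3455 : Block F al 884480 884736 225 :=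
  block_of_check (k := 8) rfl (by decide +kernel)

theorem b3456 : Block F al 884736 884992 227 :=
  block_of_check (k := 8) rfl (by decide +kernel)

theorem b3457 : Block F al 884992 885248 240 :=
  block_of_check (k := 8) rfl (by decide +kernel)

theorem b3458 : Block F al 885248 885504 237 :=
  block_of_check (k := 8) rfl (by decide +kernel)

theorem b3459 : Block F al 885504 885760 252 :=
  block_of_check (k := 8) rfl (by decide +kernel)

theorem b3460 : Block F al 885760 886016 238 :=
  block_of_check (k := 8) rfl (by decide +kernel)

theorem b3461 : Block F al 886016 886272 254 :=
  block_of_check (k := 8) rfl (by decide +kernel)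

theorem b3462 : Block F al 886272 886528 247 :=
  block_of_check (k := 8) rfl (by decide +kernel)

theorem b3463 : Block F al 886528 886784 252 :=
  block_of_check (k := 8) rfl (by decide +kernel)

theorem b3464 : Block F al 886784 887040 255 :=
  block_of_check (k := 8) rfl (by decide +kernel)

theorem b3465 : Block F al 887040 887296 254 :=
  block_of_check (k := 8) rfl (by decide +kernel)

theorem b3466 : Block F al 887296 887552 230 :=
  block_of_check (k := 8) rfl (by decide +kernel)

theorem b3467 : Block F al 887552 887808 241 :=
  block_of_check (k := 8) rfl (by decide +kernel)

theorem b3468 : Block F al 887808 888064 249 :=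
  block_of_check (k := 8) rfl (by decide +kernel)

theorem b3469 : Block F al 888064 888320 249 :=
  block_of_check (k := 8) rfl (by decide +kernel)

theorem b3470 : Block F al 888320 888576 243 :=
  block_of_check (k := 8) rfl (by decide +kernel)

theorem b3471 : Block F al 888576 888832 248 :=
  block_of_check (k := 8) rfl (by decide +kernel)

theorem b3472 : Block F al 888832 889088 240 :=
  block_of_check (k := 8) rfl (by decide +kernel)

theorem b3473 : Block F al 889088 889344 251 :=
  block_of_check (k := 8) rfl (by decide +kernel)

theorem b3474 : Block F al 889344 889600 248 :=
  block_of_check (k := 8) rfl (by decide +kernel)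

theorem b3475 : Block F al 889600 889856 242 :=
  block_of_check (k := 8) rfl (by decide +kernel)

theorem b3476 : Block F al 889856 890112 249 :=
  block_of_check (k := 8) rfl (by decide +kernel)

theorem b3477 : Block F al 890112 890368 249 :=
  block_of_check (k := 8) rfl (by decide +kernel)

theorem b3478 : Block F al 890368 890624 245 :=
  block_of_check (k := 8) rfl (by decide +kernel)

theorem b3479 : Block F al 890624 890880 250 :=
  block_of_check (k := 8) rfl (by decide +kernel)

theorem b3480 : Block F al 890880 891136 249 :=
  block_of_check (k := 8) rfl (by decide +kernel)

theorem b3481 : Block F al 891136 891392 251 :=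
  block_of_check (k := 8) rfl (by decide +kernel)

theorem b3482 : Block F al 891392 891648 252 :=
  block_of_check (k := 8) rfl (by decide +kernel)

theorem b3483 : Block F al 891648 891904 254 :=
  block_of_check (k := 8) rfl (by decide +kernel)

theorem b3484 : Block F al 891904 892160 242 :=
  block_of_check (k := 8) rfl (by decide +kernel)

end Cfsg.Agent.TcData.HN.I1539000
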