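import Mathlib
import Cfsg.Agent.TcData.HN.I1539000.Tab

set_option autoImplicit false
set_option Elab.async false
set_option maxRecDepth 100000
set_option linter.all false

namespace Cfsg.Agent.TcData.HN.I1539000

open Cfsg.Spor Cfsg.Agent.Lib.TcFacts Cfsg.Agent.Lib.TcBits Cfsg.Agent.Lib.TcPres Cfsg.Spor.HN Cfsg.Agent.TcData.HN

theorem b3485 : Block F al 892160 892416 251 :=
  block_of_check (k := 8) rfl (by decide +kernel)

theorem b3486 : Block F al 892416 892672 254 :=
  block_of_check (k := 8) rfl (by decide +kernel)

theorem b3487 : Block F al 892672 892928 256 :=
  block_of_check (k := 8) rfl (by decide +kernel)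

theorem b3488 : Block F al 892928 893184 244 :=
  block_of_check (k := 8) rfl (by decide +kernel)

theorem b3489 : Block F al 893184 893440 238 :=
  block_of_check (k := 8) rfl (by decide +kernel)

theorem b3490 : Block F al 893440 893696 246 :=
  block_of_check (k := 8) rfl (by decide +kernel)

theorem b3491 : Block F al 893696 893952 249 :=
  block_of_check (k := 8) rfl (by decide +kernel)

theorem b3492 : Block F al 893952 894208 239 :=
  block_of_check (k := 8) rfl (by decide +kernel)

theorem b3493 : Block F al 894208 894464 251 :=
  block_of_check (k := 8) rfl (by decide +kernel)

theorem b3494 : Block F al 894464 894720 253 :=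
  block_of_check (k := 8) rfl (by decide +kernel)

theorem b3495 : Block F al 894720 894976 245 :=
  block_of_check (k := 8) rfl (by decide +kernel)

theorem b3496 : Block F al 894976 895232 244 :=
  block_of_check (k := 8) rfl (by decide +kernel)

theorem b3497 : Block F al 895232 895488 249 :=
  block_of_check (k := 8) rfl (by decide +kernel)

theorem b3498 : Block F al 895488 895744 248 :=
  block_of_check (k := 8) rfl (by decide +kernel)

theorem b3499 : Block F al 895744 896000 249 :=
  block_of_check (k := 8) rfl (by decide +kernel)

theorem b3500 : Block F al 896000 896256 249 :=
  block_of_check (k := 8) rfl (by decide +kernel)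

theorem b3501 : Block F al 896256 896512 245 :=
  block_of_check (k := 8) rfl (by decide +kernel)

theorem b3502 : Block F al 896512 896768 252 :=
  block_of_check (k := 8) rfl (by decide +kernel)

theorem b3503 : Block F al 896768 897024 250 :=
  block_of_check (k := 8) rfl (by decide +kernel)

theorem b3504 : Block F al 897024 897280 243 :=
  block_of_check (k := 8) rfl (by decide +kernel)

theorem b3505 : Block F al 897280 897536 240 :=
  block_of_check (k := 8) rfl (by decide +kernel)

theorem b3506 : Block F al 897536 897792 246 :=
  block_of_check (k := 8) rfl (by decide +kernel)

theorem b3507 : Block F al 897792 898048 247 :=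
  block_of_check (k := 8) rfl (by decide +kernel)

theorem b3508 : Block F al 898048 898304 245 :=
  block_of_check (k := 8) rfl (by decide +kernel)

theorem b3509 : Block F al 898304 898560 245 :=
  block_of_check (k := 8) rfl (by decide +kernel)

theorem b3510 : Block F al 898560 898816 250 :=
  block_of_check (k := 8) rfl (by decide +kernel)

theorem b3511 : Block F al 898816 899072 248 :=
  block_of_check (k := 8) rfl (by decide +kernel)

theorem b3512 : Block F al 899072 899328 253 :=
  block_of_check (k := 8) rfl (by decide +kernel)

theorem b3513 : Block F al 899328 899584 251 :=
  block_of_check (k := 8) rfl (by decide +kernel)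

theorem b3514 : Block F al 899584 899840 237 :=
  block_of_check (k := 8) rfl (by decide +kernel)

theorem b3515 : Block F al 899840 900096 244 :=
  block_of_check (k := 8) rfl (by decide +kernel)

theorem b3516 : Block F al 900096 900352 250 :=
  block_of_check (k := 8) rfl (by decide +kernel)

theorem b3517 : Block F al 900352 900608 240 :=
  block_of_check (k := 8) rfl (by decide +kernel)

theorem b3518 : Block F al 900608 900864 239 :=
  block_of_check (k := 8) rfl (by decide +kernel)

theorem b3519 : Block F al 900864 901120 250 :=
  block_of_check (k := 8) rfl (by decide +kernel)

theorem b3520 : Block F al 901120 901376 237 :=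
  block_of_check (k := 8) rfl (by decide +kernel)

theorem b3521 : Block F al 901376 901632 245 :=
  block_of_check (k := 8) rfl (by decide +kernel)

end Cfsg.Agent.TcData.HN.I1539000
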