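import Mathlib
import Cfsg.Agent.TcData.HN.I1539000.Tab

set_option autoImplicit false
set_option Elab.async false
set_option maxRecDepth 100000
set_option linter.all false

namespace Cfsg.Agent.TcData.HN.I1539000

open Cfsg.Spor Cfsg.Agent.Lib.TcFacts Cfsg.Agent.Lib.TcBits Cfsg.Agent.Lib.TcPres Cfsg.Spor.HN Cfsg.Agent.TcData.HN

theorem b427 : Block F al 109312 109568 246 :=
  block_of_check (k := 8) rfl (by decide +kernel)

theorem b428 : Block F al 109568 109824 244 :=
  block_of_check (k := 8) rfl (by decide +kernel)

theorem b429 : Block F al 109824 110080 237 :=
  block_of_check (k := 8) rfl (by decide +kernel)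

theorem b430 : Block F al 110080 110336 230 :=
  block_of_check (k := 8) rfl (by decide +kernel)

theorem b431 : Block F al 110336 110592 252 :=
  block_of_check (k := 8) rfl (by decide +kernel)

theorem b432 : Block F al 110592 110848 252 :=
  block_of_check (k := 8) rfl (by decide +kernel)

theorem b433 : Block F al 110848 111104 205 :=
  block_of_check (k := 8) rfl (by decide +kernel)

theorem b434 : Block F al 111104 111360 218 :=
  block_of_check (k := 8) rfl (by decide +kernel)

theorem b435 : Block F al 111360 111616 221 :=
  block_of_check (k := 8) rfl (by decide +kernel)

theorem b436 : Block F al 111616 111872 212 :=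
  block_of_check (k := 8) rfl (by decide +kernel)

theorem b437 : Block F al 111872 112128 241 :=
  block_of_check (k := 8) rfl (by decide +kernel)

theorem b438 : Block F al 112128 112384 239 :=
  block_of_check (k := 8) rfl (by decide +kernel)

theorem b439 : Block F al 112384 112640 238 :=
  block_of_check (k := 8) rfl (by decide +kernel)

theorem b440 : Block F al 112640 112896 245 :=
  block_of_check (k := 8) rfl (by decide +kernel)

theorem b441 : Block F al 112896 113152 237 :=
  block_of_check (k := 8) rfl (by decide +kernel)

theorem b442 : Block F al 113152 113408 221 :=
  block_of_check (k := 8) rfl (by decide +kernel)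

theorem b443 : Block F al 113408 113664 241 :=
  block_of_check (k := 8) rfl (by decide +kernel)

theorem b444 : Block F al 113664 113920 231 :=
  block_of_check (k := 8) rfl (by decide +kernel)

theorem b445 : Block F al 113920 114176 246 :=
  block_of_check (k := 8) rfl (by decide +kernel)

theorem b446 : Block F al 114176 114432 245 :=
  block_of_check (k := 8) rfl (by decide +kernel)

theorem b447 : Block F al 114432 114688 240 :=
  block_of_check (k := 8) rfl (by decide +kernel)

theorem b448 : Block F al 114688 114944 217 :=
  block_of_check (k := 8) rfl (by decide +kernel)

theorem b449 : Block F al 114944 115200 250 :=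
  block_of_check (k := 8) rfl (by decide +kernel)

theorem b450 : Block F al 115200 115456 235 :=
  block_of_check (k := 8) rfl (by decide +kernel)

theorem b451 : Block F al 115456 115712 237 :=
  block_of_check (k := 8) rfl (by decide +kernel)

theorem b452 : Block F al 115712 115968 247 :=
  block_of_check (k := 8) rfl (by decide +kernel)

theorem b453 : Block F al 115968 116224 247 :=
  block_of_check (k := 8) rfl (by decide +kernel)

theorem b454 : Block F al 116224 116480 244 :=
  block_of_check (k := 8) rfl (by decide +kernel)

theorem b455 : Block F al 116480 116736 228 :=
  block_of_check (k := 8) rfl (by decide +kernel)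

theorem b456 : Block F al 116736 116992 219 :=
  block_of_check (k := 8) rfl (by decide +kernel)

theorem b457 : Block F al 116992 117248 226 :=
  block_of_check (k := 8) rfl (by decide +kernel)

theorem b458 : Block F al 117248 117504 241 :=
  block_of_check (k := 8) rfl (by decide +kernel)

theorem b459 : Block F al 117504 117760 234 :=
  block_of_check (k := 8) rfl (by decide +kernel)

theorem b460 : Block F al 117760 118016 227 :=
  block_of_check (k := 8) rfl (by decide +kernel)

theorem b461 : Block F al 118016 118272 234 :=
  block_of_check (k := 8) rfl (by decide +kernel)

theorem b462 : Block F al 118272 118528 240 :=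
  block_of_check (k := 8) rfl (by decide +kernel)

theorem b463 : Block F al 118528 118784 235 :=
  block_of_check (k := 8) rfl (by decide +kernel)

theorem b464 : Block F al 118784 119040 246 :=
  block_of_check (k := 8) rfl (by decide +kernel)

theorem b465 : Block F al 119040 119296 249 :=
  block_of_check (k := 8) rfl (by decide +kernel)

theorem b466 : Block F al 119296 119552 224 :=
  block_of_check (k := 8) rfl (by decide +kernel)

theorem b467 : Block F al 119552 119808 239 :=
  block_of_check (k := 8) rfl (by decide +kernel)

theorem b468 : Block F al 119808 120064 245 :=
  block_of_check (k := 8) rfl (by decide +kernel)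

theorem b469 : Block F al 120064 120320 229 :=
  block_of_check (k := 8) rfl (by decide +kernel)

theorem b470 : Block F al 120320 120576 207 :=
  block_of_check (k := 8) rfl (by decide +kernel)

theorem b471 : Block F al 120576 120832 218 :=
  block_of_check (k := 8) rfl (by decide +kernel)

theorem b472 : Block F al 120832 121088 210 :=
  block_of_check (k := 8) rfl (by decide +kernel)

theorem b473 : Block F al 121088 121344 233 :=
  block_of_check (k := 8) rfl (by decide +kernel)

theorem b474 : Block F al 121344 121600 214 :=
  block_of_check (k := 8) rfl (by decide +kernel)

theorem b475 : Block F al 121600 121856 244 :=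
  block_of_check (k := 8) rfl (by decide +kernel)

theorem b476 : Block F al 121856 122112 220 :=
  block_of_check (k := 8) rfl (by decide +kernel)

end Cfsg.Agent.TcData.HN.I1539000
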