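import Mathlib
import Cfsg.Agent.TcData.HN.I1539000.Tab

set_option autoImplicit false
set_option Elab.async false
set_option maxRecDepth 100000
set_option linter.all false

namespace Cfsg.Agent.TcData.HN.I1539000

open Cfsg.Spor Cfsg.Agent.Lib.TcFacts Cfsg.Agent.Lib.TcBits Cfsg.Agent.Lib.TcPres Cfsg.Spor.HN Cfsg.Agent.TcData.HN

theorem b3522 : Block F al 901632 901888 248 :=
  block_of_check (k := 8) rfl (by decide +kernel)

theorem b3523 : Block F al 901888 902144 252 :=
  block_of_check (k := 8) rfl (by decide +kernel)

theorem b3524 : Block F al 902144 902400 231 :=
  block_of_check (k := 8) rfl (by decide +kernel)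

theorem b3525 : Block F al 902400 902656 227 :=
  block_of_check (k := 8) rfl (by decide +kernel)

theorem b3526 : Block F al 902656 902912 247 :=
  block_of_check (k := 8) rfl (by decide +kernel)

theorem b3527 : Block F al 902912 903168 247 :=
  block_of_check (k := 8) rfl (by decide +kernel)

theorem b3528 : Block F al 903168 903424 251 :=
  block_of_check (k := 8) rfl (by decide +kernel)

theorem b3529 : Block F al 903424 903680 245 :=
  block_of_check (k := 8) rfl (by decide +kernel)

theorem b3530 : Block F al 903680 903936 242 :=
  block_of_check (k := 8) rfl (by decide +kernel)

theorem b3531 : Block F al 903936 904192 241 :=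
  block_of_check (k := 8) rfl (by decide +kernel)

theorem b3532 : Block F al 904192 904448 249 :=
  block_of_check (k := 8) rfl (by decide +kernel)

theorem b3533 : Block F al 904448 904704 251 :=
  block_of_check (k := 8) rfl (by decide +kernel)

theorem b3534 : Block F al 904704 904960 233 :=
  block_of_check (k := 8) rfl (by decide +kernel)

theorem b3535 : Block F al 904960 905216 236 :=
  block_of_check (k := 8) rfl (by decide +kernel)

theorem b3536 : Block F al 905216 905472 238 :=
  block_of_check (k := 8) rfl (by decide +kernel)

theorem b3537 : Block F al 905472 905728 246 :=
  block_of_check (k := 8) rfl (by decide +kernel)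

theorem b3538 : Block F al 905728 905984 244 :=
  block_of_check (k := 8) rfl (by decide +kernel)

theorem b3539 : Block F al 905984 906240 240 :=
  block_of_check (k := 8) rfl (by decide +kernel)

theorem b3540 : Block F al 906240 906496 252 :=
  block_of_check (k := 8) rfl (by decide +kernel)

theorem b3541 : Block F al 906496 906752 246 :=
  block_of_check (k := 8) rfl (by decide +kernel)

theorem b3542 : Block F al 906752 907008 242 :=
  block_of_check (k := 8) rfl (by decide +kernel)

theorem b3543 : Block F al 907008 907264 236 :=
  block_of_check (k := 8) rfl (by decide +kernel)

theorem b3544 : Block F al 907264 907520 241 :=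
  block_of_check (k := 8) rfl (by decide +kernel)

theorem b3545 : Block F al 907520 907776 249 :=
  block_of_check (k := 8) rfl (by decide +kernel)

theorem b3546 : Block F al 907776 908032 247 :=
  block_of_check (k := 8) rfl (by decide +kernel)

theorem b3547 : Block F al 908032 908288 254 :=
  block_of_check (k := 8) rfl (by decide +kernel)

theorem b3548 : Block F al 908288 908544 252 :=
  block_of_check (k := 8) rfl (by decide +kernel)

theorem b3549 : Block F al 908544 908800 253 :=
  block_of_check (k := 8) rfl (by decide +kernel)

theorem b3550 : Block F al 908800 909056 250 :=
  block_of_check (k := 8) rfl (by decide +kernel)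

theorem b3551 : Block F al 909056 909312 243 :=
  block_of_check (k := 8) rfl (by decide +kernel)

theorem b3552 : Block F al 909312 909568 250 :=
  block_of_check (k := 8) rfl (by decide +kernel)

theorem b3553 : Block F al 909568 909824 245 :=
  block_of_check (k := 8) rfl (by decide +kernel)

theorem b3554 : Block F al 909824 910080 249 :=
  block_of_check (k := 8) rfl (by decide +kernel)

theorem b3555 : Block F al 910080 910336 245 :=
  block_of_check (k := 8) rfl (by decide +kernel)

theorem b3556 : Block F al 910336 910592 252 :=
  block_of_check (k := 8) rfl (by decide +kernel)

theorem b3557 : Block F al 910592 910848 255 :=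
  block_of_check (k := 8) rfl (by decide +kernel)

theorem b3558 : Block F al 910848 911104 248 :=
  block_of_check (k := 8) rfl (by decide +kernel)

end Cfsg.Agent.TcData.HN.I1539000
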