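import Mathlib
import Cfsg.Agent.TcData.HN.I1539000.Tab

set_option autoImplicit false
set_option Elab.async false
set_option maxRecDepth 100000
set_option linter.all false

namespace Cfsg.Agent.TcData.HN.I1539000

open Cfsg.Spor Cfsg.Agent.Lib.TcFacts Cfsg.Agent.Lib.TcBits Cfsg.Agent.Lib.TcPres Cfsg.Spor.HN Cfsg.Agent.TcData.HN

theorem b3559 : Block F al 911104 911360 244 :=
  block_of_check (k := 8) rfl (by decide +kernel)

theorem b3560 : Block F al 911360 911616 247 :=
  block_of_check (k := 8) rfl (by decide +kernel)

theorem b3561 : Block F al 911616 911872 243 :=
  block_of_check (k := 8) rfl (by decide +kernel)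

theorem b3562 : Block F al 911872 912128 253 :=
  block_of_check (k := 8) rfl (by decide +kernel)

theorem b3563 : Block F al 912128 912384 240 :=
  block_of_check (k := 8) rfl (by decide +kernel)

theorem b3564 : Block F al 912384 912640 248 :=
  block_of_check (k := 8) rfl (by decide +kernel)

theorem b3565 : Block F al 912640 912896 243 :=
  block_of_check (k := 8) rfl (by decide +kernel)

theorem b3566 : Block F al 912896 913152 247 :=
  block_of_check (k := 8) rfl (by decide +kernel)

theorem b3567 : Block F al 913152 913408 249 :=
  block_of_check (k := 8) rfl (by decide +kernel)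

theorem b3568 : Block F al 913408 913664 249 :=
  block_of_check (k := 8) rfl (by decide +kernel)

theorem b3569 : Block F al 913664 913920 243 :=
  block_of_check (k := 8) rfl (by decide +kernel)

theorem b3570 : Block F al 913920 914176 249 :=
  block_of_check (k := 8) rfl (by decide +kernel)

theorem b3571 : Block F al 914176 914432 254 :=
  block_of_check (k := 8) rfl (by decide +kernel)

theorem b3572 : Block F al 914432 914688 248 :=
  block_of_check (k := 8) rfl (by decide +kernel)

theorem b3573 : Block F al 914688 914944 244 :=
  block_of_check (k := 8) rfl (by decide +kernel)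

theorem b3574 : Block F al 914944 915200 242 :=
  block_of_check (k := 8) rfl (by decide +kernel)

theorem b3575 : Block F al 915200 915456 253 :=
  block_of_check (k := 8) rfl (by decide +kernel)

theorem b3576 : Block F al 915456 915712 255 :=
  block_of_check (k := 8) rfl (by decide +kernel)

theorem b3577 : Block F al 915712 915968 249 :=
  block_of_check (k := 8) rfl (by decide +kernel)

theorem b3578 : Block F al 915968 916224 253 :=
  block_of_check (k := 8) rfl (by decide +kernel)

theorem b3579 : Block F al 916224 916480 249 :=
  block_of_check (k := 8) rfl (by decide +kernel)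

theorem b3580 : Block F al 916480 916736 244 :=
  block_of_check (k := 8) rfl (by decide +kernel)

theorem b3581 : Block F al 916736 916992 245 :=
  block_of_check (k := 8) rfl (by decide +kernel)

theorem b3582 : Block F al 916992 917248 243 :=
  block_of_check (k := 8) rfl (by decide +kernel)

theorem b3583 : Block F al 917248 917504 245 :=
  block_of_check (k := 8) rfl (by decide +kernel)

theorem b3584 : Block F al 917504 917760 249 :=
  block_of_check (k := 8) rfl (by decide +kernel)

theorem b3585 : Block F al 917760 918016 250 :=
  block_of_check (k := 8) rfl (by decide +kernel)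

theorem b3586 : Block F al 918016 918272 254 :=
  block_of_check (k := 8) rfl (by decide +kernel)

theorem b3587 : Block F al 918272 918528 248 :=
  block_of_check (k := 8) rfl (by decide +kernel)

theorem b3588 : Block F al 918528 918784 252 :=
  block_of_check (k := 8) rfl (by decide +kernel)

theorem b3589 : Block F al 918784 919040 250 :=
  block_of_check (k := 8) rfl (by decide +kernel)

theorem b3590 : Block F al 919040 919296 247 :=
  block_of_check (k := 8) rfl (by decide +kernel)

theorem b3591 : Block F al 919296 919552 250 :=
  block_of_check (k := 8) rfl (by decide +kernel)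

theorem b3592 : Block F al 919552 919808 253 :=
  block_of_check (k := 8) rfl (by decide +kernel)

theorem b3593 : Block F al 919808 920064 245 :=
  block_of_check (k := 8) rfl (by decide +kernel)

end Cfsg.Agent.TcData.HN.I1539000
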