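import Mathlib
import Cfsg.Agent.TcData.HN.I1539000.Tab

set_option autoImplicit false
set_option Elab.async false
set_option maxRecDepth 100000
set_option linter.all false

namespace Cfsg.Agent.TcData.HN.I1539000

open Cfsg.Spor Cfsg.Agent.Lib.TcFacts Cfsg.Agent.Lib.TcBits Cfsg.Agent.Lib.TcPres Cfsg.Spor.HN Cfsg.Agent.TcData.HN

theorem b3594 : Block F al 920064 920320 254 :=
  block_of_check (k := 8) rfl (by decide +kernel)

theorem b3595 : Block F al 920320 920576 240 :=
  block_of_check (k := 8) rfl (by decide +kernel)

theorem b3596 : Block F al 920576 920832 252 :=
  block_of_check (k := 8) rfl (by decide +kernel)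

theorem b3597 : Block F al 920832 921088 233 :=
  block_of_check (k := 8) rfl (by decide +kernel)

theorem b3598 : Block F al 921088 921344 244 :=
  block_of_check (k := 8) rfl (by decide +kernel)

theorem b3599 : Block F al 921344 921600 249 :=
  block_of_check (k := 8) rfl (by decide +kernel)

theorem b3600 : Block F al 921600 921856 242 :=
  block_of_check (k := 8) rfl (by decide +kernel)

theorem b3601 : Block F al 921856 922112 244 :=
  block_of_check (k := 8) rfl (by decide +kernel)

theorem b3602 : Block F al 922112 922368 254 :=
  block_of_check (k := 8) rfl (by decide +kernel)

theorem b3603 : Block F al 922368 922624 250 :=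
  block_of_check (k := 8) rfl (by decide +kernel)

theorem b3604 : Block F al 922624 922880 251 :=
  block_of_check (k := 8) rfl (by decide +kernel)

theorem b3605 : Block F al 922880 923136 253 :=
  block_of_check (k := 8) rfl (by decide +kernel)

theorem b3606 : Block F al 923136 923392 252 :=
  block_of_check (k := 8) rfl (by decide +kernel)

theorem b3607 : Block F al 923392 923648 249 :=
  block_of_check (k := 8) rfl (by decide +kernel)

theorem b3608 : Block F al 923648 923904 235 :=
  block_of_check (k := 8) rfl (by decide +kernel)

theorem b3609 : Block F al 923904 924160 252 :=
  block_of_check (k := 8) rfl (by decide +kernel)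

theorem b3610 : Block F al 924160 924416 249 :=
  block_of_check (k := 8) rfl (by decide +kernel)

theorem b3611 : Block F al 924416 924672 228 :=
  block_of_check (k := 8) rfl (by decide +kernel)

theorem b3612 : Block F al 924672 924928 252 :=
  block_of_check (k := 8) rfl (by decide +kernel)

theorem b3613 : Block F al 924928 925184 252 :=
  block_of_check (k := 8) rfl (by decide +kernel)

theorem b3614 : Block F al 925184 925440 250 :=
  block_of_check (k := 8) rfl (by decide +kernel)

theorem b3615 : Block F al 925440 925696 252 :=
  block_of_check (k := 8) rfl (by decide +kernel)

theorem b3616 : Block F al 925696 925952 237 :=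
  block_of_check (k := 8) rfl (by decide +kernel)

theorem b3617 : Block F al 925952 926208 239 :=
  block_of_check (k := 8) rfl (by decide +kernel)

theorem b3618 : Block F al 926208 926464 248 :=
  block_of_check (k := 8) rfl (by decide +kernel)

theorem b3619 : Block F al 926464 926720 250 :=
  block_of_check (k := 8) rfl (by decide +kernel)

theorem b3620 : Block F al 926720 926976 247 :=
  block_of_check (k := 8) rfl (by decide +kernel)

theorem b3621 : Block F al 926976 927232 248 :=
  block_of_check (k := 8) rfl (by decide +kernel)

theorem b3622 : Block F al 927232 927488 241 :=
  block_of_check (k := 8) rfl (by decide +kernel)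

theorem b3623 : Block F al 927488 927744 247 :=
  block_of_check (k := 8) rfl (by decide +kernel)

theorem b3624 : Block F al 927744 928000 253 :=
  block_of_check (k := 8) rfl (by decide +kernel)

theorem b3625 : Block F al 928000 928256 251 :=
  block_of_check (k := 8) rfl (by decide +kernel)

theorem b3626 : Block F al 928256 928512 247 :=
  block_of_check (k := 8) rfl (by decide +kernel)

theorem b3627 : Block F al 928512 928768 249 :=
  block_of_check (k := 8) rfl (by decide +kernel)

theorem b3628 : Block F al 928768 929024 247 :=
  block_of_check (k := 8) rfl (by decide +kernel)

theorem b3629 : Block F al 929024 929280 249 :=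
  block_of_check (k := 8) rfl (by decide +kernel)

theorem b3630 : Block F al 929280 929536 244 :=
  block_of_check (k := 8) rfl (by decide +kernel)

end Cfsg.Agent.TcData.HN.I1539000
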