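import Mathlib
import Cfsg.Agent.TcData.HN.I1539000.Tab

set_option autoImplicit false
set_option Elab.async false
set_option maxRecDepth 100000
set_option linter.all false

namespace Cfsg.Agent.TcData.HN.I1539000

open Cfsg.Spor Cfsg.Agent.Lib.TcFacts Cfsg.Agent.Lib.TcBits Cfsg.Agent.Lib.TcPres Cfsg.Spor.HN Cfsg.Agent.TcData.HN

theorem b3667 : Block F al 938752 939008 253 :=
  block_of_check (k := 8) rfl (by decide +kernel)

theorem b3668 : Block F al 939008 939264 250 :=
  block_of_check (k := 8) rfl (by decide +kernel)

theorem b3669 : Block F al 939264 939520 252 :=
  block_of_check (k := 8) rfl (by decide +kernel)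

theorem b3670 : Block F al 939520 939776 255 :=
  block_of_check (k := 8) rfl (by decide +kernel)

theorem b3671 : Block F al 939776 940032 255 :=
  block_of_check (k := 8) rfl (by decide +kernel)

theorem b3672 : Block F al 940032 940288 255 :=
  block_of_check (k := 8) rfl (by decide +kernel)

theorem b3673 : Block F al 940288 940544 252 :=
  block_of_check (k := 8) rfl (by decide +kernel)

theorem b3674 : Block F al 940544 940800 249 :=
  block_of_check (k := 8) rfl (by decide +kernel)

theorem b3675 : Block F al 940800 941056 252 :=
  block_of_check (k := 8) rfl (by decide +kernel)

theorem b3676 : Block F al 941056 941312 245 :=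
  block_of_check (k := 8) rfl (by decide +kernel)

theorem b3677 : Block F al 941312 941568 242 :=
  block_of_check (k := 8) rfl (by decide +kernel)

theorem b3678 : Block F al 941568 941824 253 :=
  block_of_check (k := 8) rfl (by decide +kernel)

theorem b3679 : Block F al 941824 942080 254 :=
  block_of_check (k := 8) rfl (by decide +kernel)

theorem b3680 : Block F al 942080 942336 253 :=
  block_of_check (k := 8) rfl (by decide +kernel)

theorem b3681 : Block F al 942336 942592 252 :=
  block_of_check (k := 8) rfl (by decide +kernel)

theorem b3682 : Block F al 942592 942848 248 :=
  block_of_check (k := 8) rfl (by decide +kernel)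

theorem b3683 : Block F al 942848 943104 249 :=
  block_of_check (k := 8) rfl (by decide +kernel)

theorem b3684 : Block F al 943104 943360 245 :=
  block_of_check (k := 8) rfl (by decide +kernel)

theorem b3685 : Block F al 943360 943616 254 :=
  block_of_check (k := 8) rfl (by decide +kernel)

theorem b3686 : Block F al 943616 943872 246 :=
  block_of_check (k := 8) rfl (by decide +kernel)

theorem b3687 : Block F al 943872 944128 250 :=
  block_of_check (k := 8) rfl (by decide +kernel)

theorem b3688 : Block F al 944128 944384 246 :=
  block_of_check (k := 8) rfl (by decide +kernel)

theorem b3689 : Block F al 944384 944640 246 :=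
  block_of_check (k := 8) rfl (by decide +kernel)

theorem b3690 : Block F al 944640 944896 249 :=
  block_of_check (k := 8) rfl (by decide +kernel)

theorem b3691 : Block F al 944896 945152 234 :=
  block_of_check (k := 8) rfl (by decide +kernel)

theorem b3692 : Block F al 945152 945408 247 :=
  block_of_check (k := 8) rfl (by decide +kernel)

theorem b3693 : Block F al 945408 945664 249 :=
  block_of_check (k := 8) rfl (by decide +kernel)

theorem b3694 : Block F al 945664 945920 253 :=
  block_of_check (k := 8) rfl (by decide +kernel)

theorem b3695 : Block F al 945920 946176 249 :=
  block_of_check (k := 8) rfl (by decide +kernel)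

theorem b3696 : Block F al 946176 946432 248 :=
  block_of_check (k := 8) rfl (by decide +kernel)

theorem b3697 : Block F al 946432 946688 253 :=
  block_of_check (k := 8) rfl (by decide +kernel)

theorem b3698 : Block F al 946688 946944 251 :=
  block_of_check (k := 8) rfl (by decide +kernel)

theorem b3699 : Block F al 946944 947200 251 :=
  block_of_check (k := 8) rfl (by decide +kernel)

theorem b3700 : Block F al 947200 947456 253 :=
  block_of_check (k := 8) rfl (by decide +kernel)

theorem b3701 : Block F al 947456 947712 243 :=
  block_of_check (k := 8) rfl (by decide +kernel)

theorem b3702 : Block F al 947712 947968 238 :=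
  block_of_check (k := 8) rfl (by decide +kernel)

end Cfsg.Agent.TcData.HN.I1539000
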