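import Mathlib
import Cfsg.Agent.TcData.HN.I1539000.Tab

set_option autoImplicit false
set_option Elab.async false
set_option maxRecDepth 100000
set_option linter.all false

namespace Cfsg.Agent.TcData.HN.I1539000

open Cfsg.Spor Cfsg.Agent.Lib.TcFacts Cfsg.Agent.Lib.TcBits Cfsg.Agent.Lib.TcPres Cfsg.Spor.HN Cfsg.Agent.TcData.HN

theorem b3703 : Block F al 947968 948224 250 :=
  block_of_check (k := 8) rfl (by decide +kernel)

theorem b3704 : Block F al 948224 948480 253 :=
  block_of_check (k := 8) rfl (by decide +kernel)

theorem b3705 : Block F al 948480 948736 246 :=
  block_of_check (k := 8) rfl (by decide +kernel)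

theorem b3706 : Block F al 948736 948992 254 :=
  block_of_check (k := 8) rfl (by decide +kernel)

theorem b3707 : Block F al 948992 949248 252 :=
  block_of_check (k := 8) rfl (by decide +kernel)

theorem b3708 : Block F al 949248 949504 250 :=
  block_of_check (k := 8) rfl (by decide +kernel)

theorem b3709 : Block F al 949504 949760 253 :=
  block_of_check (k := 8) rfl (by decide +kernel)

theorem b3710 : Block F al 949760 950016 248 :=
  block_of_check (k := 8) rfl (by decide +kernel)

theorem b3711 : Block F al 950016 950272 254 :=
  block_of_check (k := 8) rfl (by decide +kernel)

theorem b3712 : Block F al 950272 950528 254 :=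
  block_of_check (k := 8) rfl (by decide +kernel)

theorem b3713 : Block F al 950528 950784 252 :=
  block_of_check (k := 8) rfl (by decide +kernel)

theorem b3714 : Block F al 950784 951040 248 :=
  block_of_check (k := 8) rfl (by decide +kernel)

theorem b3715 : Block F al 951040 951296 249 :=
  block_of_check (k := 8) rfl (by decide +kernel)

theorem b3716 : Block F al 951296 951552 241 :=
  block_of_check (k := 8) rfl (by decide +kernel)

theorem b3717 : Block F al 951552 951808 245 :=
  block_of_check (k := 8) rfl (by decide +kernel)

theorem b3718 : Block F al 951808 952064 238 :=
  block_of_check (k := 8) rfl (by decide +kernel)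

theorem b3719 : Block F al 952064 952320 242 :=
  block_of_check (k := 8) rfl (by decide +kernel)

theorem b3720 : Block F al 952320 952576 246 :=
  block_of_check (k := 8) rfl (by decide +kernel)

theorem b3721 : Block F al 952576 952832 247 :=
  block_of_check (k := 8) rfl (by decide +kernel)

theorem b3722 : Block F al 952832 953088 245 :=
  block_of_check (k := 8) rfl (by decide +kernel)

theorem b3723 : Block F al 953088 953344 255 :=
  block_of_check (k := 8) rfl (by decide +kernel)

theorem b3724 : Block F al 953344 953600 247 :=
  block_of_check (k := 8) rfl (by decide +kernel)

theorem b3725 : Block F al 953600 953856 250 :=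
  block_of_check (k := 8) rfl (by decide +kernel)

theorem b3726 : Block F al 953856 954112 256 :=
  block_of_check (k := 8) rfl (by decide +kernel)

theorem b3727 : Block F al 954112 954368 252 :=
  block_of_check (k := 8) rfl (by decide +kernel)

theorem b3728 : Block F al 954368 954624 252 :=
  block_of_check (k := 8) rfl (by decide +kernel)

theorem b3729 : Block F al 954624 954880 252 :=
  block_of_check (k := 8) rfl (by decide +kernel)

theorem b3730 : Block F al 954880 955136 241 :=
  block_of_check (k := 8) rfl (by decide +kernel)

theorem b3731 : Block F al 955136 955392 238 :=
  block_of_check (k := 8) rfl (by decide +kernel)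

theorem b3732 : Block F al 955392 955648 242 :=
  block_of_check (k := 8) rfl (by decide +kernel)

theorem b3733 : Block F al 955648 955904 253 :=
  block_of_check (k := 8) rfl (by decide +kernel)

theorem b3734 : Block F al 955904 956160 239 :=
  block_of_check (k := 8) rfl (by decide +kernel)

theorem b3735 : Block F al 956160 956416 250 :=
  block_of_check (k := 8) rfl (by decide +kernel)

theorem b3736 : Block F al 956416 956672 243 :=
  block_of_check (k := 8) rfl (by decide +kernel)

theorem b3737 : Block F al 956672 956928 245 :=
  block_of_check (k := 8) rfl (by decide +kernel)

theorem b3738 : Block F al 956928 957184 253 :=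
  block_of_check (k := 8) rfl (by decide +kernel)

end Cfsg.Agent.TcData.HN.I1539000
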