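import Mathlib
import Cfsg.Agent.TcData.HN.I1539000.Tab

set_option autoImplicit false
set_option Elab.async false
set_option maxRecDepth 100000
set_option linter.all false

namespace Cfsg.Agent.TcData.HN.I1539000

open Cfsg.Spor Cfsg.Agent.Lib.TcFacts Cfsg.Agent.Lib.TcBits Cfsg.Agent.Lib.TcPres Cfsg.Spor.HN Cfsg.Agent.TcData.HN

theorem b3739 : Block F al 957184 957440 252 :=
  block_of_check (k := 8) rfl (by decide +kernel)

theorem b3740 : Block F al 957440 957696 251 :=
  block_of_check (k := 8) rfl (by decide +kernel)

theorem b3741 : Block F al 957696 957952 254 :=
  block_of_check (k := 8) rfl (by decide +kernel)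

theorem b3742 : Block F al 957952 958208 255 :=
  block_of_check (k := 8) rfl (by decide +kernel)

theorem b3743 : Block F al 958208 958464 254 :=
  block_of_check (k := 8) rfl (by decide +kernel)

theorem b3744 : Block F al 958464 958720 254 :=
  block_of_check (k := 8) rfl (by decide +kernel)

theorem b3745 : Block F al 958720 958976 251 :=
  block_of_check (k := 8) rfl (by decide +kernel)

theorem b3746 : Block F al 958976 959232 255 :=
  block_of_check (k := 8) rfl (by decide +kernel)

theorem b3747 : Block F al 959232 959488 252 :=
  block_of_check (k := 8) rfl (by decide +kernel)

theorem b3748 : Block F al 959488 959744 253 :=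
  block_of_check (k := 8) rfl (by decide +kernel)

theorem b3749 : Block F al 959744 960000 241 :=
  block_of_check (k := 8) rfl (by decide +kernel)

theorem b3750 : Block F al 960000 960256 253 :=
  block_of_check (k := 8) rfl (by decide +kernel)

theorem b3751 : Block F al 960256 960512 246 :=
  block_of_check (k := 8) rfl (by decide +kernel)

theorem b3752 : Block F al 960512 960768 246 :=
  block_of_check (k := 8) rfl (by decide +kernel)

theorem b3753 : Block F al 960768 961024 252 :=
  block_of_check (k := 8) rfl (by decide +kernel)

theorem b3754 : Block F al 961024 961280 249 :=
  block_of_check (k := 8) rfl (by decide +kernel)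

theorem b3755 : Block F al 961280 961536 246 :=
  block_of_check (k := 8) rfl (by decide +kernel)

theorem b3756 : Block F al 961536 961792 245 :=
  block_of_check (k := 8) rfl (by decide +kernel)

theorem b3757 : Block F al 961792 962048 253 :=
  block_of_check (k := 8) rfl (by decide +kernel)

theorem b3758 : Block F al 962048 962304 252 :=
  block_of_check (k := 8) rfl (by decide +kernel)

theorem b3759 : Block F al 962304 962560 252 :=
  block_of_check (k := 8) rfl (by decide +kernel)

theorem b3760 : Block F al 962560 962816 252 :=
  block_of_check (k := 8) rfl (by decide +kernel)

theorem b3761 : Block F al 962816 963072 249 :=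
  block_of_check (k := 8) rfl (by decide +kernel)

theorem b3762 : Block F al 963072 963328 252 :=
  block_of_check (k := 8) rfl (by decide +kernel)

theorem b3763 : Block F al 963328 963584 239 :=
  block_of_check (k := 8) rfl (by decide +kernel)

theorem b3764 : Block F al 963584 963840 247 :=
  block_of_check (k := 8) rfl (by decide +kernel)

theorem b3765 : Block F al 963840 964096 237 :=
  block_of_check (k := 8) rfl (by decide +kernel)

theorem b3766 : Block F al 964096 964352 244 :=
  block_of_check (k := 8) rfl (by decide +kernel)

theorem b3767 : Block F al 964352 964608 249 :=
  block_of_check (k := 8) rfl (by decide +kernel)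

theorem b3768 : Block F al 964608 964864 251 :=
  block_of_check (k := 8) rfl (by decide +kernel)

theorem b3769 : Block F al 964864 965120 249 :=
  block_of_check (k := 8) rfl (by decide +kernel)

theorem b3770 : Block F al 965120 965376 254 :=
  block_of_check (k := 8) rfl (by decide +kernel)

theorem b3771 : Block F al 965376 965632 246 :=
  block_of_check (k := 8) rfl (by decide +kernel)

theorem b3772 : Block F al 965632 965888 246 :=
  block_of_check (k := 8) rfl (by decide +kernel)

theorem b3773 : Block F al 965888 966144 249 :=
  block_of_check (k := 8) rfl (by decide +kernel)

theorem b3774 : Block F al 966144 966400 250 :=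
  block_of_check (k := 8) rfl (by decide +kernel)

theorem b3775 : Block F al 966400 966656 251 :=
  block_of_check (k := 8) rfl (by decide +kernel)

end Cfsg.Agent.TcData.HN.I1539000
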