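import Mathlib
import Cfsg.Agent.TcData.HN.I1539000.Tab

set_option autoImplicit false
set_option Elab.async false
set_option maxRecDepth 100000
set_option linter.all false

namespace Cfsg.Agent.TcData.HN.I1539000

open Cfsg.Spor Cfsg.Agent.Lib.TcFacts Cfsg.Agent.Lib.TcBits Cfsg.Agent.Lib.TcPres Cfsg.Spor.HN Cfsg.Agent.TcData.HN

theorem b3776 : Block F al 966656 966912 256 :=
  block_of_check (k := 8) rfl (by decide +kernel)

theorem b3777 : Block F al 966912 967168 250 :=
  block_of_check (k := 8) rfl (by decide +kernel)

theorem b3778 : Block F al 967168 967424 247 :=
  block_of_check (k := 8) rfl (by decide +kernel)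

theorem b3779 : Block F al 967424 967680 248 :=
  block_of_check (k := 8) rfl (by decide +kernel)

theorem b3780 : Block F al 967680 967936 249 :=
  block_of_check (k := 8) rfl (by decide +kernel)

theorem b3781 : Block F al 967936 968192 248 :=
  block_of_check (k := 8) rfl (by decide +kernel)

theorem b3782 : Block F al 968192 968448 245 :=
  block_of_check (k := 8) rfl (by decide +kernel)

theorem b3783 : Block F al 968448 968704 250 :=
  block_of_check (k := 8) rfl (by decide +kernel)

theorem b3784 : Block F al 968704 968960 249 :=
  block_of_check (k := 8) rfl (by decide +kernel)

theorem b3785 : Block F al 968960 969216 249 :=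
  block_of_check (k := 8) rfl (by decide +kernel)

theorem b3786 : Block F al 969216 969472 250 :=
  block_of_check (k := 8) rfl (by decide +kernel)

theorem b3787 : Block F al 969472 969728 245 :=
  block_of_check (k := 8) rfl (by decide +kernel)

theorem b3788 : Block F al 969728 969984 238 :=
  block_of_check (k := 8) rfl (by decide +kernel)

theorem b3789 : Block F al 969984 970240 244 :=
  block_of_check (k := 8) rfl (by decide +kernel)

theorem b3790 : Block F al 970240 970496 252 :=
  block_of_check (k := 8) rfl (by decide +kernel)

theorem b3791 : Block F al 970496 970752 248 :=
  block_of_check (k := 8) rfl (by decide +kernel)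

theorem b3792 : Block F al 970752 971008 234 :=
  block_of_check (k := 8) rfl (by decide +kernel)

theorem b3793 : Block F al 971008 971264 243 :=
  block_of_check (k := 8) rfl (by decide +kernel)

theorem b3794 : Block F al 971264 971520 242 :=
  block_of_check (k := 8) rfl (by decide +kernel)

theorem b3795 : Block F al 971520 971776 242 :=
  block_of_check (k := 8) rfl (by decide +kernel)

theorem b3796 : Block F al 971776 972032 251 :=
  block_of_check (k := 8) rfl (by decide +kernel)

theorem b3797 : Block F al 972032 972288 245 :=
  block_of_check (k := 8) rfl (by decide +kernel)

theorem b3798 : Block F al 972288 972544 239 :=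
  block_of_check (k := 8) rfl (by decide +kernel)

theorem b3799 : Block F al 972544 972800 248 :=
  block_of_check (k := 8) rfl (by decide +kernel)

theorem b3800 : Block F al 972800 973056 229 :=
  block_of_check (k := 8) rfl (by decide +kernel)

theorem b3801 : Block F al 973056 973312 250 :=
  block_of_check (k := 8) rfl (by decide +kernel)

theorem b3802 : Block F al 973312 973568 249 :=
  block_of_check (k := 8) rfl (by decide +kernel)

theorem b3803 : Block F al 973568 973824 245 :=
  block_of_check (k := 8) rfl (by decide +kernel)

theorem b3804 : Block F al 973824 974080 249 :=
  block_of_check (k := 8) rfl (by decide +kernel)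

theorem b3805 : Block F al 974080 974336 250 :=
  block_of_check (k := 8) rfl (by decide +kernel)

theorem b3806 : Block F al 974336 974592 246 :=
  block_of_check (k := 8) rfl (by decide +kernel)

theorem b3807 : Block F al 974592 974848 236 :=
  block_of_check (k := 8) rfl (by decide +kernel)

theorem b3808 : Block F al 974848 975104 248 :=
  block_of_check (k := 8) rfl (by decide +kernel)

theorem b3809 : Block F al 975104 975360 252 :=
  block_of_check (k := 8) rfl (by decide +kernel)

theorem b3810 : Block F al 975360 975616 243 :=
  block_of_check (k := 8) rfl (by decide +kernel)

theorem b3811 : Block F al 975616 975872 245 :=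
  block_of_check (k := 8) rfl (by decide +kernel)

theorem b3812 : Block F al 975872 976128 252 :=
  block_of_check (k := 8) rfl (by decide +kernel)

end Cfsg.Agent.TcData.HN.I1539000
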