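import Mathlib
import Cfsg.Agent.TcData.HN.I1539000.Tab

set_option autoImplicit false
set_option Elab.async false
set_option maxRecDepth 100000
set_option linter.all false

namespace Cfsg.Agent.TcData.HN.I1539000

open Cfsg.Spor Cfsg.Agent.Lib.TcFacts Cfsg.Agent.Lib.TcBits Cfsg.Agent.Lib.TcPres Cfsg.Spor.HN Cfsg.Agent.TcData.HN

theorem b3813 : Block F al 976128 976384 244 :=
  block_of_check (k := 8) rfl (by decide +kernel)

theorem b3814 : Block F al 976384 976640 231 :=
  block_of_check (k := 8) rfl (by decide +kernel)

theorem b3815 : Block F al 976640 976896 250 :=
  block_of_check (k := 8) rfl (by decide +kernel)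

theorem b3816 : Block F al 976896 977152 251 :=
  block_of_check (k := 8) rfl (by decide +kernel)

theorem b3817 : Block F al 977152 977408 244 :=
  block_of_check (k := 8) rfl (by decide +kernel)

theorem b3818 : Block F al 977408 977664 240 :=
  block_of_check (k := 8) rfl (by decide +kernel)

theorem b3819 : Block F al 977664 977920 243 :=
  block_of_check (k := 8) rfl (by decide +kernel)

theorem b3820 : Block F al 977920 978176 247 :=
  block_of_check (k := 8) rfl (by decide +kernel)

theorem b3821 : Block F al 978176 978432 253 :=
  block_of_check (k := 8) rfl (by decide +kernel)

theorem b3822 : Block F al 978432 978688 245 :=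
  block_of_check (k := 8) rfl (by decide +kernel)

theorem b3823 : Block F al 978688 978944 236 :=
  block_of_check (k := 8) rfl (by decide +kernel)

theorem b3824 : Block F al 978944 979200 248 :=
  block_of_check (k := 8) rfl (by decide +kernel)

theorem b3825 : Block F al 979200 979456 247 :=
  block_of_check (k := 8) rfl (by decide +kernel)

theorem b3826 : Block F al 979456 979712 247 :=
  block_of_check (k := 8) rfl (by decide +kernel)

theorem b3827 : Block F al 979712 979968 251 :=
  block_of_check (k := 8) rfl (by decide +kernel)

theorem b3828 : Block F al 979968 980224 242 :=
  block_of_check (k := 8) rfl (by decide +kernel)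

theorem b3829 : Block F al 980224 980480 241 :=
  block_of_check (k := 8) rfl (by decide +kernel)

theorem b3830 : Block F al 980480 980736 243 :=
  block_of_check (k := 8) rfl (by decide +kernel)

theorem b3831 : Block F al 980736 980992 233 :=
  block_of_check (k := 8) rfl (by decide +kernel)

theorem b3832 : Block F al 980992 981248 238 :=
  block_of_check (k := 8) rfl (by decide +kernel)

theorem b3833 : Block F al 981248 981504 247 :=
  block_of_check (k := 8) rfl (by decide +kernel)

theorem b3834 : Block F al 981504 981760 247 :=
  block_of_check (k := 8) rfl (by decide +kernel)

theorem b3835 : Block F al 981760 982016 250 :=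
  block_of_check (k := 8) rfl (by decide +kernel)

theorem b3836 : Block F al 982016 982272 241 :=
  block_of_check (k := 8) rfl (by decide +kernel)

theorem b3837 : Block F al 982272 982528 245 :=
  block_of_check (k := 8) rfl (by decide +kernel)

theorem b3838 : Block F al 982528 982784 249 :=
  block_of_check (k := 8) rfl (by decide +kernel)

theorem b3839 : Block F al 982784 983040 241 :=
  block_of_check (k := 8) rfl (by decide +kernel)

theorem b3840 : Block F al 983040 983296 247 :=
  block_of_check (k := 8) rfl (by decide +kernel)

theorem b3841 : Block F al 983296 983552 253 :=
  block_of_check (k := 8) rfl (by decide +kernel)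

theorem b3842 : Block F al 983552 983808 240 :=
  block_of_check (k := 8) rfl (by decide +kernel)

theorem b3843 : Block F al 983808 984064 241 :=
  block_of_check (k := 8) rfl (by decide +kernel)

theorem b3844 : Block F al 984064 984320 247 :=
  block_of_check (k := 8) rfl (by decide +kernel)

theorem b3845 : Block F al 984320 984576 243 :=
  block_of_check (k := 8) rfl (by decide +kernel)

theorem b3846 : Block F al 984576 984832 251 :=
  block_of_check (k := 8) rfl (by decide +kernel)

theorem b3847 : Block F al 984832 985088 242 :=
  block_of_check (k := 8) rfl (by decide +kernel)

theorem b3848 : Block F al 985088 985344 240 :=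
  block_of_check (k := 8) rfl (by decide +kernel)

theorem b3849 : Block F al 985344 985600 240 :=
  block_of_check (k := 8) rfl (by decide +kernel)

theorem b3850 : Block F al 985600 985856 230 :=
  block_of_check (k := 8) rfl (by decide +kernel)

end Cfsg.Agent.TcData.HN.I1539000
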