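import Mathlib
import Cfsg.Agent.TcData.HN.I1539000.Tab

set_option autoImplicit false
set_option Elab.async false
set_option maxRecDepth 100000
set_option linter.all false

namespace Cfsg.Agent.TcData.HN.I1539000

open Cfsg.Spor Cfsg.Agent.Lib.TcFacts Cfsg.Agent.Lib.TcBits Cfsg.Agent.Lib.TcPres Cfsg.Spor.HN Cfsg.Agent.TcData.HN

theorem b3851 : Block F al 985856 986112 243 :=
  block_of_check (k := 8) rfl (by decide +kernel)

theorem b3852 : Block F al 986112 986368 254 :=
  block_of_check (k := 8) rfl (by decide +kernel)

theorem b3853 : Block F al 986368 986624 254 :=
  block_of_check (k := 8) rfl (by decide +kernel)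

theorem b3854 : Block F al 986624 986880 250 :=
  block_of_check (k := 8) rfl (by decide +kernel)

theorem b3855 : Block F al 986880 987136 244 :=
  block_of_check (k := 8) rfl (by decide +kernel)

theorem b3856 : Block F al 987136 987392 253 :=
  block_of_check (k := 8) rfl (by decide +kernel)

theorem b3857 : Block F al 987392 987648 253 :=
  block_of_check (k := 8) rfl (by decide +kernel)

theorem b3858 : Block F al 987648 987904 253 :=
  block_of_check (k := 8) rfl (by decide +kernel)

theorem b3859 : Block F al 987904 988160 254 :=
  block_of_check (k := 8) rfl (by decide +kernel)

theorem b3860 : Block F al 988160 988416 239 :=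
  block_of_check (k := 8) rfl (by decide +kernel)

theorem b3861 : Block F al 988416 988672 254 :=
  block_of_check (k := 8) rfl (by decide +kernel)

theorem b3862 : Block F al 988672 988928 251 :=
  block_of_check (k := 8) rfl (by decide +kernel)

theorem b3863 : Block F al 988928 989184 256 :=
  block_of_check (k := 8) rfl (by decide +kernel)

theorem b3864 : Block F al 989184 989440 253 :=
  block_of_check (k := 8) rfl (by decide +kernel)

theorem b3865 : Block F al 989440 989696 253 :=
  block_of_check (k := 8) rfl (by decide +kernel)

theorem b3866 : Block F al 989696 989952 252 :=
  block_of_check (k := 8) rfl (by decide +kernel)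

theorem b3867 : Block F al 989952 990208 247 :=
  block_of_check (k := 8) rfl (by decide +kernel)

theorem b3868 : Block F al 990208 990464 240 :=
  block_of_check (k := 8) rfl (by decide +kernel)

theorem b3869 : Block F al 990464 990720 250 :=
  block_of_check (k := 8) rfl (by decide +kernel)

theorem b3870 : Block F al 990720 990976 250 :=
  block_of_check (k := 8) rfl (by decide +kernel)

theorem b3871 : Block F al 990976 991232 253 :=
  block_of_check (k := 8) rfl (by decide +kernel)

theorem b3872 : Block F al 991232 991488 252 :=
  block_of_check (k := 8) rfl (by decide +kernel)

theorem b3873 : Block F al 991488 991744 254 :=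
  block_of_check (k := 8) rfl (by decide +kernel)

theorem b3874 : Block F al 991744 992000 252 :=
  block_of_check (k := 8) rfl (by decide +kernel)

theorem b3875 : Block F al 992000 992256 252 :=
  block_of_check (k := 8) rfl (by decide +kernel)

theorem b3876 : Block F al 992256 992512 252 :=
  block_of_check (k := 8) rfl (by decide +kernel)

theorem b3877 : Block F al 992512 992768 252 :=
  block_of_check (k := 8) rfl (by decide +kernel)

theorem b3878 : Block F al 992768 993024 245 :=
  block_of_check (k := 8) rfl (by decide +kernel)

theorem b3879 : Block F al 993024 993280 254 :=
  block_of_check (k := 8) rfl (by decide +kernel)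

theorem b3880 : Block F al 993280 993536 256 :=
  block_of_check (k := 8) rfl (by decide +kernel)

theorem b3881 : Block F al 993536 993792 254 :=
  block_of_check (k := 8) rfl (by decide +kernel)

theorem b3882 : Block F al 993792 994048 251 :=
  block_of_check (k := 8) rfl (by decide +kernel)

theorem b3883 : Block F al 994048 994304 249 :=
  block_of_check (k := 8) rfl (by decide +kernel)

theorem b3884 : Block F al 994304 994560 247 :=
  block_of_check (k := 8) rfl (by decide +kernel)

theorem b3885 : Block F al 994560 994816 250 :=
  block_of_check (k := 8) rfl (by decide +kernel)

theorem b3886 : Block F al 994816 995072 252 :=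
  block_of_check (k := 8) rfl (by decide +kernel)

end Cfsg.Agent.TcData.HN.I1539000
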