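import Mathlib
import Cfsg.Agent.TcData.HN.I1539000.Tab

set_option autoImplicit false
set_option Elab.async false
set_option maxRecDepth 100000
set_option linter.all false

namespace Cfsg.Agent.TcData.HN.I1539000

open Cfsg.Spor Cfsg.Agent.Lib.TcFacts Cfsg.Agent.Lib.TcBits Cfsg.Agent.Lib.TcPres Cfsg.Spor.HN Cfsg.Agent.TcData.HN

theorem b477 : Block F al 122112 122368 253 :=
  block_of_check (k := 8) rfl (by decide +kernel)

theorem b478 : Block F al 122368 122624 236 :=
  block_of_check (k := 8) rfl (by decide +kernel)

theorem b479 : Block F al 122624 122880 242 :=
  block_of_check (k := 8) rfl (by decide +kernel)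

theorem b480 : Block F al 122880 123136 245 :=
  block_of_check (k := 8) rfl (by decide +kernel)

theorem b481 : Block F al 123136 123392 244 :=
  block_of_check (k := 8) rfl (by decide +kernel)

theorem b482 : Block F al 123392 123648 231 :=
  block_of_check (k := 8) rfl (by decide +kernel)

theorem b483 : Block F al 123648 123904 203 :=
  block_of_check (k := 8) rfl (by decide +kernel)

theorem b484 : Block F al 123904 124160 201 :=
  block_of_check (k := 8) rfl (by decide +kernel)

theorem b485 : Block F al 124160 124416 230 :=
  block_of_check (k := 8) rfl (by decide +kernel)

theorem b486 : Block F al 124416 124672 212 :=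
  block_of_check (k := 8) rfl (by decide +kernel)

theorem b487 : Block F al 124672 124928 208 :=
  block_of_check (k := 8) rfl (by decide +kernel)

theorem b488 : Block F al 124928 125184 239 :=
  block_of_check (k := 8) rfl (by decide +kernel)

theorem b489 : Block F al 125184 125440 206 :=
  block_of_check (k := 8) rfl (by decide +kernel)

theorem b490 : Block F al 125440 125696 196 :=
  block_of_check (k := 8) rfl (by decide +kernel)

theorem b491 : Block F al 125696 125952 235 :=
  block_of_check (k := 8) rfl (by decide +kernel)

theorem b492 : Block F al 125952 126208 243 :=
  block_of_check (k := 8) rfl (by decide +kernel)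

theorem b493 : Block F al 126208 126464 235 :=
  block_of_check (k := 8) rfl (by decide +kernel)

theorem b494 : Block F al 126464 126720 244 :=
  block_of_check (k := 8) rfl (by decide +kernel)

theorem b495 : Block F al 126720 126976 239 :=
  block_of_check (k := 8) rfl (by decide +kernel)

theorem b496 : Block F al 126976 127232 206 :=
  block_of_check (k := 8) rfl (by decide +kernel)

theorem b497 : Block F al 127232 127488 197 :=
  block_of_check (k := 8) rfl (by decide +kernel)

theorem b498 : Block F al 127488 127744 235 :=
  block_of_check (k := 8) rfl (by decide +kernel)

theorem b499 : Block F al 127744 128000 236 :=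
  block_of_check (k := 8) rfl (by decide +kernel)

theorem b500 : Block F al 128000 128256 221 :=
  block_of_check (k := 8) rfl (by decide +kernel)

theorem b501 : Block F al 128256 128512 230 :=
  block_of_check (k := 8) rfl (by decide +kernel)

theorem b502 : Block F al 128512 128768 244 :=
  block_of_check (k := 8) rfl (by decide +kernel)

theorem b503 : Block F al 128768 129024 225 :=
  block_of_check (k := 8) rfl (by decide +kernel)

theorem b504 : Block F al 129024 129280 226 :=
  block_of_check (k := 8) rfl (by decide +kernel)

theorem b505 : Block F al 129280 129536 185 :=
  block_of_check (k := 8) rfl (by decide +kernel)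

theorem b506 : Block F al 129536 129792 247 :=
  block_of_check (k := 8) rfl (by decide +kernel)

theorem b507 : Block F al 129792 130048 246 :=
  block_of_check (k := 8) rfl (by decide +kernel)

theorem b508 : Block F al 130048 130304 252 :=
  block_of_check (k := 8) rfl (by decide +kernel)

theorem b509 : Block F al 130304 130560 225 :=
  block_of_check (k := 8) rfl (by decide +kernel)

theorem b510 : Block F al 130560 130816 247 :=
  block_of_check (k := 8) rfl (by decide +kernel)

theorem b511 : Block F al 130816 131072 248 :=
  block_of_check (k := 8) rfl (by decide +kernel)

theorem b512 : Block F al 131072 131328 246 :=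
  block_of_check (k := 8) rfl (by decide +kernel)

theorem b513 : Block F al 131328 131584 244 :=
  block_of_check (k := 8) rfl (by decide +kernel)

theorem b514 : Block F al 131584 131840 253 :=
  block_of_check (k := 8) rfl (by decide +kernel)

theorem b515 : Block F al 131840 132096 239 :=
  block_of_check (k := 8) rfl (by decide +kernel)

theorem b516 : Block F al 132096 132352 246 :=
  block_of_check (k := 8) rfl (by decide +kernel)

theorem b517 : Block F al 132352 132608 244 :=
  block_of_check (k := 8) rfl (by decide +kernel)

theorem b518 : Block F al 132608 132864 235 :=
  block_of_check (k := 8) rfl (by decide +kernel)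

theorem b519 : Block F al 132864 133120 238 :=
  block_of_check (k := 8) rfl (by decide +kernel)

theorem b520 : Block F al 133120 133376 244 :=
  block_of_check (k := 8) rfl (by decide +kernel)

theorem b521 : Block F al 133376 133632 244 :=
  block_of_check (k := 8) rfl (by decide +kernel)

theorem b522 : Block F al 133632 133888 241 :=
  block_of_check (k := 8) rfl (by decide +kernel)

theorem b523 : Block F al 133888 134144 221 :=
  block_of_check (k := 8) rfl (by decide +kernel)

theorem b524 : Block F al 134144 134400 239 :=
  block_of_check (k := 8) rfl (by decide +kernel)

theorem b525 : Block F al 134400 134656 224 :=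
  block_of_check (k := 8) rfl (by decide +kernel)

theorem b526 : Block F al 134656 134912 237 :=
  block_of_check (k := 8) rfl (by decide +kernel)

theorem b527 : Block F al 134912 135168 242 :=
  block_of_check (k := 8) rfl (by decide +kernel)

end Cfsg.Agent.TcData.HN.I1539000
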