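import Mathlib
import Cfsg.Agent.TcData.HN.I1539000.Tab

set_option autoImplicit false
set_option Elab.async false
set_option maxRecDepth 100000
set_option linter.all false

namespace Cfsg.Agent.TcData.HN.I1539000

open Cfsg.Spor Cfsg.Agent.Lib.TcFacts Cfsg.Agent.Lib.TcBits Cfsg.Agent.Lib.TcPres Cfsg.Spor.HN Cfsg.Agent.TcData.HN

theorem b3887 : Block F al 995072 995328 250 :=
  block_of_check (k := 8) rfl (by decide +kernel)

theorem b3888 : Block F al 995328 995584 244 :=
  block_of_check (k := 8) rfl (by decide +kernel)

theorem b3889 : Block F al 995584 995840 251 :=
  block_of_check (k := 8) rfl (by decide +kernel)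

theorem b3890 : Block F al 995840 996096 240 :=
  block_of_check (k := 8) rfl (by decide +kernel)

theorem b3891 : Block F al 996096 996352 248 :=
  block_of_check (k := 8) rfl (by decide +kernel)

theorem b3892 : Block F al 996352 996608 252 :=
  block_of_check (k := 8) rfl (by decide +kernel)

theorem b3893 : Block F al 996608 996864 251 :=
  block_of_check (k := 8) rfl (by decide +kernel)

theorem b3894 : Block F al 996864 997120 247 :=
  block_of_check (k := 8) rfl (by decide +kernel)

theorem b3895 : Block F al 997120 997376 247 :=
  block_of_check (k := 8) rfl (by decide +kernel)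

theorem b3896 : Block F al 997376 997632 253 :=
  block_of_check (k := 8) rfl (by decide +kernel)

theorem b3897 : Block F al 997632 997888 251 :=
  block_of_check (k := 8) rfl (by decide +kernel)

theorem b3898 : Block F al 997888 998144 255 :=
  block_of_check (k := 8) rfl (by decide +kernel)

theorem b3899 : Block F al 998144 998400 248 :=
  block_of_check (k := 8) rfl (by decide +kernel)

theorem b3900 : Block F al 998400 998656 250 :=
  block_of_check (k := 8) rfl (by decide +kernel)

theorem b3901 : Block F al 998656 998912 254 :=
  block_of_check (k := 8) rfl (by decide +kernel)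

theorem b3902 : Block F al 998912 999168 250 :=
  block_of_check (k := 8) rfl (by decide +kernel)

theorem b3903 : Block F al 999168 999424 256 :=
  block_of_check (k := 8) rfl (by decide +kernel)

theorem b3904 : Block F al 999424 999680 248 :=
  block_of_check (k := 8) rfl (by decide +kernel)

theorem b3905 : Block F al 999680 999936 252 :=
  block_of_check (k := 8) rfl (by decide +kernel)

theorem b3906 : Block F al 999936 1000192 245 :=
  block_of_check (k := 8) rfl (by decide +kernel)

theorem b3907 : Block F al 1000192 1000448 255 :=
  block_of_check (k := 8) rfl (by decide +kernel)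

theorem b3908 : Block F al 1000448 1000704 255 :=
  block_of_check (k := 8) rfl (by decide +kernel)

theorem b3909 : Block F al 1000704 1000960 248 :=
  block_of_check (k := 8) rfl (by decide +kernel)

theorem b3910 : Block F al 1000960 1001216 240 :=
  block_of_check (k := 8) rfl (by decide +kernel)

theorem b3911 : Block F al 1001216 1001472 245 :=
  block_of_check (k := 8) rfl (by decide +kernel)

theorem b3912 : Block F al 1001472 1001728 252 :=
  block_of_check (k := 8) rfl (by decide +kernel)

theorem b3913 : Block F al 1001728 1001984 245 :=
  block_of_check (k := 8) rfl (by decide +kernel)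

theorem b3914 : Block F al 1001984 1002240 244 :=
  block_of_check (k := 8) rfl (by decide +kernel)

theorem b3915 : Block F al 1002240 1002496 234 :=
  block_of_check (k := 8) rfl (by decide +kernel)

theorem b3916 : Block F al 1002496 1002752 254 :=
  block_of_check (k := 8) rfl (by decide +kernel)

theorem b3917 : Block F al 1002752 1003008 254 :=
  block_of_check (k := 8) rfl (by decide +kernel)

theorem b3918 : Block F al 1003008 1003264 242 :=
  block_of_check (k := 8) rfl (by decide +kernel)

theorem b3919 : Block F al 1003264 1003520 243 :=
  block_of_check (k := 8) rfl (by decide +kernel)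

theorem b3920 : Block F al 1003520 1003776 242 :=
  block_of_check (k := 8) rfl (by decide +kernel)

theorem b3921 : Block F al 1003776 1004032 247 :=
  block_of_check (k := 8) rfl (by decide +kernel)

theorem b3922 : Block F al 1004032 1004288 244 :=
  block_of_check (k := 8) rfl (by decide +kernel)

end Cfsg.Agent.TcData.HN.I1539000
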