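import Mathlib
import Cfsg.Agent.TcData.HN.I1539000.Tab

set_option autoImplicit false
set_option Elab.async false
set_option maxRecDepth 100000
set_option linter.all false

namespace Cfsg.Agent.TcData.HN.I1539000

open Cfsg.Spor Cfsg.Agent.Lib.TcFacts Cfsg.Agent.Lib.TcBits Cfsg.Agent.Lib.TcPres Cfsg.Spor.HN Cfsg.Agent.TcData.HN

theorem b3923 : Block F al 1004288 1004544 244 :=
  block_of_check (k := 8) rfl (by decide +kernel)

theorem b3924 : Block F al 1004544 1004800 249 :=
  block_of_check (k := 8) rfl (by decide +kernel)

theorem b3925 : Block F al 1004800 1005056 249 :=
  block_of_check (k := 8) rfl (by decide +kernel)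

theorem b3926 : Block F al 1005056 1005312 249 :=
  block_of_check (k := 8) rfl (by decide +kernel)

theorem b3927 : Block F al 1005312 1005568 239 :=
  block_of_check (k := 8) rfl (by decide +kernel)

theorem b3928 : Block F al 1005568 1005824 250 :=
  block_of_check (k := 8) rfl (by decide +kernel)

theorem b3929 : Block F al 1005824 1006080 247 :=
  block_of_check (k := 8) rfl (by decide +kernel)

theorem b3930 : Block F al 1006080 1006336 246 :=
  block_of_check (k := 8) rfl (by decide +kernel)

theorem b3931 : Block F al 1006336 1006592 246 :=
  block_of_check (k := 8) rfl (by decide +kernel)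

theorem b3932 : Block F al 1006592 1006848 249 :=
  block_of_check (k := 8) rfl (by decide +kernel)

theorem b3933 : Block F al 1006848 1007104 248 :=
  block_of_check (k := 8) rfl (by decide +kernel)

theorem b3934 : Block F al 1007104 1007360 246 :=
  block_of_check (k := 8) rfl (by decide +kernel)

theorem b3935 : Block F al 1007360 1007616 248 :=
  block_of_check (k := 8) rfl (by decide +kernel)

theorem b3936 : Block F al 1007616 1007872 251 :=
  block_of_check (k := 8) rfl (by decide +kernel)

theorem b3937 : Block F al 1007872 1008128 252 :=
  block_of_check (k := 8) rfl (by decide +kernel)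

theorem b3938 : Block F al 1008128 1008384 244 :=
  block_of_check (k := 8) rfl (by decide +kernel)

theorem b3939 : Block F al 1008384 1008640 248 :=
  block_of_check (k := 8) rfl (by decide +kernel)

theorem b3940 : Block F al 1008640 1008896 248 :=
  block_of_check (k := 8) rfl (by decide +kernel)

theorem b3941 : Block F al 1008896 1009152 244 :=
  block_of_check (k := 8) rfl (by decide +kernel)

theorem b3942 : Block F al 1009152 1009408 248 :=
  block_of_check (k := 8) rfl (by decide +kernel)

theorem b3943 : Block F al 1009408 1009664 255 :=
  block_of_check (k := 8) rfl (by decide +kernel)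

theorem b3944 : Block F al 1009664 1009920 249 :=
  block_of_check (k := 8) rfl (by decide +kernel)

theorem b3945 : Block F al 1009920 1010176 254 :=
  block_of_check (k := 8) rfl (by decide +kernel)

theorem b3946 : Block F al 1010176 1010432 249 :=
  block_of_check (k := 8) rfl (by decide +kernel)

theorem b3947 : Block F al 1010432 1010688 246 :=
  block_of_check (k := 8) rfl (by decide +kernel)

theorem b3948 : Block F al 1010688 1010944 252 :=
  block_of_check (k := 8) rfl (by decide +kernel)

theorem b3949 : Block F al 1010944 1011200 247 :=
  block_of_check (k := 8) rfl (by decide +kernel)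

theorem b3950 : Block F al 1011200 1011456 249 :=
  block_of_check (k := 8) rfl (by decide +kernel)

theorem b3951 : Block F al 1011456 1011712 247 :=
  block_of_check (k := 8) rfl (by decide +kernel)

theorem b3952 : Block F al 1011712 1011968 246 :=
  block_of_check (k := 8) rfl (by decide +kernel)

theorem b3953 : Block F al 1011968 1012224 254 :=
  block_of_check (k := 8) rfl (by decide +kernel)

theorem b3954 : Block F al 1012224 1012480 254 :=
  block_of_check (k := 8) rfl (by decide +kernel)

theorem b3955 : Block F al 1012480 1012736 252 :=
  block_of_check (k := 8) rfl (by decide +kernel)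

theorem b3956 : Block F al 1012736 1012992 250 :=
  block_of_check (k := 8) rfl (by decide +kernel)

theorem b3957 : Block F al 1012992 1013248 256 :=
  block_of_check (k := 8) rfl (by decide +kernel)

end Cfsg.Agent.TcData.HN.I1539000
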