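import Mathlib
import Cfsg.Agent.TcData.HN.I1539000.Tab

set_option autoImplicit false
set_option Elab.async false
set_option maxRecDepth 100000
set_option linter.all false

namespace Cfsg.Agent.TcData.HN.I1539000

open Cfsg.Spor Cfsg.Agent.Lib.TcFacts Cfsg.Agent.Lib.TcBits Cfsg.Agent.Lib.TcPres Cfsg.Spor.HN Cfsg.Agent.TcData.HN

theorem b3958 : Block F al 1013248 1013504 246 :=
  block_of_check (k := 8) rfl (by decide +kernel)

theorem b3959 : Block F al 1013504 1013760 249 :=
  block_of_check (k := 8) rfl (by decide +kernel)

theorem b3960 : Block F al 1013760 1014016 253 :=
  block_of_check (k := 8) rfl (by decide +kernel)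

theorem b3961 : Block F al 1014016 1014272 252 :=
  block_of_check (k := 8) rfl (by decide +kernel)

theorem b3962 : Block F al 1014272 1014528 251 :=
  block_of_check (k := 8) rfl (by decide +kernel)

theorem b3963 : Block F al 1014528 1014784 254 :=
  block_of_check (k := 8) rfl (by decide +kernel)

theorem b3964 : Block F al 1014784 1015040 251 :=
  block_of_check (k := 8) rfl (by decide +kernel)

theorem b3965 : Block F al 1015040 1015296 255 :=
  block_of_check (k := 8) rfl (by decide +kernel)

theorem b3966 : Block F al 1015296 1015552 254 :=
  block_of_check (k := 8) rfl (by decide +kernel)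

theorem b3967 : Block F al 1015552 1015808 256 :=
  block_of_check (k := 8) rfl (by decide +kernel)

theorem b3968 : Block F al 1015808 1016064 254 :=
  block_of_check (k := 8) rfl (by decide +kernel)

theorem b3969 : Block F al 1016064 1016320 247 :=
  block_of_check (k := 8) rfl (by decide +kernel)

theorem b3970 : Block F al 1016320 1016576 247 :=
  block_of_check (k := 8) rfl (by decide +kernel)

theorem b3971 : Block F al 1016576 1016832 251 :=
  block_of_check (k := 8) rfl (by decide +kernel)

theorem b3972 : Block F al 1016832 1017088 251 :=
  block_of_check (k := 8) rfl (by decide +kernel)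

theorem b3973 : Block F al 1017088 1017344 242 :=
  block_of_check (k := 8) rfl (by decide +kernel)

theorem b3974 : Block F al 1017344 1017600 250 :=
  block_of_check (k := 8) rfl (by decide +kernel)

theorem b3975 : Block F al 1017600 1017856 246 :=
  block_of_check (k := 8) rfl (by decide +kernel)

theorem b3976 : Block F al 1017856 1018112 242 :=
  block_of_check (k := 8) rfl (by decide +kernel)

theorem b3977 : Block F al 1018112 1018368 245 :=
  block_of_check (k := 8) rfl (by decide +kernel)

theorem b3978 : Block F al 1018368 1018624 245 :=
  block_of_check (k := 8) rfl (by decide +kernel)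

theorem b3979 : Block F al 1018624 1018880 255 :=
  block_of_check (k := 8) rfl (by decide +kernel)

theorem b3980 : Block F al 1018880 1019136 249 :=
  block_of_check (k := 8) rfl (by decide +kernel)

theorem b3981 : Block F al 1019136 1019392 251 :=
  block_of_check (k := 8) rfl (by decide +kernel)

theorem b3982 : Block F al 1019392 1019648 256 :=
  block_of_check (k := 8) rfl (by decide +kernel)

theorem b3983 : Block F al 1019648 1019904 255 :=
  block_of_check (k := 8) rfl (by decide +kernel)

theorem b3984 : Block F al 1019904 1020160 251 :=
  block_of_check (k := 8) rfl (by decide +kernel)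

theorem b3985 : Block F al 1020160 1020416 247 :=
  block_of_check (k := 8) rfl (by decide +kernel)

theorem b3986 : Block F al 1020416 1020672 251 :=
  block_of_check (k := 8) rfl (by decide +kernel)

theorem b3987 : Block F al 1020672 1020928 243 :=
  block_of_check (k := 8) rfl (by decide +kernel)

theorem b3988 : Block F al 1020928 1021184 243 :=
  block_of_check (k := 8) rfl (by decide +kernel)

theorem b3989 : Block F al 1021184 1021440 254 :=
  block_of_check (k := 8) rfl (by decide +kernel)

theorem b3990 : Block F al 1021440 1021696 253 :=
  block_of_check (k := 8) rfl (by decide +kernel)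

theorem b3991 : Block F al 1021696 1021952 256 :=
  block_of_check (k := 8) rfl (by decide +kernel)

theorem b3992 : Block F al 1021952 1022208 243 :=
  block_of_check (k := 8) rfl (by decide +kernel)

end Cfsg.Agent.TcData.HN.I1539000
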