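import Mathlib
import Cfsg.Agent.TcData.HN.I1539000.Tab

set_option autoImplicit false
set_option Elab.async false
set_option maxRecDepth 100000
set_option linter.all false

namespace Cfsg.Agent.TcData.HN.I1539000

open Cfsg.Spor Cfsg.Agent.Lib.TcFacts Cfsg.Agent.Lib.TcBits Cfsg.Agent.Lib.TcPres Cfsg.Spor.HN Cfsg.Agent.TcData.HN

theorem b3993 : Block F al 1022208 1022464 250 :=
  block_of_check (k := 8) rfl (by decide +kernel)

theorem b3994 : Block F al 1022464 1022720 244 :=
  block_of_check (k := 8) rfl (by decide +kernel)

theorem b3995 : Block F al 1022720 1022976 256 :=
  block_of_check (k := 8) rfl (by decide +kernel)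

theorem b3996 : Block F al 1022976 1023232 241 :=
  block_of_check (k := 8) rfl (by decide +kernel)

theorem b3997 : Block F al 1023232 1023488 246 :=
  block_of_check (k := 8) rfl (by decide +kernel)

theorem b3998 : Block F al 1023488 1023744 247 :=
  block_of_check (k := 8) rfl (by decide +kernel)

theorem b3999 : Block F al 1023744 1024000 247 :=
  block_of_check (k := 8) rfl (by decide +kernel)

theorem b4000 : Block F al 1024000 1024256 245 :=
  block_of_check (k := 8) rfl (by decide +kernel)

theorem b4001 : Block F al 1024256 1024512 255 :=
  block_of_check (k := 8) rfl (by decide +kernel)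

theorem b4002 : Block F al 1024512 1024768 254 :=
  block_of_check (k := 8) rfl (by decide +kernel)

theorem b4003 : Block F al 1024768 1025024 250 :=
  block_of_check (k := 8) rfl (by decide +kernel)

theorem b4004 : Block F al 1025024 1025280 239 :=
  block_of_check (k := 8) rfl (by decide +kernel)

theorem b4005 : Block F al 1025280 1025536 240 :=
  block_of_check (k := 8) rfl (by decide +kernel)

theorem b4006 : Block F al 1025536 1025792 251 :=
  block_of_check (k := 8) rfl (by decide +kernel)

theorem b4007 : Block F al 1025792 1026048 245 :=
  block_of_check (k := 8) rfl (by decide +kernel)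

theorem b4008 : Block F al 1026048 1026304 252 :=
  block_of_check (k := 8) rfl (by decide +kernel)

theorem b4009 : Block F al 1026304 1026560 255 :=
  block_of_check (k := 8) rfl (by decide +kernel)

theorem b4010 : Block F al 1026560 1026816 251 :=
  block_of_check (k := 8) rfl (by decide +kernel)

theorem b4011 : Block F al 1026816 1027072 250 :=
  block_of_check (k := 8) rfl (by decide +kernel)

theorem b4012 : Block F al 1027072 1027328 249 :=
  block_of_check (k := 8) rfl (by decide +kernel)

theorem b4013 : Block F al 1027328 1027584 254 :=
  block_of_check (k := 8) rfl (by decide +kernel)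

theorem b4014 : Block F al 1027584 1027840 248 :=
  block_of_check (k := 8) rfl (by decide +kernel)

theorem b4015 : Block F al 1027840 1028096 248 :=
  block_of_check (k := 8) rfl (by decide +kernel)

theorem b4016 : Block F al 1028096 1028352 249 :=
  block_of_check (k := 8) rfl (by decide +kernel)

theorem b4017 : Block F al 1028352 1028608 251 :=
  block_of_check (k := 8) rfl (by decide +kernel)

theorem b4018 : Block F al 1028608 1028864 227 :=
  block_of_check (k := 8) rfl (by decide +kernel)

theorem b4019 : Block F al 1028864 1029120 245 :=
  block_of_check (k := 8) rfl (by decide +kernel)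

theorem b4020 : Block F al 1029120 1029376 246 :=
  block_of_check (k := 8) rfl (by decide +kernel)

theorem b4021 : Block F al 1029376 1029632 248 :=
  block_of_check (k := 8) rfl (by decide +kernel)

theorem b4022 : Block F al 1029632 1029888 250 :=
  block_of_check (k := 8) rfl (by decide +kernel)

theorem b4023 : Block F al 1029888 1030144 254 :=
  block_of_check (k := 8) rfl (by decide +kernel)

theorem b4024 : Block F al 1030144 1030400 253 :=
  block_of_check (k := 8) rfl (by decide +kernel)

theorem b4025 : Block F al 1030400 1030656 242 :=
  block_of_check (k := 8) rfl (by decide +kernel)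

theorem b4026 : Block F al 1030656 1030912 248 :=
  block_of_check (k := 8) rfl (by decide +kernel)

theorem b4027 : Block F al 1030912 1031168 250 :=
  block_of_check (k := 8) rfl (by decide +kernel)

end Cfsg.Agent.TcData.HN.I1539000
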