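import Mathlib
import Cfsg.Agent.TcData.HN.I1539000.Tab

set_option autoImplicit false
set_option Elab.async false
set_option maxRecDepth 100000
set_option linter.all false

namespace Cfsg.Agent.TcData.HN.I1539000

open Cfsg.Spor Cfsg.Agent.Lib.TcFacts Cfsg.Agent.Lib.TcBits Cfsg.Agent.Lib.TcPres Cfsg.Spor.HN Cfsg.Agent.TcData.HN

theorem b4028 : Block F al 1031168 1031424 251 :=
  block_of_check (k := 8) rfl (by decide +kernel)

theorem b4029 : Block F al 1031424 1031680 237 :=
  block_of_check (k := 8) rfl (by decide +kernel)

theorem b4030 : Block F al 1031680 1031936 248 :=
  block_of_check (k := 8) rfl (by decide +kernel)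

theorem b4031 : Block F al 1031936 1032192 242 :=
  block_of_check (k := 8) rfl (by decide +kernel)

theorem b4032 : Block F al 1032192 1032448 252 :=
  block_of_check (k := 8) rfl (by decide +kernel)

theorem b4033 : Block F al 1032448 1032704 250 :=
  block_of_check (k := 8) rfl (by decide +kernel)

theorem b4034 : Block F al 1032704 1032960 246 :=
  block_of_check (k := 8) rfl (by decide +kernel)

theorem b4035 : Block F al 1032960 1033216 246 :=
  block_of_check (k := 8) rfl (by decide +kernel)

theorem b4036 : Block F al 1033216 1033472 255 :=
  block_of_check (k := 8) rfl (by decide +kernel)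

theorem b4037 : Block F al 1033472 1033728 251 :=
  block_of_check (k := 8) rfl (by decide +kernel)

theorem b4038 : Block F al 1033728 1033984 251 :=
  block_of_check (k := 8) rfl (by decide +kernel)

theorem b4039 : Block F al 1033984 1034240 253 :=
  block_of_check (k := 8) rfl (by decide +kernel)

theorem b4040 : Block F al 1034240 1034496 253 :=
  block_of_check (k := 8) rfl (by decide +kernel)

theorem b4041 : Block F al 1034496 1034752 256 :=
  block_of_check (k := 8) rfl (by decide +kernel)

theorem b4042 : Block F al 1034752 1035008 252 :=
  block_of_check (k := 8) rfl (by decide +kernel)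

theorem b4043 : Block F al 1035008 1035264 249 :=
  block_of_check (k := 8) rfl (by decide +kernel)

theorem b4044 : Block F al 1035264 1035520 252 :=
  block_of_check (k := 8) rfl (by decide +kernel)

theorem b4045 : Block F al 1035520 1035776 255 :=
  block_of_check (k := 8) rfl (by decide +kernel)

theorem b4046 : Block F al 1035776 1036032 255 :=
  block_of_check (k := 8) rfl (by decide +kernel)

theorem b4047 : Block F al 1036032 1036288 252 :=
  block_of_check (k := 8) rfl (by decide +kernel)

theorem b4048 : Block F al 1036288 1036544 251 :=
  block_of_check (k := 8) rfl (by decide +kernel)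

theorem b4049 : Block F al 1036544 1036800 248 :=
  block_of_check (k := 8) rfl (by decide +kernel)

theorem b4050 : Block F al 1036800 1037056 246 :=
  block_of_check (k := 8) rfl (by decide +kernel)

theorem b4051 : Block F al 1037056 1037312 250 :=
  block_of_check (k := 8) rfl (by decide +kernel)

theorem b4052 : Block F al 1037312 1037568 251 :=
  block_of_check (k := 8) rfl (by decide +kernel)

theorem b4053 : Block F al 1037568 1037824 246 :=
  block_of_check (k := 8) rfl (by decide +kernel)

theorem b4054 : Block F al 1037824 1038080 248 :=
  block_of_check (k := 8) rfl (by decide +kernel)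

theorem b4055 : Block F al 1038080 1038336 248 :=
  block_of_check (k := 8) rfl (by decide +kernel)

theorem b4056 : Block F al 1038336 1038592 245 :=
  block_of_check (k := 8) rfl (by decide +kernel)

theorem b4057 : Block F al 1038592 1038848 253 :=
  block_of_check (k := 8) rfl (by decide +kernel)

theorem b4058 : Block F al 1038848 1039104 247 :=
  block_of_check (k := 8) rfl (by decide +kernel)

theorem b4059 : Block F al 1039104 1039360 244 :=
  block_of_check (k := 8) rfl (by decide +kernel)

theorem b4060 : Block F al 1039360 1039616 251 :=
  block_of_check (k := 8) rfl (by decide +kernel)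

theorem b4061 : Block F al 1039616 1039872 245 :=
  block_of_check (k := 8) rfl (by decide +kernel)

theorem b4062 : Block F al 1039872 1040128 238 :=
  block_of_check (k := 8) rfl (by decide +kernel)

theorem b4063 : Block F al 1040128 1040384 251 :=
  block_of_check (k := 8) rfl (by decide +kernel)

end Cfsg.Agent.TcData.HN.I1539000
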