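import Mathlib
import Cfsg.Agent.TcData.HN.I1539000.Tab

set_option autoImplicit false
set_option Elab.async false
set_option maxRecDepth 100000
set_option linter.all false

namespace Cfsg.Agent.TcData.HN.I1539000

open Cfsg.Spor Cfsg.Agent.Lib.TcFacts Cfsg.Agent.Lib.TcBits Cfsg.Agent.Lib.TcPres Cfsg.Spor.HN Cfsg.Agent.TcData.HN

theorem b4099 : Block F al 1049344 1049600 239 :=
  block_of_check (k := 8) rfl (by decide +kernel)

theorem b4100 : Block F al 1049600 1049856 244 :=
  block_of_check (k := 8) rfl (by decide +kernel)

theorem b4101 : Block F al 1049856 1050112 246 :=
  block_of_check (k := 8) rfl (by decide +kernel)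

theorem b4102 : Block F al 1050112 1050368 234 :=
  block_of_check (k := 8) rfl (by decide +kernel)

theorem b4103 : Block F al 1050368 1050624 249 :=
  block_of_check (k := 8) rfl (by decide +kernel)

theorem b4104 : Block F al 1050624 1050880 251 :=
  block_of_check (k := 8) rfl (by decide +kernel)

theorem b4105 : Block F al 1050880 1051136 253 :=
  block_of_check (k := 8) rfl (by decide +kernel)

theorem b4106 : Block F al 1051136 1051392 251 :=
  block_of_check (k := 8) rfl (by decide +kernel)

theorem b4107 : Block F al 1051392 1051648 241 :=
  block_of_check (k := 8) rfl (by decide +kernel)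

theorem b4108 : Block F al 1051648 1051904 241 :=
  block_of_check (k := 8) rfl (by decide +kernel)

theorem b4109 : Block F al 1051904 1052160 237 :=
  block_of_check (k := 8) rfl (by decide +kernel)

theorem b4110 : Block F al 1052160 1052416 247 :=
  block_of_check (k := 8) rfl (by decide +kernel)

theorem b4111 : Block F al 1052416 1052672 245 :=
  block_of_check (k := 8) rfl (by decide +kernel)

theorem b4112 : Block F al 1052672 1052928 248 :=
  block_of_check (k := 8) rfl (by decide +kernel)

theorem b4113 : Block F al 1052928 1053184 247 :=
  block_of_check (k := 8) rfl (by decide +kernel)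

theorem b4114 : Block F al 1053184 1053440 255 :=
  block_of_check (k := 8) rfl (by decide +kernel)

theorem b4115 : Block F al 1053440 1053696 254 :=
  block_of_check (k := 8) rfl (by decide +kernel)

theorem b4116 : Block F al 1053696 1053952 256 :=
  block_of_check (k := 8) rfl (by decide +kernel)

theorem b4117 : Block F al 1053952 1054208 253 :=
  block_of_check (k := 8) rfl (by decide +kernel)

theorem b4118 : Block F al 1054208 1054464 241 :=
  block_of_check (k := 8) rfl (by decide +kernel)

theorem b4119 : Block F al 1054464 1054720 251 :=
  block_of_check (k := 8) rfl (by decide +kernel)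

theorem b4120 : Block F al 1054720 1054976 256 :=
  block_of_check (k := 8) rfl (by decide +kernel)

theorem b4121 : Block F al 1054976 1055232 241 :=
  block_of_check (k := 8) rfl (by decide +kernel)

theorem b4122 : Block F al 1055232 1055488 253 :=
  block_of_check (k := 8) rfl (by decide +kernel)

theorem b4123 : Block F al 1055488 1055744 249 :=
  block_of_check (k := 8) rfl (by decide +kernel)

theorem b4124 : Block F al 1055744 1056000 246 :=
  block_of_check (k := 8) rfl (by decide +kernel)

theorem b4125 : Block F al 1056000 1056256 255 :=
  block_of_check (k := 8) rfl (by decide +kernel)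

theorem b4126 : Block F al 1056256 1056512 254 :=
  block_of_check (k := 8) rfl (by decide +kernel)

theorem b4127 : Block F al 1056512 1056768 248 :=
  block_of_check (k := 8) rfl (by decide +kernel)

theorem b4128 : Block F al 1056768 1057024 248 :=
  block_of_check (k := 8) rfl (by decide +kernel)

theorem b4129 : Block F al 1057024 1057280 248 :=
  block_of_check (k := 8) rfl (by decide +kernel)

theorem b4130 : Block F al 1057280 1057536 255 :=
  block_of_check (k := 8) rfl (by decide +kernel)

theorem b4131 : Block F al 1057536 1057792 254 :=
  block_of_check (k := 8) rfl (by decide +kernel)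

theorem b4132 : Block F al 1057792 1058048 247 :=
  block_of_check (k := 8) rfl (by decide +kernel)

theorem b4133 : Block F al 1058048 1058304 255 :=
  block_of_check (k := 8) rfl (by decide +kernel)

end Cfsg.Agent.TcData.HN.I1539000
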