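import Mathlib
import Cfsg.Agent.TcData.HN.I1539000.Tab

set_option autoImplicit false
set_option Elab.async false
set_option maxRecDepth 100000
set_option linter.all false

namespace Cfsg.Agent.TcData.HN.I1539000

open Cfsg.Spor Cfsg.Agent.Lib.TcFacts Cfsg.Agent.Lib.TcBits Cfsg.Agent.Lib.TcPres Cfsg.Spor.HN Cfsg.Agent.TcData.HN

theorem b4134 : Block F al 1058304 1058560 252 :=
  block_of_check (k := 8) rfl (by decide +kernel)

theorem b4135 : Block F al 1058560 1058816 249 :=
  block_of_check (k := 8) rfl (by decide +kernel)

theorem b4136 : Block F al 1058816 1059072 252 :=
  block_of_check (k := 8) rfl (by decide +kernel)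

theorem b4137 : Block F al 1059072 1059328 246 :=
  block_of_check (k := 8) rfl (by decide +kernel)

theorem b4138 : Block F al 1059328 1059584 247 :=
  block_of_check (k := 8) rfl (by decide +kernel)

theorem b4139 : Block F al 1059584 1059840 256 :=
  block_of_check (k := 8) rfl (by decide +kernel)

theorem b4140 : Block F al 1059840 1060096 249 :=
  block_of_check (k := 8) rfl (by decide +kernel)

theorem b4141 : Block F al 1060096 1060352 251 :=
  block_of_check (k := 8) rfl (by decide +kernel)

theorem b4142 : Block F al 1060352 1060608 253 :=
  block_of_check (k := 8) rfl (by decide +kernel)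

theorem b4143 : Block F al 1060608 1060864 253 :=
  block_of_check (k := 8) rfl (by decide +kernel)

theorem b4144 : Block F al 1060864 1061120 241 :=
  block_of_check (k := 8) rfl (by decide +kernel)

theorem b4145 : Block F al 1061120 1061376 249 :=
  block_of_check (k := 8) rfl (by decide +kernel)

theorem b4146 : Block F al 1061376 1061632 245 :=
  block_of_check (k := 8) rfl (by decide +kernel)

theorem b4147 : Block F al 1061632 1061888 249 :=
  block_of_check (k := 8) rfl (by decide +kernel)

theorem b4148 : Block F al 1061888 1062144 254 :=
  block_of_check (k := 8) rfl (by decide +kernel)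

theorem b4149 : Block F al 1062144 1062400 253 :=
  block_of_check (k := 8) rfl (by decide +kernel)

theorem b4150 : Block F al 1062400 1062656 255 :=
  block_of_check (k := 8) rfl (by decide +kernel)

theorem b4151 : Block F al 1062656 1062912 252 :=
  block_of_check (k := 8) rfl (by decide +kernel)

theorem b4152 : Block F al 1062912 1063168 251 :=
  block_of_check (k := 8) rfl (by decide +kernel)

theorem b4153 : Block F al 1063168 1063424 247 :=
  block_of_check (k := 8) rfl (by decide +kernel)

theorem b4154 : Block F al 1063424 1063680 253 :=
  block_of_check (k := 8) rfl (by decide +kernel)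

theorem b4155 : Block F al 1063680 1063936 250 :=
  block_of_check (k := 8) rfl (by decide +kernel)

theorem b4156 : Block F al 1063936 1064192 246 :=
  block_of_check (k := 8) rfl (by decide +kernel)

theorem b4157 : Block F al 1064192 1064448 248 :=
  block_of_check (k := 8) rfl (by decide +kernel)

theorem b4158 : Block F al 1064448 1064704 250 :=
  block_of_check (k := 8) rfl (by decide +kernel)

theorem b4159 : Block F al 1064704 1064960 244 :=
  block_of_check (k := 8) rfl (by decide +kernel)

theorem b4160 : Block F al 1064960 1065216 250 :=
  block_of_check (k := 8) rfl (by decide +kernel)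

theorem b4161 : Block F al 1065216 1065472 255 :=
  block_of_check (k := 8) rfl (by decide +kernel)

theorem b4162 : Block F al 1065472 1065728 250 :=
  block_of_check (k := 8) rfl (by decide +kernel)

theorem b4163 : Block F al 1065728 1065984 253 :=
  block_of_check (k := 8) rfl (by decide +kernel)

theorem b4164 : Block F al 1065984 1066240 252 :=
  block_of_check (k := 8) rfl (by decide +kernel)

theorem b4165 : Block F al 1066240 1066496 250 :=
  block_of_check (k := 8) rfl (by decide +kernel)

theorem b4166 : Block F al 1066496 1066752 254 :=
  block_of_check (k := 8) rfl (by decide +kernel)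

theorem b4167 : Block F al 1066752 1067008 245 :=
  block_of_check (k := 8) rfl (by decide +kernel)

end Cfsg.Agent.TcData.HN.I1539000
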