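import Mathlib
import Cfsg.Agent.TcData.HN.I1539000.Tab

set_option autoImplicit false
set_option Elab.async false
set_option maxRecDepth 100000
set_option linter.all false

namespace Cfsg.Agent.TcData.HN.I1539000

open Cfsg.Spor Cfsg.Agent.Lib.TcFacts Cfsg.Agent.Lib.TcBits Cfsg.Agent.Lib.TcPres Cfsg.Spor.HN Cfsg.Agent.TcData.HN

theorem b4168 : Block F al 1067008 1067264 251 :=
  block_of_check (k := 8) rfl (by decide +kernel)

theorem b4169 : Block F al 1067264 1067520 252 :=
  block_of_check (k := 8) rfl (by decide +kernel)

theorem b4170 : Block F al 1067520 1067776 250 :=
  block_of_check (k := 8) rfl (by decide +kernel)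

theorem b4171 : Block F al 1067776 1068032 256 :=
  block_of_check (k := 8) rfl (by decide +kernel)

theorem b4172 : Block F al 1068032 1068288 255 :=
  block_of_check (k := 8) rfl (by decide +kernel)

theorem b4173 : Block F al 1068288 1068544 253 :=
  block_of_check (k := 8) rfl (by decide +kernel)

theorem b4174 : Block F al 1068544 1068800 256 :=
  block_of_check (k := 8) rfl (by decide +kernel)

theorem b4175 : Block F al 1068800 1069056 255 :=
  block_of_check (k := 8) rfl (by decide +kernel)

theorem b4176 : Block F al 1069056 1069312 247 :=
  block_of_check (k := 8) rfl (by decide +kernel)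

theorem b4177 : Block F al 1069312 1069568 237 :=
  block_of_check (k := 8) rfl (by decide +kernel)

theorem b4178 : Block F al 1069568 1069824 250 :=
  block_of_check (k := 8) rfl (by decide +kernel)

theorem b4179 : Block F al 1069824 1070080 250 :=
  block_of_check (k := 8) rfl (by decide +kernel)

theorem b4180 : Block F al 1070080 1070336 250 :=
  block_of_check (k := 8) rfl (by decide +kernel)

theorem b4181 : Block F al 1070336 1070592 255 :=
  block_of_check (k := 8) rfl (by decide +kernel)

theorem b4182 : Block F al 1070592 1070848 249 :=
  block_of_check (k := 8) rfl (by decide +kernel)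

theorem b4183 : Block F al 1070848 1071104 255 :=
  block_of_check (k := 8) rfl (by decide +kernel)

theorem b4184 : Block F al 1071104 1071360 256 :=
  block_of_check (k := 8) rfl (by decide +kernel)

theorem b4185 : Block F al 1071360 1071616 247 :=
  block_of_check (k := 8) rfl (by decide +kernel)

theorem b4186 : Block F al 1071616 1071872 252 :=
  block_of_check (k := 8) rfl (by decide +kernel)

theorem b4187 : Block F al 1071872 1072128 254 :=
  block_of_check (k := 8) rfl (by decide +kernel)

theorem b4188 : Block F al 1072128 1072384 245 :=
  block_of_check (k := 8) rfl (by decide +kernel)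

theorem b4189 : Block F al 1072384 1072640 254 :=
  block_of_check (k := 8) rfl (by decide +kernel)

theorem b4190 : Block F al 1072640 1072896 245 :=
  block_of_check (k := 8) rfl (by decide +kernel)

theorem b4191 : Block F al 1072896 1073152 245 :=
  block_of_check (k := 8) rfl (by decide +kernel)

theorem b4192 : Block F al 1073152 1073408 251 :=
  block_of_check (k := 8) rfl (by decide +kernel)

theorem b4193 : Block F al 1073408 1073664 254 :=
  block_of_check (k := 8) rfl (by decide +kernel)

theorem b4194 : Block F al 1073664 1073920 250 :=
  block_of_check (k := 8) rfl (by decide +kernel)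

theorem b4195 : Block F al 1073920 1074176 248 :=
  block_of_check (k := 8) rfl (by decide +kernel)

theorem b4196 : Block F al 1074176 1074432 248 :=
  block_of_check (k := 8) rfl (by decide +kernel)

theorem b4197 : Block F al 1074432 1074688 240 :=
  block_of_check (k := 8) rfl (by decide +kernel)

theorem b4198 : Block F al 1074688 1074944 248 :=
  block_of_check (k := 8) rfl (by decide +kernel)

theorem b4199 : Block F al 1074944 1075200 250 :=
  block_of_check (k := 8) rfl (by decide +kernel)

theorem b4200 : Block F al 1075200 1075456 250 :=
  block_of_check (k := 8) rfl (by decide +kernel)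

theorem b4201 : Block F al 1075456 1075712 251 :=
  block_of_check (k := 8) rfl (by decide +kernel)

end Cfsg.Agent.TcData.HN.I1539000
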