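import Mathlib
import Cfsg.Agent.TcData.HN.I1539000.Tab

set_option autoImplicit false
set_option Elab.async false
set_option maxRecDepth 100000
set_option linter.all false

namespace Cfsg.Agent.TcData.HN.I1539000

open Cfsg.Spor Cfsg.Agent.Lib.TcFacts Cfsg.Agent.Lib.TcBits Cfsg.Agent.Lib.TcPres Cfsg.Spor.HN Cfsg.Agent.TcData.HN

theorem b4202 : Block F al 1075712 1075968 252 :=
  block_of_check (k := 8) rfl (by decide +kernel)

theorem b4203 : Block F al 1075968 1076224 246 :=
  block_of_check (k := 8) rfl (by decide +kernel)

theorem b4204 : Block F al 1076224 1076480 254 :=
  block_of_check (k := 8) rfl (by decide +kernel)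

theorem b4205 : Block F al 1076480 1076736 252 :=
  block_of_check (k := 8) rfl (by decide +kernel)

theorem b4206 : Block F al 1076736 1076992 255 :=
  block_of_check (k := 8) rfl (by decide +kernel)

theorem b4207 : Block F al 1076992 1077248 250 :=
  block_of_check (k := 8) rfl (by decide +kernel)

theorem b4208 : Block F al 1077248 1077504 248 :=
  block_of_check (k := 8) rfl (by decide +kernel)

theorem b4209 : Block F al 1077504 1077760 255 :=
  block_of_check (k := 8) rfl (by decide +kernel)

theorem b4210 : Block F al 1077760 1078016 248 :=
  block_of_check (k := 8) rfl (by decide +kernel)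

theorem b4211 : Block F al 1078016 1078272 249 :=
  block_of_check (k := 8) rfl (by decide +kernel)

theorem b4212 : Block F al 1078272 1078528 253 :=
  block_of_check (k := 8) rfl (by decide +kernel)

theorem b4213 : Block F al 1078528 1078784 246 :=
  block_of_check (k := 8) rfl (by decide +kernel)

theorem b4214 : Block F al 1078784 1079040 252 :=
  block_of_check (k := 8) rfl (by decide +kernel)

theorem b4215 : Block F al 1079040 1079296 240 :=
  block_of_check (k := 8) rfl (by decide +kernel)

theorem b4216 : Block F al 1079296 1079552 250 :=
  block_of_check (k := 8) rfl (by decide +kernel)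

theorem b4217 : Block F al 1079552 1079808 254 :=
  block_of_check (k := 8) rfl (by decide +kernel)

theorem b4218 : Block F al 1079808 1080064 245 :=
  block_of_check (k := 8) rfl (by decide +kernel)

theorem b4219 : Block F al 1080064 1080320 249 :=
  block_of_check (k := 8) rfl (by decide +kernel)

theorem b4220 : Block F al 1080320 1080576 246 :=
  block_of_check (k := 8) rfl (by decide +kernel)

theorem b4221 : Block F al 1080576 1080832 246 :=
  block_of_check (k := 8) rfl (by decide +kernel)

theorem b4222 : Block F al 1080832 1081088 252 :=
  block_of_check (k := 8) rfl (by decide +kernel)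

theorem b4223 : Block F al 1081088 1081344 242 :=
  block_of_check (k := 8) rfl (by decide +kernel)

theorem b4224 : Block F al 1081344 1081600 251 :=
  block_of_check (k := 8) rfl (by decide +kernel)

theorem b4225 : Block F al 1081600 1081856 239 :=
  block_of_check (k := 8) rfl (by decide +kernel)

theorem b4226 : Block F al 1081856 1082112 244 :=
  block_of_check (k := 8) rfl (by decide +kernel)

theorem b4227 : Block F al 1082112 1082368 253 :=
  block_of_check (k := 8) rfl (by decide +kernel)

theorem b4228 : Block F al 1082368 1082624 255 :=
  block_of_check (k := 8) rfl (by decide +kernel)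

theorem b4229 : Block F al 1082624 1082880 253 :=
  block_of_check (k := 8) rfl (by decide +kernel)

theorem b4230 : Block F al 1082880 1083136 243 :=
  block_of_check (k := 8) rfl (by decide +kernel)

theorem b4231 : Block F al 1083136 1083392 255 :=
  block_of_check (k := 8) rfl (by decide +kernel)

theorem b4232 : Block F al 1083392 1083648 255 :=
  block_of_check (k := 8) rfl (by decide +kernel)

theorem b4233 : Block F al 1083648 1083904 254 :=
  block_of_check (k := 8) rfl (by decide +kernel)

theorem b4234 : Block F al 1083904 1084160 237 :=
  block_of_check (k := 8) rfl (by decide +kernel)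

theorem b4235 : Block F al 1084160 1084416 252 :=
  block_of_check (k := 8) rfl (by decide +kernel)

theorem b4236 : Block F al 1084416 1084672 251 :=
  block_of_check (k := 8) rfl (by decide +kernel)

end Cfsg.Agent.TcData.HN.I1539000
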