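import Mathlib
import Cfsg.Agent.TcData.HN.I1539000.Chk0
import Cfsg.Agent.TcData.HN.I1539000.Chk1
import Cfsg.Agent.TcData.HN.I1539000.Chk2
import Cfsg.Agent.TcData.HN.I1539000.Chk3
import Cfsg.Agent.TcData.HN.I1539000.Chk4
import Cfsg.Agent.TcData.HN.I1539000.Chk5
import Cfsg.Agent.TcData.HN.I1539000.Chk6
import Cfsg.Agent.TcData.HN.I1539000.Chk7
import Cfsg.Agent.TcData.HN.I1539000.Chk8
import Cfsg.Agent.TcData.HN.I1539000.Chk9
import Cfsg.Agent.TcData.HN.I1539000.Chk10
import Cfsg.Agent.TcData.HN.I1539000.Chk11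
import Cfsg.Agent.TcData.HN.I1539000.Chk12
import Cfsg.Agent.TcData.HN.I1539000.Chk13
import Cfsg.Agent.TcData.HN.I1539000.Chk14
import Cfsg.Agent.TcData.HN.I1539000.Chk15
import Cfsg.Agent.TcData.HN.I1539000.Chk16
import Cfsg.Agent.TcData.HN.I1539000.Chk17
import Cfsg.Agent.TcData.HN.I1539000.Chk18
import Cfsg.Agent.TcData.HN.I1539000.Chk19
import Cfsg.Agent.TcData.HN.I1539000.Chk20
import Cfsg.Agent.TcData.HN.I1539000.Chk21
import Cfsg.Agent.TcData.HN.I1539000.Chk22
import Cfsg.Agent.TcData.HN.I1539000.Chk23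
import Cfsg.Agent.TcData.HN.I1539000.Chk24
import Cfsg.Agent.TcData.HN.I1539000.Chk25
import Cfsg.Agent.TcData.HN.I1539000.Chk26
import Cfsg.Agent.TcData.HN.I1539000.Chk27
import Cfsg.Agent.TcData.HN.I1539000.Chk28
import Cfsg.Agent.TcData.HN.I1539000.Chk29
import Cfsg.Agent.TcData.HN.I1539000.Chk30
import Cfsg.Agent.TcData.HN.I1539000.Chk31
import Cfsg.Agent.TcData.HN.I1539000.Chk32
import Cfsg.Agent.TcData.HN.I1539000.Chk33
import Cfsg.Agent.TcData.HN.I1539000.Chk34
import Cfsg.Agent.TcData.HN.I1539000.Chk35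
import Cfsg.Agent.TcData.HN.I1539000.Chk36
import Cfsg.Agent.TcData.HN.I1539000.Chk37
import Cfsg.Agent.TcData.HN.I1539000.Chk38
import Cfsg.Agent.TcData.HN.I1539000.Chk39
import Cfsg.Agent.TcData.HN.I1539000.Chk40
import Cfsg.Agent.TcData.HN.I1539000.Chk41
import Cfsg.Agent.TcData.HN.I1539000.Chk42
import Cfsg.Agent.TcData.HN.I1539000.Chk43
import Cfsg.Agent.TcData.HN.I1539000.Chk44
import Cfsg.Agent.TcData.HN.I1539000.Chk45
import Cfsg.Agent.TcData.HN.I1539000.Chk46
import Cfsg.Agent.TcData.HN.I1539000.Chk47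
import Cfsg.Agent.TcData.HN.I1539000.Chk48
import Cfsg.Agent.TcData.HN.I1539000.Chk49
import Cfsg.Agent.TcData.HN.I1539000.Chk50
import Cfsg.Agent.TcData.HN.I1539000.Chk51
import Cfsg.Agent.TcData.HN.I1539000.Chk52
import Cfsg.Agent.TcData.HN.I1539000.Chk53
import Cfsg.Agent.TcData.HN.I1539000.Chk54
import Cfsg.Agent.TcData.HN.I1539000.Chk55
import Cfsg.Agent.TcData.HN.I1539000.Chk56
import Cfsg.Agent.TcData.HN.I1539000.Chk57
import Cfsg.Agent.TcData.HN.I1539000.Chk58
import Cfsg.Agent.TcData.HN.I1539000.Chk59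
import Cfsg.Agent.TcData.HN.I1539000.Chk60
import Cfsg.Agent.TcData.HN.I1539000.Chk61
import Cfsg.Agent.TcData.HN.I1539000.Chk62
import Cfsg.Agent.TcData.HN.I1539000.Chk63
import Cfsg.Agent.TcData.HN.I1539000.Chk64
import Cfsg.Agent.TcData.HN.I1539000.Chk65
import Cfsg.Agent.TcData.HN.I1539000.Chk66
import Cfsg.Agent.TcData.HN.I1539000.Chk67
import Cfsg.Agent.TcData.HN.I1539000.Chk68
import Cfsg.Agent.TcData.HN.I1539000.Chk69
import Cfsg.Agent.TcData.HN.I1539000.Chk70
import Cfsg.Agent.TcData.HN.I1539000.Chk71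
import Cfsg.Agent.TcData.HN.I1539000.Chk72
import Cfsg.Agent.TcData.HN.I1539000.Chk73
import Cfsg.Agent.TcData.HN.I1539000.Chk74
import Cfsg.Agent.TcData.HN.I1539000.Chk75
import Cfsg.Agent.TcData.HN.I1539000.Chk76
import Cfsg.Agent.TcData.HN.I1539000.Chk77
import Cfsg.Agent.TcData.HN.I1539000.Chk78
import Cfsg.Agent.TcData.HN.I1539000.Chk79
import Cfsg.Agent.TcData.HN.I1539000.Chk80
import Cfsg.Agent.TcData.HN.I1539000.Chk81
import Cfsg.Agent.TcData.HN.I1539000.Chk82
import Cfsg.Agent.TcData.HN.I1539000.Chk83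
import Cfsg.Agent.TcData.HN.I1539000.Chk84
import Cfsg.Agent.TcData.HN.I1539000.Chk85
import Cfsg.Agent.TcData.HN.I1539000.Chk86
import Cfsg.Agent.TcData.HN.I1539000.Chk87
import Cfsg.Agent.TcData.HN.I1539000.Chk88
import Cfsg.Agent.TcData.HN.I1539000.Chk89
import Cfsg.Agent.TcData.HN.I1539000.Chk90
import Cfsg.Agent.TcData.HN.I1539000.Chk91
import Cfsg.Agent.TcData.HN.I1539000.Chk92
import Cfsg.Agent.TcData.HN.I1539000.Chk93
import Cfsg.Agent.TcData.HN.I1539000.Chk94
import Cfsg.Agent.TcData.HN.I1539000.Chk95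
import Cfsg.Agent.TcData.HN.I1539000.Chk96
import Cfsg.Agent.TcData.HN.I1539000.Chk97
import Cfsg.Agent.TcData.HN.I1539000.Chk98
import Cfsg.Agent.TcData.HN.I1539000.Chk99
import Cfsg.Agent.TcData.HN.I1539000.Chk100
import Cfsg.Agent.TcData.HN.I1539000.Chk101
import Cfsg.Agent.TcData.HN.I1539000.Chk102
import Cfsg.Agent.TcData.HN.I1539000.Chk103
import Cfsg.Agent.TcData.HN.I1539000.Chk104
import Cfsg.Agent.TcData.HN.I1539000.Chk105
import Cfsg.Agent.TcData.HN.I1539000.Chk106
import Cfsg.Agent.TcData.HN.I1539000.Chk107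
import Cfsg.Agent.TcData.HN.I1539000.Chk108
import Cfsg.Agent.TcData.HN.I1539000.Chk109
import Cfsg.Agent.TcData.HN.I1539000.Chk110
import Cfsg.Agent.TcData.HN.I1539000.Chk111
import Cfsg.Agent.TcData.HN.I1539000.Chk112
import Cfsg.Agent.TcData.HN.I1539000.Chk113
import Cfsg.Agent.TcData.HN.I1539000.Chk114
import Cfsg.Agent.TcData.HN.I1539000.Chk115
import Cfsg.Agent.TcData.HN.I1539000.Chk116
import Cfsg.Agent.TcData.HN.I1539000.Chk117
import Cfsg.Agent.TcData.HN.I1539000.Chk118
import Cfsg.Agent.TcData.HN.I1539000.Chk119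
import Cfsg.Agent.TcData.HN.I1539000.Chk120
import Cfsg.Agent.TcData.HN.I1539000.Chk121
import Cfsg.Agent.TcData.HN.I1539000.Chk122
import Cfsg.Agent.TcData.HN.I1539000.Chk123
import Cfsg.Agent.TcData.HN.I1539000.Chk124
import Cfsg.Agent.TcData.HN.I1539000.Chk125
import Cfsg.Agent.TcData.HN.I1539000.Chk126
import Cfsg.Agent.TcData.HN.I1539000.Chk127
import Cfsg.Agent.TcData.HN.I1539000.Chk128
import Cfsg.Agent.TcData.HN.I1539000.Chk129
import Cfsg.Agent.TcData.HN.I1539000.Chk130
import Cfsg.Agent.TcData.HN.I1539000.Chk131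
import Cfsg.Agent.TcData.HN.I1539000.Chk132
import Cfsg.Agent.TcData.HN.I1539000.Chk133
import Cfsg.Agent.TcData.HN.I1539000.Chk134
import Cfsg.Agent.TcData.HN.I1539000.Chk135
import Cfsg.Agent.TcData.HN.I1539000.Chk136
import Cfsg.Agent.TcData.HN.I1539000.Chk137
import Cfsg.Agent.TcData.HN.I1539000.Chk138
import Cfsg.Agent.TcData.HN.I1539000.Chk139
import Cfsg.Agent.TcData.HN.I1539000.Chk140
import Cfsg.Agent.TcData.HN.I1539000.Chk141
import Cfsg.Agent.TcData.HN.I1539000.Chk142
import Cfsg.Agent.TcData.HN.I1539000.Chk143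
import Cfsg.Agent.TcData.HN.I1539000.Chk144
import Cfsg.Agent.TcData.HN.I1539000.Chk145
import Cfsg.Agent.TcData.HN.I1539000.Chk146
import Cfsg.Agent.TcData.HN.I1539000.Chk147
import Cfsg.Agent.TcData.HN.I1539000.Chk148
import Cfsg.Agent.TcData.HN.I1539000.Chk149
import Cfsg.Agent.TcData.HN.I1539000.Chk150
import Cfsg.Agent.TcData.HN.I1539000.Chk151
import Cfsg.Agent.TcData.HN.I1539000.Chk152
import Cfsg.Agent.TcData.HN.I1539000.Chk153
import Cfsg.Agent.TcData.HN.I1539000.Chk154
import Cfsg.Agent.TcData.HN.I1539000.Chk155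
import Cfsg.Agent.TcData.HN.I1539000.Chk156
import Cfsg.Agent.TcData.HN.I1539000.Chk157
import Cfsg.Agent.TcData.HN.I1539000.Chk158
import Cfsg.Agent.TcData.HN.I1539000.Chk159
import Cfsg.Agent.TcData.HN.I1539000.Chk160
import Cfsg.Agent.TcData.HN.I1539000.Chk161
import Cfsg.Agent.TcData.HN.I1539000.Chk162
import Cfsg.Agent.TcData.HN.I1539000.Chk163
import Cfsg.Agent.TcData.HN.I1539000.Chk164
import Cfsg.Agent.TcData.HN.I1539000.Chk165
import Cfsg.Agent.TcData.HN.I1539000.Chk166
import Cfsg.Agent.TcData.HN.I1539000.Chk167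
import Cfsg.Agent.TcData.HN.I1539000.Chk168
import Cfsg.Agent.TcData.HN.I1539000.Chk169
import Cfsg.Agent.TcData.HN.I1539000.Chk170
import Cfsg.Agent.TcData.HN.I1539000.Chk171

set_option autoImplicit false
set_option Elab.async false
set_option maxRecDepth 100000
set_option linter.all false

namespace Cfsg.Agent.TcData.HN.I1539000

open Cfsg.Spor Cfsg.Agent.Lib.TcFacts Cfsg.Agent.Lib.TcBits Cfsg.Agent.Lib.TcPres Cfsg.Spor.HN Cfsg.Agent.TcData.HN

theorem c0 : Block F al 0 256 253 := b0

theorem c1 : Block F al 0 512 499 :=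
  block_comb c0 b1 (Nat.zero_le _) (Nat.le_of_ble_eq_true rfl) rfl

theorem c2 : Block F al 0 768 728 :=
  block_comb c1 b2 (Nat.zero_le _) (Nat.le_of_ble_eq_true rfl) rfl

theorem c3 : Block F al 0 1024 942 :=
  block_comb c2 b3 (Nat.zero_le _) (Nat.le_of_ble_eq_true rfl) rfl

theorem c4 : Block F al 0 1280 1132 :=
  block_comb c3 b4 (Nat.zero_le _) (Nat.le_of_ble_eq_true rfl) rfl

theorem c5 : Block F al 0 1536 1365 :=
  block_comb c4 b5 (Nat.zero_le _) (Nat.le_of_ble_eq_true rfl) rfl

theorem c6 : Block F al 0 1792 1563 :=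
  block_comb c5 b6 (Nat.zero_le _) (Nat.le_of_ble_eq_true rfl) rfl

theorem c7 : Block F al 0 2048 1748 :=
  block_comb c6 b7 (Nat.zero_le _) (Nat.le_of_ble_eq_true rfl) rfl

theorem c8 : Block F al 0 2304 1904 :=
  block_comb c7 b8 (Nat.zero_le _) (Nat.le_of_ble_eq_true rfl) rfl

theorem c9 : Block F al 0 2560 2091 :=
  block_comb c8 b9 (Nat.zero_le _) (Nat.le_of_ble_eq_true rfl) rfl

theorem c10 : Block F al 0 2816 2307 :=
  block_comb c9 b10 (Nat.zero_le _) (Nat.le_of_ble_eq_true rfl) rfl

theorem c11 : Block F al 0 3072 2477 :=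
  block_comb c10 b11 (Nat.zero_le _) (Nat.le_of_ble_eq_true rfl) rfl

theorem c12 : Block F al 0 3328 2656 :=
  block_comb c11 b12 (Nat.zero_le _) (Nat.le_of_ble_eq_true rfl) rfl

theorem c13 : Block F al 0 3584 2785 :=
  block_comb c12 b13 (Nat.zero_le _) (Nat.le_of_ble_eq_true rfl) rfl

theorem c14 : Block F al 0 3840 2964 :=
  block_comb c13 b14 (Nat.zero_le _) (Nat.le_of_ble_eq_true rfl) rfl

theorem c15 : Block F al 0 4096 3168 :=
  block_comb c14 b15 (Nat.zero_le _) (Nat.le_of_ble_eq_true rfl) rfl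

theorem c16 : Block F al 0 4352 3359 :=
  block_comb c15 b16 (Nat.zero_le _) (Nat.le_of_ble_eq_true rfl) rfl

theorem c17 : Block F al 0 4608 3574 :=
  block_comb c16 b17 (Nat.zero_le _) (Nat.le_of_ble_eq_true rfl) rfl

theorem c18 : Block F al 0 4864 3725 :=
  block_comb c17 b18 (Nat.zero_le _) (Nat.le_of_ble_eq_true rfl) rfl

theorem c19 : Block F al 0 5120 3879 :=
  block_comb c18 b19 (Nat.zero_le _) (Nat.le_of_ble_eq_true rfl) rfl

theorem c20 : Block F al 0 5376 4066 :=
  block_comb c19 b20 (Nat.zero_le _) (Nat.le_of_ble_eq_true rfl) rfl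

theorem c21 : Block F al 0 5632 4171 :=
  block_comb c20 b21 (Nat.zero_le _) (Nat.le_of_ble_eq_true rfl) rfl

theorem c22 : Block F al 0 5888 4360 :=
  block_comb c21 b22 (Nat.zero_le _) (Nat.le_of_ble_eq_true rfl) rfl

theorem c23 : Block F al 0 6144 4513 :=
  block_comb c22 b23 (Nat.zero_le _) (Nat.le_of_ble_eq_true rfl) rfl

theorem c24 : Block F al 0 6400 4659 :=
  block_comb c23 b24 (Nat.zero_le _) (Nat.le_of_ble_eq_true rfl) rfl

theorem c25 : Block F al 0 6656 4798 :=
  block_comb c24 b25 (Nat.zero_le _) (Nat.le_of_ble_eq_true rfl) rfl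

theorem c26 : Block F al 0 6912 4970 :=
  block_comb c25 b26 (Nat.zero_le _) (Nat.le_of_ble_eq_true rfl) rfl

theorem c27 : Block F al 0 7168 5151 :=
  block_comb c26 b27 (Nat.zero_le _) (Nat.le_of_ble_eq_true rfl) rfl

theorem c28 : Block F al 0 7424 5354 :=
  block_comb c27 b28 (Nat.zero_le _) (Nat.le_of_ble_eq_true rfl) rfl

theorem c29 : Block F al 0 7680 5576 :=
  block_comb c28 b29 (Nat.zero_le _) (Nat.le_of_ble_eq_true rfl) rfl

theorem c30 : Block F al 0 7936 5719 :=
  block_comb c29 b30 (Nat.zero_le _) (Nat.le_of_ble_eq_true rfl) rfl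

theorem c31 : Block F al 0 8192 5889 :=
  block_comb c30 b31 (Nat.zero_le _) (Nat.le_of_ble_eq_true rfl) rfl

theorem c32 : Block F al 0 8448 6028 :=
  block_comb c31 b32 (Nat.zero_le _) (Nat.le_of_ble_eq_true rfl) rfl

theorem c33 : Block F al 0 8704 6196 :=
  block_comb c32 b33 (Nat.zero_le _) (Nat.le_of_ble_eq_true rfl) rfl

theorem c34 : Block F al 0 8960 6361 :=
  block_comb c33 b34 (Nat.zero_le _) (Nat.le_of_ble_eq_true rfl) rfl

theorem c35 : Block F al 0 9216 6534 :=
  block_comb c34 b35 (Nat.zero_le _) (Nat.le_of_ble_eq_true rfl) rfl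

theorem c36 : Block F al 0 9472 6691 :=
  block_comb c35 b36 (Nat.zero_le _) (Nat.le_of_ble_eq_true rfl) rfl

theorem c37 : Block F al 0 9728 6762 :=
  block_comb c36 b37 (Nat.zero_le _) (Nat.le_of_ble_eq_true rfl) rfl

theorem c38 : Block F al 0 9984 6920 :=
  block_comb c37 b38 (Nat.zero_le _) (Nat.le_of_ble_eq_true rfl) rfl

theorem c39 : Block F al 0 10240 7066 :=
  block_comb c38 b39 (Nat.zero_le _) (Nat.le_of_ble_eq_true rfl) rfl

theorem c40 : Block F al 0 10496 7245 :=
  block_comb c39 b40 (Nat.zero_le _) (Nat.le_of_ble_eq_true rfl) rfl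

theorem c41 : Block F al 0 10752 7423 :=
  block_comb c40 b41 (Nat.zero_le _) (Nat.le_of_ble_eq_true rfl) rfl

theorem c42 : Block F al 0 11008 7618 :=
  block_comb c41 b42 (Nat.zero_le _) (Nat.le_of_ble_eq_true rfl) rfl

theorem c43 : Block F al 0 11264 7776 :=
  block_comb c42 b43 (Nat.zero_le _) (Nat.le_of_ble_eq_true rfl) rfl

theorem c44 : Block F al 0 11520 7926 :=
  block_comb c43 b44 (Nat.zero_le _) (Nat.le_of_ble_eq_true rfl) rfl

theorem c45 : Block F al 0 11776 8098 :=
  block_comb c44 b45 (Nat.zero_le _) (Nat.le_of_ble_eq_true rfl) rfl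

theorem c46 : Block F al 0 12032 8290 :=
  block_comb c45 b46 (Nat.zero_le _) (Nat.le_of_ble_eq_true rfl) rfl

theorem c47 : Block F al 0 12288 8466 :=
  block_comb c46 b47 (Nat.zero_le _) (Nat.le_of_ble_eq_true rfl) rfl

theorem c48 : Block F al 0 12544 8644 :=
  block_comb c47 b48 (Nat.zero_le _) (Nat.le_of_ble_eq_true rfl) rfl

theorem c49 : Block F al 0 12800 8839 :=
  block_comb c48 b49 (Nat.zero_le _) (Nat.le_of_ble_eq_true rfl) rfl

theorem c50 : Block F al 0 13056 8956 :=
  block_comb c49 b50 (Nat.zero_le _) (Nat.le_of_ble_eq_true rfl) rfl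

theorem c51 : Block F al 0 13312 9134 :=
  block_comb c50 b51 (Nat.zero_le _) (Nat.le_of_ble_eq_true rfl) rfl

theorem c52 : Block F al 0 13568 9340 :=
  block_comb c51 b52 (Nat.zero_le _) (Nat.le_of_ble_eq_true rfl) rfl

theorem c53 : Block F al 0 13824 9458 :=
  block_comb c52 b53 (Nat.zero_le _) (Nat.le_of_ble_eq_true rfl) rfl

theorem c54 : Block F al 0 14080 9608 :=
  block_comb c53 b54 (Nat.zero_le _) (Nat.le_of_ble_eq_true rfl) rfl

theorem c55 : Block F al 0 14336 9800 :=
  block_comb c54 b55 (Nat.zero_le _) (Nat.le_of_ble_eq_true rfl) rfl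

theorem c56 : Block F al 0 14592 9991 :=
  block_comb c55 b56 (Nat.zero_le _) (Nat.le_of_ble_eq_true rfl) rfl

theorem c57 : Block F al 0 14848 10151 :=
  block_comb c56 b57 (Nat.zero_le _) (Nat.le_of_ble_eq_true rfl) rfl

theorem c58 : Block F al 0 15104 10356 :=
  block_comb c57 b58 (Nat.zero_le _) (Nat.le_of_ble_eq_true rfl) rfl

theorem c59 : Block F al 0 15360 10602 :=
  block_comb c58 b59 (Nat.zero_le _) (Nat.le_of_ble_eq_true rfl) rfl

theorem c60 : Block F al 0 15616 10823 :=
  block_comb c59 b60 (Nat.zero_le _) (Nat.le_of_ble_eq_true rfl) rfl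

theorem c61 : Block F al 0 15872 11066 :=
  block_comb c60 b61 (Nat.zero_le _) (Nat.le_of_ble_eq_true rfl) rfl

theorem c62 : Block F al 0 16128 11301 :=
  block_comb c61 b62 (Nat.zero_le _) (Nat.le_of_ble_eq_true rfl) rfl

theorem c63 : Block F al 0 16384 11536 :=
  block_comb c62 b63 (Nat.zero_le _) (Nat.le_of_ble_eq_true rfl) rfl

theorem c64 : Block F al 0 16640 11780 :=
  block_comb c63 b64 (Nat.zero_le _) (Nat.le_of_ble_eq_true rfl) rfl

theorem c65 : Block F al 0 16896 12024 :=
  block_comb c64 b65 (Nat.zero_le _) (Nat.le_of_ble_eq_true rfl) rfl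

theorem c66 : Block F al 0 17152 12272 :=
  block_comb c65 b66 (Nat.zero_le _) (Nat.le_of_ble_eq_true rfl) rfl

theorem c67 : Block F al 0 17408 12510 :=
  block_comb c66 b67 (Nat.zero_le _) (Nat.le_of_ble_eq_true rfl) rfl

theorem c68 : Block F al 0 17664 12761 :=
  block_comb c67 b68 (Nat.zero_le _) (Nat.le_of_ble_eq_true rfl) rfl

theorem c69 : Block F al 0 17920 12991 :=
  block_comb c68 b69 (Nat.zero_le _) (Nat.le_of_ble_eq_true rfl) rfl

theorem c70 : Block F al 0 18176 13245 :=
  block_comb c69 b70 (Nat.zero_le _) (Nat.le_of_ble_eq_true rfl) rfl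

theorem c71 : Block F al 0 18432 13489 :=
  block_comb c70 b71 (Nat.zero_le _) (Nat.le_of_ble_eq_true rfl) rfl

theorem c72 : Block F al 0 18688 13729 :=
  block_comb c71 b72 (Nat.zero_le _) (Nat.le_of_ble_eq_true rfl) rfl

theorem c73 : Block F al 0 18944 13970 :=
  block_comb c72 b73 (Nat.zero_le _) (Nat.le_of_ble_eq_true rfl) rfl

theorem c74 : Block F al 0 19200 14212 :=
  block_comb c73 b74 (Nat.zero_le _) (Nat.le_of_ble_eq_true rfl) rfl

theorem c75 : Block F al 0 19456 14447 :=
  block_comb c74 b75 (Nat.zero_le _) (Nat.le_of_ble_eq_true rfl) rfl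

theorem c76 : Block F al 0 19712 14695 :=
  block_comb c75 b76 (Nat.zero_le _) (Nat.le_of_ble_eq_true rfl) rfl

theorem c77 : Block F al 0 19968 14932 :=
  block_comb c76 b77 (Nat.zero_le _) (Nat.le_of_ble_eq_true rfl) rfl

theorem c78 : Block F al 0 20224 15183 :=
  block_comb c77 b78 (Nat.zero_le _) (Nat.le_of_ble_eq_true rfl) rfl

theorem c79 : Block F al 0 20480 15415 :=
  block_comb c78 b79 (Nat.zero_le _) (Nat.le_of_ble_eq_true rfl) rfl

theorem c80 : Block F al 0 20736 15655 :=
  block_comb c79 b80 (Nat.zero_le _) (Nat.le_of_ble_eq_true rfl) rfl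

theorem c81 : Block F al 0 20992 15891 :=
  block_comb c80 b81 (Nat.zero_le _) (Nat.le_of_ble_eq_true rfl) rfl

theorem c82 : Block F al 0 21248 16128 :=
  block_comb c81 b82 (Nat.zero_le _) (Nat.le_of_ble_eq_true rfl) rfl

theorem c83 : Block F al 0 21504 16366 :=
  block_comb c82 b83 (Nat.zero_le _) (Nat.le_of_ble_eq_true rfl) rfl

theorem c84 : Block F al 0 21760 16606 :=
  block_comb c83 b84 (Nat.zero_le _) (Nat.le_of_ble_eq_true rfl) rfl

theorem c85 : Block F al 0 22016 16850 :=
  block_comb c84 b85 (Nat.zero_le _) (Nat.le_of_ble_eq_true rfl) rfl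

theorem c86 : Block F al 0 22272 17084 :=
  block_comb c85 b86 (Nat.zero_le _) (Nat.le_of_ble_eq_true rfl) rfl

theorem c87 : Block F al 0 22528 17284 :=
  block_comb c86 b87 (Nat.zero_le _) (Nat.le_of_ble_eq_true rfl) rfl

theorem c88 : Block F al 0 22784 17495 :=
  block_comb c87 b88 (Nat.zero_le _) (Nat.le_of_ble_eq_true rfl) rfl

theorem c89 : Block F al 0 23040 17750 :=
  block_comb c88 b89 (Nat.zero_le _) (Nat.le_of_ble_eq_true rfl) rfl

theorem c90 : Block F al 0 23296 17996 :=
  block_comb c89 b90 (Nat.zero_le _) (Nat.le_of_ble_eq_true rfl) rfl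

theorem c91 : Block F al 0 23552 18223 :=
  block_comb c90 b91 (Nat.zero_le _) (Nat.le_of_ble_eq_true rfl) rfl

theorem c92 : Block F al 0 23808 18459 :=
  block_comb c91 b92 (Nat.zero_le _) (Nat.le_of_ble_eq_true rfl) rfl

theorem c93 : Block F al 0 24064 18715 :=
  block_comb c92 b93 (Nat.zero_le _) (Nat.le_of_ble_eq_true rfl) rfl

theorem c94 : Block F al 0 24320 18940 :=
  block_comb c93 b94 (Nat.zero_le _) (Nat.le_of_ble_eq_true rfl) rfl

theorem c95 : Block F al 0 24576 19178 :=
  block_comb c94 b95 (Nat.zero_le _) (Nat.le_of_ble_eq_true rfl) rfl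

theorem c96 : Block F al 0 24832 19434 :=
  block_comb c95 b96 (Nat.zero_le _) (Nat.le_of_ble_eq_true rfl) rfl

theorem c97 : Block F al 0 25088 19674 :=
  block_comb c96 b97 (Nat.zero_le _) (Nat.le_of_ble_eq_true rfl) rfl

theorem c98 : Block F al 0 25344 19900 :=
  block_comb c97 b98 (Nat.zero_le _) (Nat.le_of_ble_eq_true rfl) rfl

theorem c99 : Block F al 0 25600 20146 :=
  block_comb c98 b99 (Nat.zero_le _) (Nat.le_of_ble_eq_true rfl) rfl

theorem c100 : Block F al 0 25856 20382 :=
  block_comb c99 b100 (Nat.zero_le _) (Nat.le_of_ble_eq_true rfl) rfl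

theorem c101 : Block F al 0 26112 20624 :=
  block_comb c100 b101 (Nat.zero_le _) (Nat.le_of_ble_eq_true rfl) rfl

theorem c102 : Block F al 0 26368 20879 :=
  block_comb c101 b102 (Nat.zero_le _) (Nat.le_of_ble_eq_true rfl) rfl

theorem c103 : Block F al 0 26624 21134 :=
  block_comb c102 b103 (Nat.zero_le _) (Nat.le_of_ble_eq_true rfl) rfl

theorem c104 : Block F al 0 26880 21365 :=
  block_comb c103 b104 (Nat.zero_le _) (Nat.le_of_ble_eq_true rfl) rfl

theorem c105 : Block F al 0 27136 21610 :=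
  block_comb c104 b105 (Nat.zero_le _) (Nat.le_of_ble_eq_true rfl) rfl

theorem c106 : Block F al 0 27392 21810 :=
  block_comb c105 b106 (Nat.zero_le _) (Nat.le_of_ble_eq_true rfl) rfl

theorem c107 : Block F al 0 27648 22037 :=
  block_comb c106 b107 (Nat.zero_le _) (Nat.le_of_ble_eq_true rfl) rfl

theorem c108 : Block F al 0 27904 22276 :=
  block_comb c107 b108 (Nat.zero_le _) (Nat.le_of_ble_eq_true rfl) rfl

theorem c109 : Block F al 0 28160 22518 :=
  block_comb c108 b109 (Nat.zero_le _) (Nat.le_of_ble_eq_true rfl) rfl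

theorem c110 : Block F al 0 28416 22771 :=
  block_comb c109 b110 (Nat.zero_le _) (Nat.le_of_ble_eq_true rfl) rfl

theorem c111 : Block F al 0 28672 23008 :=
  block_comb c110 b111 (Nat.zero_le _) (Nat.le_of_ble_eq_true rfl) rfl

theorem c112 : Block F al 0 28928 23248 :=
  block_comb c111 b112 (Nat.zero_le _) (Nat.le_of_ble_eq_true rfl) rfl

theorem c113 : Block F al 0 29184 23497 :=
  block_comb c112 b113 (Nat.zero_le _) (Nat.le_of_ble_eq_true rfl) rfl

theorem c114 : Block F al 0 29440 23718 :=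
  block_comb c113 b114 (Nat.zero_le _) (Nat.le_of_ble_eq_true rfl) rfl

theorem c115 : Block F al 0 29696 23924 :=
  block_comb c114 b115 (Nat.zero_le _) (Nat.le_of_ble_eq_true rfl) rfl

theorem c116 : Block F al 0 29952 24159 :=
  block_comb c115 b116 (Nat.zero_le _) (Nat.le_of_ble_eq_true rfl) rfl

theorem c117 : Block F al 0 30208 24397 :=
  block_comb c116 b117 (Nat.zero_le _) (Nat.le_of_ble_eq_true rfl) rfl

theorem c118 : Block F al 0 30464 24621 :=
  block_comb c117 b118 (Nat.zero_le _) (Nat.le_of_ble_eq_true rfl) rfl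

theorem c119 : Block F al 0 30720 24859 :=
  block_comb c118 b119 (Nat.zero_le _) (Nat.le_of_ble_eq_true rfl) rfl

theorem c120 : Block F al 0 30976 25087 :=
  block_comb c119 b120 (Nat.zero_le _) (Nat.le_of_ble_eq_true rfl) rfl

theorem c121 : Block F al 0 31232 25324 :=
  block_comb c120 b121 (Nat.zero_le _) (Nat.le_of_ble_eq_true rfl) rfl

theorem c122 : Block F al 0 31488 25551 :=
  block_comb c121 b122 (Nat.zero_le _) (Nat.le_of_ble_eq_true rfl) rfl

theorem c123 : Block F al 0 31744 25780 :=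
  block_comb c122 b123 (Nat.zero_le _) (Nat.le_of_ble_eq_true rfl) rfl

theorem c124 : Block F al 0 32000 26034 :=
  block_comb c123 b124 (Nat.zero_le _) (Nat.le_of_ble_eq_true rfl) rfl

theorem c125 : Block F al 0 32256 26278 :=
  block_comb c124 b125 (Nat.zero_le _) (Nat.le_of_ble_eq_true rfl) rfl

theorem c126 : Block F al 0 32512 26503 :=
  block_comb c125 b126 (Nat.zero_le _) (Nat.le_of_ble_eq_true rfl) rfl

theorem c127 : Block F al 0 32768 26695 :=
  block_comb c126 b127 (Nat.zero_le _) (Nat.le_of_ble_eq_true rfl) rfl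

theorem c128 : Block F al 0 33024 26942 :=
  block_comb c127 b128 (Nat.zero_le _) (Nat.le_of_ble_eq_true rfl) rfl

theorem c129 : Block F al 0 33280 27185 :=
  block_comb c128 b129 (Nat.zero_le _) (Nat.le_of_ble_eq_true rfl) rfl

theorem c130 : Block F al 0 33536 27418 :=
  block_comb c129 b130 (Nat.zero_le _) (Nat.le_of_ble_eq_true rfl) rfl

theorem c131 : Block F al 0 33792 27648 :=
  block_comb c130 b131 (Nat.zero_le _) (Nat.le_of_ble_eq_true rfl) rfl

theorem c132 : Block F al 0 34048 27857 :=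
  block_comb c131 b132 (Nat.zero_le _) (Nat.le_of_ble_eq_true rfl) rfl

theorem c133 : Block F al 0 34304 28097 :=
  block_comb c132 b133 (Nat.zero_le _) (Nat.le_of_ble_eq_true rfl) rfl

theorem c134 : Block F al 0 34560 28312 :=
  block_comb c133 b134 (Nat.zero_le _) (Nat.le_of_ble_eq_true rfl) rfl

theorem c135 : Block F al 0 34816 28547 :=
  block_comb c134 b135 (Nat.zero_le _) (Nat.le_of_ble_eq_true rfl) rfl

theorem c136 : Block F al 0 35072 28772 :=
  block_comb c135 b136 (Nat.zero_le _) (Nat.le_of_ble_eq_true rfl) rfl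

theorem c137 : Block F al 0 35328 29001 :=
  block_comb c136 b137 (Nat.zero_le _) (Nat.le_of_ble_eq_true rfl) rfl

theorem c138 : Block F al 0 35584 29223 :=
  block_comb c137 b138 (Nat.zero_le _) (Nat.le_of_ble_eq_true rfl) rfl

theorem c139 : Block F al 0 35840 29439 :=
  block_comb c138 b139 (Nat.zero_le _) (Nat.le_of_ble_eq_true rfl) rfl

theorem c140 : Block F al 0 36096 29687 :=
  block_comb c139 b140 (Nat.zero_le _) (Nat.le_of_ble_eq_true rfl) rfl

theorem c141 : Block F al 0 36352 29921 :=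
  block_comb c140 b141 (Nat.zero_le _) (Nat.le_of_ble_eq_true rfl) rfl

theorem c142 : Block F al 0 36608 30165 :=
  block_comb c141 b142 (Nat.zero_le _) (Nat.le_of_ble_eq_true rfl) rfl

theorem c143 : Block F al 0 36864 30403 :=
  block_comb c142 b143 (Nat.zero_le _) (Nat.le_of_ble_eq_true rfl) rfl

theorem c144 : Block F al 0 37120 30601 :=
  block_comb c143 b144 (Nat.zero_le _) (Nat.le_of_ble_eq_true rfl) rfl

theorem c145 : Block F al 0 37376 30841 :=
  block_comb c144 b145 (Nat.zero_le _) (Nat.le_of_ble_eq_true rfl) rfl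

theorem c146 : Block F al 0 37632 31074 :=
  block_comb c145 b146 (Nat.zero_le _) (Nat.le_of_ble_eq_true rfl) rfl

theorem c147 : Block F al 0 37888 31283 :=
  block_comb c146 b147 (Nat.zero_le _) (Nat.le_of_ble_eq_true rfl) rfl

theorem c148 : Block F al 0 38144 31503 :=
  block_comb c147 b148 (Nat.zero_le _) (Nat.le_of_ble_eq_true rfl) rfl

theorem c149 : Block F al 0 38400 31714 :=
  block_comb c148 b149 (Nat.zero_le _) (Nat.le_of_ble_eq_true rfl) rfl

theorem c150 : Block F al 0 38656 31968 :=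
  block_comb c149 b150 (Nat.zero_le _) (Nat.le_of_ble_eq_true rfl) rfl

theorem c151 : Block F al 0 38912 32214 :=
  block_comb c150 b151 (Nat.zero_le _) (Nat.le_of_ble_eq_true rfl) rfl

theorem c152 : Block F al 0 39168 32466 :=
  block_comb c151 b152 (Nat.zero_le _) (Nat.le_of_ble_eq_true rfl) rfl

theorem c153 : Block F al 0 39424 32711 :=
  block_comb c152 b153 (Nat.zero_le _) (Nat.le_of_ble_eq_true rfl) rfl

theorem c154 : Block F al 0 39680 32946 :=
  block_comb c153 b154 (Nat.zero_le _) (Nat.le_of_ble_eq_true rfl) rfl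

theorem c155 : Block F al 0 39936 33131 :=
  block_comb c154 b155 (Nat.zero_le _) (Nat.le_of_ble_eq_true rfl) rfl

theorem c156 : Block F al 0 40192 33352 :=
  block_comb c155 b156 (Nat.zero_le _) (Nat.le_of_ble_eq_true rfl) rfl

theorem c157 : Block F al 0 40448 33564 :=
  block_comb c156 b157 (Nat.zero_le _) (Nat.le_of_ble_eq_true rfl) rfl

theorem c158 : Block F al 0 40704 33803 :=
  block_comb c157 b158 (Nat.zero_le _) (Nat.le_of_ble_eq_true rfl) rfl

theorem c159 : Block F al 0 40960 34040 :=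
  block_comb c158 b159 (Nat.zero_le _) (Nat.le_of_ble_eq_true rfl) rfl

theorem c160 : Block F al 0 41216 34252 :=
  block_comb c159 b160 (Nat.zero_le _) (Nat.le_of_ble_eq_true rfl) rfl

theorem c161 : Block F al 0 41472 34495 :=
  block_comb c160 b161 (Nat.zero_le _) (Nat.le_of_ble_eq_true rfl) rfl

theorem c162 : Block F al 0 41728 34732 :=
  block_comb c161 b162 (Nat.zero_le _) (Nat.le_of_ble_eq_true rfl) rfl

theorem c163 : Block F al 0 41984 34960 :=
  block_comb c162 b163 (Nat.zero_le _) (Nat.le_of_ble_eq_true rfl) rfl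

theorem c164 : Block F al 0 42240 35184 :=
  block_comb c163 b164 (Nat.zero_le _) (Nat.le_of_ble_eq_true rfl) rfl

theorem c165 : Block F al 0 42496 35419 :=
  block_comb c164 b165 (Nat.zero_le _) (Nat.le_of_ble_eq_true rfl) rfl

theorem c166 : Block F al 0 42752 35659 :=
  block_comb c165 b166 (Nat.zero_le _) (Nat.le_of_ble_eq_true rfl) rfl

theorem c167 : Block F al 0 43008 35906 :=
  block_comb c166 b167 (Nat.zero_le _) (Nat.le_of_ble_eq_true rfl) rfl

theorem c168 : Block F al 0 43264 36138 :=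
  block_comb c167 b168 (Nat.zero_le _) (Nat.le_of_ble_eq_true rfl) rfl

theorem c169 : Block F al 0 43520 36364 :=
  block_comb c168 b169 (Nat.zero_le _) (Nat.le_of_ble_eq_true rfl) rfl

theorem c170 : Block F al 0 43776 36613 :=
  block_comb c169 b170 (Nat.zero_le _) (Nat.le_of_ble_eq_true rfl) rfl

theorem c171 : Block F al 0 44032 36865 :=
  block_comb c170 b171 (Nat.zero_le _) (Nat.le_of_ble_eq_true rfl) rfl

theorem c172 : Block F al 0 44288 37118 :=
  block_comb c171 b172 (Nat.zero_le _) (Nat.le_of_ble_eq_true rfl) rfl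

theorem c173 : Block F al 0 44544 37365 :=
  block_comb c172 b173 (Nat.zero_le _) (Nat.le_of_ble_eq_true rfl) rfl

theorem c174 : Block F al 0 44800 37613 :=
  block_comb c173 b174 (Nat.zero_le _) (Nat.le_of_ble_eq_true rfl) rfl

theorem c175 : Block F al 0 45056 37862 :=
  block_comb c174 b175 (Nat.zero_le _) (Nat.le_of_ble_eq_true rfl) rfl

theorem c176 : Block F al 0 45312 38117 :=
  block_comb c175 b176 (Nat.zero_le _) (Nat.le_of_ble_eq_true rfl) rfl

theorem c177 : Block F al 0 45568 38346 :=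
  block_comb c176 b177 (Nat.zero_le _) (Nat.le_of_ble_eq_true rfl) rfl

theorem c178 : Block F al 0 45824 38569 :=
  block_comb c177 b178 (Nat.zero_le _) (Nat.le_of_ble_eq_true rfl) rfl

theorem c179 : Block F al 0 46080 38804 :=
  block_comb c178 b179 (Nat.zero_le _) (Nat.le_of_ble_eq_true rfl) rfl

theorem c180 : Block F al 0 46336 39039 :=
  block_comb c179 b180 (Nat.zero_le _) (Nat.le_of_ble_eq_true rfl) rfl

theorem c181 : Block F al 0 46592 39266 :=
  block_comb c180 b181 (Nat.zero_le _) (Nat.le_of_ble_eq_true rfl) rfl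

theorem c182 : Block F al 0 46848 39519 :=
  block_comb c181 b182 (Nat.zero_le _) (Nat.le_of_ble_eq_true rfl) rfl

theorem c183 : Block F al 0 47104 39766 :=
  block_comb c182 b183 (Nat.zero_le _) (Nat.le_of_ble_eq_true rfl) rfl

theorem c184 : Block F al 0 47360 40014 :=
  block_comb c183 b184 (Nat.zero_le _) (Nat.le_of_ble_eq_true rfl) rfl

theorem c185 : Block F al 0 47616 40264 :=
  block_comb c184 b185 (Nat.zero_le _) (Nat.le_of_ble_eq_true rfl) rfl

theorem c186 : Block F al 0 47872 40505 :=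
  block_comb c185 b186 (Nat.zero_le _) (Nat.le_of_ble_eq_true rfl) rfl

theorem c187 : Block F al 0 48128 40760 :=
  block_comb c186 b187 (Nat.zero_le _) (Nat.le_of_ble_eq_true rfl) rfl

theorem c188 : Block F al 0 48384 41010 :=
  block_comb c187 b188 (Nat.zero_le _) (Nat.le_of_ble_eq_true rfl) rfl

theorem c189 : Block F al 0 48640 41257 :=
  block_comb c188 b189 (Nat.zero_le _) (Nat.le_of_ble_eq_true rfl) rfl

theorem c190 : Block F al 0 48896 41494 :=
  block_comb c189 b190 (Nat.zero_le _) (Nat.le_of_ble_eq_true rfl) rfl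

theorem c191 : Block F al 0 49152 41736 :=
  block_comb c190 b191 (Nat.zero_le _) (Nat.le_of_ble_eq_true rfl) rfl

theorem c192 : Block F al 0 49408 41959 :=
  block_comb c191 b192 (Nat.zero_le _) (Nat.le_of_ble_eq_true rfl) rfl

theorem c193 : Block F al 0 49664 42209 :=
  block_comb c192 b193 (Nat.zero_le _) (Nat.le_of_ble_eq_true rfl) rfl

theorem c194 : Block F al 0 49920 42456 :=
  block_comb c193 b194 (Nat.zero_le _) (Nat.le_of_ble_eq_true rfl) rfl

theorem c195 : Block F al 0 50176 42701 :=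
  block_comb c194 b195 (Nat.zero_le _) (Nat.le_of_ble_eq_true rfl) rfl

theorem c196 : Block F al 0 50432 42950 :=
  block_comb c195 b196 (Nat.zero_le _) (Nat.le_of_ble_eq_true rfl) rfl

theorem c197 : Block F al 0 50688 43197 :=
  block_comb c196 b197 (Nat.zero_le _) (Nat.le_of_ble_eq_true rfl) rfl

theorem c198 : Block F al 0 50944 43447 :=
  block_comb c197 b198 (Nat.zero_le _) (Nat.le_of_ble_eq_true rfl) rfl

theorem c199 : Block F al 0 51200 43671 :=
  block_comb c198 b199 (Nat.zero_le _) (Nat.le_of_ble_eq_true rfl) rfl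

theorem c200 : Block F al 0 51456 43903 :=
  block_comb c199 b200 (Nat.zero_le _) (Nat.le_of_ble_eq_true rfl) rfl

theorem c201 : Block F al 0 51712 44143 :=
  block_comb c200 b201 (Nat.zero_le _) (Nat.le_of_ble_eq_true rfl) rfl

theorem c202 : Block F al 0 51968 44395 :=
  block_comb c201 b202 (Nat.zero_le _) (Nat.le_of_ble_eq_true rfl) rfl

theorem c203 : Block F al 0 52224 44649 :=
  block_comb c202 b203 (Nat.zero_le _) (Nat.le_of_ble_eq_true rfl) rfl

theorem c204 : Block F al 0 52480 44891 :=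
  block_comb c203 b204 (Nat.zero_le _) (Nat.le_of_ble_eq_true rfl) rfl

theorem c205 : Block F al 0 52736 45138 :=
  block_comb c204 b205 (Nat.zero_le _) (Nat.le_of_ble_eq_true rfl) rfl

theorem c206 : Block F al 0 52992 45366 :=
  block_comb c205 b206 (Nat.zero_le _) (Nat.le_of_ble_eq_true rfl) rfl

theorem c207 : Block F al 0 53248 45550 :=
  block_comb c206 b207 (Nat.zero_le _) (Nat.le_of_ble_eq_true rfl) rfl

theorem c208 : Block F al 0 53504 45765 :=
  block_comb c207 b208 (Nat.zero_le _) (Nat.le_of_ble_eq_true rfl) rfl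

theorem c209 : Block F al 0 53760 45993 :=
  block_comb c208 b209 (Nat.zero_le _) (Nat.le_of_ble_eq_true rfl) rfl

theorem c210 : Block F al 0 54016 46225 :=
  block_comb c209 b210 (Nat.zero_le _) (Nat.le_of_ble_eq_true rfl) rfl

theorem c211 : Block F al 0 54272 46465 :=
  block_comb c210 b211 (Nat.zero_le _) (Nat.le_of_ble_eq_true rfl) rfl

theorem c212 : Block F al 0 54528 46713 :=
  block_comb c211 b212 (Nat.zero_le _) (Nat.le_of_ble_eq_true rfl) rfl

theorem c213 : Block F al 0 54784 46958 :=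
  block_comb c212 b213 (Nat.zero_le _) (Nat.le_of_ble_eq_true rfl) rfl

theorem c214 : Block F al 0 55040 47196 :=
  block_comb c213 b214 (Nat.zero_le _) (Nat.le_of_ble_eq_true rfl) rfl

theorem c215 : Block F al 0 55296 47448 :=
  block_comb c214 b215 (Nat.zero_le _) (Nat.le_of_ble_eq_true rfl) rfl

theorem c216 : Block F al 0 55552 47677 :=
  block_comb c215 b216 (Nat.zero_le _) (Nat.le_of_ble_eq_true rfl) rfl

theorem c217 : Block F al 0 55808 47922 :=
  block_comb c216 b217 (Nat.zero_le _) (Nat.le_of_ble_eq_true rfl) rfl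

theorem c218 : Block F al 0 56064 48158 :=
  block_comb c217 b218 (Nat.zero_le _) (Nat.le_of_ble_eq_true rfl) rfl

theorem c219 : Block F al 0 56320 48355 :=
  block_comb c218 b219 (Nat.zero_le _) (Nat.le_of_ble_eq_true rfl) rfl

theorem c220 : Block F al 0 56576 48610 :=
  block_comb c219 b220 (Nat.zero_le _) (Nat.le_of_ble_eq_true rfl) rfl

theorem c221 : Block F al 0 56832 48836 :=
  block_comb c220 b221 (Nat.zero_le _) (Nat.le_of_ble_eq_true rfl) rfl

theorem c222 : Block F al 0 57088 49088 :=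
  block_comb c221 b222 (Nat.zero_le _) (Nat.le_of_ble_eq_true rfl) rfl

theorem c223 : Block F al 0 57344 49340 :=
  block_comb c222 b223 (Nat.zero_le _) (Nat.le_of_ble_eq_true rfl) rfl

theorem c224 : Block F al 0 57600 49596 :=
  block_comb c223 b224 (Nat.zero_le _) (Nat.le_of_ble_eq_true rfl) rfl

theorem c225 : Block F al 0 57856 49835 :=
  block_comb c224 b225 (Nat.zero_le _) (Nat.le_of_ble_eq_true rfl) rfl

theorem c226 : Block F al 0 58112 50088 :=
  block_comb c225 b226 (Nat.zero_le _) (Nat.le_of_ble_eq_true rfl) rfl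

theorem c227 : Block F al 0 58368 50336 :=
  block_comb c226 b227 (Nat.zero_le _) (Nat.le_of_ble_eq_true rfl) rfl

theorem c228 : Block F al 0 58624 50571 :=
  block_comb c227 b228 (Nat.zero_le _) (Nat.le_of_ble_eq_true rfl) rfl

theorem c229 : Block F al 0 58880 50818 :=
  block_comb c228 b229 (Nat.zero_le _) (Nat.le_of_ble_eq_true rfl) rfl

theorem c230 : Block F al 0 59136 51056 :=
  block_comb c229 b230 (Nat.zero_le _) (Nat.le_of_ble_eq_true rfl) rfl

theorem c231 : Block F al 0 59392 51308 :=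
  block_comb c230 b231 (Nat.zero_le _) (Nat.le_of_ble_eq_true rfl) rfl

theorem c232 : Block F al 0 59648 51564 :=
  block_comb c231 b232 (Nat.zero_le _) (Nat.le_of_ble_eq_true rfl) rfl

theorem c233 : Block F al 0 59904 51818 :=
  block_comb c232 b233 (Nat.zero_le _) (Nat.le_of_ble_eq_true rfl) rfl

theorem c234 : Block F al 0 60160 52057 :=
  block_comb c233 b234 (Nat.zero_le _) (Nat.le_of_ble_eq_true rfl) rfl

theorem c235 : Block F al 0 60416 52303 :=
  block_comb c234 b235 (Nat.zero_le _) (Nat.le_of_ble_eq_true rfl) rfl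

theorem c236 : Block F al 0 60672 52530 :=
  block_comb c235 b236 (Nat.zero_le _) (Nat.le_of_ble_eq_true rfl) rfl

theorem c237 : Block F al 0 60928 52768 :=
  block_comb c236 b237 (Nat.zero_le _) (Nat.le_of_ble_eq_true rfl) rfl

theorem c238 : Block F al 0 61184 53018 :=
  block_comb c237 b238 (Nat.zero_le _) (Nat.le_of_ble_eq_true rfl) rfl

theorem c239 : Block F al 0 61440 53264 :=
  block_comb c238 b239 (Nat.zero_le _) (Nat.le_of_ble_eq_true rfl) rfl

theorem c240 : Block F al 0 61696 53516 :=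
  block_comb c239 b240 (Nat.zero_le _) (Nat.le_of_ble_eq_true rfl) rfl

theorem c241 : Block F al 0 61952 53770 :=
  block_comb c240 b241 (Nat.zero_le _) (Nat.le_of_ble_eq_true rfl) rfl

theorem c242 : Block F al 0 62208 54008 :=
  block_comb c241 b242 (Nat.zero_le _) (Nat.le_of_ble_eq_true rfl) rfl

theorem c243 : Block F al 0 62464 54252 :=
  block_comb c242 b243 (Nat.zero_le _) (Nat.le_of_ble_eq_true rfl) rfl

theorem c244 : Block F al 0 62720 54508 :=
  block_comb c243 b244 (Nat.zero_le _) (Nat.le_of_ble_eq_true rfl) rfl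

theorem c245 : Block F al 0 62976 54761 :=
  block_comb c244 b245 (Nat.zero_le _) (Nat.le_of_ble_eq_true rfl) rfl

theorem c246 : Block F al 0 63232 55007 :=
  block_comb c245 b246 (Nat.zero_le _) (Nat.le_of_ble_eq_true rfl) rfl

theorem c247 : Block F al 0 63488 55252 :=
  block_comb c246 b247 (Nat.zero_le _) (Nat.le_of_ble_eq_true rfl) rfl

theorem c248 : Block F al 0 63744 55495 :=
  block_comb c247 b248 (Nat.zero_le _) (Nat.le_of_ble_eq_true rfl) rfl

theorem c249 : Block F al 0 64000 55734 :=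
  block_comb c248 b249 (Nat.zero_le _) (Nat.le_of_ble_eq_true rfl) rfl

theorem c250 : Block F al 0 64256 55956 :=
  block_comb c249 b250 (Nat.zero_le _) (Nat.le_of_ble_eq_true rfl) rfl

theorem c251 : Block F al 0 64512 56188 :=
  block_comb c250 b251 (Nat.zero_le _) (Nat.le_of_ble_eq_true rfl) rfl

theorem c252 : Block F al 0 64768 56433 :=
  block_comb c251 b252 (Nat.zero_le _) (Nat.le_of_ble_eq_true rfl) rfl

theorem c253 : Block F al 0 65024 56671 :=
  block_comb c252 b253 (Nat.zero_le _) (Nat.le_of_ble_eq_true rfl) rfl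

theorem c254 : Block F al 0 65280 56906 :=
  block_comb c253 b254 (Nat.zero_le _) (Nat.le_of_ble_eq_true rfl) rfl

theorem c255 : Block F al 0 65536 57144 :=
  block_comb c254 b255 (Nat.zero_le _) (Nat.le_of_ble_eq_true rfl) rfl

theorem c256 : Block F al 0 65792 57399 :=
  block_comb c255 b256 (Nat.zero_le _) (Nat.le_of_ble_eq_true rfl) rfl

theorem c257 : Block F al 0 66048 57648 :=
  block_comb c256 b257 (Nat.zero_le _) (Nat.le_of_ble_eq_true rfl) rfl

theorem c258 : Block F al 0 66304 57879 :=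
  block_comb c257 b258 (Nat.zero_le _) (Nat.le_of_ble_eq_true rfl) rfl

theorem c259 : Block F al 0 66560 58112 :=
  block_comb c258 b259 (Nat.zero_le _) (Nat.le_of_ble_eq_true rfl) rfl

theorem c260 : Block F al 0 66816 58357 :=
  block_comb c259 b260 (Nat.zero_le _) (Nat.le_of_ble_eq_true rfl) rfl

theorem c261 : Block F al 0 67072 58596 :=
  block_comb c260 b261 (Nat.zero_le _) (Nat.le_of_ble_eq_true rfl) rfl

theorem c262 : Block F al 0 67328 58840 :=
  block_comb c261 b262 (Nat.zero_le _) (Nat.le_of_ble_eq_true rfl) rfl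

theorem c263 : Block F al 0 67584 59089 :=
  block_comb c262 b263 (Nat.zero_le _) (Nat.le_of_ble_eq_true rfl) rfl

theorem c264 : Block F al 0 67840 59328 :=
  block_comb c263 b264 (Nat.zero_le _) (Nat.le_of_ble_eq_true rfl) rfl

theorem c265 : Block F al 0 68096 59546 :=
  block_comb c264 b265 (Nat.zero_le _) (Nat.le_of_ble_eq_true rfl) rfl

theorem c266 : Block F al 0 68352 59787 :=
  block_comb c265 b266 (Nat.zero_le _) (Nat.le_of_ble_eq_true rfl) rfl

theorem c267 : Block F al 0 68608 60032 :=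
  block_comb c266 b267 (Nat.zero_le _) (Nat.le_of_ble_eq_true rfl) rfl

theorem c268 : Block F al 0 68864 60260 :=
  block_comb c267 b268 (Nat.zero_le _) (Nat.le_of_ble_eq_true rfl) rfl

theorem c269 : Block F al 0 69120 60508 :=
  block_comb c268 b269 (Nat.zero_le _) (Nat.le_of_ble_eq_true rfl) rfl

theorem c270 : Block F al 0 69376 60707 :=
  block_comb c269 b270 (Nat.zero_le _) (Nat.le_of_ble_eq_true rfl) rfl

theorem c271 : Block F al 0 69632 60928 :=
  block_comb c270 b271 (Nat.zero_le _) (Nat.le_of_ble_eq_true rfl) rfl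

theorem c272 : Block F al 0 69888 61170 :=
  block_comb c271 b272 (Nat.zero_le _) (Nat.le_of_ble_eq_true rfl) rfl

theorem c273 : Block F al 0 70144 61419 :=
  block_comb c272 b273 (Nat.zero_le _) (Nat.le_of_ble_eq_true rfl) rfl

theorem c274 : Block F al 0 70400 61661 :=
  block_comb c273 b274 (Nat.zero_le _) (Nat.le_of_ble_eq_true rfl) rfl

theorem c275 : Block F al 0 70656 61906 :=
  block_comb c274 b275 (Nat.zero_le _) (Nat.le_of_ble_eq_true rfl) rfl

theorem c276 : Block F al 0 70912 62149 :=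
  block_comb c275 b276 (Nat.zero_le _) (Nat.le_of_ble_eq_true rfl) rfl

theorem c277 : Block F al 0 71168 62398 :=
  block_comb c276 b277 (Nat.zero_le _) (Nat.le_of_ble_eq_true rfl) rfl

theorem c278 : Block F al 0 71424 62622 :=
  block_comb c277 b278 (Nat.zero_le _) (Nat.le_of_ble_eq_true rfl) rfl

theorem c279 : Block F al 0 71680 62861 :=
  block_comb c278 b279 (Nat.zero_le _) (Nat.le_of_ble_eq_true rfl) rfl

theorem c280 : Block F al 0 71936 63092 :=
  block_comb c279 b280 (Nat.zero_le _) (Nat.le_of_ble_eq_true rfl) rfl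

theorem c281 : Block F al 0 72192 63320 :=
  block_comb c280 b281 (Nat.zero_le _) (Nat.le_of_ble_eq_true rfl) rfl

theorem c282 : Block F al 0 72448 63570 :=
  block_comb c281 b282 (Nat.zero_le _) (Nat.le_of_ble_eq_true rfl) rfl

theorem c283 : Block F al 0 72704 63822 :=
  block_comb c282 b283 (Nat.zero_le _) (Nat.le_of_ble_eq_true rfl) rfl

theorem c284 : Block F al 0 72960 64076 :=
  block_comb c283 b284 (Nat.zero_le _) (Nat.le_of_ble_eq_true rfl) rfl

theorem c285 : Block F al 0 73216 64310 :=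
  block_comb c284 b285 (Nat.zero_le _) (Nat.le_of_ble_eq_true rfl) rfl

theorem c286 : Block F al 0 73472 64552 :=
  block_comb c285 b286 (Nat.zero_le _) (Nat.le_of_ble_eq_true rfl) rfl

theorem c287 : Block F al 0 73728 64786 :=
  block_comb c286 b287 (Nat.zero_le _) (Nat.le_of_ble_eq_true rfl) rfl

theorem c288 : Block F al 0 73984 65021 :=
  block_comb c287 b288 (Nat.zero_le _) (Nat.le_of_ble_eq_true rfl) rfl

theorem c289 : Block F al 0 74240 65275 :=
  block_comb c288 b289 (Nat.zero_le _) (Nat.le_of_ble_eq_true rfl) rfl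

theorem c290 : Block F al 0 74496 65528 :=
  block_comb c289 b290 (Nat.zero_le _) (Nat.le_of_ble_eq_true rfl) rfl

theorem c291 : Block F al 0 74752 65779 :=
  block_comb c290 b291 (Nat.zero_le _) (Nat.le_of_ble_eq_true rfl) rfl

theorem c292 : Block F al 0 75008 66020 :=
  block_comb c291 b292 (Nat.zero_le _) (Nat.le_of_ble_eq_true rfl) rfl

theorem c293 : Block F al 0 75264 66244 :=
  block_comb c292 b293 (Nat.zero_le _) (Nat.le_of_ble_eq_true rfl) rfl

theorem c294 : Block F al 0 75520 66479 :=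
  block_comb c293 b294 (Nat.zero_le _) (Nat.le_of_ble_eq_true rfl) rfl

theorem c295 : Block F al 0 75776 66722 :=
  block_comb c294 b295 (Nat.zero_le _) (Nat.le_of_ble_eq_true rfl) rfl

theorem c296 : Block F al 0 76032 66921 :=
  block_comb c295 b296 (Nat.zero_le _) (Nat.le_of_ble_eq_true rfl) rfl

theorem c297 : Block F al 0 76288 67166 :=
  block_comb c296 b297 (Nat.zero_le _) (Nat.le_of_ble_eq_true rfl) rfl

theorem c298 : Block F al 0 76544 67388 :=
  block_comb c297 b298 (Nat.zero_le _) (Nat.le_of_ble_eq_true rfl) rfl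

theorem c299 : Block F al 0 76800 67580 :=
  block_comb c298 b299 (Nat.zero_le _) (Nat.le_of_ble_eq_true rfl) rfl

theorem c300 : Block F al 0 77056 67798 :=
  block_comb c299 b300 (Nat.zero_le _) (Nat.le_of_ble_eq_true rfl) rfl

theorem c301 : Block F al 0 77312 68016 :=
  block_comb c300 b301 (Nat.zero_le _) (Nat.le_of_ble_eq_true rfl) rfl

theorem c302 : Block F al 0 77568 68249 :=
  block_comb c301 b302 (Nat.zero_le _) (Nat.le_of_ble_eq_true rfl) rfl

theorem c303 : Block F al 0 77824 68487 :=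
  block_comb c302 b303 (Nat.zero_le _) (Nat.le_of_ble_eq_true rfl) rfl

theorem c304 : Block F al 0 78080 68737 :=
  block_comb c303 b304 (Nat.zero_le _) (Nat.le_of_ble_eq_true rfl) rfl

theorem c305 : Block F al 0 78336 68965 :=
  block_comb c304 b305 (Nat.zero_le _) (Nat.le_of_ble_eq_true rfl) rfl

theorem c306 : Block F al 0 78592 69192 :=
  block_comb c305 b306 (Nat.zero_le _) (Nat.le_of_ble_eq_true rfl) rfl

theorem c307 : Block F al 0 78848 69424 :=
  block_comb c306 b307 (Nat.zero_le _) (Nat.le_of_ble_eq_true rfl) rfl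

theorem c308 : Block F al 0 79104 69668 :=
  block_comb c307 b308 (Nat.zero_le _) (Nat.le_of_ble_eq_true rfl) rfl

theorem c309 : Block F al 0 79360 69906 :=
  block_comb c308 b309 (Nat.zero_le _) (Nat.le_of_ble_eq_true rfl) rfl

theorem c310 : Block F al 0 79616 70140 :=
  block_comb c309 b310 (Nat.zero_le _) (Nat.le_of_ble_eq_true rfl) rfl

theorem c311 : Block F al 0 79872 70387 :=
  block_comb c310 b311 (Nat.zero_le _) (Nat.le_of_ble_eq_true rfl) rfl

theorem c312 : Block F al 0 80128 70608 :=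
  block_comb c311 b312 (Nat.zero_le _) (Nat.le_of_ble_eq_true rfl) rfl

theorem c313 : Block F al 0 80384 70844 :=
  block_comb c312 b313 (Nat.zero_le _) (Nat.le_of_ble_eq_true rfl) rfl

theorem c314 : Block F al 0 80640 71076 :=
  block_comb c313 b314 (Nat.zero_le _) (Nat.le_of_ble_eq_true rfl) rfl

theorem c315 : Block F al 0 80896 71315 :=
  block_comb c314 b315 (Nat.zero_le _) (Nat.le_of_ble_eq_true rfl) rfl

theorem c316 : Block F al 0 81152 71547 :=
  block_comb c315 b316 (Nat.zero_le _) (Nat.le_of_ble_eq_true rfl) rfl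

theorem c317 : Block F al 0 81408 71783 :=
  block_comb c316 b317 (Nat.zero_le _) (Nat.le_of_ble_eq_true rfl) rfl

theorem c318 : Block F al 0 81664 72005 :=
  block_comb c317 b318 (Nat.zero_le _) (Nat.le_of_ble_eq_true rfl) rfl

theorem c319 : Block F al 0 81920 72227 :=
  block_comb c318 b319 (Nat.zero_le _) (Nat.le_of_ble_eq_true rfl) rfl

theorem c320 : Block F al 0 82176 72475 :=
  block_comb c319 b320 (Nat.zero_le _) (Nat.le_of_ble_eq_true rfl) rfl

theorem c321 : Block F al 0 82432 72715 :=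
  block_comb c320 b321 (Nat.zero_le _) (Nat.le_of_ble_eq_true rfl) rfl

theorem c322 : Block F al 0 82688 72959 :=
  block_comb c321 b322 (Nat.zero_le _) (Nat.le_of_ble_eq_true rfl) rfl

theorem c323 : Block F al 0 82944 73190 :=
  block_comb c322 b323 (Nat.zero_le _) (Nat.le_of_ble_eq_true rfl) rfl

theorem c324 : Block F al 0 83200 73439 :=
  block_comb c323 b324 (Nat.zero_le _) (Nat.le_of_ble_eq_true rfl) rfl

theorem c325 : Block F al 0 83456 73604 :=
  block_comb c324 b325 (Nat.zero_le _) (Nat.le_of_ble_eq_true rfl) rfl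

theorem c326 : Block F al 0 83712 73847 :=
  block_comb c325 b326 (Nat.zero_le _) (Nat.le_of_ble_eq_true rfl) rfl

theorem c327 : Block F al 0 83968 74101 :=
  block_comb c326 b327 (Nat.zero_le _) (Nat.le_of_ble_eq_true rfl) rfl

theorem c328 : Block F al 0 84224 74330 :=
  block_comb c327 b328 (Nat.zero_le _) (Nat.le_of_ble_eq_true rfl) rfl

theorem c329 : Block F al 0 84480 74555 :=
  block_comb c328 b329 (Nat.zero_le _) (Nat.le_of_ble_eq_true rfl) rfl

theorem c330 : Block F al 0 84736 74755 :=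
  block_comb c329 b330 (Nat.zero_le _) (Nat.le_of_ble_eq_true rfl) rfl

theorem c331 : Block F al 0 84992 75011 :=
  block_comb c330 b331 (Nat.zero_le _) (Nat.le_of_ble_eq_true rfl) rfl

theorem c332 : Block F al 0 85248 75245 :=
  block_comb c331 b332 (Nat.zero_le _) (Nat.le_of_ble_eq_true rfl) rfl

theorem c333 : Block F al 0 85504 75492 :=
  block_comb c332 b333 (Nat.zero_le _) (Nat.le_of_ble_eq_true rfl) rfl

theorem c334 : Block F al 0 85760 75736 :=
  block_comb c333 b334 (Nat.zero_le _) (Nat.le_of_ble_eq_true rfl) rfl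

theorem c335 : Block F al 0 86016 75974 :=
  block_comb c334 b335 (Nat.zero_le _) (Nat.le_of_ble_eq_true rfl) rfl

theorem c336 : Block F al 0 86272 76215 :=
  block_comb c335 b336 (Nat.zero_le _) (Nat.le_of_ble_eq_true rfl) rfl

theorem c337 : Block F al 0 86528 76397 :=
  block_comb c336 b337 (Nat.zero_le _) (Nat.le_of_ble_eq_true rfl) rfl

theorem c338 : Block F al 0 86784 76633 :=
  block_comb c337 b338 (Nat.zero_le _) (Nat.le_of_ble_eq_true rfl) rfl

theorem c339 : Block F al 0 87040 76878 :=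
  block_comb c338 b339 (Nat.zero_le _) (Nat.le_of_ble_eq_true rfl) rfl

theorem c340 : Block F al 0 87296 77124 :=
  block_comb c339 b340 (Nat.zero_le _) (Nat.le_of_ble_eq_true rfl) rfl

theorem c341 : Block F al 0 87552 77360 :=
  block_comb c340 b341 (Nat.zero_le _) (Nat.le_of_ble_eq_true rfl) rfl

theorem c342 : Block F al 0 87808 77602 :=
  block_comb c341 b342 (Nat.zero_le _) (Nat.le_of_ble_eq_true rfl) rfl

theorem c343 : Block F al 0 88064 77852 :=
  block_comb c342 b343 (Nat.zero_le _) (Nat.le_of_ble_eq_true rfl) rfl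

theorem c344 : Block F al 0 88320 78085 :=
  block_comb c343 b344 (Nat.zero_le _) (Nat.le_of_ble_eq_true rfl) rfl

theorem c345 : Block F al 0 88576 78325 :=
  block_comb c344 b345 (Nat.zero_le _) (Nat.le_of_ble_eq_true rfl) rfl

theorem c346 : Block F al 0 88832 78558 :=
  block_comb c345 b346 (Nat.zero_le _) (Nat.le_of_ble_eq_true rfl) rfl

theorem c347 : Block F al 0 89088 78779 :=
  block_comb c346 b347 (Nat.zero_le _) (Nat.le_of_ble_eq_true rfl) rfl

theorem c348 : Block F al 0 89344 79033 :=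
  block_comb c347 b348 (Nat.zero_le _) (Nat.le_of_ble_eq_true rfl) rfl

theorem c349 : Block F al 0 89600 79286 :=
  block_comb c348 b349 (Nat.zero_le _) (Nat.le_of_ble_eq_true rfl) rfl

theorem c350 : Block F al 0 89856 79538 :=
  block_comb c349 b350 (Nat.zero_le _) (Nat.le_of_ble_eq_true rfl) rfl

theorem c351 : Block F al 0 90112 79790 :=
  block_comb c350 b351 (Nat.zero_le _) (Nat.le_of_ble_eq_true rfl) rfl

theorem c352 : Block F al 0 90368 80036 :=
  block_comb c351 b352 (Nat.zero_le _) (Nat.le_of_ble_eq_true rfl) rfl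

theorem c353 : Block F al 0 90624 80286 :=
  block_comb c352 b353 (Nat.zero_le _) (Nat.le_of_ble_eq_true rfl) rfl

theorem c354 : Block F al 0 90880 80535 :=
  block_comb c353 b354 (Nat.zero_le _) (Nat.le_of_ble_eq_true rfl) rfl

theorem c355 : Block F al 0 91136 80784 :=
  block_comb c354 b355 (Nat.zero_le _) (Nat.le_of_ble_eq_true rfl) rfl

theorem c356 : Block F al 0 91392 81037 :=
  block_comb c355 b356 (Nat.zero_le _) (Nat.le_of_ble_eq_true rfl) rfl

theorem c357 : Block F al 0 91648 81286 :=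
  block_comb c356 b357 (Nat.zero_le _) (Nat.le_of_ble_eq_true rfl) rfl

theorem c358 : Block F al 0 91904 81539 :=
  block_comb c357 b358 (Nat.zero_le _) (Nat.le_of_ble_eq_true rfl) rfl

theorem c359 : Block F al 0 92160 81793 :=
  block_comb c358 b359 (Nat.zero_le _) (Nat.le_of_ble_eq_true rfl) rfl

theorem c360 : Block F al 0 92416 82045 :=
  block_comb c359 b360 (Nat.zero_le _) (Nat.le_of_ble_eq_true rfl) rfl

theorem c361 : Block F al 0 92672 82292 :=
  block_comb c360 b361 (Nat.zero_le _) (Nat.le_of_ble_eq_true rfl) rfl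

theorem c362 : Block F al 0 92928 82536 :=
  block_comb c361 b362 (Nat.zero_le _) (Nat.le_of_ble_eq_true rfl) rfl

theorem c363 : Block F al 0 93184 82771 :=
  block_comb c362 b363 (Nat.zero_le _) (Nat.le_of_ble_eq_true rfl) rfl

theorem c364 : Block F al 0 93440 83015 :=
  block_comb c363 b364 (Nat.zero_le _) (Nat.le_of_ble_eq_true rfl) rfl

theorem c365 : Block F al 0 93696 83245 :=
  block_comb c364 b365 (Nat.zero_le _) (Nat.le_of_ble_eq_true rfl) rfl

theorem c366 : Block F al 0 93952 83465 :=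
  block_comb c365 b366 (Nat.zero_le _) (Nat.le_of_ble_eq_true rfl) rfl

theorem c367 : Block F al 0 94208 83690 :=
  block_comb c366 b367 (Nat.zero_le _) (Nat.le_of_ble_eq_true rfl) rfl

theorem c368 : Block F al 0 94464 83904 :=
  block_comb c367 b368 (Nat.zero_le _) (Nat.le_of_ble_eq_true rfl) rfl

theorem c369 : Block F al 0 94720 84151 :=
  block_comb c368 b369 (Nat.zero_le _) (Nat.le_of_ble_eq_true rfl) rfl

theorem c370 : Block F al 0 94976 84386 :=
  block_comb c369 b370 (Nat.zero_le _) (Nat.le_of_ble_eq_true rfl) rfl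

theorem c371 : Block F al 0 95232 84639 :=
  block_comb c370 b371 (Nat.zero_le _) (Nat.le_of_ble_eq_true rfl) rfl

theorem c372 : Block F al 0 95488 84877 :=
  block_comb c371 b372 (Nat.zero_le _) (Nat.le_of_ble_eq_true rfl) rfl

theorem c373 : Block F al 0 95744 85081 :=
  block_comb c372 b373 (Nat.zero_le _) (Nat.le_of_ble_eq_true rfl) rfl

theorem c374 : Block F al 0 96000 85315 :=
  block_comb c373 b374 (Nat.zero_le _) (Nat.le_of_ble_eq_true rfl) rfl

theorem c375 : Block F al 0 96256 85545 :=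
  block_comb c374 b375 (Nat.zero_le _) (Nat.le_of_ble_eq_true rfl) rfl

theorem c376 : Block F al 0 96512 85783 :=
  block_comb c375 b376 (Nat.zero_le _) (Nat.le_of_ble_eq_true rfl) rfl

theorem c377 : Block F al 0 96768 86001 :=
  block_comb c376 b377 (Nat.zero_le _) (Nat.le_of_ble_eq_true rfl) rfl

theorem c378 : Block F al 0 97024 86231 :=
  block_comb c377 b378 (Nat.zero_le _) (Nat.le_of_ble_eq_true rfl) rfl

theorem c379 : Block F al 0 97280 86480 :=
  block_comb c378 b379 (Nat.zero_le _) (Nat.le_of_ble_eq_true rfl) rfl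

theorem c380 : Block F al 0 97536 86722 :=
  block_comb c379 b380 (Nat.zero_le _) (Nat.le_of_ble_eq_true rfl) rfl

theorem c381 : Block F al 0 97792 86971 :=
  block_comb c380 b381 (Nat.zero_le _) (Nat.le_of_ble_eq_true rfl) rfl

theorem c382 : Block F al 0 98048 87218 :=
  block_comb c381 b382 (Nat.zero_le _) (Nat.le_of_ble_eq_true rfl) rfl

theorem c383 : Block F al 0 98304 87445 :=
  block_comb c382 b383 (Nat.zero_le _) (Nat.le_of_ble_eq_true rfl) rfl

theorem c384 : Block F al 0 98560 87633 :=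
  block_comb c383 b384 (Nat.zero_le _) (Nat.le_of_ble_eq_true rfl) rfl

theorem c385 : Block F al 0 98816 87882 :=
  block_comb c384 b385 (Nat.zero_le _) (Nat.le_of_ble_eq_true rfl) rfl

theorem c386 : Block F al 0 99072 88135 :=
  block_comb c385 b386 (Nat.zero_le _) (Nat.le_of_ble_eq_true rfl) rfl

theorem c387 : Block F al 0 99328 88381 :=
  block_comb c386 b387 (Nat.zero_le _) (Nat.le_of_ble_eq_true rfl) rfl

theorem c388 : Block F al 0 99584 88616 :=
  block_comb c387 b388 (Nat.zero_le _) (Nat.le_of_ble_eq_true rfl) rfl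

theorem c389 : Block F al 0 99840 88848 :=
  block_comb c388 b389 (Nat.zero_le _) (Nat.le_of_ble_eq_true rfl) rfl

theorem c390 : Block F al 0 100096 89088 :=
  block_comb c389 b390 (Nat.zero_le _) (Nat.le_of_ble_eq_true rfl) rfl

theorem c391 : Block F al 0 100352 89334 :=
  block_comb c390 b391 (Nat.zero_le _) (Nat.le_of_ble_eq_true rfl) rfl

theorem c392 : Block F al 0 100608 89584 :=
  block_comb c391 b392 (Nat.zero_le _) (Nat.le_of_ble_eq_true rfl) rfl

theorem c393 : Block F al 0 100864 89836 :=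
  block_comb c392 b393 (Nat.zero_le _) (Nat.le_of_ble_eq_true rfl) rfl

theorem c394 : Block F al 0 101120 90087 :=
  block_comb c393 b394 (Nat.zero_le _) (Nat.le_of_ble_eq_true rfl) rfl

theorem c395 : Block F al 0 101376 90341 :=
  block_comb c394 b395 (Nat.zero_le _) (Nat.le_of_ble_eq_true rfl) rfl

theorem c396 : Block F al 0 101632 90593 :=
  block_comb c395 b396 (Nat.zero_le _) (Nat.le_of_ble_eq_true rfl) rfl

theorem c397 : Block F al 0 101888 90836 :=
  block_comb c396 b397 (Nat.zero_le _) (Nat.le_of_ble_eq_true rfl) rfl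

theorem c398 : Block F al 0 102144 91081 :=
  block_comb c397 b398 (Nat.zero_le _) (Nat.le_of_ble_eq_true rfl) rfl

theorem c399 : Block F al 0 102400 91328 :=
  block_comb c398 b399 (Nat.zero_le _) (Nat.le_of_ble_eq_true rfl) rfl

theorem c400 : Block F al 0 102656 91575 :=
  block_comb c399 b400 (Nat.zero_le _) (Nat.le_of_ble_eq_true rfl) rfl

theorem c401 : Block F al 0 102912 91826 :=
  block_comb c400 b401 (Nat.zero_le _) (Nat.le_of_ble_eq_true rfl) rfl

theorem c402 : Block F al 0 103168 92078 :=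
  block_comb c401 b402 (Nat.zero_le _) (Nat.le_of_ble_eq_true rfl) rfl

theorem c403 : Block F al 0 103424 92330 :=
  block_comb c402 b403 (Nat.zero_le _) (Nat.le_of_ble_eq_true rfl) rfl

theorem c404 : Block F al 0 103680 92577 :=
  block_comb c403 b404 (Nat.zero_le _) (Nat.le_of_ble_eq_true rfl) rfl

theorem c405 : Block F al 0 103936 92819 :=
  block_comb c404 b405 (Nat.zero_le _) (Nat.le_of_ble_eq_true rfl) rfl

theorem c406 : Block F al 0 104192 93058 :=
  block_comb c405 b406 (Nat.zero_le _) (Nat.le_of_ble_eq_true rfl) rfl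

theorem c407 : Block F al 0 104448 93292 :=
  block_comb c406 b407 (Nat.zero_le _) (Nat.le_of_ble_eq_true rfl) rfl

theorem c408 : Block F al 0 104704 93494 :=
  block_comb c407 b408 (Nat.zero_le _) (Nat.le_of_ble_eq_true rfl) rfl

theorem c409 : Block F al 0 104960 93709 :=
  block_comb c408 b409 (Nat.zero_le _) (Nat.le_of_ble_eq_true rfl) rfl

theorem c410 : Block F al 0 105216 93944 :=
  block_comb c409 b410 (Nat.zero_le _) (Nat.le_of_ble_eq_true rfl) rfl

theorem c411 : Block F al 0 105472 94151 :=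
  block_comb c410 b411 (Nat.zero_le _) (Nat.le_of_ble_eq_true rfl) rfl

theorem c412 : Block F al 0 105728 94380 :=
  block_comb c411 b412 (Nat.zero_le _) (Nat.le_of_ble_eq_true rfl) rfl

theorem c413 : Block F al 0 105984 94600 :=
  block_comb c412 b413 (Nat.zero_le _) (Nat.le_of_ble_eq_true rfl) rfl

theorem c414 : Block F al 0 106240 94829 :=
  block_comb c413 b414 (Nat.zero_le _) (Nat.le_of_ble_eq_true rfl) rfl

theorem c415 : Block F al 0 106496 95069 :=
  block_comb c414 b415 (Nat.zero_le _) (Nat.le_of_ble_eq_true rfl) rfl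

theorem c416 : Block F al 0 106752 95306 :=
  block_comb c415 b416 (Nat.zero_le _) (Nat.le_of_ble_eq_true rfl) rfl

theorem c417 : Block F al 0 107008 95549 :=
  block_comb c416 b417 (Nat.zero_le _) (Nat.le_of_ble_eq_true rfl) rfl

theorem c418 : Block F al 0 107264 95776 :=
  block_comb c417 b418 (Nat.zero_le _) (Nat.le_of_ble_eq_true rfl) rfl

theorem c419 : Block F al 0 107520 96007 :=
  block_comb c418 b419 (Nat.zero_le _) (Nat.le_of_ble_eq_true rfl) rfl

theorem c420 : Block F al 0 107776 96250 :=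
  block_comb c419 b420 (Nat.zero_le _) (Nat.le_of_ble_eq_true rfl) rfl

theorem c421 : Block F al 0 108032 96492 :=
  block_comb c420 b421 (Nat.zero_le _) (Nat.le_of_ble_eq_true rfl) rfl

theorem c422 : Block F al 0 108288 96729 :=
  block_comb c421 b422 (Nat.zero_le _) (Nat.le_of_ble_eq_true rfl) rfl

theorem c423 : Block F al 0 108544 96959 :=
  block_comb c422 b423 (Nat.zero_le _) (Nat.le_of_ble_eq_true rfl) rfl

theorem c424 : Block F al 0 108800 97199 :=
  block_comb c423 b424 (Nat.zero_le _) (Nat.le_of_ble_eq_true rfl) rfl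

theorem c425 : Block F al 0 109056 97424 :=
  block_comb c424 b425 (Nat.zero_le _) (Nat.le_of_ble_eq_true rfl) rfl

theorem c426 : Block F al 0 109312 97670 :=
  block_comb c425 b426 (Nat.zero_le _) (Nat.le_of_ble_eq_true rfl) rfl

theorem c427 : Block F al 0 109568 97916 :=
  block_comb c426 b427 (Nat.zero_le _) (Nat.le_of_ble_eq_true rfl) rfl

theorem c428 : Block F al 0 109824 98160 :=
  block_comb c427 b428 (Nat.zero_le _) (Nat.le_of_ble_eq_true rfl) rfl

theorem c429 : Block F al 0 110080 98397 :=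
  block_comb c428 b429 (Nat.zero_le _) (Nat.le_of_ble_eq_true rfl) rfl

theorem c430 : Block F al 0 110336 98627 :=
  block_comb c429 b430 (Nat.zero_le _) (Nat.le_of_ble_eq_true rfl) rfl

theorem c431 : Block F al 0 110592 98879 :=
  block_comb c430 b431 (Nat.zero_le _) (Nat.le_of_ble_eq_true rfl) rfl

theorem c432 : Block F al 0 110848 99131 :=
  block_comb c431 b432 (Nat.zero_le _) (Nat.le_of_ble_eq_true rfl) rfl

theorem c433 : Block F al 0 111104 99336 :=
  block_comb c432 b433 (Nat.zero_le _) (Nat.le_of_ble_eq_true rfl) rfl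

theorem c434 : Block F al 0 111360 99554 :=
  block_comb c433 b434 (Nat.zero_le _) (Nat.le_of_ble_eq_true rfl) rfl

theorem c435 : Block F al 0 111616 99775 :=
  block_comb c434 b435 (Nat.zero_le _) (Nat.le_of_ble_eq_true rfl) rfl

theorem c436 : Block F al 0 111872 99987 :=
  block_comb c435 b436 (Nat.zero_le _) (Nat.le_of_ble_eq_true rfl) rfl

theorem c437 : Block F al 0 112128 100228 :=
  block_comb c436 b437 (Nat.zero_le _) (Nat.le_of_ble_eq_true rfl) rfl

theorem c438 : Block F al 0 112384 100467 :=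
  block_comb c437 b438 (Nat.zero_le _) (Nat.le_of_ble_eq_true rfl) rfl

theorem c439 : Block F al 0 112640 100705 :=
  block_comb c438 b439 (Nat.zero_le _) (Nat.le_of_ble_eq_true rfl) rfl

theorem c440 : Block F al 0 112896 100950 :=
  block_comb c439 b440 (Nat.zero_le _) (Nat.le_of_ble_eq_true rfl) rfl

theorem c441 : Block F al 0 113152 101187 :=
  block_comb c440 b441 (Nat.zero_le _) (Nat.le_of_ble_eq_true rfl) rfl

theorem c442 : Block F al 0 113408 101408 :=
  block_comb c441 b442 (Nat.zero_le _) (Nat.le_of_ble_eq_true rfl) rfl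

theorem c443 : Block F al 0 113664 101649 :=
  block_comb c442 b443 (Nat.zero_le _) (Nat.le_of_ble_eq_true rfl) rfl

theorem c444 : Block F al 0 113920 101880 :=
  block_comb c443 b444 (Nat.zero_le _) (Nat.le_of_ble_eq_true rfl) rfl

theorem c445 : Block F al 0 114176 102126 :=
  block_comb c444 b445 (Nat.zero_le _) (Nat.le_of_ble_eq_true rfl) rfl

theorem c446 : Block F al 0 114432 102371 :=
  block_comb c445 b446 (Nat.zero_le _) (Nat.le_of_ble_eq_true rfl) rfl

theorem c447 : Block F al 0 114688 102611 :=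
  block_comb c446 b447 (Nat.zero_le _) (Nat.le_of_ble_eq_true rfl) rfl

theorem c448 : Block F al 0 114944 102828 :=
  block_comb c447 b448 (Nat.zero_le _) (Nat.le_of_ble_eq_true rfl) rfl

theorem c449 : Block F al 0 115200 103078 :=
  block_comb c448 b449 (Nat.zero_le _) (Nat.le_of_ble_eq_true rfl) rfl

theorem c450 : Block F al 0 115456 103313 :=
  block_comb c449 b450 (Nat.zero_le _) (Nat.le_of_ble_eq_true rfl) rfl

theorem c451 : Block F al 0 115712 103550 :=
  block_comb c450 b451 (Nat.zero_le _) (Nat.le_of_ble_eq_true rfl) rfl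

theorem c452 : Block F al 0 115968 103797 :=
  block_comb c451 b452 (Nat.zero_le _) (Nat.le_of_ble_eq_true rfl) rfl

theorem c453 : Block F al 0 116224 104044 :=
  block_comb c452 b453 (Nat.zero_le _) (Nat.le_of_ble_eq_true rfl) rfl

theorem c454 : Block F al 0 116480 104288 :=
  block_comb c453 b454 (Nat.zero_le _) (Nat.le_of_ble_eq_true rfl) rfl

theorem c455 : Block F al 0 116736 104516 :=
  block_comb c454 b455 (Nat.zero_le _) (Nat.le_of_ble_eq_true rfl) rfl

theorem c456 : Block F al 0 116992 104735 :=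
  block_comb c455 b456 (Nat.zero_le _) (Nat.le_of_ble_eq_true rfl) rfl

theorem c457 : Block F al 0 117248 104961 :=
  block_comb c456 b457 (Nat.zero_le _) (Nat.le_of_ble_eq_true rfl) rfl

theorem c458 : Block F al 0 117504 105202 :=
  block_comb c457 b458 (Nat.zero_le _) (Nat.le_of_ble_eq_true rfl) rfl

theorem c459 : Block F al 0 117760 105436 :=
  block_comb c458 b459 (Nat.zero_le _) (Nat.le_of_ble_eq_true rfl) rfl

theorem c460 : Block F al 0 118016 105663 :=
  block_comb c459 b460 (Nat.zero_le _) (Nat.le_of_ble_eq_true rfl) rfl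

theorem c461 : Block F al 0 118272 105897 :=
  block_comb c460 b461 (Nat.zero_le _) (Nat.le_of_ble_eq_true rfl) rfl

theorem c462 : Block F al 0 118528 106137 :=
  block_comb c461 b462 (Nat.zero_le _) (Nat.le_of_ble_eq_true rfl) rfl

theorem c463 : Block F al 0 118784 106372 :=
  block_comb c462 b463 (Nat.zero_le _) (Nat.le_of_ble_eq_true rfl) rfl

theorem c464 : Block F al 0 119040 106618 :=
  block_comb c463 b464 (Nat.zero_le _) (Nat.le_of_ble_eq_true rfl) rfl

theorem c465 : Block F al 0 119296 106867 :=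
  block_comb c464 b465 (Nat.zero_le _) (Nat.le_of_ble_eq_true rfl) rfl

theorem c466 : Block F al 0 119552 107091 :=
  block_comb c465 b466 (Nat.zero_le _) (Nat.le_of_ble_eq_true rfl) rfl

theorem c467 : Block F al 0 119808 107330 :=
  block_comb c466 b467 (Nat.zero_le _) (Nat.le_of_ble_eq_true rfl) rfl

theorem c468 : Block F al 0 120064 107575 :=
  block_comb c467 b468 (Nat.zero_le _) (Nat.le_of_ble_eq_true rfl) rfl

theorem c469 : Block F al 0 120320 107804 :=
  block_comb c468 b469 (Nat.zero_le _) (Nat.le_of_ble_eq_true rfl) rfl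

theorem c470 : Block F al 0 120576 108011 :=
  block_comb c469 b470 (Nat.zero_le _) (Nat.le_of_ble_eq_true rfl) rfl

theorem c471 : Block F al 0 120832 108229 :=
  block_comb c470 b471 (Nat.zero_le _) (Nat.le_of_ble_eq_true rfl) rfl

theorem c472 : Block F al 0 121088 108439 :=
  block_comb c471 b472 (Nat.zero_le _) (Nat.le_of_ble_eq_true rfl) rfl

theorem c473 : Block F al 0 121344 108672 :=
  block_comb c472 b473 (Nat.zero_le _) (Nat.le_of_ble_eq_true rfl) rfl

theorem c474 : Block F al 0 121600 108886 :=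
  block_comb c473 b474 (Nat.zero_le _) (Nat.le_of_ble_eq_true rfl) rfl

theorem c475 : Block F al 0 121856 109130 :=
  block_comb c474 b475 (Nat.zero_le _) (Nat.le_of_ble_eq_true rfl) rfl

theorem c476 : Block F al 0 122112 109350 :=
  block_comb c475 b476 (Nat.zero_le _) (Nat.le_of_ble_eq_true rfl) rfl

theorem c477 : Block F al 0 122368 109603 :=
  block_comb c476 b477 (Nat.zero_le _) (Nat.le_of_ble_eq_true rfl) rfl

theorem c478 : Block F al 0 122624 109839 :=
  block_comb c477 b478 (Nat.zero_le _) (Nat.le_of_ble_eq_true rfl) rfl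

theorem c479 : Block F al 0 122880 110081 :=
  block_comb c478 b479 (Nat.zero_le _) (Nat.le_of_ble_eq_true rfl) rfl

theorem c480 : Block F al 0 123136 110326 :=
  block_comb c479 b480 (Nat.zero_le _) (Nat.le_of_ble_eq_true rfl) rfl

theorem c481 : Block F al 0 123392 110570 :=
  block_comb c480 b481 (Nat.zero_le _) (Nat.le_of_ble_eq_true rfl) rfl

theorem c482 : Block F al 0 123648 110801 :=
  block_comb c481 b482 (Nat.zero_le _) (Nat.le_of_ble_eq_true rfl) rfl

theorem c483 : Block F al 0 123904 111004 :=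
  block_comb c482 b483 (Nat.zero_le _) (Nat.le_of_ble_eq_true rfl) rfl

theorem c484 : Block F al 0 124160 111205 :=
  block_comb c483 b484 (Nat.zero_le _) (Nat.le_of_ble_eq_true rfl) rfl

theorem c485 : Block F al 0 124416 111435 :=
  block_comb c484 b485 (Nat.zero_le _) (Nat.le_of_ble_eq_true rfl) rfl

theorem c486 : Block F al 0 124672 111647 :=
  block_comb c485 b486 (Nat.zero_le _) (Nat.le_of_ble_eq_true rfl) rfl

theorem c487 : Block F al 0 124928 111855 :=
  block_comb c486 b487 (Nat.zero_le _) (Nat.le_of_ble_eq_true rfl) rfl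

theorem c488 : Block F al 0 125184 112094 :=
  block_comb c487 b488 (Nat.zero_le _) (Nat.le_of_ble_eq_true rfl) rfl

theorem c489 : Block F al 0 125440 112300 :=
  block_comb c488 b489 (Nat.zero_le _) (Nat.le_of_ble_eq_true rfl) rfl

theorem c490 : Block F al 0 125696 112496 :=
  block_comb c489 b490 (Nat.zero_le _) (Nat.le_of_ble_eq_true rfl) rfl

theorem c491 : Block F al 0 125952 112731 :=
  block_comb c490 b491 (Nat.zero_le _) (Nat.le_of_ble_eq_true rfl) rfl

theorem c492 : Block F al 0 126208 112974 :=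
  block_comb c491 b492 (Nat.zero_le _) (Nat.le_of_ble_eq_true rfl) rfl

theorem c493 : Block F al 0 126464 113209 :=
  block_comb c492 b493 (Nat.zero_le _) (Nat.le_of_ble_eq_true rfl) rfl

theorem c494 : Block F al 0 126720 113453 :=
  block_comb c493 b494 (Nat.zero_le _) (Nat.le_of_ble_eq_true rfl) rfl

theorem c495 : Block F al 0 126976 113692 :=
  block_comb c494 b495 (Nat.zero_le _) (Nat.le_of_ble_eq_true rfl) rfl

theorem c496 : Block F al 0 127232 113898 :=
  block_comb c495 b496 (Nat.zero_le _) (Nat.le_of_ble_eq_true rfl) rfl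

theorem c497 : Block F al 0 127488 114095 :=
  block_comb c496 b497 (Nat.zero_le _) (Nat.le_of_ble_eq_true rfl) rfl

theorem c498 : Block F al 0 127744 114330 :=
  block_comb c497 b498 (Nat.zero_le _) (Nat.le_of_ble_eq_true rfl) rfl

theorem c499 : Block F al 0 128000 114566 :=
  block_comb c498 b499 (Nat.zero_le _) (Nat.le_of_ble_eq_true rfl) rfl

theorem c500 : Block F al 0 128256 114787 :=
  block_comb c499 b500 (Nat.zero_le _) (Nat.le_of_ble_eq_true rfl) rfl

theorem c501 : Block F al 0 128512 115017 :=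
  block_comb c500 b501 (Nat.zero_le _) (Nat.le_of_ble_eq_true rfl) rfl

theorem c502 : Block F al 0 128768 115261 :=
  block_comb c501 b502 (Nat.zero_le _) (Nat.le_of_ble_eq_true rfl) rfl

theorem c503 : Block F al 0 129024 115486 :=
  block_comb c502 b503 (Nat.zero_le _) (Nat.le_of_ble_eq_true rfl) rfl

theorem c504 : Block F al 0 129280 115712 :=
  block_comb c503 b504 (Nat.zero_le _) (Nat.le_of_ble_eq_true rfl) rfl

theorem c505 : Block F al 0 129536 115897 :=
  block_comb c504 b505 (Nat.zero_le _) (Nat.le_of_ble_eq_true rfl) rfl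

theorem c506 : Block F al 0 129792 116144 :=
  block_comb c505 b506 (Nat.zero_le _) (Nat.le_of_ble_eq_true rfl) rfl

theorem c507 : Block F al 0 130048 116390 :=
  block_comb c506 b507 (Nat.zero_le _) (Nat.le_of_ble_eq_true rfl) rfl

theorem c508 : Block F al 0 130304 116642 :=
  block_comb c507 b508 (Nat.zero_le _) (Nat.le_of_ble_eq_true rfl) rfl

theorem c509 : Block F al 0 130560 116867 :=
  block_comb c508 b509 (Nat.zero_le _) (Nat.le_of_ble_eq_true rfl) rfl

theorem c510 : Block F al 0 130816 117114 :=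
  block_comb c509 b510 (Nat.zero_le _) (Nat.le_of_ble_eq_true rfl) rfl

theorem c511 : Block F al 0 131072 117362 :=
  block_comb c510 b511 (Nat.zero_le _) (Nat.le_of_ble_eq_true rfl) rfl

theorem c512 : Block F al 0 131328 117608 :=
  block_comb c511 b512 (Nat.zero_le _) (Nat.le_of_ble_eq_true rfl) rfl

theorem c513 : Block F al 0 131584 117852 :=
  block_comb c512 b513 (Nat.zero_le _) (Nat.le_of_ble_eq_true rfl) rfl

theorem c514 : Block F al 0 131840 118105 :=
  block_comb c513 b514 (Nat.zero_le _) (Nat.le_of_ble_eq_true rfl) rfl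

theorem c515 : Block F al 0 132096 118344 :=
  block_comb c514 b515 (Nat.zero_le _) (Nat.le_of_ble_eq_true rfl) rfl

theorem c516 : Block F al 0 132352 118590 :=
  block_comb c515 b516 (Nat.zero_le _) (Nat.le_of_ble_eq_true rfl) rfl

theorem c517 : Block F al 0 132608 118834 :=
  block_comb c516 b517 (Nat.zero_le _) (Nat.le_of_ble_eq_true rfl) rfl

theorem c518 : Block F al 0 132864 119069 :=
  block_comb c517 b518 (Nat.zero_le _) (Nat.le_of_ble_eq_true rfl) rfl

theorem c519 : Block F al 0 133120 119307 :=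
  block_comb c518 b519 (Nat.zero_le _) (Nat.le_of_ble_eq_true rfl) rfl

theorem c520 : Block F al 0 133376 119551 :=
  block_comb c519 b520 (Nat.zero_le _) (Nat.le_of_ble_eq_true rfl) rfl

theorem c521 : Block F al 0 133632 119795 :=
  block_comb c520 b521 (Nat.zero_le _) (Nat.le_of_ble_eq_true rfl) rfl

theorem c522 : Block F al 0 133888 120036 :=
  block_comb c521 b522 (Nat.zero_le _) (Nat.le_of_ble_eq_true rfl) rfl

theorem c523 : Block F al 0 134144 120257 :=
  block_comb c522 b523 (Nat.zero_le _) (Nat.le_of_ble_eq_true rfl) rfl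

theorem c524 : Block F al 0 134400 120496 :=
  block_comb c523 b524 (Nat.zero_le _) (Nat.le_of_ble_eq_true rfl) rfl

theorem c525 : Block F al 0 134656 120720 :=
  block_comb c524 b525 (Nat.zero_le _) (Nat.le_of_ble_eq_true rfl) rfl

theorem c526 : Block F al 0 134912 120957 :=
  block_comb c525 b526 (Nat.zero_le _) (Nat.le_of_ble_eq_true rfl) rfl

theorem c527 : Block F al 0 135168 121199 :=
  block_comb c526 b527 (Nat.zero_le _) (Nat.le_of_ble_eq_true rfl) rfl

theorem c528 : Block F al 0 135424 121432 :=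
  block_comb c527 b528 (Nat.zero_le _) (Nat.le_of_ble_eq_true rfl) rfl

theorem c529 : Block F al 0 135680 121667 :=
  block_comb c528 b529 (Nat.zero_le _) (Nat.le_of_ble_eq_true rfl) rfl

theorem c530 : Block F al 0 135936 121900 :=
  block_comb c529 b530 (Nat.zero_le _) (Nat.le_of_ble_eq_true rfl) rfl

theorem c531 : Block F al 0 136192 122119 :=
  block_comb c530 b531 (Nat.zero_le _) (Nat.le_of_ble_eq_true rfl) rfl

theorem c532 : Block F al 0 136448 122365 :=
  block_comb c531 b532 (Nat.zero_le _) (Nat.le_of_ble_eq_true rfl) rfl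

theorem c533 : Block F al 0 136704 122599 :=
  block_comb c532 b533 (Nat.zero_le _) (Nat.le_of_ble_eq_true rfl) rfl

theorem c534 : Block F al 0 136960 122835 :=
  block_comb c533 b534 (Nat.zero_le _) (Nat.le_of_ble_eq_true rfl) rfl

theorem c535 : Block F al 0 137216 123064 :=
  block_comb c534 b535 (Nat.zero_le _) (Nat.le_of_ble_eq_true rfl) rfl

theorem c536 : Block F al 0 137472 123302 :=
  block_comb c535 b536 (Nat.zero_le _) (Nat.le_of_ble_eq_true rfl) rfl

theorem c537 : Block F al 0 137728 123550 :=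
  block_comb c536 b537 (Nat.zero_le _) (Nat.le_of_ble_eq_true rfl) rfl

theorem c538 : Block F al 0 137984 123803 :=
  block_comb c537 b538 (Nat.zero_le _) (Nat.le_of_ble_eq_true rfl) rfl

theorem c539 : Block F al 0 138240 124057 :=
  block_comb c538 b539 (Nat.zero_le _) (Nat.le_of_ble_eq_true rfl) rfl

theorem c540 : Block F al 0 138496 124302 :=
  block_comb c539 b540 (Nat.zero_le _) (Nat.le_of_ble_eq_true rfl) rfl

theorem c541 : Block F al 0 138752 124551 :=
  block_comb c540 b541 (Nat.zero_le _) (Nat.le_of_ble_eq_true rfl) rfl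

theorem c542 : Block F al 0 139008 124790 :=
  block_comb c541 b542 (Nat.zero_le _) (Nat.le_of_ble_eq_true rfl) rfl

theorem c543 : Block F al 0 139264 125005 :=
  block_comb c542 b543 (Nat.zero_le _) (Nat.le_of_ble_eq_true rfl) rfl

theorem c544 : Block F al 0 139520 125239 :=
  block_comb c543 b544 (Nat.zero_le _) (Nat.le_of_ble_eq_true rfl) rfl

theorem c545 : Block F al 0 139776 125486 :=
  block_comb c544 b545 (Nat.zero_le _) (Nat.le_of_ble_eq_true rfl) rfl

theorem c546 : Block F al 0 140032 125714 :=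
  block_comb c545 b546 (Nat.zero_le _) (Nat.le_of_ble_eq_true rfl) rfl

theorem c547 : Block F al 0 140288 125945 :=
  block_comb c546 b547 (Nat.zero_le _) (Nat.le_of_ble_eq_true rfl) rfl

theorem c548 : Block F al 0 140544 126190 :=
  block_comb c547 b548 (Nat.zero_le _) (Nat.le_of_ble_eq_true rfl) rfl

theorem c549 : Block F al 0 140800 126426 :=
  block_comb c548 b549 (Nat.zero_le _) (Nat.le_of_ble_eq_true rfl) rfl

theorem c550 : Block F al 0 141056 126663 :=
  block_comb c549 b550 (Nat.zero_le _) (Nat.le_of_ble_eq_true rfl) rfl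

theorem c551 : Block F al 0 141312 126907 :=
  block_comb c550 b551 (Nat.zero_le _) (Nat.le_of_ble_eq_true rfl) rfl

theorem c552 : Block F al 0 141568 127143 :=
  block_comb c551 b552 (Nat.zero_le _) (Nat.le_of_ble_eq_true rfl) rfl

theorem c553 : Block F al 0 141824 127369 :=
  block_comb c552 b553 (Nat.zero_le _) (Nat.le_of_ble_eq_true rfl) rfl

theorem c554 : Block F al 0 142080 127611 :=
  block_comb c553 b554 (Nat.zero_le _) (Nat.le_of_ble_eq_true rfl) rfl

theorem c555 : Block F al 0 142336 127848 :=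
  block_comb c554 b555 (Nat.zero_le _) (Nat.le_of_ble_eq_true rfl) rfl

theorem c556 : Block F al 0 142592 128094 :=
  block_comb c555 b556 (Nat.zero_le _) (Nat.le_of_ble_eq_true rfl) rfl

theorem c557 : Block F al 0 142848 128337 :=
  block_comb c556 b557 (Nat.zero_le _) (Nat.le_of_ble_eq_true rfl) rfl

theorem c558 : Block F al 0 143104 128577 :=
  block_comb c557 b558 (Nat.zero_le _) (Nat.le_of_ble_eq_true rfl) rfl

theorem c559 : Block F al 0 143360 128815 :=
  block_comb c558 b559 (Nat.zero_le _) (Nat.le_of_ble_eq_true rfl) rfl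

theorem c560 : Block F al 0 143616 129064 :=
  block_comb c559 b560 (Nat.zero_le _) (Nat.le_of_ble_eq_true rfl) rfl

theorem c561 : Block F al 0 143872 129312 :=
  block_comb c560 b561 (Nat.zero_le _) (Nat.le_of_ble_eq_true rfl) rfl

theorem c562 : Block F al 0 144128 129546 :=
  block_comb c561 b562 (Nat.zero_le _) (Nat.le_of_ble_eq_true rfl) rfl

theorem c563 : Block F al 0 144384 129789 :=
  block_comb c562 b563 (Nat.zero_le _) (Nat.le_of_ble_eq_true rfl) rfl

theorem c564 : Block F al 0 144640 130037 :=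
  block_comb c563 b564 (Nat.zero_le _) (Nat.le_of_ble_eq_true rfl) rfl

theorem c565 : Block F al 0 144896 130282 :=
  block_comb c564 b565 (Nat.zero_le _) (Nat.le_of_ble_eq_true rfl) rfl

theorem c566 : Block F al 0 145152 130524 :=
  block_comb c565 b566 (Nat.zero_le _) (Nat.le_of_ble_eq_true rfl) rfl

theorem c567 : Block F al 0 145408 130775 :=
  block_comb c566 b567 (Nat.zero_le _) (Nat.le_of_ble_eq_true rfl) rfl

theorem c568 : Block F al 0 145664 131031 :=
  block_comb c567 b568 (Nat.zero_le _) (Nat.le_of_ble_eq_true rfl) rfl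

theorem c569 : Block F al 0 145920 131282 :=
  block_comb c568 b569 (Nat.zero_le _) (Nat.le_of_ble_eq_true rfl) rfl

theorem c570 : Block F al 0 146176 131526 :=
  block_comb c569 b570 (Nat.zero_le _) (Nat.le_of_ble_eq_true rfl) rfl

theorem c571 : Block F al 0 146432 131768 :=
  block_comb c570 b571 (Nat.zero_le _) (Nat.le_of_ble_eq_true rfl) rfl

theorem c572 : Block F al 0 146688 132006 :=
  block_comb c571 b572 (Nat.zero_le _) (Nat.le_of_ble_eq_true rfl) rfl

theorem c573 : Block F al 0 146944 132246 :=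
  block_comb c572 b573 (Nat.zero_le _) (Nat.le_of_ble_eq_true rfl) rfl

theorem c574 : Block F al 0 147200 132491 :=
  block_comb c573 b574 (Nat.zero_le _) (Nat.le_of_ble_eq_true rfl) rfl

theorem c575 : Block F al 0 147456 132740 :=
  block_comb c574 b575 (Nat.zero_le _) (Nat.le_of_ble_eq_true rfl) rfl

theorem c576 : Block F al 0 147712 132989 :=
  block_comb c575 b576 (Nat.zero_le _) (Nat.le_of_ble_eq_true rfl) rfl

theorem c577 : Block F al 0 147968 133230 :=
  block_comb c576 b577 (Nat.zero_le _) (Nat.le_of_ble_eq_true rfl) rfl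

theorem c578 : Block F al 0 148224 133476 :=
  block_comb c577 b578 (Nat.zero_le _) (Nat.le_of_ble_eq_true rfl) rfl

theorem c579 : Block F al 0 148480 133713 :=
  block_comb c578 b579 (Nat.zero_le _) (Nat.le_of_ble_eq_true rfl) rfl

theorem c580 : Block F al 0 148736 133967 :=
  block_comb c579 b580 (Nat.zero_le _) (Nat.le_of_ble_eq_true rfl) rfl

theorem c581 : Block F al 0 148992 134180 :=
  block_comb c580 b581 (Nat.zero_le _) (Nat.le_of_ble_eq_true rfl) rfl

theorem c582 : Block F al 0 149248 134417 :=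
  block_comb c581 b582 (Nat.zero_le _) (Nat.le_of_ble_eq_true rfl) rfl

theorem c583 : Block F al 0 149504 134627 :=
  block_comb c582 b583 (Nat.zero_le _) (Nat.le_of_ble_eq_true rfl) rfl

theorem c584 : Block F al 0 149760 134874 :=
  block_comb c583 b584 (Nat.zero_le _) (Nat.le_of_ble_eq_true rfl) rfl

theorem c585 : Block F al 0 150016 135121 :=
  block_comb c584 b585 (Nat.zero_le _) (Nat.le_of_ble_eq_true rfl) rfl

theorem c586 : Block F al 0 150272 135374 :=
  block_comb c585 b586 (Nat.zero_le _) (Nat.le_of_ble_eq_true rfl) rfl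

theorem c587 : Block F al 0 150528 135623 :=
  block_comb c586 b587 (Nat.zero_le _) (Nat.le_of_ble_eq_true rfl) rfl

theorem c588 : Block F al 0 150784 135867 :=
  block_comb c587 b588 (Nat.zero_le _) (Nat.le_of_ble_eq_true rfl) rfl

theorem c589 : Block F al 0 151040 136113 :=
  block_comb c588 b589 (Nat.zero_le _) (Nat.le_of_ble_eq_true rfl) rfl

theorem c590 : Block F al 0 151296 136364 :=
  block_comb c589 b590 (Nat.zero_le _) (Nat.le_of_ble_eq_true rfl) rfl

theorem c591 : Block F al 0 151552 136618 :=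
  block_comb c590 b591 (Nat.zero_le _) (Nat.le_of_ble_eq_true rfl) rfl

theorem c592 : Block F al 0 151808 136855 :=
  block_comb c591 b592 (Nat.zero_le _) (Nat.le_of_ble_eq_true rfl) rfl

theorem c593 : Block F al 0 152064 137096 :=
  block_comb c592 b593 (Nat.zero_le _) (Nat.le_of_ble_eq_true rfl) rfl

theorem c594 : Block F al 0 152320 137344 :=
  block_comb c593 b594 (Nat.zero_le _) (Nat.le_of_ble_eq_true rfl) rfl

theorem c595 : Block F al 0 152576 137574 :=
  block_comb c594 b595 (Nat.zero_le _) (Nat.le_of_ble_eq_true rfl) rfl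

theorem c596 : Block F al 0 152832 137821 :=
  block_comb c595 b596 (Nat.zero_le _) (Nat.le_of_ble_eq_true rfl) rfl

theorem c597 : Block F al 0 153088 138048 :=
  block_comb c596 b597 (Nat.zero_le _) (Nat.le_of_ble_eq_true rfl) rfl

theorem c598 : Block F al 0 153344 138289 :=
  block_comb c597 b598 (Nat.zero_le _) (Nat.le_of_ble_eq_true rfl) rfl

theorem c599 : Block F al 0 153600 138538 :=
  block_comb c598 b599 (Nat.zero_le _) (Nat.le_of_ble_eq_true rfl) rfl

theorem c600 : Block F al 0 153856 138789 :=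
  block_comb c599 b600 (Nat.zero_le _) (Nat.le_of_ble_eq_true rfl) rfl

theorem c601 : Block F al 0 154112 139032 :=
  block_comb c600 b601 (Nat.zero_le _) (Nat.le_of_ble_eq_true rfl) rfl

theorem c602 : Block F al 0 154368 139279 :=
  block_comb c601 b602 (Nat.zero_le _) (Nat.le_of_ble_eq_true rfl) rfl

theorem c603 : Block F al 0 154624 139530 :=
  block_comb c602 b603 (Nat.zero_le _) (Nat.le_of_ble_eq_true rfl) rfl

theorem c604 : Block F al 0 154880 139777 :=
  block_comb c603 b604 (Nat.zero_le _) (Nat.le_of_ble_eq_true rfl) rfl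

theorem c605 : Block F al 0 155136 140000 :=
  block_comb c604 b605 (Nat.zero_le _) (Nat.le_of_ble_eq_true rfl) rfl

theorem c606 : Block F al 0 155392 140241 :=
  block_comb c605 b606 (Nat.zero_le _) (Nat.le_of_ble_eq_true rfl) rfl

theorem c607 : Block F al 0 155648 140495 :=
  block_comb c606 b607 (Nat.zero_le _) (Nat.le_of_ble_eq_true rfl) rfl

theorem c608 : Block F al 0 155904 140729 :=
  block_comb c607 b608 (Nat.zero_le _) (Nat.le_of_ble_eq_true rfl) rfl

theorem c609 : Block F al 0 156160 140966 :=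
  block_comb c608 b609 (Nat.zero_le _) (Nat.le_of_ble_eq_true rfl) rfl

theorem c610 : Block F al 0 156416 141211 :=
  block_comb c609 b610 (Nat.zero_le _) (Nat.le_of_ble_eq_true rfl) rfl

theorem c611 : Block F al 0 156672 141445 :=
  block_comb c610 b611 (Nat.zero_le _) (Nat.le_of_ble_eq_true rfl) rfl

theorem c612 : Block F al 0 156928 141676 :=
  block_comb c611 b612 (Nat.zero_le _) (Nat.le_of_ble_eq_true rfl) rfl

theorem c613 : Block F al 0 157184 141910 :=
  block_comb c612 b613 (Nat.zero_le _) (Nat.le_of_ble_eq_true rfl) rfl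

theorem c614 : Block F al 0 157440 142160 :=
  block_comb c613 b614 (Nat.zero_le _) (Nat.le_of_ble_eq_true rfl) rfl

theorem c615 : Block F al 0 157696 142404 :=
  block_comb c614 b615 (Nat.zero_le _) (Nat.le_of_ble_eq_true rfl) rfl

theorem c616 : Block F al 0 157952 142644 :=
  block_comb c615 b616 (Nat.zero_le _) (Nat.le_of_ble_eq_true rfl) rfl

theorem c617 : Block F al 0 158208 142868 :=
  block_comb c616 b617 (Nat.zero_le _) (Nat.le_of_ble_eq_true rfl) rfl

theorem c618 : Block F al 0 158464 143101 :=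
  block_comb c617 b618 (Nat.zero_le _) (Nat.le_of_ble_eq_true rfl) rfl

theorem c619 : Block F al 0 158720 143336 :=
  block_comb c618 b619 (Nat.zero_le _) (Nat.le_of_ble_eq_true rfl) rfl

theorem c620 : Block F al 0 158976 143581 :=
  block_comb c619 b620 (Nat.zero_le _) (Nat.le_of_ble_eq_true rfl) rfl

theorem c621 : Block F al 0 159232 143831 :=
  block_comb c620 b621 (Nat.zero_le _) (Nat.le_of_ble_eq_true rfl) rfl

theorem c622 : Block F al 0 159488 144070 :=
  block_comb c621 b622 (Nat.zero_le _) (Nat.le_of_ble_eq_true rfl) rfl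

theorem c623 : Block F al 0 159744 144299 :=
  block_comb c622 b623 (Nat.zero_le _) (Nat.le_of_ble_eq_true rfl) rfl

theorem c624 : Block F al 0 160000 144547 :=
  block_comb c623 b624 (Nat.zero_le _) (Nat.le_of_ble_eq_true rfl) rfl

theorem c625 : Block F al 0 160256 144796 :=
  block_comb c624 b625 (Nat.zero_le _) (Nat.le_of_ble_eq_true rfl) rfl

theorem c626 : Block F al 0 160512 145046 :=
  block_comb c625 b626 (Nat.zero_le _) (Nat.le_of_ble_eq_true rfl) rfl

theorem c627 : Block F al 0 160768 145295 :=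
  block_comb c626 b627 (Nat.zero_le _) (Nat.le_of_ble_eq_true rfl) rfl

theorem c628 : Block F al 0 161024 145505 :=
  block_comb c627 b628 (Nat.zero_le _) (Nat.le_of_ble_eq_true rfl) rfl

theorem c629 : Block F al 0 161280 145727 :=
  block_comb c628 b629 (Nat.zero_le _) (Nat.le_of_ble_eq_true rfl) rfl

theorem c630 : Block F al 0 161536 145970 :=
  block_comb c629 b630 (Nat.zero_le _) (Nat.le_of_ble_eq_true rfl) rfl

theorem c631 : Block F al 0 161792 146218 :=
  block_comb c630 b631 (Nat.zero_le _) (Nat.le_of_ble_eq_true rfl) rfl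

theorem c632 : Block F al 0 162048 146446 :=
  block_comb c631 b632 (Nat.zero_le _) (Nat.le_of_ble_eq_true rfl) rfl

theorem c633 : Block F al 0 162304 146664 :=
  block_comb c632 b633 (Nat.zero_le _) (Nat.le_of_ble_eq_true rfl) rfl

theorem c634 : Block F al 0 162560 146898 :=
  block_comb c633 b634 (Nat.zero_le _) (Nat.le_of_ble_eq_true rfl) rfl

theorem c635 : Block F al 0 162816 147138 :=
  block_comb c634 b635 (Nat.zero_le _) (Nat.le_of_ble_eq_true rfl) rfl

theorem c636 : Block F al 0 163072 147370 :=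
  block_comb c635 b636 (Nat.zero_le _) (Nat.le_of_ble_eq_true rfl) rfl

theorem c637 : Block F al 0 163328 147618 :=
  block_comb c636 b637 (Nat.zero_le _) (Nat.le_of_ble_eq_true rfl) rfl

theorem c638 : Block F al 0 163584 147864 :=
  block_comb c637 b638 (Nat.zero_le _) (Nat.le_of_ble_eq_true rfl) rfl

theorem c639 : Block F al 0 163840 148105 :=
  block_comb c638 b639 (Nat.zero_le _) (Nat.le_of_ble_eq_true rfl) rfl

theorem c640 : Block F al 0 164096 148356 :=
  block_comb c639 b640 (Nat.zero_le _) (Nat.le_of_ble_eq_true rfl) rfl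

theorem c641 : Block F al 0 164352 148599 :=
  block_comb c640 b641 (Nat.zero_le _) (Nat.le_of_ble_eq_true rfl) rfl

theorem c642 : Block F al 0 164608 148844 :=
  block_comb c641 b642 (Nat.zero_le _) (Nat.le_of_ble_eq_true rfl) rfl

theorem c643 : Block F al 0 164864 149084 :=
  block_comb c642 b643 (Nat.zero_le _) (Nat.le_of_ble_eq_true rfl) rfl

theorem c644 : Block F al 0 165120 149320 :=
  block_comb c643 b644 (Nat.zero_le _) (Nat.le_of_ble_eq_true rfl) rfl

theorem c645 : Block F al 0 165376 149554 :=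
  block_comb c644 b645 (Nat.zero_le _) (Nat.le_of_ble_eq_true rfl) rfl

theorem c646 : Block F al 0 165632 149789 :=
  block_comb c645 b646 (Nat.zero_le _) (Nat.le_of_ble_eq_true rfl) rfl

theorem c647 : Block F al 0 165888 150029 :=
  block_comb c646 b647 (Nat.zero_le _) (Nat.le_of_ble_eq_true rfl) rfl

theorem c648 : Block F al 0 166144 150265 :=
  block_comb c647 b648 (Nat.zero_le _) (Nat.le_of_ble_eq_true rfl) rfl

theorem c649 : Block F al 0 166400 150492 :=
  block_comb c648 b649 (Nat.zero_le _) (Nat.le_of_ble_eq_true rfl) rfl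

theorem c650 : Block F al 0 166656 150738 :=
  block_comb c649 b650 (Nat.zero_le _) (Nat.le_of_ble_eq_true rfl) rfl

theorem c651 : Block F al 0 166912 150987 :=
  block_comb c650 b651 (Nat.zero_le _) (Nat.le_of_ble_eq_true rfl) rfl

theorem c652 : Block F al 0 167168 151229 :=
  block_comb c651 b652 (Nat.zero_le _) (Nat.le_of_ble_eq_true rfl) rfl

theorem c653 : Block F al 0 167424 151448 :=
  block_comb c652 b653 (Nat.zero_le _) (Nat.le_of_ble_eq_true rfl) rfl

theorem c654 : Block F al 0 167680 151682 :=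
  block_comb c653 b654 (Nat.zero_le _) (Nat.le_of_ble_eq_true rfl) rfl

theorem c655 : Block F al 0 167936 151916 :=
  block_comb c654 b655 (Nat.zero_le _) (Nat.le_of_ble_eq_true rfl) rfl

theorem c656 : Block F al 0 168192 152155 :=
  block_comb c655 b656 (Nat.zero_le _) (Nat.le_of_ble_eq_true rfl) rfl

theorem c657 : Block F al 0 168448 152397 :=
  block_comb c656 b657 (Nat.zero_le _) (Nat.le_of_ble_eq_true rfl) rfl

theorem c658 : Block F al 0 168704 152635 :=
  block_comb c657 b658 (Nat.zero_le _) (Nat.le_of_ble_eq_true rfl) rfl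

theorem c659 : Block F al 0 168960 152873 :=
  block_comb c658 b659 (Nat.zero_le _) (Nat.le_of_ble_eq_true rfl) rfl

theorem c660 : Block F al 0 169216 153124 :=
  block_comb c659 b660 (Nat.zero_le _) (Nat.le_of_ble_eq_true rfl) rfl

theorem c661 : Block F al 0 169472 153374 :=
  block_comb c660 b661 (Nat.zero_le _) (Nat.le_of_ble_eq_true rfl) rfl

theorem c662 : Block F al 0 169728 153625 :=
  block_comb c661 b662 (Nat.zero_le _) (Nat.le_of_ble_eq_true rfl) rfl

theorem c663 : Block F al 0 169984 153868 :=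
  block_comb c662 b663 (Nat.zero_le _) (Nat.le_of_ble_eq_true rfl) rfl

theorem c664 : Block F al 0 170240 154107 :=
  block_comb c663 b664 (Nat.zero_le _) (Nat.le_of_ble_eq_true rfl) rfl

theorem c665 : Block F al 0 170496 154340 :=
  block_comb c664 b665 (Nat.zero_le _) (Nat.le_of_ble_eq_true rfl) rfl

theorem c666 : Block F al 0 170752 154572 :=
  block_comb c665 b666 (Nat.zero_le _) (Nat.le_of_ble_eq_true rfl) rfl

theorem c667 : Block F al 0 171008 154814 :=
  block_comb c666 b667 (Nat.zero_le _) (Nat.le_of_ble_eq_true rfl) rfl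

theorem c668 : Block F al 0 171264 155058 :=
  block_comb c667 b668 (Nat.zero_le _) (Nat.le_of_ble_eq_true rfl) rfl

theorem c669 : Block F al 0 171520 155297 :=
  block_comb c668 b669 (Nat.zero_le _) (Nat.le_of_ble_eq_true rfl) rfl

theorem c670 : Block F al 0 171776 155537 :=
  block_comb c669 b670 (Nat.zero_le _) (Nat.le_of_ble_eq_true rfl) rfl

theorem c671 : Block F al 0 172032 155765 :=
  block_comb c670 b671 (Nat.zero_le _) (Nat.le_of_ble_eq_true rfl) rfl

theorem c672 : Block F al 0 172288 156002 :=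
  block_comb c671 b672 (Nat.zero_le _) (Nat.le_of_ble_eq_true rfl) rfl

theorem c673 : Block F al 0 172544 156248 :=
  block_comb c672 b673 (Nat.zero_le _) (Nat.le_of_ble_eq_true rfl) rfl

theorem c674 : Block F al 0 172800 156499 :=
  block_comb c673 b674 (Nat.zero_le _) (Nat.le_of_ble_eq_true rfl) rfl

theorem c675 : Block F al 0 173056 156743 :=
  block_comb c674 b675 (Nat.zero_le _) (Nat.le_of_ble_eq_true rfl) rfl

theorem c676 : Block F al 0 173312 156989 :=
  block_comb c675 b676 (Nat.zero_le _) (Nat.le_of_ble_eq_true rfl) rfl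

theorem c677 : Block F al 0 173568 157239 :=
  block_comb c676 b677 (Nat.zero_le _) (Nat.le_of_ble_eq_true rfl) rfl

theorem c678 : Block F al 0 173824 157494 :=
  block_comb c677 b678 (Nat.zero_le _) (Nat.le_of_ble_eq_true rfl) rfl

theorem c679 : Block F al 0 174080 157748 :=
  block_comb c678 b679 (Nat.zero_le _) (Nat.le_of_ble_eq_true rfl) rfl

theorem c680 : Block F al 0 174336 157987 :=
  block_comb c679 b680 (Nat.zero_le _) (Nat.le_of_ble_eq_true rfl) rfl

theorem c681 : Block F al 0 174592 158231 :=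
  block_comb c680 b681 (Nat.zero_le _) (Nat.le_of_ble_eq_true rfl) rfl

theorem c682 : Block F al 0 174848 158481 :=
  block_comb c681 b682 (Nat.zero_le _) (Nat.le_of_ble_eq_true rfl) rfl

theorem c683 : Block F al 0 175104 158731 :=
  block_comb c682 b683 (Nat.zero_le _) (Nat.le_of_ble_eq_true rfl) rfl

theorem c684 : Block F al 0 175360 158971 :=
  block_comb c683 b684 (Nat.zero_le _) (Nat.le_of_ble_eq_true rfl) rfl

theorem c685 : Block F al 0 175616 159202 :=
  block_comb c684 b685 (Nat.zero_le _) (Nat.le_of_ble_eq_true rfl) rfl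

theorem c686 : Block F al 0 175872 159452 :=
  block_comb c685 b686 (Nat.zero_le _) (Nat.le_of_ble_eq_true rfl) rfl

theorem c687 : Block F al 0 176128 159706 :=
  block_comb c686 b687 (Nat.zero_le _) (Nat.le_of_ble_eq_true rfl) rfl

theorem c688 : Block F al 0 176384 159908 :=
  block_comb c687 b688 (Nat.zero_le _) (Nat.le_of_ble_eq_true rfl) rfl

theorem c689 : Block F al 0 176640 160143 :=
  block_comb c688 b689 (Nat.zero_le _) (Nat.le_of_ble_eq_true rfl) rfl

theorem c690 : Block F al 0 176896 160318 :=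
  block_comb c689 b690 (Nat.zero_le _) (Nat.le_of_ble_eq_true rfl) rfl

theorem c691 : Block F al 0 177152 160563 :=
  block_comb c690 b691 (Nat.zero_le _) (Nat.le_of_ble_eq_true rfl) rfl

theorem c692 : Block F al 0 177408 160808 :=
  block_comb c691 b692 (Nat.zero_le _) (Nat.le_of_ble_eq_true rfl) rfl

theorem c693 : Block F al 0 177664 161061 :=
  block_comb c692 b693 (Nat.zero_le _) (Nat.le_of_ble_eq_true rfl) rfl

theorem c694 : Block F al 0 177920 161313 :=
  block_comb c693 b694 (Nat.zero_le _) (Nat.le_of_ble_eq_true rfl) rfl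

theorem c695 : Block F al 0 178176 161541 :=
  block_comb c694 b695 (Nat.zero_le _) (Nat.le_of_ble_eq_true rfl) rfl

theorem c696 : Block F al 0 178432 161773 :=
  block_comb c695 b696 (Nat.zero_le _) (Nat.le_of_ble_eq_true rfl) rfl

theorem c697 : Block F al 0 178688 161981 :=
  block_comb c696 b697 (Nat.zero_le _) (Nat.le_of_ble_eq_true rfl) rfl

theorem c698 : Block F al 0 178944 162190 :=
  block_comb c697 b698 (Nat.zero_le _) (Nat.le_of_ble_eq_true rfl) rfl

theorem c699 : Block F al 0 179200 162419 :=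
  block_comb c698 b699 (Nat.zero_le _) (Nat.le_of_ble_eq_true rfl) rfl

theorem c700 : Block F al 0 179456 162650 :=
  block_comb c699 b700 (Nat.zero_le _) (Nat.le_of_ble_eq_true rfl) rfl

theorem c701 : Block F al 0 179712 162873 :=
  block_comb c700 b701 (Nat.zero_le _) (Nat.le_of_ble_eq_true rfl) rfl

theorem c702 : Block F al 0 179968 163097 :=
  block_comb c701 b702 (Nat.zero_le _) (Nat.le_of_ble_eq_true rfl) rfl

theorem c703 : Block F al 0 180224 163336 :=
  block_comb c702 b703 (Nat.zero_le _) (Nat.le_of_ble_eq_true rfl) rfl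

theorem c704 : Block F al 0 180480 163575 :=
  block_comb c703 b704 (Nat.zero_le _) (Nat.le_of_ble_eq_true rfl) rfl

theorem c705 : Block F al 0 180736 163798 :=
  block_comb c704 b705 (Nat.zero_le _) (Nat.le_of_ble_eq_true rfl) rfl

theorem c706 : Block F al 0 180992 164047 :=
  block_comb c705 b706 (Nat.zero_le _) (Nat.le_of_ble_eq_true rfl) rfl

theorem c707 : Block F al 0 181248 164282 :=
  block_comb c706 b707 (Nat.zero_le _) (Nat.le_of_ble_eq_true rfl) rfl

theorem c708 : Block F al 0 181504 164504 :=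
  block_comb c707 b708 (Nat.zero_le _) (Nat.le_of_ble_eq_true rfl) rfl

theorem c709 : Block F al 0 181760 164744 :=
  block_comb c708 b709 (Nat.zero_le _) (Nat.le_of_ble_eq_true rfl) rfl

theorem c710 : Block F al 0 182016 164957 :=
  block_comb c709 b710 (Nat.zero_le _) (Nat.le_of_ble_eq_true rfl) rfl

theorem c711 : Block F al 0 182272 165200 :=
  block_comb c710 b711 (Nat.zero_le _) (Nat.le_of_ble_eq_true rfl) rfl

theorem c712 : Block F al 0 182528 165435 :=
  block_comb c711 b712 (Nat.zero_le _) (Nat.le_of_ble_eq_true rfl) rfl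

theorem c713 : Block F al 0 182784 165654 :=
  block_comb c712 b713 (Nat.zero_le _) (Nat.le_of_ble_eq_true rfl) rfl

theorem c714 : Block F al 0 183040 165890 :=
  block_comb c713 b714 (Nat.zero_le _) (Nat.le_of_ble_eq_true rfl) rfl

theorem c715 : Block F al 0 183296 166132 :=
  block_comb c714 b715 (Nat.zero_le _) (Nat.le_of_ble_eq_true rfl) rfl

theorem c716 : Block F al 0 183552 166343 :=
  block_comb c715 b716 (Nat.zero_le _) (Nat.le_of_ble_eq_true rfl) rfl

theorem c717 : Block F al 0 183808 166579 :=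
  block_comb c716 b717 (Nat.zero_le _) (Nat.le_of_ble_eq_true rfl) rfl

theorem c718 : Block F al 0 184064 166798 :=
  block_comb c717 b718 (Nat.zero_le _) (Nat.le_of_ble_eq_true rfl) rfl

theorem c719 : Block F al 0 184320 167048 :=
  block_comb c718 b719 (Nat.zero_le _) (Nat.le_of_ble_eq_true rfl) rfl

theorem c720 : Block F al 0 184576 167298 :=
  block_comb c719 b720 (Nat.zero_le _) (Nat.le_of_ble_eq_true rfl) rfl

theorem c721 : Block F al 0 184832 167547 :=
  block_comb c720 b721 (Nat.zero_le _) (Nat.le_of_ble_eq_true rfl) rfl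

theorem c722 : Block F al 0 185088 167799 :=
  block_comb c721 b722 (Nat.zero_le _) (Nat.le_of_ble_eq_true rfl) rfl

theorem c723 : Block F al 0 185344 168047 :=
  block_comb c722 b723 (Nat.zero_le _) (Nat.le_of_ble_eq_true rfl) rfl

theorem c724 : Block F al 0 185600 168286 :=
  block_comb c723 b724 (Nat.zero_le _) (Nat.le_of_ble_eq_true rfl) rfl

theorem c725 : Block F al 0 185856 168528 :=
  block_comb c724 b725 (Nat.zero_le _) (Nat.le_of_ble_eq_true rfl) rfl

theorem c726 : Block F al 0 186112 168773 :=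
  block_comb c725 b726 (Nat.zero_le _) (Nat.le_of_ble_eq_true rfl) rfl

theorem c727 : Block F al 0 186368 169013 :=
  block_comb c726 b727 (Nat.zero_le _) (Nat.le_of_ble_eq_true rfl) rfl

theorem c728 : Block F al 0 186624 169267 :=
  block_comb c727 b728 (Nat.zero_le _) (Nat.le_of_ble_eq_true rfl) rfl

theorem c729 : Block F al 0 186880 169519 :=
  block_comb c728 b729 (Nat.zero_le _) (Nat.le_of_ble_eq_true rfl) rfl

theorem c730 : Block F al 0 187136 169760 :=
  block_comb c729 b730 (Nat.zero_le _) (Nat.le_of_ble_eq_true rfl) rfl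

theorem c731 : Block F al 0 187392 170014 :=
  block_comb c730 b731 (Nat.zero_le _) (Nat.le_of_ble_eq_true rfl) rfl

theorem c732 : Block F al 0 187648 170264 :=
  block_comb c731 b732 (Nat.zero_le _) (Nat.le_of_ble_eq_true rfl) rfl

theorem c733 : Block F al 0 187904 170513 :=
  block_comb c732 b733 (Nat.zero_le _) (Nat.le_of_ble_eq_true rfl) rfl

theorem c734 : Block F al 0 188160 170761 :=
  block_comb c733 b734 (Nat.zero_le _) (Nat.le_of_ble_eq_true rfl) rfl

theorem c735 : Block F al 0 188416 171012 :=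
  block_comb c734 b735 (Nat.zero_le _) (Nat.le_of_ble_eq_true rfl) rfl

theorem c736 : Block F al 0 188672 171262 :=
  block_comb c735 b736 (Nat.zero_le _) (Nat.le_of_ble_eq_true rfl) rfl

theorem c737 : Block F al 0 188928 171507 :=
  block_comb c736 b737 (Nat.zero_le _) (Nat.le_of_ble_eq_true rfl) rfl

theorem c738 : Block F al 0 189184 171756 :=
  block_comb c737 b738 (Nat.zero_le _) (Nat.le_of_ble_eq_true rfl) rfl

theorem c739 : Block F al 0 189440 172011 :=
  block_comb c738 b739 (Nat.zero_le _) (Nat.le_of_ble_eq_true rfl) rfl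

theorem c740 : Block F al 0 189696 172259 :=
  block_comb c739 b740 (Nat.zero_le _) (Nat.le_of_ble_eq_true rfl) rfl

theorem c741 : Block F al 0 189952 172503 :=
  block_comb c740 b741 (Nat.zero_le _) (Nat.le_of_ble_eq_true rfl) rfl

theorem c742 : Block F al 0 190208 172720 :=
  block_comb c741 b742 (Nat.zero_le _) (Nat.le_of_ble_eq_true rfl) rfl

theorem c743 : Block F al 0 190464 172936 :=
  block_comb c742 b743 (Nat.zero_le _) (Nat.le_of_ble_eq_true rfl) rfl

theorem c744 : Block F al 0 190720 173158 :=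
  block_comb c743 b744 (Nat.zero_le _) (Nat.le_of_ble_eq_true rfl) rfl

theorem c745 : Block F al 0 190976 173389 :=
  block_comb c744 b745 (Nat.zero_le _) (Nat.le_of_ble_eq_true rfl) rfl

theorem c746 : Block F al 0 191232 173633 :=
  block_comb c745 b746 (Nat.zero_le _) (Nat.le_of_ble_eq_true rfl) rfl

theorem c747 : Block F al 0 191488 173885 :=
  block_comb c746 b747 (Nat.zero_le _) (Nat.le_of_ble_eq_true rfl) rfl

theorem c748 : Block F al 0 191744 174135 :=
  block_comb c747 b748 (Nat.zero_le _) (Nat.le_of_ble_eq_true rfl) rfl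

theorem c749 : Block F al 0 192000 174384 :=
  block_comb c748 b749 (Nat.zero_le _) (Nat.le_of_ble_eq_true rfl) rfl

theorem c750 : Block F al 0 192256 174637 :=
  block_comb c749 b750 (Nat.zero_le _) (Nat.le_of_ble_eq_true rfl) rfl

theorem c751 : Block F al 0 192512 174880 :=
  block_comb c750 b751 (Nat.zero_le _) (Nat.le_of_ble_eq_true rfl) rfl

theorem c752 : Block F al 0 192768 175128 :=
  block_comb c751 b752 (Nat.zero_le _) (Nat.le_of_ble_eq_true rfl) rfl

theorem c753 : Block F al 0 193024 175377 :=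
  block_comb c752 b753 (Nat.zero_le _) (Nat.le_of_ble_eq_true rfl) rfl

theorem c754 : Block F al 0 193280 175624 :=
  block_comb c753 b754 (Nat.zero_le _) (Nat.le_of_ble_eq_true rfl) rfl

theorem c755 : Block F al 0 193536 175830 :=
  block_comb c754 b755 (Nat.zero_le _) (Nat.le_of_ble_eq_true rfl) rfl

theorem c756 : Block F al 0 193792 176048 :=
  block_comb c755 b756 (Nat.zero_le _) (Nat.le_of_ble_eq_true rfl) rfl

theorem c757 : Block F al 0 194048 176276 :=
  block_comb c756 b757 (Nat.zero_le _) (Nat.le_of_ble_eq_true rfl) rfl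

theorem c758 : Block F al 0 194304 176451 :=
  block_comb c757 b758 (Nat.zero_le _) (Nat.le_of_ble_eq_true rfl) rfl

theorem c759 : Block F al 0 194560 176665 :=
  block_comb c758 b759 (Nat.zero_le _) (Nat.le_of_ble_eq_true rfl) rfl

theorem c760 : Block F al 0 194816 176894 :=
  block_comb c759 b760 (Nat.zero_le _) (Nat.le_of_ble_eq_true rfl) rfl

theorem c761 : Block F al 0 195072 177090 :=
  block_comb c760 b761 (Nat.zero_le _) (Nat.le_of_ble_eq_true rfl) rfl

theorem c762 : Block F al 0 195328 177334 :=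
  block_comb c761 b762 (Nat.zero_le _) (Nat.le_of_ble_eq_true rfl) rfl

theorem c763 : Block F al 0 195584 177586 :=
  block_comb c762 b763 (Nat.zero_le _) (Nat.le_of_ble_eq_true rfl) rfl

theorem c764 : Block F al 0 195840 177830 :=
  block_comb c763 b764 (Nat.zero_le _) (Nat.le_of_ble_eq_true rfl) rfl

theorem c765 : Block F al 0 196096 178069 :=
  block_comb c764 b765 (Nat.zero_le _) (Nat.le_of_ble_eq_true rfl) rfl

theorem c766 : Block F al 0 196352 178311 :=
  block_comb c765 b766 (Nat.zero_le _) (Nat.le_of_ble_eq_true rfl) rfl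

theorem c767 : Block F al 0 196608 178552 :=
  block_comb c766 b767 (Nat.zero_le _) (Nat.le_of_ble_eq_true rfl) rfl

theorem c768 : Block F al 0 196864 178803 :=
  block_comb c767 b768 (Nat.zero_le _) (Nat.le_of_ble_eq_true rfl) rfl

theorem c769 : Block F al 0 197120 179046 :=
  block_comb c768 b769 (Nat.zero_le _) (Nat.le_of_ble_eq_true rfl) rfl

theorem c770 : Block F al 0 197376 179285 :=
  block_comb c769 b770 (Nat.zero_le _) (Nat.le_of_ble_eq_true rfl) rfl

theorem c771 : Block F al 0 197632 179525 :=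
  block_comb c770 b771 (Nat.zero_le _) (Nat.le_of_ble_eq_true rfl) rfl

theorem c772 : Block F al 0 197888 179775 :=
  block_comb c771 b772 (Nat.zero_le _) (Nat.le_of_ble_eq_true rfl) rfl

theorem c773 : Block F al 0 198144 180019 :=
  block_comb c772 b773 (Nat.zero_le _) (Nat.le_of_ble_eq_true rfl) rfl

theorem c774 : Block F al 0 198400 180267 :=
  block_comb c773 b774 (Nat.zero_le _) (Nat.le_of_ble_eq_true rfl) rfl

theorem c775 : Block F al 0 198656 180474 :=
  block_comb c774 b775 (Nat.zero_le _) (Nat.le_of_ble_eq_true rfl) rfl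

theorem c776 : Block F al 0 198912 180730 :=
  block_comb c775 b776 (Nat.zero_le _) (Nat.le_of_ble_eq_true rfl) rfl

theorem c777 : Block F al 0 199168 180984 :=
  block_comb c776 b777 (Nat.zero_le _) (Nat.le_of_ble_eq_true rfl) rfl

theorem c778 : Block F al 0 199424 181221 :=
  block_comb c777 b778 (Nat.zero_le _) (Nat.le_of_ble_eq_true rfl) rfl

theorem c779 : Block F al 0 199680 181459 :=
  block_comb c778 b779 (Nat.zero_le _) (Nat.le_of_ble_eq_true rfl) rfl

theorem c780 : Block F al 0 199936 181703 :=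
  block_comb c779 b780 (Nat.zero_le _) (Nat.le_of_ble_eq_true rfl) rfl

theorem c781 : Block F al 0 200192 181933 :=
  block_comb c780 b781 (Nat.zero_le _) (Nat.le_of_ble_eq_true rfl) rfl

theorem c782 : Block F al 0 200448 182177 :=
  block_comb c781 b782 (Nat.zero_le _) (Nat.le_of_ble_eq_true rfl) rfl

theorem c783 : Block F al 0 200704 182423 :=
  block_comb c782 b783 (Nat.zero_le _) (Nat.le_of_ble_eq_true rfl) rfl

theorem c784 : Block F al 0 200960 182676 :=
  block_comb c783 b784 (Nat.zero_le _) (Nat.le_of_ble_eq_true rfl) rfl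

theorem c785 : Block F al 0 201216 182925 :=
  block_comb c784 b785 (Nat.zero_le _) (Nat.le_of_ble_eq_true rfl) rfl

theorem c786 : Block F al 0 201472 183161 :=
  block_comb c785 b786 (Nat.zero_le _) (Nat.le_of_ble_eq_true rfl) rfl

theorem c787 : Block F al 0 201728 183401 :=
  block_comb c786 b787 (Nat.zero_le _) (Nat.le_of_ble_eq_true rfl) rfl

theorem c788 : Block F al 0 201984 183644 :=
  block_comb c787 b788 (Nat.zero_le _) (Nat.le_of_ble_eq_true rfl) rfl

theorem c789 : Block F al 0 202240 183877 :=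
  block_comb c788 b789 (Nat.zero_le _) (Nat.le_of_ble_eq_true rfl) rfl

theorem c790 : Block F al 0 202496 184119 :=
  block_comb c789 b790 (Nat.zero_le _) (Nat.le_of_ble_eq_true rfl) rfl

theorem c791 : Block F al 0 202752 184342 :=
  block_comb c790 b791 (Nat.zero_le _) (Nat.le_of_ble_eq_true rfl) rfl

theorem c792 : Block F al 0 203008 184570 :=
  block_comb c791 b792 (Nat.zero_le _) (Nat.le_of_ble_eq_true rfl) rfl

theorem c793 : Block F al 0 203264 184803 :=
  block_comb c792 b793 (Nat.zero_le _) (Nat.le_of_ble_eq_true rfl) rfl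

theorem c794 : Block F al 0 203520 185023 :=
  block_comb c793 b794 (Nat.zero_le _) (Nat.le_of_ble_eq_true rfl) rfl

theorem c795 : Block F al 0 203776 185252 :=
  block_comb c794 b795 (Nat.zero_le _) (Nat.le_of_ble_eq_true rfl) rfl

theorem c796 : Block F al 0 204032 185478 :=
  block_comb c795 b796 (Nat.zero_le _) (Nat.le_of_ble_eq_true rfl) rfl

theorem c797 : Block F al 0 204288 185696 :=
  block_comb c796 b797 (Nat.zero_le _) (Nat.le_of_ble_eq_true rfl) rfl

theorem c798 : Block F al 0 204544 185935 :=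
  block_comb c797 b798 (Nat.zero_le _) (Nat.le_of_ble_eq_true rfl) rfl

theorem c799 : Block F al 0 204800 186159 :=
  block_comb c798 b799 (Nat.zero_le _) (Nat.le_of_ble_eq_true rfl) rfl

theorem c800 : Block F al 0 205056 186380 :=
  block_comb c799 b800 (Nat.zero_le _) (Nat.le_of_ble_eq_true rfl) rfl

theorem c801 : Block F al 0 205312 186625 :=
  block_comb c800 b801 (Nat.zero_le _) (Nat.le_of_ble_eq_true rfl) rfl

theorem c802 : Block F al 0 205568 186865 :=
  block_comb c801 b802 (Nat.zero_le _) (Nat.le_of_ble_eq_true rfl) rfl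

theorem c803 : Block F al 0 205824 187097 :=
  block_comb c802 b803 (Nat.zero_le _) (Nat.le_of_ble_eq_true rfl) rfl

theorem c804 : Block F al 0 206080 187327 :=
  block_comb c803 b804 (Nat.zero_le _) (Nat.le_of_ble_eq_true rfl) rfl

theorem c805 : Block F al 0 206336 187567 :=
  block_comb c804 b805 (Nat.zero_le _) (Nat.le_of_ble_eq_true rfl) rfl

theorem c806 : Block F al 0 206592 187815 :=
  block_comb c805 b806 (Nat.zero_le _) (Nat.le_of_ble_eq_true rfl) rfl

theorem c807 : Block F al 0 206848 188053 :=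
  block_comb c806 b807 (Nat.zero_le _) (Nat.le_of_ble_eq_true rfl) rfl

theorem c808 : Block F al 0 207104 188289 :=
  block_comb c807 b808 (Nat.zero_le _) (Nat.le_of_ble_eq_true rfl) rfl

theorem c809 : Block F al 0 207360 188524 :=
  block_comb c808 b809 (Nat.zero_le _) (Nat.le_of_ble_eq_true rfl) rfl

theorem c810 : Block F al 0 207616 188754 :=
  block_comb c809 b810 (Nat.zero_le _) (Nat.le_of_ble_eq_true rfl) rfl

theorem c811 : Block F al 0 207872 188948 :=
  block_comb c810 b811 (Nat.zero_le _) (Nat.le_of_ble_eq_true rfl) rfl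

theorem c812 : Block F al 0 208128 189166 :=
  block_comb c811 b812 (Nat.zero_le _) (Nat.le_of_ble_eq_true rfl) rfl

theorem c813 : Block F al 0 208384 189403 :=
  block_comb c812 b813 (Nat.zero_le _) (Nat.le_of_ble_eq_true rfl) rfl

theorem c814 : Block F al 0 208640 189641 :=
  block_comb c813 b814 (Nat.zero_le _) (Nat.le_of_ble_eq_true rfl) rfl

theorem c815 : Block F al 0 208896 189873 :=
  block_comb c814 b815 (Nat.zero_le _) (Nat.le_of_ble_eq_true rfl) rfl

theorem c816 : Block F al 0 209152 190103 :=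
  block_comb c815 b816 (Nat.zero_le _) (Nat.le_of_ble_eq_true rfl) rfl

theorem c817 : Block F al 0 209408 190349 :=
  block_comb c816 b817 (Nat.zero_le _) (Nat.le_of_ble_eq_true rfl) rfl

theorem c818 : Block F al 0 209664 190563 :=
  block_comb c817 b818 (Nat.zero_le _) (Nat.le_of_ble_eq_true rfl) rfl

theorem c819 : Block F al 0 209920 190798 :=
  block_comb c818 b819 (Nat.zero_le _) (Nat.le_of_ble_eq_true rfl) rfl

theorem c820 : Block F al 0 210176 191030 :=
  block_comb c819 b820 (Nat.zero_le _) (Nat.le_of_ble_eq_true rfl) rfl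

theorem c821 : Block F al 0 210432 191269 :=
  block_comb c820 b821 (Nat.zero_le _) (Nat.le_of_ble_eq_true rfl) rfl

theorem c822 : Block F al 0 210688 191508 :=
  block_comb c821 b822 (Nat.zero_le _) (Nat.le_of_ble_eq_true rfl) rfl

theorem c823 : Block F al 0 210944 191748 :=
  block_comb c822 b823 (Nat.zero_le _) (Nat.le_of_ble_eq_true rfl) rfl

theorem c824 : Block F al 0 211200 191991 :=
  block_comb c823 b824 (Nat.zero_le _) (Nat.le_of_ble_eq_true rfl) rfl

theorem c825 : Block F al 0 211456 192224 :=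
  block_comb c824 b825 (Nat.zero_le _) (Nat.le_of_ble_eq_true rfl) rfl

theorem c826 : Block F al 0 211712 192466 :=
  block_comb c825 b826 (Nat.zero_le _) (Nat.le_of_ble_eq_true rfl) rfl

theorem c827 : Block F al 0 211968 192710 :=
  block_comb c826 b827 (Nat.zero_le _) (Nat.le_of_ble_eq_true rfl) rfl

theorem c828 : Block F al 0 212224 192952 :=
  block_comb c827 b828 (Nat.zero_le _) (Nat.le_of_ble_eq_true rfl) rfl

theorem c829 : Block F al 0 212480 193184 :=
  block_comb c828 b829 (Nat.zero_le _) (Nat.le_of_ble_eq_true rfl) rfl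

theorem c830 : Block F al 0 212736 193434 :=
  block_comb c829 b830 (Nat.zero_le _) (Nat.le_of_ble_eq_true rfl) rfl

theorem c831 : Block F al 0 212992 193671 :=
  block_comb c830 b831 (Nat.zero_le _) (Nat.le_of_ble_eq_true rfl) rfl

theorem c832 : Block F al 0 213248 193903 :=
  block_comb c831 b832 (Nat.zero_le _) (Nat.le_of_ble_eq_true rfl) rfl

theorem c833 : Block F al 0 213504 194149 :=
  block_comb c832 b833 (Nat.zero_le _) (Nat.le_of_ble_eq_true rfl) rfl

theorem c834 : Block F al 0 213760 194382 :=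
  block_comb c833 b834 (Nat.zero_le _) (Nat.le_of_ble_eq_true rfl) rfl

theorem c835 : Block F al 0 214016 194608 :=
  block_comb c834 b835 (Nat.zero_le _) (Nat.le_of_ble_eq_true rfl) rfl

theorem c836 : Block F al 0 214272 194857 :=
  block_comb c835 b836 (Nat.zero_le _) (Nat.le_of_ble_eq_true rfl) rfl

theorem c837 : Block F al 0 214528 195092 :=
  block_comb c836 b837 (Nat.zero_le _) (Nat.le_of_ble_eq_true rfl) rfl

theorem c838 : Block F al 0 214784 195331 :=
  block_comb c837 b838 (Nat.zero_le _) (Nat.le_of_ble_eq_true rfl) rfl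

theorem c839 : Block F al 0 215040 195583 :=
  block_comb c838 b839 (Nat.zero_le _) (Nat.le_of_ble_eq_true rfl) rfl

theorem c840 : Block F al 0 215296 195835 :=
  block_comb c839 b840 (Nat.zero_le _) (Nat.le_of_ble_eq_true rfl) rfl

theorem c841 : Block F al 0 215552 196063 :=
  block_comb c840 b841 (Nat.zero_le _) (Nat.le_of_ble_eq_true rfl) rfl

theorem c842 : Block F al 0 215808 196317 :=
  block_comb c841 b842 (Nat.zero_le _) (Nat.le_of_ble_eq_true rfl) rfl

theorem c843 : Block F al 0 216064 196570 :=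
  block_comb c842 b843 (Nat.zero_le _) (Nat.le_of_ble_eq_true rfl) rfl

theorem c844 : Block F al 0 216320 196820 :=
  block_comb c843 b844 (Nat.zero_le _) (Nat.le_of_ble_eq_true rfl) rfl

theorem c845 : Block F al 0 216576 197070 :=
  block_comb c844 b845 (Nat.zero_le _) (Nat.le_of_ble_eq_true rfl) rfl

theorem c846 : Block F al 0 216832 197324 :=
  block_comb c845 b846 (Nat.zero_le _) (Nat.le_of_ble_eq_true rfl) rfl

theorem c847 : Block F al 0 217088 197573 :=
  block_comb c846 b847 (Nat.zero_le _) (Nat.le_of_ble_eq_true rfl) rfl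

theorem c848 : Block F al 0 217344 197813 :=
  block_comb c847 b848 (Nat.zero_le _) (Nat.le_of_ble_eq_true rfl) rfl

theorem c849 : Block F al 0 217600 198058 :=
  block_comb c848 b849 (Nat.zero_le _) (Nat.le_of_ble_eq_true rfl) rfl

theorem c850 : Block F al 0 217856 198303 :=
  block_comb c849 b850 (Nat.zero_le _) (Nat.le_of_ble_eq_true rfl) rfl

theorem c851 : Block F al 0 218112 198510 :=
  block_comb c850 b851 (Nat.zero_le _) (Nat.le_of_ble_eq_true rfl) rfl

theorem c852 : Block F al 0 218368 198753 :=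
  block_comb c851 b852 (Nat.zero_le _) (Nat.le_of_ble_eq_true rfl) rfl

theorem c853 : Block F al 0 218624 198936 :=
  block_comb c852 b853 (Nat.zero_le _) (Nat.le_of_ble_eq_true rfl) rfl

theorem c854 : Block F al 0 218880 199173 :=
  block_comb c853 b854 (Nat.zero_le _) (Nat.le_of_ble_eq_true rfl) rfl

theorem c855 : Block F al 0 219136 199423 :=
  block_comb c854 b855 (Nat.zero_le _) (Nat.le_of_ble_eq_true rfl) rfl

theorem c856 : Block F al 0 219392 199676 :=
  block_comb c855 b856 (Nat.zero_le _) (Nat.le_of_ble_eq_true rfl) rfl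

theorem c857 : Block F al 0 219648 199928 :=
  block_comb c856 b857 (Nat.zero_le _) (Nat.le_of_ble_eq_true rfl) rfl

theorem c858 : Block F al 0 219904 200182 :=
  block_comb c857 b858 (Nat.zero_le _) (Nat.le_of_ble_eq_true rfl) rfl

theorem c859 : Block F al 0 220160 200425 :=
  block_comb c858 b859 (Nat.zero_le _) (Nat.le_of_ble_eq_true rfl) rfl

theorem c860 : Block F al 0 220416 200672 :=
  block_comb c859 b860 (Nat.zero_le _) (Nat.le_of_ble_eq_true rfl) rfl

theorem c861 : Block F al 0 220672 200926 :=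
  block_comb c860 b861 (Nat.zero_le _) (Nat.le_of_ble_eq_true rfl) rfl

theorem c862 : Block F al 0 220928 201182 :=
  block_comb c861 b862 (Nat.zero_le _) (Nat.le_of_ble_eq_true rfl) rfl

theorem c863 : Block F al 0 221184 201420 :=
  block_comb c862 b863 (Nat.zero_le _) (Nat.le_of_ble_eq_true rfl) rfl

theorem c864 : Block F al 0 221440 201662 :=
  block_comb c863 b864 (Nat.zero_le _) (Nat.le_of_ble_eq_true rfl) rfl

theorem c865 : Block F al 0 221696 201903 :=
  block_comb c864 b865 (Nat.zero_le _) (Nat.le_of_ble_eq_true rfl) rfl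

theorem c866 : Block F al 0 221952 202151 :=
  block_comb c865 b866 (Nat.zero_le _) (Nat.le_of_ble_eq_true rfl) rfl

theorem c867 : Block F al 0 222208 202395 :=
  block_comb c866 b867 (Nat.zero_le _) (Nat.le_of_ble_eq_true rfl) rfl

theorem c868 : Block F al 0 222464 202647 :=
  block_comb c867 b868 (Nat.zero_le _) (Nat.le_of_ble_eq_true rfl) rfl

theorem c869 : Block F al 0 222720 202900 :=
  block_comb c868 b869 (Nat.zero_le _) (Nat.le_of_ble_eq_true rfl) rfl

theorem c870 : Block F al 0 222976 203153 :=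
  block_comb c869 b870 (Nat.zero_le _) (Nat.le_of_ble_eq_true rfl) rfl

theorem c871 : Block F al 0 223232 203396 :=
  block_comb c870 b871 (Nat.zero_le _) (Nat.le_of_ble_eq_true rfl) rfl

theorem c872 : Block F al 0 223488 203642 :=
  block_comb c871 b872 (Nat.zero_le _) (Nat.le_of_ble_eq_true rfl) rfl

theorem c873 : Block F al 0 223744 203887 :=
  block_comb c872 b873 (Nat.zero_le _) (Nat.le_of_ble_eq_true rfl) rfl

theorem c874 : Block F al 0 224000 204132 :=
  block_comb c873 b874 (Nat.zero_le _) (Nat.le_of_ble_eq_true rfl) rfl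

theorem c875 : Block F al 0 224256 204379 :=
  block_comb c874 b875 (Nat.zero_le _) (Nat.le_of_ble_eq_true rfl) rfl

theorem c876 : Block F al 0 224512 204625 :=
  block_comb c875 b876 (Nat.zero_le _) (Nat.le_of_ble_eq_true rfl) rfl

theorem c877 : Block F al 0 224768 204859 :=
  block_comb c876 b877 (Nat.zero_le _) (Nat.le_of_ble_eq_true rfl) rfl

theorem c878 : Block F al 0 225024 205097 :=
  block_comb c877 b878 (Nat.zero_le _) (Nat.le_of_ble_eq_true rfl) rfl

theorem c879 : Block F al 0 225280 205334 :=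
  block_comb c878 b879 (Nat.zero_le _) (Nat.le_of_ble_eq_true rfl) rfl

theorem c880 : Block F al 0 225536 205577 :=
  block_comb c879 b880 (Nat.zero_le _) (Nat.le_of_ble_eq_true rfl) rfl

theorem c881 : Block F al 0 225792 205817 :=
  block_comb c880 b881 (Nat.zero_le _) (Nat.le_of_ble_eq_true rfl) rfl

theorem c882 : Block F al 0 226048 206044 :=
  block_comb c881 b882 (Nat.zero_le _) (Nat.le_of_ble_eq_true rfl) rfl

theorem c883 : Block F al 0 226304 206278 :=
  block_comb c882 b883 (Nat.zero_le _) (Nat.le_of_ble_eq_true rfl) rfl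

theorem c884 : Block F al 0 226560 206533 :=
  block_comb c883 b884 (Nat.zero_le _) (Nat.le_of_ble_eq_true rfl) rfl

theorem c885 : Block F al 0 226816 206768 :=
  block_comb c884 b885 (Nat.zero_le _) (Nat.le_of_ble_eq_true rfl) rfl

theorem c886 : Block F al 0 227072 207011 :=
  block_comb c885 b886 (Nat.zero_le _) (Nat.le_of_ble_eq_true rfl) rfl

theorem c887 : Block F al 0 227328 207250 :=
  block_comb c886 b887 (Nat.zero_le _) (Nat.le_of_ble_eq_true rfl) rfl

theorem c888 : Block F al 0 227584 207479 :=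
  block_comb c887 b888 (Nat.zero_le _) (Nat.le_of_ble_eq_true rfl) rfl

theorem c889 : Block F al 0 227840 207708 :=
  block_comb c888 b889 (Nat.zero_le _) (Nat.le_of_ble_eq_true rfl) rfl

theorem c890 : Block F al 0 228096 207926 :=
  block_comb c889 b890 (Nat.zero_le _) (Nat.le_of_ble_eq_true rfl) rfl

theorem c891 : Block F al 0 228352 208165 :=
  block_comb c890 b891 (Nat.zero_le _) (Nat.le_of_ble_eq_true rfl) rfl

theorem c892 : Block F al 0 228608 208405 :=
  block_comb c891 b892 (Nat.zero_le _) (Nat.le_of_ble_eq_true rfl) rfl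

theorem c893 : Block F al 0 228864 208648 :=
  block_comb c892 b893 (Nat.zero_le _) (Nat.le_of_ble_eq_true rfl) rfl

theorem c894 : Block F al 0 229120 208900 :=
  block_comb c893 b894 (Nat.zero_le _) (Nat.le_of_ble_eq_true rfl) rfl

theorem c895 : Block F al 0 229376 209149 :=
  block_comb c894 b895 (Nat.zero_le _) (Nat.le_of_ble_eq_true rfl) rfl

theorem c896 : Block F al 0 229632 209393 :=
  block_comb c895 b896 (Nat.zero_le _) (Nat.le_of_ble_eq_true rfl) rfl

theorem c897 : Block F al 0 229888 209642 :=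
  block_comb c896 b897 (Nat.zero_le _) (Nat.le_of_ble_eq_true rfl) rfl

theorem c898 : Block F al 0 230144 209879 :=
  block_comb c897 b898 (Nat.zero_le _) (Nat.le_of_ble_eq_true rfl) rfl

theorem c899 : Block F al 0 230400 210123 :=
  block_comb c898 b899 (Nat.zero_le _) (Nat.le_of_ble_eq_true rfl) rfl

theorem c900 : Block F al 0 230656 210349 :=
  block_comb c899 b900 (Nat.zero_le _) (Nat.le_of_ble_eq_true rfl) rfl

theorem c901 : Block F al 0 230912 210578 :=
  block_comb c900 b901 (Nat.zero_le _) (Nat.le_of_ble_eq_true rfl) rfl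

theorem c902 : Block F al 0 231168 210786 :=
  block_comb c901 b902 (Nat.zero_le _) (Nat.le_of_ble_eq_true rfl) rfl

theorem c903 : Block F al 0 231424 211019 :=
  block_comb c902 b903 (Nat.zero_le _) (Nat.le_of_ble_eq_true rfl) rfl

theorem c904 : Block F al 0 231680 211261 :=
  block_comb c903 b904 (Nat.zero_le _) (Nat.le_of_ble_eq_true rfl) rfl

theorem c905 : Block F al 0 231936 211464 :=
  block_comb c904 b905 (Nat.zero_le _) (Nat.le_of_ble_eq_true rfl) rfl

theorem c906 : Block F al 0 232192 211711 :=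
  block_comb c905 b906 (Nat.zero_le _) (Nat.le_of_ble_eq_true rfl) rfl

theorem c907 : Block F al 0 232448 211954 :=
  block_comb c906 b907 (Nat.zero_le _) (Nat.le_of_ble_eq_true rfl) rfl

theorem c908 : Block F al 0 232704 212190 :=
  block_comb c907 b908 (Nat.zero_le _) (Nat.le_of_ble_eq_true rfl) rfl

theorem c909 : Block F al 0 232960 212425 :=
  block_comb c908 b909 (Nat.zero_le _) (Nat.le_of_ble_eq_true rfl) rfl

theorem c910 : Block F al 0 233216 212647 :=
  block_comb c909 b910 (Nat.zero_le _) (Nat.le_of_ble_eq_true rfl) rfl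

theorem c911 : Block F al 0 233472 212897 :=
  block_comb c910 b911 (Nat.zero_le _) (Nat.le_of_ble_eq_true rfl) rfl

theorem c912 : Block F al 0 233728 213138 :=
  block_comb c911 b912 (Nat.zero_le _) (Nat.le_of_ble_eq_true rfl) rfl

theorem c913 : Block F al 0 233984 213380 :=
  block_comb c912 b913 (Nat.zero_le _) (Nat.le_of_ble_eq_true rfl) rfl

theorem c914 : Block F al 0 234240 213616 :=
  block_comb c913 b914 (Nat.zero_le _) (Nat.le_of_ble_eq_true rfl) rfl

theorem c915 : Block F al 0 234496 213838 :=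
  block_comb c914 b915 (Nat.zero_le _) (Nat.le_of_ble_eq_true rfl) rfl

theorem c916 : Block F al 0 234752 214062 :=
  block_comb c915 b916 (Nat.zero_le _) (Nat.le_of_ble_eq_true rfl) rfl

theorem c917 : Block F al 0 235008 214308 :=
  block_comb c916 b917 (Nat.zero_le _) (Nat.le_of_ble_eq_true rfl) rfl

theorem c918 : Block F al 0 235264 214541 :=
  block_comb c917 b918 (Nat.zero_le _) (Nat.le_of_ble_eq_true rfl) rfl

theorem c919 : Block F al 0 235520 214775 :=
  block_comb c918 b919 (Nat.zero_le _) (Nat.le_of_ble_eq_true rfl) rfl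

theorem c920 : Block F al 0 235776 215025 :=
  block_comb c919 b920 (Nat.zero_le _) (Nat.le_of_ble_eq_true rfl) rfl

theorem c921 : Block F al 0 236032 215220 :=
  block_comb c920 b921 (Nat.zero_le _) (Nat.le_of_ble_eq_true rfl) rfl

theorem c922 : Block F al 0 236288 215456 :=
  block_comb c921 b922 (Nat.zero_le _) (Nat.le_of_ble_eq_true rfl) rfl

theorem c923 : Block F al 0 236544 215695 :=
  block_comb c922 b923 (Nat.zero_le _) (Nat.le_of_ble_eq_true rfl) rfl

theorem c924 : Block F al 0 236800 215944 :=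
  block_comb c923 b924 (Nat.zero_le _) (Nat.le_of_ble_eq_true rfl) rfl

theorem c925 : Block F al 0 237056 216185 :=
  block_comb c924 b925 (Nat.zero_le _) (Nat.le_of_ble_eq_true rfl) rfl

theorem c926 : Block F al 0 237312 216414 :=
  block_comb c925 b926 (Nat.zero_le _) (Nat.le_of_ble_eq_true rfl) rfl

theorem c927 : Block F al 0 237568 216656 :=
  block_comb c926 b927 (Nat.zero_le _) (Nat.le_of_ble_eq_true rfl) rfl

theorem c928 : Block F al 0 237824 216897 :=
  block_comb c927 b928 (Nat.zero_le _) (Nat.le_of_ble_eq_true rfl) rfl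

theorem c929 : Block F al 0 238080 217144 :=
  block_comb c928 b929 (Nat.zero_le _) (Nat.le_of_ble_eq_true rfl) rfl

theorem c930 : Block F al 0 238336 217387 :=
  block_comb c929 b930 (Nat.zero_le _) (Nat.le_of_ble_eq_true rfl) rfl

theorem c931 : Block F al 0 238592 217631 :=
  block_comb c930 b931 (Nat.zero_le _) (Nat.le_of_ble_eq_true rfl) rfl

theorem c932 : Block F al 0 238848 217852 :=
  block_comb c931 b932 (Nat.zero_le _) (Nat.le_of_ble_eq_true rfl) rfl

theorem c933 : Block F al 0 239104 218093 :=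
  block_comb c932 b933 (Nat.zero_le _) (Nat.le_of_ble_eq_true rfl) rfl

theorem c934 : Block F al 0 239360 218334 :=
  block_comb c933 b934 (Nat.zero_le _) (Nat.le_of_ble_eq_true rfl) rfl

theorem c935 : Block F al 0 239616 218560 :=
  block_comb c934 b935 (Nat.zero_le _) (Nat.le_of_ble_eq_true rfl) rfl

theorem c936 : Block F al 0 239872 218805 :=
  block_comb c935 b936 (Nat.zero_le _) (Nat.le_of_ble_eq_true rfl) rfl

theorem c937 : Block F al 0 240128 219058 :=
  block_comb c936 b937 (Nat.zero_le _) (Nat.le_of_ble_eq_true rfl) rfl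

theorem c938 : Block F al 0 240384 219293 :=
  block_comb c937 b938 (Nat.zero_le _) (Nat.le_of_ble_eq_true rfl) rfl

theorem c939 : Block F al 0 240640 219542 :=
  block_comb c938 b939 (Nat.zero_le _) (Nat.le_of_ble_eq_true rfl) rfl

theorem c940 : Block F al 0 240896 219794 :=
  block_comb c939 b940 (Nat.zero_le _) (Nat.le_of_ble_eq_true rfl) rfl

theorem c941 : Block F al 0 241152 220047 :=
  block_comb c940 b941 (Nat.zero_le _) (Nat.le_of_ble_eq_true rfl) rfl

theorem c942 : Block F al 0 241408 220291 :=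
  block_comb c941 b942 (Nat.zero_le _) (Nat.le_of_ble_eq_true rfl) rfl

theorem c943 : Block F al 0 241664 220540 :=
  block_comb c942 b943 (Nat.zero_le _) (Nat.le_of_ble_eq_true rfl) rfl

theorem c944 : Block F al 0 241920 220789 :=
  block_comb c943 b944 (Nat.zero_le _) (Nat.le_of_ble_eq_true rfl) rfl

theorem c945 : Block F al 0 242176 221039 :=
  block_comb c944 b945 (Nat.zero_le _) (Nat.le_of_ble_eq_true rfl) rfl

theorem c946 : Block F al 0 242432 221263 :=
  block_comb c945 b946 (Nat.zero_le _) (Nat.le_of_ble_eq_true rfl) rfl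

theorem c947 : Block F al 0 242688 221513 :=
  block_comb c946 b947 (Nat.zero_le _) (Nat.le_of_ble_eq_true rfl) rfl

theorem c948 : Block F al 0 242944 221724 :=
  block_comb c947 b948 (Nat.zero_le _) (Nat.le_of_ble_eq_true rfl) rfl

theorem c949 : Block F al 0 243200 221905 :=
  block_comb c948 b949 (Nat.zero_le _) (Nat.le_of_ble_eq_true rfl) rfl

theorem c950 : Block F al 0 243456 222136 :=
  block_comb c949 b950 (Nat.zero_le _) (Nat.le_of_ble_eq_true rfl) rfl

theorem c951 : Block F al 0 243712 222378 :=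
  block_comb c950 b951 (Nat.zero_le _) (Nat.le_of_ble_eq_true rfl) rfl

theorem c952 : Block F al 0 243968 222629 :=
  block_comb c951 b952 (Nat.zero_le _) (Nat.le_of_ble_eq_true rfl) rfl

theorem c953 : Block F al 0 244224 222837 :=
  block_comb c952 b953 (Nat.zero_le _) (Nat.le_of_ble_eq_true rfl) rfl

theorem c954 : Block F al 0 244480 223053 :=
  block_comb c953 b954 (Nat.zero_le _) (Nat.le_of_ble_eq_true rfl) rfl

theorem c955 : Block F al 0 244736 223283 :=
  block_comb c954 b955 (Nat.zero_le _) (Nat.le_of_ble_eq_true rfl) rfl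

theorem c956 : Block F al 0 244992 223529 :=
  block_comb c955 b956 (Nat.zero_le _) (Nat.le_of_ble_eq_true rfl) rfl

theorem c957 : Block F al 0 245248 223748 :=
  block_comb c956 b957 (Nat.zero_le _) (Nat.le_of_ble_eq_true rfl) rfl

theorem c958 : Block F al 0 245504 223976 :=
  block_comb c957 b958 (Nat.zero_le _) (Nat.le_of_ble_eq_true rfl) rfl

theorem c959 : Block F al 0 245760 224199 :=
  block_comb c958 b959 (Nat.zero_le _) (Nat.le_of_ble_eq_true rfl) rfl

theorem c960 : Block F al 0 246016 224432 :=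
  block_comb c959 b960 (Nat.zero_le _) (Nat.le_of_ble_eq_true rfl) rfl

theorem c961 : Block F al 0 246272 224639 :=
  block_comb c960 b961 (Nat.zero_le _) (Nat.le_of_ble_eq_true rfl) rfl

theorem c962 : Block F al 0 246528 224878 :=
  block_comb c961 b962 (Nat.zero_le _) (Nat.le_of_ble_eq_true rfl) rfl

theorem c963 : Block F al 0 246784 225126 :=
  block_comb c962 b963 (Nat.zero_le _) (Nat.le_of_ble_eq_true rfl) rfl

theorem c964 : Block F al 0 247040 225353 :=
  block_comb c963 b964 (Nat.zero_le _) (Nat.le_of_ble_eq_true rfl) rfl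

theorem c965 : Block F al 0 247296 225588 :=
  block_comb c964 b965 (Nat.zero_le _) (Nat.le_of_ble_eq_true rfl) rfl

theorem c966 : Block F al 0 247552 225830 :=
  block_comb c965 b966 (Nat.zero_le _) (Nat.le_of_ble_eq_true rfl) rfl

theorem c967 : Block F al 0 247808 226052 :=
  block_comb c966 b967 (Nat.zero_le _) (Nat.le_of_ble_eq_true rfl) rfl

theorem c968 : Block F al 0 248064 226293 :=
  block_comb c967 b968 (Nat.zero_le _) (Nat.le_of_ble_eq_true rfl) rfl

theorem c969 : Block F al 0 248320 226520 :=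
  block_comb c968 b969 (Nat.zero_le _) (Nat.le_of_ble_eq_true rfl) rfl

theorem c970 : Block F al 0 248576 226752 :=
  block_comb c969 b970 (Nat.zero_le _) (Nat.le_of_ble_eq_true rfl) rfl

theorem c971 : Block F al 0 248832 226981 :=
  block_comb c970 b971 (Nat.zero_le _) (Nat.le_of_ble_eq_true rfl) rfl

theorem c972 : Block F al 0 249088 227188 :=
  block_comb c971 b972 (Nat.zero_le _) (Nat.le_of_ble_eq_true rfl) rfl

theorem c973 : Block F al 0 249344 227428 :=
  block_comb c972 b973 (Nat.zero_le _) (Nat.le_of_ble_eq_true rfl) rfl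

theorem c974 : Block F al 0 249600 227663 :=
  block_comb c973 b974 (Nat.zero_le _) (Nat.le_of_ble_eq_true rfl) rfl

theorem c975 : Block F al 0 249856 227891 :=
  block_comb c974 b975 (Nat.zero_le _) (Nat.le_of_ble_eq_true rfl) rfl

theorem c976 : Block F al 0 250112 228137 :=
  block_comb c975 b976 (Nat.zero_le _) (Nat.le_of_ble_eq_true rfl) rfl

theorem c977 : Block F al 0 250368 228385 :=
  block_comb c976 b977 (Nat.zero_le _) (Nat.le_of_ble_eq_true rfl) rfl

theorem c978 : Block F al 0 250624 228639 :=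
  block_comb c977 b978 (Nat.zero_le _) (Nat.le_of_ble_eq_true rfl) rfl

theorem c979 : Block F al 0 250880 228890 :=
  block_comb c978 b979 (Nat.zero_le _) (Nat.le_of_ble_eq_true rfl) rfl

theorem c980 : Block F al 0 251136 229121 :=
  block_comb c979 b980 (Nat.zero_le _) (Nat.le_of_ble_eq_true rfl) rfl

theorem c981 : Block F al 0 251392 229354 :=
  block_comb c980 b981 (Nat.zero_le _) (Nat.le_of_ble_eq_true rfl) rfl

theorem c982 : Block F al 0 251648 229588 :=
  block_comb c981 b982 (Nat.zero_le _) (Nat.le_of_ble_eq_true rfl) rfl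

theorem c983 : Block F al 0 251904 229826 :=
  block_comb c982 b983 (Nat.zero_le _) (Nat.le_of_ble_eq_true rfl) rfl

theorem c984 : Block F al 0 252160 230067 :=
  block_comb c983 b984 (Nat.zero_le _) (Nat.le_of_ble_eq_true rfl) rfl

theorem c985 : Block F al 0 252416 230318 :=
  block_comb c984 b985 (Nat.zero_le _) (Nat.le_of_ble_eq_true rfl) rfl

theorem c986 : Block F al 0 252672 230567 :=
  block_comb c985 b986 (Nat.zero_le _) (Nat.le_of_ble_eq_true rfl) rfl

theorem c987 : Block F al 0 252928 230791 :=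
  block_comb c986 b987 (Nat.zero_le _) (Nat.le_of_ble_eq_true rfl) rfl

theorem c988 : Block F al 0 253184 231038 :=
  block_comb c987 b988 (Nat.zero_le _) (Nat.le_of_ble_eq_true rfl) rfl

theorem c989 : Block F al 0 253440 231286 :=
  block_comb c988 b989 (Nat.zero_le _) (Nat.le_of_ble_eq_true rfl) rfl

theorem c990 : Block F al 0 253696 231534 :=
  block_comb c989 b990 (Nat.zero_le _) (Nat.le_of_ble_eq_true rfl) rfl

theorem c991 : Block F al 0 253952 231772 :=
  block_comb c990 b991 (Nat.zero_le _) (Nat.le_of_ble_eq_true rfl) rfl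

theorem c992 : Block F al 0 254208 232009 :=
  block_comb c991 b992 (Nat.zero_le _) (Nat.le_of_ble_eq_true rfl) rfl

theorem c993 : Block F al 0 254464 232257 :=
  block_comb c992 b993 (Nat.zero_le _) (Nat.le_of_ble_eq_true rfl) rfl

theorem c994 : Block F al 0 254720 232483 :=
  block_comb c993 b994 (Nat.zero_le _) (Nat.le_of_ble_eq_true rfl) rfl

theorem c995 : Block F al 0 254976 232705 :=
  block_comb c994 b995 (Nat.zero_le _) (Nat.le_of_ble_eq_true rfl) rfl

theorem c996 : Block F al 0 255232 232945 :=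
  block_comb c995 b996 (Nat.zero_le _) (Nat.le_of_ble_eq_true rfl) rfl

theorem c997 : Block F al 0 255488 233191 :=
  block_comb c996 b997 (Nat.zero_le _) (Nat.le_of_ble_eq_true rfl) rfl

theorem c998 : Block F al 0 255744 233436 :=
  block_comb c997 b998 (Nat.zero_le _) (Nat.le_of_ble_eq_true rfl) rfl

theorem c999 : Block F al 0 256000 233687 :=
  block_comb c998 b999 (Nat.zero_le _) (Nat.le_of_ble_eq_true rfl) rfl

theorem c1000 : Block F al 0 256256 233918 :=
  block_comb c999 b1000 (Nat.zero_le _) (Nat.le_of_ble_eq_true rfl) rfl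

theorem c1001 : Block F al 0 256512 234149 :=
  block_comb c1000 b1001 (Nat.zero_le _) (Nat.le_of_ble_eq_true rfl) rfl

theorem c1002 : Block F al 0 256768 234397 :=
  block_comb c1001 b1002 (Nat.zero_le _) (Nat.le_of_ble_eq_true rfl) rfl

theorem c1003 : Block F al 0 257024 234624 :=
  block_comb c1002 b1003 (Nat.zero_le _) (Nat.le_of_ble_eq_true rfl) rfl

theorem c1004 : Block F al 0 257280 234876 :=
  block_comb c1003 b1004 (Nat.zero_le _) (Nat.le_of_ble_eq_true rfl) rfl

theorem c1005 : Block F al 0 257536 235128 :=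
  block_comb c1004 b1005 (Nat.zero_le _) (Nat.le_of_ble_eq_true rfl) rfl

theorem c1006 : Block F al 0 257792 235361 :=
  block_comb c1005 b1006 (Nat.zero_le _) (Nat.le_of_ble_eq_true rfl) rfl

theorem c1007 : Block F al 0 258048 235592 :=
  block_comb c1006 b1007 (Nat.zero_le _) (Nat.le_of_ble_eq_true rfl) rfl

theorem c1008 : Block F al 0 258304 235824 :=
  block_comb c1007 b1008 (Nat.zero_le _) (Nat.le_of_ble_eq_true rfl) rfl

theorem c1009 : Block F al 0 258560 236076 :=
  block_comb c1008 b1009 (Nat.zero_le _) (Nat.le_of_ble_eq_true rfl) rfl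

theorem c1010 : Block F al 0 258816 236320 :=
  block_comb c1009 b1010 (Nat.zero_le _) (Nat.le_of_ble_eq_true rfl) rfl

theorem c1011 : Block F al 0 259072 236556 :=
  block_comb c1010 b1011 (Nat.zero_le _) (Nat.le_of_ble_eq_true rfl) rfl

theorem c1012 : Block F al 0 259328 236788 :=
  block_comb c1011 b1012 (Nat.zero_le _) (Nat.le_of_ble_eq_true rfl) rfl

theorem c1013 : Block F al 0 259584 237016 :=
  block_comb c1012 b1013 (Nat.zero_le _) (Nat.le_of_ble_eq_true rfl) rfl

theorem c1014 : Block F al 0 259840 237247 :=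
  block_comb c1013 b1014 (Nat.zero_le _) (Nat.le_of_ble_eq_true rfl) rfl

theorem c1015 : Block F al 0 260096 237490 :=
  block_comb c1014 b1015 (Nat.zero_le _) (Nat.le_of_ble_eq_true rfl) rfl

theorem c1016 : Block F al 0 260352 237742 :=
  block_comb c1015 b1016 (Nat.zero_le _) (Nat.le_of_ble_eq_true rfl) rfl

theorem c1017 : Block F al 0 260608 237995 :=
  block_comb c1016 b1017 (Nat.zero_le _) (Nat.le_of_ble_eq_true rfl) rfl

theorem c1018 : Block F al 0 260864 238245 :=
  block_comb c1017 b1018 (Nat.zero_le _) (Nat.le_of_ble_eq_true rfl) rfl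

theorem c1019 : Block F al 0 261120 238492 :=
  block_comb c1018 b1019 (Nat.zero_le _) (Nat.le_of_ble_eq_true rfl) rfl

theorem c1020 : Block F al 0 261376 238734 :=
  block_comb c1019 b1020 (Nat.zero_le _) (Nat.le_of_ble_eq_true rfl) rfl

theorem c1021 : Block F al 0 261632 238971 :=
  block_comb c1020 b1021 (Nat.zero_le _) (Nat.le_of_ble_eq_true rfl) rfl

theorem c1022 : Block F al 0 261888 239190 :=
  block_comb c1021 b1022 (Nat.zero_le _) (Nat.le_of_ble_eq_true rfl) rfl

theorem c1023 : Block F al 0 262144 239428 :=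
  block_comb c1022 b1023 (Nat.zero_le _) (Nat.le_of_ble_eq_true rfl) rfl

theorem c1024 : Block F al 0 262400 239668 :=
  block_comb c1023 b1024 (Nat.zero_le _) (Nat.le_of_ble_eq_true rfl) rfl

theorem c1025 : Block F al 0 262656 239910 :=
  block_comb c1024 b1025 (Nat.zero_le _) (Nat.le_of_ble_eq_true rfl) rfl

theorem c1026 : Block F al 0 262912 240152 :=
  block_comb c1025 b1026 (Nat.zero_le _) (Nat.le_of_ble_eq_true rfl) rfl

theorem c1027 : Block F al 0 263168 240395 :=
  block_comb c1026 b1027 (Nat.zero_le _) (Nat.le_of_ble_eq_true rfl) rfl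

theorem c1028 : Block F al 0 263424 240623 :=
  block_comb c1027 b1028 (Nat.zero_le _) (Nat.le_of_ble_eq_true rfl) rfl

theorem c1029 : Block F al 0 263680 240874 :=
  block_comb c1028 b1029 (Nat.zero_le _) (Nat.le_of_ble_eq_true rfl) rfl

theorem c1030 : Block F al 0 263936 241128 :=
  block_comb c1029 b1030 (Nat.zero_le _) (Nat.le_of_ble_eq_true rfl) rfl

theorem c1031 : Block F al 0 264192 241381 :=
  block_comb c1030 b1031 (Nat.zero_le _) (Nat.le_of_ble_eq_true rfl) rfl

theorem c1032 : Block F al 0 264448 241632 :=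
  block_comb c1031 b1032 (Nat.zero_le _) (Nat.le_of_ble_eq_true rfl) rfl

theorem c1033 : Block F al 0 264704 241864 :=
  block_comb c1032 b1033 (Nat.zero_le _) (Nat.le_of_ble_eq_true rfl) rfl

theorem c1034 : Block F al 0 264960 242108 :=
  block_comb c1033 b1034 (Nat.zero_le _) (Nat.le_of_ble_eq_true rfl) rfl

theorem c1035 : Block F al 0 265216 242344 :=
  block_comb c1034 b1035 (Nat.zero_le _) (Nat.le_of_ble_eq_true rfl) rfl

theorem c1036 : Block F al 0 265472 242585 :=
  block_comb c1035 b1036 (Nat.zero_le _) (Nat.le_of_ble_eq_true rfl) rfl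

theorem c1037 : Block F al 0 265728 242829 :=
  block_comb c1036 b1037 (Nat.zero_le _) (Nat.le_of_ble_eq_true rfl) rfl

theorem c1038 : Block F al 0 265984 243076 :=
  block_comb c1037 b1038 (Nat.zero_le _) (Nat.le_of_ble_eq_true rfl) rfl

theorem c1039 : Block F al 0 266240 243320 :=
  block_comb c1038 b1039 (Nat.zero_le _) (Nat.le_of_ble_eq_true rfl) rfl

theorem c1040 : Block F al 0 266496 243562 :=
  block_comb c1039 b1040 (Nat.zero_le _) (Nat.le_of_ble_eq_true rfl) rfl

theorem c1041 : Block F al 0 266752 243811 :=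
  block_comb c1040 b1041 (Nat.zero_le _) (Nat.le_of_ble_eq_true rfl) rfl

theorem c1042 : Block F al 0 267008 244061 :=
  block_comb c1041 b1042 (Nat.zero_le _) (Nat.le_of_ble_eq_true rfl) rfl

theorem c1043 : Block F al 0 267264 244313 :=
  block_comb c1042 b1043 (Nat.zero_le _) (Nat.le_of_ble_eq_true rfl) rfl

theorem c1044 : Block F al 0 267520 244562 :=
  block_comb c1043 b1044 (Nat.zero_le _) (Nat.le_of_ble_eq_true rfl) rfl

theorem c1045 : Block F al 0 267776 244816 :=
  block_comb c1044 b1045 (Nat.zero_le _) (Nat.le_of_ble_eq_true rfl) rfl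

theorem c1046 : Block F al 0 268032 245043 :=
  block_comb c1045 b1046 (Nat.zero_le _) (Nat.le_of_ble_eq_true rfl) rfl

theorem c1047 : Block F al 0 268288 245275 :=
  block_comb c1046 b1047 (Nat.zero_le _) (Nat.le_of_ble_eq_true rfl) rfl

theorem c1048 : Block F al 0 268544 245516 :=
  block_comb c1047 b1048 (Nat.zero_le _) (Nat.le_of_ble_eq_true rfl) rfl

theorem c1049 : Block F al 0 268800 245743 :=
  block_comb c1048 b1049 (Nat.zero_le _) (Nat.le_of_ble_eq_true rfl) rfl

theorem c1050 : Block F al 0 269056 245971 :=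
  block_comb c1049 b1050 (Nat.zero_le _) (Nat.le_of_ble_eq_true rfl) rfl

theorem c1051 : Block F al 0 269312 246212 :=
  block_comb c1050 b1051 (Nat.zero_le _) (Nat.le_of_ble_eq_true rfl) rfl

theorem c1052 : Block F al 0 269568 246453 :=
  block_comb c1051 b1052 (Nat.zero_le _) (Nat.le_of_ble_eq_true rfl) rfl

theorem c1053 : Block F al 0 269824 246690 :=
  block_comb c1052 b1053 (Nat.zero_le _) (Nat.le_of_ble_eq_true rfl) rfl

theorem c1054 : Block F al 0 270080 246943 :=
  block_comb c1053 b1054 (Nat.zero_le _) (Nat.le_of_ble_eq_true rfl) rfl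

theorem c1055 : Block F al 0 270336 247195 :=
  block_comb c1054 b1055 (Nat.zero_le _) (Nat.le_of_ble_eq_true rfl) rfl

theorem c1056 : Block F al 0 270592 247448 :=
  block_comb c1055 b1056 (Nat.zero_le _) (Nat.le_of_ble_eq_true rfl) rfl

theorem c1057 : Block F al 0 270848 247695 :=
  block_comb c1056 b1057 (Nat.zero_le _) (Nat.le_of_ble_eq_true rfl) rfl

theorem c1058 : Block F al 0 271104 247931 :=
  block_comb c1057 b1058 (Nat.zero_le _) (Nat.le_of_ble_eq_true rfl) rfl

theorem c1059 : Block F al 0 271360 248163 :=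
  block_comb c1058 b1059 (Nat.zero_le _) (Nat.le_of_ble_eq_true rfl) rfl

theorem c1060 : Block F al 0 271616 248384 :=
  block_comb c1059 b1060 (Nat.zero_le _) (Nat.le_of_ble_eq_true rfl) rfl

theorem c1061 : Block F al 0 271872 248625 :=
  block_comb c1060 b1061 (Nat.zero_le _) (Nat.le_of_ble_eq_true rfl) rfl

theorem c1062 : Block F al 0 272128 248857 :=
  block_comb c1061 b1062 (Nat.zero_le _) (Nat.le_of_ble_eq_true rfl) rfl

theorem c1063 : Block F al 0 272384 249106 :=
  block_comb c1062 b1063 (Nat.zero_le _) (Nat.le_of_ble_eq_true rfl) rfl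

theorem c1064 : Block F al 0 272640 249345 :=
  block_comb c1063 b1064 (Nat.zero_le _) (Nat.le_of_ble_eq_true rfl) rfl

theorem c1065 : Block F al 0 272896 249589 :=
  block_comb c1064 b1065 (Nat.zero_le _) (Nat.le_of_ble_eq_true rfl) rfl

theorem c1066 : Block F al 0 273152 249837 :=
  block_comb c1065 b1066 (Nat.zero_le _) (Nat.le_of_ble_eq_true rfl) rfl

theorem c1067 : Block F al 0 273408 250064 :=
  block_comb c1066 b1067 (Nat.zero_le _) (Nat.le_of_ble_eq_true rfl) rfl

theorem c1068 : Block F al 0 273664 250295 :=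
  block_comb c1067 b1068 (Nat.zero_le _) (Nat.le_of_ble_eq_true rfl) rfl

theorem c1069 : Block F al 0 273920 250522 :=
  block_comb c1068 b1069 (Nat.zero_le _) (Nat.le_of_ble_eq_true rfl) rfl

theorem c1070 : Block F al 0 274176 250759 :=
  block_comb c1069 b1070 (Nat.zero_le _) (Nat.le_of_ble_eq_true rfl) rfl

theorem c1071 : Block F al 0 274432 250990 :=
  block_comb c1070 b1071 (Nat.zero_le _) (Nat.le_of_ble_eq_true rfl) rfl

theorem c1072 : Block F al 0 274688 251226 :=
  block_comb c1071 b1072 (Nat.zero_le _) (Nat.le_of_ble_eq_true rfl) rfl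

theorem c1073 : Block F al 0 274944 251466 :=
  block_comb c1072 b1073 (Nat.zero_le _) (Nat.le_of_ble_eq_true rfl) rfl

theorem c1074 : Block F al 0 275200 251704 :=
  block_comb c1073 b1074 (Nat.zero_le _) (Nat.le_of_ble_eq_true rfl) rfl

theorem c1075 : Block F al 0 275456 251950 :=
  block_comb c1074 b1075 (Nat.zero_le _) (Nat.le_of_ble_eq_true rfl) rfl

theorem c1076 : Block F al 0 275712 252187 :=
  block_comb c1075 b1076 (Nat.zero_le _) (Nat.le_of_ble_eq_true rfl) rfl

theorem c1077 : Block F al 0 275968 252411 :=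
  block_comb c1076 b1077 (Nat.zero_le _) (Nat.le_of_ble_eq_true rfl) rfl

theorem c1078 : Block F al 0 276224 252635 :=
  block_comb c1077 b1078 (Nat.zero_le _) (Nat.le_of_ble_eq_true rfl) rfl

theorem c1079 : Block F al 0 276480 252878 :=
  block_comb c1078 b1079 (Nat.zero_le _) (Nat.le_of_ble_eq_true rfl) rfl

theorem c1080 : Block F al 0 276736 253128 :=
  block_comb c1079 b1080 (Nat.zero_le _) (Nat.le_of_ble_eq_true rfl) rfl

theorem c1081 : Block F al 0 276992 253360 :=
  block_comb c1080 b1081 (Nat.zero_le _) (Nat.le_of_ble_eq_true rfl) rfl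

theorem c1082 : Block F al 0 277248 253597 :=
  block_comb c1081 b1082 (Nat.zero_le _) (Nat.le_of_ble_eq_true rfl) rfl

theorem c1083 : Block F al 0 277504 253850 :=
  block_comb c1082 b1083 (Nat.zero_le _) (Nat.le_of_ble_eq_true rfl) rfl

theorem c1084 : Block F al 0 277760 254104 :=
  block_comb c1083 b1084 (Nat.zero_le _) (Nat.le_of_ble_eq_true rfl) rfl

theorem c1085 : Block F al 0 278016 254354 :=
  block_comb c1084 b1085 (Nat.zero_le _) (Nat.le_of_ble_eq_true rfl) rfl

theorem c1086 : Block F al 0 278272 254585 :=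
  block_comb c1085 b1086 (Nat.zero_le _) (Nat.le_of_ble_eq_true rfl) rfl

theorem c1087 : Block F al 0 278528 254832 :=
  block_comb c1086 b1087 (Nat.zero_le _) (Nat.le_of_ble_eq_true rfl) rfl

theorem c1088 : Block F al 0 278784 255079 :=
  block_comb c1087 b1088 (Nat.zero_le _) (Nat.le_of_ble_eq_true rfl) rfl

theorem c1089 : Block F al 0 279040 255324 :=
  block_comb c1088 b1089 (Nat.zero_le _) (Nat.le_of_ble_eq_true rfl) rfl

theorem c1090 : Block F al 0 279296 255562 :=
  block_comb c1089 b1090 (Nat.zero_le _) (Nat.le_of_ble_eq_true rfl) rfl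

theorem c1091 : Block F al 0 279552 255802 :=
  block_comb c1090 b1091 (Nat.zero_le _) (Nat.le_of_ble_eq_true rfl) rfl

theorem c1092 : Block F al 0 279808 256050 :=
  block_comb c1091 b1092 (Nat.zero_le _) (Nat.le_of_ble_eq_true rfl) rfl

theorem c1093 : Block F al 0 280064 256292 :=
  block_comb c1092 b1093 (Nat.zero_le _) (Nat.le_of_ble_eq_true rfl) rfl

theorem c1094 : Block F al 0 280320 256538 :=
  block_comb c1093 b1094 (Nat.zero_le _) (Nat.le_of_ble_eq_true rfl) rfl

theorem c1095 : Block F al 0 280576 256782 :=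
  block_comb c1094 b1095 (Nat.zero_le _) (Nat.le_of_ble_eq_true rfl) rfl

theorem c1096 : Block F al 0 280832 257027 :=
  block_comb c1095 b1096 (Nat.zero_le _) (Nat.le_of_ble_eq_true rfl) rfl

theorem c1097 : Block F al 0 281088 257269 :=
  block_comb c1096 b1097 (Nat.zero_le _) (Nat.le_of_ble_eq_true rfl) rfl

theorem c1098 : Block F al 0 281344 257522 :=
  block_comb c1097 b1098 (Nat.zero_le _) (Nat.le_of_ble_eq_true rfl) rfl

theorem c1099 : Block F al 0 281600 257776 :=
  block_comb c1098 b1099 (Nat.zero_le _) (Nat.le_of_ble_eq_true rfl) rfl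

theorem c1100 : Block F al 0 281856 258024 :=
  block_comb c1099 b1100 (Nat.zero_le _) (Nat.le_of_ble_eq_true rfl) rfl

theorem c1101 : Block F al 0 282112 258267 :=
  block_comb c1100 b1101 (Nat.zero_le _) (Nat.le_of_ble_eq_true rfl) rfl

theorem c1102 : Block F al 0 282368 258516 :=
  block_comb c1101 b1102 (Nat.zero_le _) (Nat.le_of_ble_eq_true rfl) rfl

theorem c1103 : Block F al 0 282624 258745 :=
  block_comb c1102 b1103 (Nat.zero_le _) (Nat.le_of_ble_eq_true rfl) rfl

theorem c1104 : Block F al 0 282880 258988 :=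
  block_comb c1103 b1104 (Nat.zero_le _) (Nat.le_of_ble_eq_true rfl) rfl

theorem c1105 : Block F al 0 283136 259213 :=
  block_comb c1104 b1105 (Nat.zero_le _) (Nat.le_of_ble_eq_true rfl) rfl

theorem c1106 : Block F al 0 283392 259440 :=
  block_comb c1105 b1106 (Nat.zero_le _) (Nat.le_of_ble_eq_true rfl) rfl

theorem c1107 : Block F al 0 283648 259688 :=
  block_comb c1106 b1107 (Nat.zero_le _) (Nat.le_of_ble_eq_true rfl) rfl

theorem c1108 : Block F al 0 283904 259935 :=
  block_comb c1107 b1108 (Nat.zero_le _) (Nat.le_of_ble_eq_true rfl) rfl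

theorem c1109 : Block F al 0 284160 260182 :=
  block_comb c1108 b1109 (Nat.zero_le _) (Nat.le_of_ble_eq_true rfl) rfl

theorem c1110 : Block F al 0 284416 260428 :=
  block_comb c1109 b1110 (Nat.zero_le _) (Nat.le_of_ble_eq_true rfl) rfl

theorem c1111 : Block F al 0 284672 260658 :=
  block_comb c1110 b1111 (Nat.zero_le _) (Nat.le_of_ble_eq_true rfl) rfl

theorem c1112 : Block F al 0 284928 260889 :=
  block_comb c1111 b1112 (Nat.zero_le _) (Nat.le_of_ble_eq_true rfl) rfl

theorem c1113 : Block F al 0 285184 261131 :=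
  block_comb c1112 b1113 (Nat.zero_le _) (Nat.le_of_ble_eq_true rfl) rfl

theorem c1114 : Block F al 0 285440 261382 :=
  block_comb c1113 b1114 (Nat.zero_le _) (Nat.le_of_ble_eq_true rfl) rfl

theorem c1115 : Block F al 0 285696 261620 :=
  block_comb c1114 b1115 (Nat.zero_le _) (Nat.le_of_ble_eq_true rfl) rfl

theorem c1116 : Block F al 0 285952 261863 :=
  block_comb c1115 b1116 (Nat.zero_le _) (Nat.le_of_ble_eq_true rfl) rfl

theorem c1117 : Block F al 0 286208 262110 :=
  block_comb c1116 b1117 (Nat.zero_le _) (Nat.le_of_ble_eq_true rfl) rfl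

theorem c1118 : Block F al 0 286464 262364 :=
  block_comb c1117 b1118 (Nat.zero_le _) (Nat.le_of_ble_eq_true rfl) rfl

theorem c1119 : Block F al 0 286720 262619 :=
  block_comb c1118 b1119 (Nat.zero_le _) (Nat.le_of_ble_eq_true rfl) rfl

theorem c1120 : Block F al 0 286976 262867 :=
  block_comb c1119 b1120 (Nat.zero_le _) (Nat.le_of_ble_eq_true rfl) rfl

theorem c1121 : Block F al 0 287232 263115 :=
  block_comb c1120 b1121 (Nat.zero_le _) (Nat.le_of_ble_eq_true rfl) rfl

theorem c1122 : Block F al 0 287488 263367 :=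
  block_comb c1121 b1122 (Nat.zero_le _) (Nat.le_of_ble_eq_true rfl) rfl

theorem c1123 : Block F al 0 287744 263618 :=
  block_comb c1122 b1123 (Nat.zero_le _) (Nat.le_of_ble_eq_true rfl) rfl

theorem c1124 : Block F al 0 288000 263874 :=
  block_comb c1123 b1124 (Nat.zero_le _) (Nat.le_of_ble_eq_true rfl) rfl

theorem c1125 : Block F al 0 288256 264121 :=
  block_comb c1124 b1125 (Nat.zero_le _) (Nat.le_of_ble_eq_true rfl) rfl

theorem c1126 : Block F al 0 288512 264362 :=
  block_comb c1125 b1126 (Nat.zero_le _) (Nat.le_of_ble_eq_true rfl) rfl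

theorem c1127 : Block F al 0 288768 264615 :=
  block_comb c1126 b1127 (Nat.zero_le _) (Nat.le_of_ble_eq_true rfl) rfl

theorem c1128 : Block F al 0 289024 264871 :=
  block_comb c1127 b1128 (Nat.zero_le _) (Nat.le_of_ble_eq_true rfl) rfl

theorem c1129 : Block F al 0 289280 265114 :=
  block_comb c1128 b1129 (Nat.zero_le _) (Nat.le_of_ble_eq_true rfl) rfl

theorem c1130 : Block F al 0 289536 265364 :=
  block_comb c1129 b1130 (Nat.zero_le _) (Nat.le_of_ble_eq_true rfl) rfl

theorem c1131 : Block F al 0 289792 265612 :=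
  block_comb c1130 b1131 (Nat.zero_le _) (Nat.le_of_ble_eq_true rfl) rfl

theorem c1132 : Block F al 0 290048 265864 :=
  block_comb c1131 b1132 (Nat.zero_le _) (Nat.le_of_ble_eq_true rfl) rfl

theorem c1133 : Block F al 0 290304 266104 :=
  block_comb c1132 b1133 (Nat.zero_le _) (Nat.le_of_ble_eq_true rfl) rfl

theorem c1134 : Block F al 0 290560 266356 :=
  block_comb c1133 b1134 (Nat.zero_le _) (Nat.le_of_ble_eq_true rfl) rfl

theorem c1135 : Block F al 0 290816 266608 :=
  block_comb c1134 b1135 (Nat.zero_le _) (Nat.le_of_ble_eq_true rfl) rfl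

theorem c1136 : Block F al 0 291072 266840 :=
  block_comb c1135 b1136 (Nat.zero_le _) (Nat.le_of_ble_eq_true rfl) rfl

theorem c1137 : Block F al 0 291328 267081 :=
  block_comb c1136 b1137 (Nat.zero_le _) (Nat.le_of_ble_eq_true rfl) rfl

theorem c1138 : Block F al 0 291584 267328 :=
  block_comb c1137 b1138 (Nat.zero_le _) (Nat.le_of_ble_eq_true rfl) rfl

theorem c1139 : Block F al 0 291840 267573 :=
  block_comb c1138 b1139 (Nat.zero_le _) (Nat.le_of_ble_eq_true rfl) rfl

theorem c1140 : Block F al 0 292096 267817 :=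
  block_comb c1139 b1140 (Nat.zero_le _) (Nat.le_of_ble_eq_true rfl) rfl

theorem c1141 : Block F al 0 292352 268062 :=
  block_comb c1140 b1141 (Nat.zero_le _) (Nat.le_of_ble_eq_true rfl) rfl

theorem c1142 : Block F al 0 292608 268308 :=
  block_comb c1141 b1142 (Nat.zero_le _) (Nat.le_of_ble_eq_true rfl) rfl

theorem c1143 : Block F al 0 292864 268559 :=
  block_comb c1142 b1143 (Nat.zero_le _) (Nat.le_of_ble_eq_true rfl) rfl

theorem c1144 : Block F al 0 293120 268811 :=
  block_comb c1143 b1144 (Nat.zero_le _) (Nat.le_of_ble_eq_true rfl) rfl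

theorem c1145 : Block F al 0 293376 269053 :=
  block_comb c1144 b1145 (Nat.zero_le _) (Nat.le_of_ble_eq_true rfl) rfl

theorem c1146 : Block F al 0 293632 269308 :=
  block_comb c1145 b1146 (Nat.zero_le _) (Nat.le_of_ble_eq_true rfl) rfl

theorem c1147 : Block F al 0 293888 269553 :=
  block_comb c1146 b1147 (Nat.zero_le _) (Nat.le_of_ble_eq_true rfl) rfl

theorem c1148 : Block F al 0 294144 269789 :=
  block_comb c1147 b1148 (Nat.zero_le _) (Nat.le_of_ble_eq_true rfl) rfl

theorem c1149 : Block F al 0 294400 270014 :=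
  block_comb c1148 b1149 (Nat.zero_le _) (Nat.le_of_ble_eq_true rfl) rfl

theorem c1150 : Block F al 0 294656 270261 :=
  block_comb c1149 b1150 (Nat.zero_le _) (Nat.le_of_ble_eq_true rfl) rfl

theorem c1151 : Block F al 0 294912 270504 :=
  block_comb c1150 b1151 (Nat.zero_le _) (Nat.le_of_ble_eq_true rfl) rfl

theorem c1152 : Block F al 0 295168 270743 :=
  block_comb c1151 b1152 (Nat.zero_le _) (Nat.le_of_ble_eq_true rfl) rfl

theorem c1153 : Block F al 0 295424 270967 :=
  block_comb c1152 b1153 (Nat.zero_le _) (Nat.le_of_ble_eq_true rfl) rfl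

theorem c1154 : Block F al 0 295680 271214 :=
  block_comb c1153 b1154 (Nat.zero_le _) (Nat.le_of_ble_eq_true rfl) rfl

theorem c1155 : Block F al 0 295936 271453 :=
  block_comb c1154 b1155 (Nat.zero_le _) (Nat.le_of_ble_eq_true rfl) rfl

theorem c1156 : Block F al 0 296192 271697 :=
  block_comb c1155 b1156 (Nat.zero_le _) (Nat.le_of_ble_eq_true rfl) rfl

theorem c1157 : Block F al 0 296448 271944 :=
  block_comb c1156 b1157 (Nat.zero_le _) (Nat.le_of_ble_eq_true rfl) rfl

theorem c1158 : Block F al 0 296704 272188 :=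
  block_comb c1157 b1158 (Nat.zero_le _) (Nat.le_of_ble_eq_true rfl) rfl

theorem c1159 : Block F al 0 296960 272442 :=
  block_comb c1158 b1159 (Nat.zero_le _) (Nat.le_of_ble_eq_true rfl) rfl

theorem c1160 : Block F al 0 297216 272678 :=
  block_comb c1159 b1160 (Nat.zero_le _) (Nat.le_of_ble_eq_true rfl) rfl

theorem c1161 : Block F al 0 297472 272896 :=
  block_comb c1160 b1161 (Nat.zero_le _) (Nat.le_of_ble_eq_true rfl) rfl

theorem c1162 : Block F al 0 297728 273137 :=
  block_comb c1161 b1162 (Nat.zero_le _) (Nat.le_of_ble_eq_true rfl) rfl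

theorem c1163 : Block F al 0 297984 273381 :=
  block_comb c1162 b1163 (Nat.zero_le _) (Nat.le_of_ble_eq_true rfl) rfl

theorem c1164 : Block F al 0 298240 273608 :=
  block_comb c1163 b1164 (Nat.zero_le _) (Nat.le_of_ble_eq_true rfl) rfl

theorem c1165 : Block F al 0 298496 273848 :=
  block_comb c1164 b1165 (Nat.zero_le _) (Nat.le_of_ble_eq_true rfl) rfl

theorem c1166 : Block F al 0 298752 274076 :=
  block_comb c1165 b1166 (Nat.zero_le _) (Nat.le_of_ble_eq_true rfl) rfl

theorem c1167 : Block F al 0 299008 274322 :=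
  block_comb c1166 b1167 (Nat.zero_le _) (Nat.le_of_ble_eq_true rfl) rfl

theorem c1168 : Block F al 0 299264 274568 :=
  block_comb c1167 b1168 (Nat.zero_le _) (Nat.le_of_ble_eq_true rfl) rfl

theorem c1169 : Block F al 0 299520 274814 :=
  block_comb c1168 b1169 (Nat.zero_le _) (Nat.le_of_ble_eq_true rfl) rfl

theorem c1170 : Block F al 0 299776 275042 :=
  block_comb c1169 b1170 (Nat.zero_le _) (Nat.le_of_ble_eq_true rfl) rfl

theorem c1171 : Block F al 0 300032 275279 :=
  block_comb c1170 b1171 (Nat.zero_le _) (Nat.le_of_ble_eq_true rfl) rfl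

theorem c1172 : Block F al 0 300288 275518 :=
  block_comb c1171 b1172 (Nat.zero_le _) (Nat.le_of_ble_eq_true rfl) rfl

theorem c1173 : Block F al 0 300544 275742 :=
  block_comb c1172 b1173 (Nat.zero_le _) (Nat.le_of_ble_eq_true rfl) rfl

theorem c1174 : Block F al 0 300800 275993 :=
  block_comb c1173 b1174 (Nat.zero_le _) (Nat.le_of_ble_eq_true rfl) rfl

theorem c1175 : Block F al 0 301056 276230 :=
  block_comb c1174 b1175 (Nat.zero_le _) (Nat.le_of_ble_eq_true rfl) rfl

theorem c1176 : Block F al 0 301312 276468 :=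
  block_comb c1175 b1176 (Nat.zero_le _) (Nat.le_of_ble_eq_true rfl) rfl

theorem c1177 : Block F al 0 301568 276703 :=
  block_comb c1176 b1177 (Nat.zero_le _) (Nat.le_of_ble_eq_true rfl) rfl

theorem c1178 : Block F al 0 301824 276951 :=
  block_comb c1177 b1178 (Nat.zero_le _) (Nat.le_of_ble_eq_true rfl) rfl

theorem c1179 : Block F al 0 302080 277178 :=
  block_comb c1178 b1179 (Nat.zero_le _) (Nat.le_of_ble_eq_true rfl) rfl

theorem c1180 : Block F al 0 302336 277415 :=
  block_comb c1179 b1180 (Nat.zero_le _) (Nat.le_of_ble_eq_true rfl) rfl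

theorem c1181 : Block F al 0 302592 277657 :=
  block_comb c1180 b1181 (Nat.zero_le _) (Nat.le_of_ble_eq_true rfl) rfl

theorem c1182 : Block F al 0 302848 277905 :=
  block_comb c1181 b1182 (Nat.zero_le _) (Nat.le_of_ble_eq_true rfl) rfl

theorem c1183 : Block F al 0 303104 278156 :=
  block_comb c1182 b1183 (Nat.zero_le _) (Nat.le_of_ble_eq_true rfl) rfl

theorem c1184 : Block F al 0 303360 278406 :=
  block_comb c1183 b1184 (Nat.zero_le _) (Nat.le_of_ble_eq_true rfl) rfl

theorem c1185 : Block F al 0 303616 278649 :=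
  block_comb c1184 b1185 (Nat.zero_le _) (Nat.le_of_ble_eq_true rfl) rfl

theorem c1186 : Block F al 0 303872 278899 :=
  block_comb c1185 b1186 (Nat.zero_le _) (Nat.le_of_ble_eq_true rfl) rfl

theorem c1187 : Block F al 0 304128 279142 :=
  block_comb c1186 b1187 (Nat.zero_le _) (Nat.le_of_ble_eq_true rfl) rfl

theorem c1188 : Block F al 0 304384 279394 :=
  block_comb c1187 b1188 (Nat.zero_le _) (Nat.le_of_ble_eq_true rfl) rfl

theorem c1189 : Block F al 0 304640 279634 :=
  block_comb c1188 b1189 (Nat.zero_le _) (Nat.le_of_ble_eq_true rfl) rfl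

theorem c1190 : Block F al 0 304896 279883 :=
  block_comb c1189 b1190 (Nat.zero_le _) (Nat.le_of_ble_eq_true rfl) rfl

theorem c1191 : Block F al 0 305152 280120 :=
  block_comb c1190 b1191 (Nat.zero_le _) (Nat.le_of_ble_eq_true rfl) rfl

theorem c1192 : Block F al 0 305408 280368 :=
  block_comb c1191 b1192 (Nat.zero_le _) (Nat.le_of_ble_eq_true rfl) rfl

theorem c1193 : Block F al 0 305664 280610 :=
  block_comb c1192 b1193 (Nat.zero_le _) (Nat.le_of_ble_eq_true rfl) rfl

theorem c1194 : Block F al 0 305920 280861 :=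
  block_comb c1193 b1194 (Nat.zero_le _) (Nat.le_of_ble_eq_true rfl) rfl

theorem c1195 : Block F al 0 306176 281098 :=
  block_comb c1194 b1195 (Nat.zero_le _) (Nat.le_of_ble_eq_true rfl) rfl

theorem c1196 : Block F al 0 306432 281348 :=
  block_comb c1195 b1196 (Nat.zero_le _) (Nat.le_of_ble_eq_true rfl) rfl

theorem c1197 : Block F al 0 306688 281590 :=
  block_comb c1196 b1197 (Nat.zero_le _) (Nat.le_of_ble_eq_true rfl) rfl

theorem c1198 : Block F al 0 306944 281833 :=
  block_comb c1197 b1198 (Nat.zero_le _) (Nat.le_of_ble_eq_true rfl) rfl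

theorem c1199 : Block F al 0 307200 282078 :=
  block_comb c1198 b1199 (Nat.zero_le _) (Nat.le_of_ble_eq_true rfl) rfl

theorem c1200 : Block F al 0 307456 282326 :=
  block_comb c1199 b1200 (Nat.zero_le _) (Nat.le_of_ble_eq_true rfl) rfl

theorem c1201 : Block F al 0 307712 282571 :=
  block_comb c1200 b1201 (Nat.zero_le _) (Nat.le_of_ble_eq_true rfl) rfl

theorem c1202 : Block F al 0 307968 282818 :=
  block_comb c1201 b1202 (Nat.zero_le _) (Nat.le_of_ble_eq_true rfl) rfl

theorem c1203 : Block F al 0 308224 283059 :=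
  block_comb c1202 b1203 (Nat.zero_le _) (Nat.le_of_ble_eq_true rfl) rfl

theorem c1204 : Block F al 0 308480 283291 :=
  block_comb c1203 b1204 (Nat.zero_le _) (Nat.le_of_ble_eq_true rfl) rfl

theorem c1205 : Block F al 0 308736 283532 :=
  block_comb c1204 b1205 (Nat.zero_le _) (Nat.le_of_ble_eq_true rfl) rfl

theorem c1206 : Block F al 0 308992 283768 :=
  block_comb c1205 b1206 (Nat.zero_le _) (Nat.le_of_ble_eq_true rfl) rfl

theorem c1207 : Block F al 0 309248 283997 :=
  block_comb c1206 b1207 (Nat.zero_le _) (Nat.le_of_ble_eq_true rfl) rfl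

theorem c1208 : Block F al 0 309504 284237 :=
  block_comb c1207 b1208 (Nat.zero_le _) (Nat.le_of_ble_eq_true rfl) rfl

theorem c1209 : Block F al 0 309760 284464 :=
  block_comb c1208 b1209 (Nat.zero_le _) (Nat.le_of_ble_eq_true rfl) rfl

theorem c1210 : Block F al 0 310016 284702 :=
  block_comb c1209 b1210 (Nat.zero_le _) (Nat.le_of_ble_eq_true rfl) rfl

theorem c1211 : Block F al 0 310272 284951 :=
  block_comb c1210 b1211 (Nat.zero_le _) (Nat.le_of_ble_eq_true rfl) rfl

theorem c1212 : Block F al 0 310528 285193 :=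
  block_comb c1211 b1212 (Nat.zero_le _) (Nat.le_of_ble_eq_true rfl) rfl

theorem c1213 : Block F al 0 310784 285442 :=
  block_comb c1212 b1213 (Nat.zero_le _) (Nat.le_of_ble_eq_true rfl) rfl

theorem c1214 : Block F al 0 311040 285686 :=
  block_comb c1213 b1214 (Nat.zero_le _) (Nat.le_of_ble_eq_true rfl) rfl

theorem c1215 : Block F al 0 311296 285936 :=
  block_comb c1214 b1215 (Nat.zero_le _) (Nat.le_of_ble_eq_true rfl) rfl

theorem c1216 : Block F al 0 311552 286181 :=
  block_comb c1215 b1216 (Nat.zero_le _) (Nat.le_of_ble_eq_true rfl) rfl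

theorem c1217 : Block F al 0 311808 286424 :=
  block_comb c1216 b1217 (Nat.zero_le _) (Nat.le_of_ble_eq_true rfl) rfl

theorem c1218 : Block F al 0 312064 286672 :=
  block_comb c1217 b1218 (Nat.zero_le _) (Nat.le_of_ble_eq_true rfl) rfl

theorem c1219 : Block F al 0 312320 286914 :=
  block_comb c1218 b1219 (Nat.zero_le _) (Nat.le_of_ble_eq_true rfl) rfl

theorem c1220 : Block F al 0 312576 287159 :=
  block_comb c1219 b1220 (Nat.zero_le _) (Nat.le_of_ble_eq_true rfl) rfl

theorem c1221 : Block F al 0 312832 287397 :=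
  block_comb c1220 b1221 (Nat.zero_le _) (Nat.le_of_ble_eq_true rfl) rfl

theorem c1222 : Block F al 0 313088 287637 :=
  block_comb c1221 b1222 (Nat.zero_le _) (Nat.le_of_ble_eq_true rfl) rfl

theorem c1223 : Block F al 0 313344 287875 :=
  block_comb c1222 b1223 (Nat.zero_le _) (Nat.le_of_ble_eq_true rfl) rfl

theorem c1224 : Block F al 0 313600 288125 :=
  block_comb c1223 b1224 (Nat.zero_le _) (Nat.le_of_ble_eq_true rfl) rfl

theorem c1225 : Block F al 0 313856 288364 :=
  block_comb c1224 b1225 (Nat.zero_le _) (Nat.le_of_ble_eq_true rfl) rfl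

theorem c1226 : Block F al 0 314112 288580 :=
  block_comb c1225 b1226 (Nat.zero_le _) (Nat.le_of_ble_eq_true rfl) rfl

theorem c1227 : Block F al 0 314368 288791 :=
  block_comb c1226 b1227 (Nat.zero_le _) (Nat.le_of_ble_eq_true rfl) rfl

theorem c1228 : Block F al 0 314624 289026 :=
  block_comb c1227 b1228 (Nat.zero_le _) (Nat.le_of_ble_eq_true rfl) rfl

theorem c1229 : Block F al 0 314880 289255 :=
  block_comb c1228 b1229 (Nat.zero_le _) (Nat.le_of_ble_eq_true rfl) rfl

theorem c1230 : Block F al 0 315136 289506 :=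
  block_comb c1229 b1230 (Nat.zero_le _) (Nat.le_of_ble_eq_true rfl) rfl

theorem c1231 : Block F al 0 315392 289746 :=
  block_comb c1230 b1231 (Nat.zero_le _) (Nat.le_of_ble_eq_true rfl) rfl

theorem c1232 : Block F al 0 315648 289986 :=
  block_comb c1231 b1232 (Nat.zero_le _) (Nat.le_of_ble_eq_true rfl) rfl

theorem c1233 : Block F al 0 315904 290217 :=
  block_comb c1232 b1233 (Nat.zero_le _) (Nat.le_of_ble_eq_true rfl) rfl

theorem c1234 : Block F al 0 316160 290458 :=
  block_comb c1233 b1234 (Nat.zero_le _) (Nat.le_of_ble_eq_true rfl) rfl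

theorem c1235 : Block F al 0 316416 290677 :=
  block_comb c1234 b1235 (Nat.zero_le _) (Nat.le_of_ble_eq_true rfl) rfl

theorem c1236 : Block F al 0 316672 290922 :=
  block_comb c1235 b1236 (Nat.zero_le _) (Nat.le_of_ble_eq_true rfl) rfl

theorem c1237 : Block F al 0 316928 291175 :=
  block_comb c1236 b1237 (Nat.zero_le _) (Nat.le_of_ble_eq_true rfl) rfl

theorem c1238 : Block F al 0 317184 291397 :=
  block_comb c1237 b1238 (Nat.zero_le _) (Nat.le_of_ble_eq_true rfl) rfl

theorem c1239 : Block F al 0 317440 291632 :=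
  block_comb c1238 b1239 (Nat.zero_le _) (Nat.le_of_ble_eq_true rfl) rfl

theorem c1240 : Block F al 0 317696 291862 :=
  block_comb c1239 b1240 (Nat.zero_le _) (Nat.le_of_ble_eq_true rfl) rfl

theorem c1241 : Block F al 0 317952 292098 :=
  block_comb c1240 b1241 (Nat.zero_le _) (Nat.le_of_ble_eq_true rfl) rfl

theorem c1242 : Block F al 0 318208 292328 :=
  block_comb c1241 b1242 (Nat.zero_le _) (Nat.le_of_ble_eq_true rfl) rfl

theorem c1243 : Block F al 0 318464 292528 :=
  block_comb c1242 b1243 (Nat.zero_le _) (Nat.le_of_ble_eq_true rfl) rfl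

theorem c1244 : Block F al 0 318720 292773 :=
  block_comb c1243 b1244 (Nat.zero_le _) (Nat.le_of_ble_eq_true rfl) rfl

theorem c1245 : Block F al 0 318976 293023 :=
  block_comb c1244 b1245 (Nat.zero_le _) (Nat.le_of_ble_eq_true rfl) rfl

theorem c1246 : Block F al 0 319232 293272 :=
  block_comb c1245 b1246 (Nat.zero_le _) (Nat.le_of_ble_eq_true rfl) rfl

theorem c1247 : Block F al 0 319488 293522 :=
  block_comb c1246 b1247 (Nat.zero_le _) (Nat.le_of_ble_eq_true rfl) rfl

theorem c1248 : Block F al 0 319744 293771 :=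
  block_comb c1247 b1248 (Nat.zero_le _) (Nat.le_of_ble_eq_true rfl) rfl

theorem c1249 : Block F al 0 320000 294021 :=
  block_comb c1248 b1249 (Nat.zero_le _) (Nat.le_of_ble_eq_true rfl) rfl

theorem c1250 : Block F al 0 320256 294275 :=
  block_comb c1249 b1250 (Nat.zero_le _) (Nat.le_of_ble_eq_true rfl) rfl

theorem c1251 : Block F al 0 320512 294526 :=
  block_comb c1250 b1251 (Nat.zero_le _) (Nat.le_of_ble_eq_true rfl) rfl

theorem c1252 : Block F al 0 320768 294774 :=
  block_comb c1251 b1252 (Nat.zero_le _) (Nat.le_of_ble_eq_true rfl) rfl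

theorem c1253 : Block F al 0 321024 295019 :=
  block_comb c1252 b1253 (Nat.zero_le _) (Nat.le_of_ble_eq_true rfl) rfl

theorem c1254 : Block F al 0 321280 295245 :=
  block_comb c1253 b1254 (Nat.zero_le _) (Nat.le_of_ble_eq_true rfl) rfl

theorem c1255 : Block F al 0 321536 295497 :=
  block_comb c1254 b1255 (Nat.zero_le _) (Nat.le_of_ble_eq_true rfl) rfl

theorem c1256 : Block F al 0 321792 295735 :=
  block_comb c1255 b1256 (Nat.zero_le _) (Nat.le_of_ble_eq_true rfl) rfl

theorem c1257 : Block F al 0 322048 295975 :=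
  block_comb c1256 b1257 (Nat.zero_le _) (Nat.le_of_ble_eq_true rfl) rfl

theorem c1258 : Block F al 0 322304 296227 :=
  block_comb c1257 b1258 (Nat.zero_le _) (Nat.le_of_ble_eq_true rfl) rfl

theorem c1259 : Block F al 0 322560 296475 :=
  block_comb c1258 b1259 (Nat.zero_le _) (Nat.le_of_ble_eq_true rfl) rfl

theorem c1260 : Block F al 0 322816 296727 :=
  block_comb c1259 b1260 (Nat.zero_le _) (Nat.le_of_ble_eq_true rfl) rfl

theorem c1261 : Block F al 0 323072 296980 :=
  block_comb c1260 b1261 (Nat.zero_le _) (Nat.le_of_ble_eq_true rfl) rfl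

theorem c1262 : Block F al 0 323328 297230 :=
  block_comb c1261 b1262 (Nat.zero_le _) (Nat.le_of_ble_eq_true rfl) rfl

theorem c1263 : Block F al 0 323584 297467 :=
  block_comb c1262 b1263 (Nat.zero_le _) (Nat.le_of_ble_eq_true rfl) rfl

theorem c1264 : Block F al 0 323840 297696 :=
  block_comb c1263 b1264 (Nat.zero_le _) (Nat.le_of_ble_eq_true rfl) rfl

theorem c1265 : Block F al 0 324096 297950 :=
  block_comb c1264 b1265 (Nat.zero_le _) (Nat.le_of_ble_eq_true rfl) rfl

theorem c1266 : Block F al 0 324352 298192 :=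
  block_comb c1265 b1266 (Nat.zero_le _) (Nat.le_of_ble_eq_true rfl) rfl

theorem c1267 : Block F al 0 324608 298437 :=
  block_comb c1266 b1267 (Nat.zero_le _) (Nat.le_of_ble_eq_true rfl) rfl

theorem c1268 : Block F al 0 324864 298663 :=
  block_comb c1267 b1268 (Nat.zero_le _) (Nat.le_of_ble_eq_true rfl) rfl

theorem c1269 : Block F al 0 325120 298912 :=
  block_comb c1268 b1269 (Nat.zero_le _) (Nat.le_of_ble_eq_true rfl) rfl

theorem c1270 : Block F al 0 325376 299165 :=
  block_comb c1269 b1270 (Nat.zero_le _) (Nat.le_of_ble_eq_true rfl) rfl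

theorem c1271 : Block F al 0 325632 299414 :=
  block_comb c1270 b1271 (Nat.zero_le _) (Nat.le_of_ble_eq_true rfl) rfl

theorem c1272 : Block F al 0 325888 299664 :=
  block_comb c1271 b1272 (Nat.zero_le _) (Nat.le_of_ble_eq_true rfl) rfl

theorem c1273 : Block F al 0 326144 299893 :=
  block_comb c1272 b1273 (Nat.zero_le _) (Nat.le_of_ble_eq_true rfl) rfl

theorem c1274 : Block F al 0 326400 300126 :=
  block_comb c1273 b1274 (Nat.zero_le _) (Nat.le_of_ble_eq_true rfl) rfl

theorem c1275 : Block F al 0 326656 300377 :=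
  block_comb c1274 b1275 (Nat.zero_le _) (Nat.le_of_ble_eq_true rfl) rfl

theorem c1276 : Block F al 0 326912 300625 :=
  block_comb c1275 b1276 (Nat.zero_le _) (Nat.le_of_ble_eq_true rfl) rfl

theorem c1277 : Block F al 0 327168 300877 :=
  block_comb c1276 b1277 (Nat.zero_le _) (Nat.le_of_ble_eq_true rfl) rfl

theorem c1278 : Block F al 0 327424 301124 :=
  block_comb c1277 b1278 (Nat.zero_le _) (Nat.le_of_ble_eq_true rfl) rfl

theorem c1279 : Block F al 0 327680 301358 :=
  block_comb c1278 b1279 (Nat.zero_le _) (Nat.le_of_ble_eq_true rfl) rfl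

theorem c1280 : Block F al 0 327936 301600 :=
  block_comb c1279 b1280 (Nat.zero_le _) (Nat.le_of_ble_eq_true rfl) rfl

theorem c1281 : Block F al 0 328192 301849 :=
  block_comb c1280 b1281 (Nat.zero_le _) (Nat.le_of_ble_eq_true rfl) rfl

theorem c1282 : Block F al 0 328448 302096 :=
  block_comb c1281 b1282 (Nat.zero_le _) (Nat.le_of_ble_eq_true rfl) rfl

theorem c1283 : Block F al 0 328704 302331 :=
  block_comb c1282 b1283 (Nat.zero_le _) (Nat.le_of_ble_eq_true rfl) rfl

theorem c1284 : Block F al 0 328960 302555 :=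
  block_comb c1283 b1284 (Nat.zero_le _) (Nat.le_of_ble_eq_true rfl) rfl

theorem c1285 : Block F al 0 329216 302803 :=
  block_comb c1284 b1285 (Nat.zero_le _) (Nat.le_of_ble_eq_true rfl) rfl

theorem c1286 : Block F al 0 329472 303050 :=
  block_comb c1285 b1286 (Nat.zero_le _) (Nat.le_of_ble_eq_true rfl) rfl

theorem c1287 : Block F al 0 329728 303293 :=
  block_comb c1286 b1287 (Nat.zero_le _) (Nat.le_of_ble_eq_true rfl) rfl

theorem c1288 : Block F al 0 329984 303545 :=
  block_comb c1287 b1288 (Nat.zero_le _) (Nat.le_of_ble_eq_true rfl) rfl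

theorem c1289 : Block F al 0 330240 303798 :=
  block_comb c1288 b1289 (Nat.zero_le _) (Nat.le_of_ble_eq_true rfl) rfl

theorem c1290 : Block F al 0 330496 304041 :=
  block_comb c1289 b1290 (Nat.zero_le _) (Nat.le_of_ble_eq_true rfl) rfl

theorem c1291 : Block F al 0 330752 304273 :=
  block_comb c1290 b1291 (Nat.zero_le _) (Nat.le_of_ble_eq_true rfl) rfl

theorem c1292 : Block F al 0 331008 304512 :=
  block_comb c1291 b1292 (Nat.zero_le _) (Nat.le_of_ble_eq_true rfl) rfl

theorem c1293 : Block F al 0 331264 304757 :=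
  block_comb c1292 b1293 (Nat.zero_le _) (Nat.le_of_ble_eq_true rfl) rfl

theorem c1294 : Block F al 0 331520 305009 :=
  block_comb c1293 b1294 (Nat.zero_le _) (Nat.le_of_ble_eq_true rfl) rfl

theorem c1295 : Block F al 0 331776 305253 :=
  block_comb c1294 b1295 (Nat.zero_le _) (Nat.le_of_ble_eq_true rfl) rfl

theorem c1296 : Block F al 0 332032 305479 :=
  block_comb c1295 b1296 (Nat.zero_le _) (Nat.le_of_ble_eq_true rfl) rfl

theorem c1297 : Block F al 0 332288 305723 :=
  block_comb c1296 b1297 (Nat.zero_le _) (Nat.le_of_ble_eq_true rfl) rfl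

theorem c1298 : Block F al 0 332544 305965 :=
  block_comb c1297 b1298 (Nat.zero_le _) (Nat.le_of_ble_eq_true rfl) rfl

theorem c1299 : Block F al 0 332800 306208 :=
  block_comb c1298 b1299 (Nat.zero_le _) (Nat.le_of_ble_eq_true rfl) rfl

theorem c1300 : Block F al 0 333056 306456 :=
  block_comb c1299 b1300 (Nat.zero_le _) (Nat.le_of_ble_eq_true rfl) rfl

theorem c1301 : Block F al 0 333312 306707 :=
  block_comb c1300 b1301 (Nat.zero_le _) (Nat.le_of_ble_eq_true rfl) rfl

theorem c1302 : Block F al 0 333568 306956 :=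
  block_comb c1301 b1302 (Nat.zero_le _) (Nat.le_of_ble_eq_true rfl) rfl

theorem c1303 : Block F al 0 333824 307201 :=
  block_comb c1302 b1303 (Nat.zero_le _) (Nat.le_of_ble_eq_true rfl) rfl

theorem c1304 : Block F al 0 334080 307448 :=
  block_comb c1303 b1304 (Nat.zero_le _) (Nat.le_of_ble_eq_true rfl) rfl

theorem c1305 : Block F al 0 334336 307687 :=
  block_comb c1304 b1305 (Nat.zero_le _) (Nat.le_of_ble_eq_true rfl) rfl

theorem c1306 : Block F al 0 334592 307933 :=
  block_comb c1305 b1306 (Nat.zero_le _) (Nat.le_of_ble_eq_true rfl) rfl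

theorem c1307 : Block F al 0 334848 308159 :=
  block_comb c1306 b1307 (Nat.zero_le _) (Nat.le_of_ble_eq_true rfl) rfl

theorem c1308 : Block F al 0 335104 308406 :=
  block_comb c1307 b1308 (Nat.zero_le _) (Nat.le_of_ble_eq_true rfl) rfl

theorem c1309 : Block F al 0 335360 308652 :=
  block_comb c1308 b1309 (Nat.zero_le _) (Nat.le_of_ble_eq_true rfl) rfl

theorem c1310 : Block F al 0 335616 308879 :=
  block_comb c1309 b1310 (Nat.zero_le _) (Nat.le_of_ble_eq_true rfl) rfl

theorem c1311 : Block F al 0 335872 309107 :=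
  block_comb c1310 b1311 (Nat.zero_le _) (Nat.le_of_ble_eq_true rfl) rfl

theorem c1312 : Block F al 0 336128 309359 :=
  block_comb c1311 b1312 (Nat.zero_le _) (Nat.le_of_ble_eq_true rfl) rfl

theorem c1313 : Block F al 0 336384 309610 :=
  block_comb c1312 b1313 (Nat.zero_le _) (Nat.le_of_ble_eq_true rfl) rfl

theorem c1314 : Block F al 0 336640 309839 :=
  block_comb c1313 b1314 (Nat.zero_le _) (Nat.le_of_ble_eq_true rfl) rfl

theorem c1315 : Block F al 0 336896 310080 :=
  block_comb c1314 b1315 (Nat.zero_le _) (Nat.le_of_ble_eq_true rfl) rfl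

theorem c1316 : Block F al 0 337152 310322 :=
  block_comb c1315 b1316 (Nat.zero_le _) (Nat.le_of_ble_eq_true rfl) rfl

theorem c1317 : Block F al 0 337408 310554 :=
  block_comb c1316 b1317 (Nat.zero_le _) (Nat.le_of_ble_eq_true rfl) rfl

theorem c1318 : Block F al 0 337664 310780 :=
  block_comb c1317 b1318 (Nat.zero_le _) (Nat.le_of_ble_eq_true rfl) rfl

theorem c1319 : Block F al 0 337920 311016 :=
  block_comb c1318 b1319 (Nat.zero_le _) (Nat.le_of_ble_eq_true rfl) rfl

theorem c1320 : Block F al 0 338176 311262 :=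
  block_comb c1319 b1320 (Nat.zero_le _) (Nat.le_of_ble_eq_true rfl) rfl

theorem c1321 : Block F al 0 338432 311514 :=
  block_comb c1320 b1321 (Nat.zero_le _) (Nat.le_of_ble_eq_true rfl) rfl

theorem c1322 : Block F al 0 338688 311769 :=
  block_comb c1321 b1322 (Nat.zero_le _) (Nat.le_of_ble_eq_true rfl) rfl

theorem c1323 : Block F al 0 338944 312020 :=
  block_comb c1322 b1323 (Nat.zero_le _) (Nat.le_of_ble_eq_true rfl) rfl

theorem c1324 : Block F al 0 339200 312263 :=
  block_comb c1323 b1324 (Nat.zero_le _) (Nat.le_of_ble_eq_true rfl) rfl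

theorem c1325 : Block F al 0 339456 312501 :=
  block_comb c1324 b1325 (Nat.zero_le _) (Nat.le_of_ble_eq_true rfl) rfl

theorem c1326 : Block F al 0 339712 312746 :=
  block_comb c1325 b1326 (Nat.zero_le _) (Nat.le_of_ble_eq_true rfl) rfl

theorem c1327 : Block F al 0 339968 312977 :=
  block_comb c1326 b1327 (Nat.zero_le _) (Nat.le_of_ble_eq_true rfl) rfl

theorem c1328 : Block F al 0 340224 313213 :=
  block_comb c1327 b1328 (Nat.zero_le _) (Nat.le_of_ble_eq_true rfl) rfl

theorem c1329 : Block F al 0 340480 313460 :=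
  block_comb c1328 b1329 (Nat.zero_le _) (Nat.le_of_ble_eq_true rfl) rfl

theorem c1330 : Block F al 0 340736 313699 :=
  block_comb c1329 b1330 (Nat.zero_le _) (Nat.le_of_ble_eq_true rfl) rfl

theorem c1331 : Block F al 0 340992 313950 :=
  block_comb c1330 b1331 (Nat.zero_le _) (Nat.le_of_ble_eq_true rfl) rfl

theorem c1332 : Block F al 0 341248 314198 :=
  block_comb c1331 b1332 (Nat.zero_le _) (Nat.le_of_ble_eq_true rfl) rfl

theorem c1333 : Block F al 0 341504 314452 :=
  block_comb c1332 b1333 (Nat.zero_le _) (Nat.le_of_ble_eq_true rfl) rfl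

theorem c1334 : Block F al 0 341760 314702 :=
  block_comb c1333 b1334 (Nat.zero_le _) (Nat.le_of_ble_eq_true rfl) rfl

theorem c1335 : Block F al 0 342016 314937 :=
  block_comb c1334 b1335 (Nat.zero_le _) (Nat.le_of_ble_eq_true rfl) rfl

theorem c1336 : Block F al 0 342272 315180 :=
  block_comb c1335 b1336 (Nat.zero_le _) (Nat.le_of_ble_eq_true rfl) rfl

theorem c1337 : Block F al 0 342528 315427 :=
  block_comb c1336 b1337 (Nat.zero_le _) (Nat.le_of_ble_eq_true rfl) rfl

theorem c1338 : Block F al 0 342784 315666 :=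
  block_comb c1337 b1338 (Nat.zero_le _) (Nat.le_of_ble_eq_true rfl) rfl

theorem c1339 : Block F al 0 343040 315915 :=
  block_comb c1338 b1339 (Nat.zero_le _) (Nat.le_of_ble_eq_true rfl) rfl

theorem c1340 : Block F al 0 343296 316155 :=
  block_comb c1339 b1340 (Nat.zero_le _) (Nat.le_of_ble_eq_true rfl) rfl

theorem c1341 : Block F al 0 343552 316408 :=
  block_comb c1340 b1341 (Nat.zero_le _) (Nat.le_of_ble_eq_true rfl) rfl

theorem c1342 : Block F al 0 343808 316658 :=
  block_comb c1341 b1342 (Nat.zero_le _) (Nat.le_of_ble_eq_true rfl) rfl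

theorem c1343 : Block F al 0 344064 316893 :=
  block_comb c1342 b1343 (Nat.zero_le _) (Nat.le_of_ble_eq_true rfl) rfl

theorem c1344 : Block F al 0 344320 317137 :=
  block_comb c1343 b1344 (Nat.zero_le _) (Nat.le_of_ble_eq_true rfl) rfl

theorem c1345 : Block F al 0 344576 317385 :=
  block_comb c1344 b1345 (Nat.zero_le _) (Nat.le_of_ble_eq_true rfl) rfl

theorem c1346 : Block F al 0 344832 317592 :=
  block_comb c1345 b1346 (Nat.zero_le _) (Nat.le_of_ble_eq_true rfl) rfl

theorem c1347 : Block F al 0 345088 317843 :=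
  block_comb c1346 b1347 (Nat.zero_le _) (Nat.le_of_ble_eq_true rfl) rfl

theorem c1348 : Block F al 0 345344 318098 :=
  block_comb c1347 b1348 (Nat.zero_le _) (Nat.le_of_ble_eq_true rfl) rfl

theorem c1349 : Block F al 0 345600 318351 :=
  block_comb c1348 b1349 (Nat.zero_le _) (Nat.le_of_ble_eq_true rfl) rfl

theorem c1350 : Block F al 0 345856 318578 :=
  block_comb c1349 b1350 (Nat.zero_le _) (Nat.le_of_ble_eq_true rfl) rfl

theorem c1351 : Block F al 0 346112 318818 :=
  block_comb c1350 b1351 (Nat.zero_le _) (Nat.le_of_ble_eq_true rfl) rfl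

theorem c1352 : Block F al 0 346368 319016 :=
  block_comb c1351 b1352 (Nat.zero_le _) (Nat.le_of_ble_eq_true rfl) rfl

theorem c1353 : Block F al 0 346624 319263 :=
  block_comb c1352 b1353 (Nat.zero_le _) (Nat.le_of_ble_eq_true rfl) rfl

theorem c1354 : Block F al 0 346880 319484 :=
  block_comb c1353 b1354 (Nat.zero_le _) (Nat.le_of_ble_eq_true rfl) rfl

theorem c1355 : Block F al 0 347136 319737 :=
  block_comb c1354 b1355 (Nat.zero_le _) (Nat.le_of_ble_eq_true rfl) rfl

theorem c1356 : Block F al 0 347392 319969 :=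
  block_comb c1355 b1356 (Nat.zero_le _) (Nat.le_of_ble_eq_true rfl) rfl

theorem c1357 : Block F al 0 347648 320220 :=
  block_comb c1356 b1357 (Nat.zero_le _) (Nat.le_of_ble_eq_true rfl) rfl

theorem c1358 : Block F al 0 347904 320456 :=
  block_comb c1357 b1358 (Nat.zero_le _) (Nat.le_of_ble_eq_true rfl) rfl

theorem c1359 : Block F al 0 348160 320692 :=
  block_comb c1358 b1359 (Nat.zero_le _) (Nat.le_of_ble_eq_true rfl) rfl

theorem c1360 : Block F al 0 348416 320928 :=
  block_comb c1359 b1360 (Nat.zero_le _) (Nat.le_of_ble_eq_true rfl) rfl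

theorem c1361 : Block F al 0 348672 321159 :=
  block_comb c1360 b1361 (Nat.zero_le _) (Nat.le_of_ble_eq_true rfl) rfl

theorem c1362 : Block F al 0 348928 321412 :=
  block_comb c1361 b1362 (Nat.zero_le _) (Nat.le_of_ble_eq_true rfl) rfl

theorem c1363 : Block F al 0 349184 321654 :=
  block_comb c1362 b1363 (Nat.zero_le _) (Nat.le_of_ble_eq_true rfl) rfl

theorem c1364 : Block F al 0 349440 321883 :=
  block_comb c1363 b1364 (Nat.zero_le _) (Nat.le_of_ble_eq_true rfl) rfl

theorem c1365 : Block F al 0 349696 322126 :=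
  block_comb c1364 b1365 (Nat.zero_le _) (Nat.le_of_ble_eq_true rfl) rfl

theorem c1366 : Block F al 0 349952 322365 :=
  block_comb c1365 b1366 (Nat.zero_le _) (Nat.le_of_ble_eq_true rfl) rfl

theorem c1367 : Block F al 0 350208 322612 :=
  block_comb c1366 b1367 (Nat.zero_le _) (Nat.le_of_ble_eq_true rfl) rfl

theorem c1368 : Block F al 0 350464 322864 :=
  block_comb c1367 b1368 (Nat.zero_le _) (Nat.le_of_ble_eq_true rfl) rfl

theorem c1369 : Block F al 0 350720 323106 :=
  block_comb c1368 b1369 (Nat.zero_le _) (Nat.le_of_ble_eq_true rfl) rfl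

theorem c1370 : Block F al 0 350976 323341 :=
  block_comb c1369 b1370 (Nat.zero_le _) (Nat.le_of_ble_eq_true rfl) rfl

theorem c1371 : Block F al 0 351232 323585 :=
  block_comb c1370 b1371 (Nat.zero_le _) (Nat.le_of_ble_eq_true rfl) rfl

theorem c1372 : Block F al 0 351488 323833 :=
  block_comb c1371 b1372 (Nat.zero_le _) (Nat.le_of_ble_eq_true rfl) rfl

theorem c1373 : Block F al 0 351744 324083 :=
  block_comb c1372 b1373 (Nat.zero_le _) (Nat.le_of_ble_eq_true rfl) rfl

theorem c1374 : Block F al 0 352000 324333 :=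
  block_comb c1373 b1374 (Nat.zero_le _) (Nat.le_of_ble_eq_true rfl) rfl

theorem c1375 : Block F al 0 352256 324581 :=
  block_comb c1374 b1375 (Nat.zero_le _) (Nat.le_of_ble_eq_true rfl) rfl

theorem c1376 : Block F al 0 352512 324824 :=
  block_comb c1375 b1376 (Nat.zero_le _) (Nat.le_of_ble_eq_true rfl) rfl

theorem c1377 : Block F al 0 352768 325075 :=
  block_comb c1376 b1377 (Nat.zero_le _) (Nat.le_of_ble_eq_true rfl) rfl

theorem c1378 : Block F al 0 353024 325316 :=
  block_comb c1377 b1378 (Nat.zero_le _) (Nat.le_of_ble_eq_true rfl) rfl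

theorem c1379 : Block F al 0 353280 325540 :=
  block_comb c1378 b1379 (Nat.zero_le _) (Nat.le_of_ble_eq_true rfl) rfl

theorem c1380 : Block F al 0 353536 325779 :=
  block_comb c1379 b1380 (Nat.zero_le _) (Nat.le_of_ble_eq_true rfl) rfl

theorem c1381 : Block F al 0 353792 326018 :=
  block_comb c1380 b1381 (Nat.zero_le _) (Nat.le_of_ble_eq_true rfl) rfl

theorem c1382 : Block F al 0 354048 326259 :=
  block_comb c1381 b1382 (Nat.zero_le _) (Nat.le_of_ble_eq_true rfl) rfl

theorem c1383 : Block F al 0 354304 326507 :=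
  block_comb c1382 b1383 (Nat.zero_le _) (Nat.le_of_ble_eq_true rfl) rfl

theorem c1384 : Block F al 0 354560 326749 :=
  block_comb c1383 b1384 (Nat.zero_le _) (Nat.le_of_ble_eq_true rfl) rfl

theorem c1385 : Block F al 0 354816 326997 :=
  block_comb c1384 b1385 (Nat.zero_le _) (Nat.le_of_ble_eq_true rfl) rfl

theorem c1386 : Block F al 0 355072 327251 :=
  block_comb c1385 b1386 (Nat.zero_le _) (Nat.le_of_ble_eq_true rfl) rfl

theorem c1387 : Block F al 0 355328 327500 :=
  block_comb c1386 b1387 (Nat.zero_le _) (Nat.le_of_ble_eq_true rfl) rfl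

theorem c1388 : Block F al 0 355584 327747 :=
  block_comb c1387 b1388 (Nat.zero_le _) (Nat.le_of_ble_eq_true rfl) rfl

theorem c1389 : Block F al 0 355840 327995 :=
  block_comb c1388 b1389 (Nat.zero_le _) (Nat.le_of_ble_eq_true rfl) rfl

theorem c1390 : Block F al 0 356096 328250 :=
  block_comb c1389 b1390 (Nat.zero_le _) (Nat.le_of_ble_eq_true rfl) rfl

theorem c1391 : Block F al 0 356352 328500 :=
  block_comb c1390 b1391 (Nat.zero_le _) (Nat.le_of_ble_eq_true rfl) rfl

theorem c1392 : Block F al 0 356608 328749 :=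
  block_comb c1391 b1392 (Nat.zero_le _) (Nat.le_of_ble_eq_true rfl) rfl

theorem c1393 : Block F al 0 356864 329002 :=
  block_comb c1392 b1393 (Nat.zero_le _) (Nat.le_of_ble_eq_true rfl) rfl

theorem c1394 : Block F al 0 357120 329252 :=
  block_comb c1393 b1394 (Nat.zero_le _) (Nat.le_of_ble_eq_true rfl) rfl

theorem c1395 : Block F al 0 357376 329501 :=
  block_comb c1394 b1395 (Nat.zero_le _) (Nat.le_of_ble_eq_true rfl) rfl

theorem c1396 : Block F al 0 357632 329749 :=
  block_comb c1395 b1396 (Nat.zero_le _) (Nat.le_of_ble_eq_true rfl) rfl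

theorem c1397 : Block F al 0 357888 330000 :=
  block_comb c1396 b1397 (Nat.zero_le _) (Nat.le_of_ble_eq_true rfl) rfl

theorem c1398 : Block F al 0 358144 330246 :=
  block_comb c1397 b1398 (Nat.zero_le _) (Nat.le_of_ble_eq_true rfl) rfl

theorem c1399 : Block F al 0 358400 330495 :=
  block_comb c1398 b1399 (Nat.zero_le _) (Nat.le_of_ble_eq_true rfl) rfl

theorem c1400 : Block F al 0 358656 330741 :=
  block_comb c1399 b1400 (Nat.zero_le _) (Nat.le_of_ble_eq_true rfl) rfl

theorem c1401 : Block F al 0 358912 330980 :=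
  block_comb c1400 b1401 (Nat.zero_le _) (Nat.le_of_ble_eq_true rfl) rfl

theorem c1402 : Block F al 0 359168 331201 :=
  block_comb c1401 b1402 (Nat.zero_le _) (Nat.le_of_ble_eq_true rfl) rfl

theorem c1403 : Block F al 0 359424 331444 :=
  block_comb c1402 b1403 (Nat.zero_le _) (Nat.le_of_ble_eq_true rfl) rfl

theorem c1404 : Block F al 0 359680 331686 :=
  block_comb c1403 b1404 (Nat.zero_le _) (Nat.le_of_ble_eq_true rfl) rfl

theorem c1405 : Block F al 0 359936 331929 :=
  block_comb c1404 b1405 (Nat.zero_le _) (Nat.le_of_ble_eq_true rfl) rfl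

theorem c1406 : Block F al 0 360192 332171 :=
  block_comb c1405 b1406 (Nat.zero_le _) (Nat.le_of_ble_eq_true rfl) rfl

theorem c1407 : Block F al 0 360448 332414 :=
  block_comb c1406 b1407 (Nat.zero_le _) (Nat.le_of_ble_eq_true rfl) rfl

theorem c1408 : Block F al 0 360704 332661 :=
  block_comb c1407 b1408 (Nat.zero_le _) (Nat.le_of_ble_eq_true rfl) rfl

theorem c1409 : Block F al 0 360960 332874 :=
  block_comb c1408 b1409 (Nat.zero_le _) (Nat.le_of_ble_eq_true rfl) rfl

theorem c1410 : Block F al 0 361216 333121 :=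
  block_comb c1409 b1410 (Nat.zero_le _) (Nat.le_of_ble_eq_true rfl) rfl

theorem c1411 : Block F al 0 361472 333371 :=
  block_comb c1410 b1411 (Nat.zero_le _) (Nat.le_of_ble_eq_true rfl) rfl

theorem c1412 : Block F al 0 361728 333617 :=
  block_comb c1411 b1412 (Nat.zero_le _) (Nat.le_of_ble_eq_true rfl) rfl

theorem c1413 : Block F al 0 361984 333868 :=
  block_comb c1412 b1413 (Nat.zero_le _) (Nat.le_of_ble_eq_true rfl) rfl

theorem c1414 : Block F al 0 362240 334111 :=
  block_comb c1413 b1414 (Nat.zero_le _) (Nat.le_of_ble_eq_true rfl) rfl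

theorem c1415 : Block F al 0 362496 334352 :=
  block_comb c1414 b1415 (Nat.zero_le _) (Nat.le_of_ble_eq_true rfl) rfl

theorem c1416 : Block F al 0 362752 334597 :=
  block_comb c1415 b1416 (Nat.zero_le _) (Nat.le_of_ble_eq_true rfl) rfl

theorem c1417 : Block F al 0 363008 334847 :=
  block_comb c1416 b1417 (Nat.zero_le _) (Nat.le_of_ble_eq_true rfl) rfl

theorem c1418 : Block F al 0 363264 335098 :=
  block_comb c1417 b1418 (Nat.zero_le _) (Nat.le_of_ble_eq_true rfl) rfl

theorem c1419 : Block F al 0 363520 335350 :=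
  block_comb c1418 b1419 (Nat.zero_le _) (Nat.le_of_ble_eq_true rfl) rfl

theorem c1420 : Block F al 0 363776 335594 :=
  block_comb c1419 b1420 (Nat.zero_le _) (Nat.le_of_ble_eq_true rfl) rfl

theorem c1421 : Block F al 0 364032 335830 :=
  block_comb c1420 b1421 (Nat.zero_le _) (Nat.le_of_ble_eq_true rfl) rfl

theorem c1422 : Block F al 0 364288 336065 :=
  block_comb c1421 b1422 (Nat.zero_le _) (Nat.le_of_ble_eq_true rfl) rfl

theorem c1423 : Block F al 0 364544 336317 :=
  block_comb c1422 b1423 (Nat.zero_le _) (Nat.le_of_ble_eq_true rfl) rfl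

theorem c1424 : Block F al 0 364800 336564 :=
  block_comb c1423 b1424 (Nat.zero_le _) (Nat.le_of_ble_eq_true rfl) rfl

theorem c1425 : Block F al 0 365056 336811 :=
  block_comb c1424 b1425 (Nat.zero_le _) (Nat.le_of_ble_eq_true rfl) rfl

theorem c1426 : Block F al 0 365312 337058 :=
  block_comb c1425 b1426 (Nat.zero_le _) (Nat.le_of_ble_eq_true rfl) rfl

theorem c1427 : Block F al 0 365568 337297 :=
  block_comb c1426 b1427 (Nat.zero_le _) (Nat.le_of_ble_eq_true rfl) rfl

theorem c1428 : Block F al 0 365824 337546 :=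
  block_comb c1427 b1428 (Nat.zero_le _) (Nat.le_of_ble_eq_true rfl) rfl

theorem c1429 : Block F al 0 366080 337772 :=
  block_comb c1428 b1429 (Nat.zero_le _) (Nat.le_of_ble_eq_true rfl) rfl

theorem c1430 : Block F al 0 366336 338006 :=
  block_comb c1429 b1430 (Nat.zero_le _) (Nat.le_of_ble_eq_true rfl) rfl

theorem c1431 : Block F al 0 366592 338256 :=
  block_comb c1430 b1431 (Nat.zero_le _) (Nat.le_of_ble_eq_true rfl) rfl

theorem c1432 : Block F al 0 366848 338503 :=
  block_comb c1431 b1432 (Nat.zero_le _) (Nat.le_of_ble_eq_true rfl) rfl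

theorem c1433 : Block F al 0 367104 338739 :=
  block_comb c1432 b1433 (Nat.zero_le _) (Nat.le_of_ble_eq_true rfl) rfl

theorem c1434 : Block F al 0 367360 338971 :=
  block_comb c1433 b1434 (Nat.zero_le _) (Nat.le_of_ble_eq_true rfl) rfl

theorem c1435 : Block F al 0 367616 339216 :=
  block_comb c1434 b1435 (Nat.zero_le _) (Nat.le_of_ble_eq_true rfl) rfl

theorem c1436 : Block F al 0 367872 339443 :=
  block_comb c1435 b1436 (Nat.zero_le _) (Nat.le_of_ble_eq_true rfl) rfl

theorem c1437 : Block F al 0 368128 339686 :=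
  block_comb c1436 b1437 (Nat.zero_le _) (Nat.le_of_ble_eq_true rfl) rfl

theorem c1438 : Block F al 0 368384 339912 :=
  block_comb c1437 b1438 (Nat.zero_le _) (Nat.le_of_ble_eq_true rfl) rfl

theorem c1439 : Block F al 0 368640 340160 :=
  block_comb c1438 b1439 (Nat.zero_le _) (Nat.le_of_ble_eq_true rfl) rfl

theorem c1440 : Block F al 0 368896 340398 :=
  block_comb c1439 b1440 (Nat.zero_le _) (Nat.le_of_ble_eq_true rfl) rfl

theorem c1441 : Block F al 0 369152 340643 :=
  block_comb c1440 b1441 (Nat.zero_le _) (Nat.le_of_ble_eq_true rfl) rfl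

theorem c1442 : Block F al 0 369408 340890 :=
  block_comb c1441 b1442 (Nat.zero_le _) (Nat.le_of_ble_eq_true rfl) rfl

theorem c1443 : Block F al 0 369664 341133 :=
  block_comb c1442 b1443 (Nat.zero_le _) (Nat.le_of_ble_eq_true rfl) rfl

theorem c1444 : Block F al 0 369920 341376 :=
  block_comb c1443 b1444 (Nat.zero_le _) (Nat.le_of_ble_eq_true rfl) rfl

theorem c1445 : Block F al 0 370176 341617 :=
  block_comb c1444 b1445 (Nat.zero_le _) (Nat.le_of_ble_eq_true rfl) rfl

theorem c1446 : Block F al 0 370432 341858 :=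
  block_comb c1445 b1446 (Nat.zero_le _) (Nat.le_of_ble_eq_true rfl) rfl

theorem c1447 : Block F al 0 370688 342093 :=
  block_comb c1446 b1447 (Nat.zero_le _) (Nat.le_of_ble_eq_true rfl) rfl

theorem c1448 : Block F al 0 370944 342342 :=
  block_comb c1447 b1448 (Nat.zero_le _) (Nat.le_of_ble_eq_true rfl) rfl

theorem c1449 : Block F al 0 371200 342589 :=
  block_comb c1448 b1449 (Nat.zero_le _) (Nat.le_of_ble_eq_true rfl) rfl

theorem c1450 : Block F al 0 371456 342840 :=
  block_comb c1449 b1450 (Nat.zero_le _) (Nat.le_of_ble_eq_true rfl) rfl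

theorem c1451 : Block F al 0 371712 343083 :=
  block_comb c1450 b1451 (Nat.zero_le _) (Nat.le_of_ble_eq_true rfl) rfl

theorem c1452 : Block F al 0 371968 343323 :=
  block_comb c1451 b1452 (Nat.zero_le _) (Nat.le_of_ble_eq_true rfl) rfl

theorem c1453 : Block F al 0 372224 343552 :=
  block_comb c1452 b1453 (Nat.zero_le _) (Nat.le_of_ble_eq_true rfl) rfl

theorem c1454 : Block F al 0 372480 343801 :=
  block_comb c1453 b1454 (Nat.zero_le _) (Nat.le_of_ble_eq_true rfl) rfl

theorem c1455 : Block F al 0 372736 344037 :=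
  block_comb c1454 b1455 (Nat.zero_le _) (Nat.le_of_ble_eq_true rfl) rfl

theorem c1456 : Block F al 0 372992 344281 :=
  block_comb c1455 b1456 (Nat.zero_le _) (Nat.le_of_ble_eq_true rfl) rfl

theorem c1457 : Block F al 0 373248 344518 :=
  block_comb c1456 b1457 (Nat.zero_le _) (Nat.le_of_ble_eq_true rfl) rfl

theorem c1458 : Block F al 0 373504 344764 :=
  block_comb c1457 b1458 (Nat.zero_le _) (Nat.le_of_ble_eq_true rfl) rfl

theorem c1459 : Block F al 0 373760 344998 :=
  block_comb c1458 b1459 (Nat.zero_le _) (Nat.le_of_ble_eq_true rfl) rfl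

theorem c1460 : Block F al 0 374016 345226 :=
  block_comb c1459 b1460 (Nat.zero_le _) (Nat.le_of_ble_eq_true rfl) rfl

theorem c1461 : Block F al 0 374272 345459 :=
  block_comb c1460 b1461 (Nat.zero_le _) (Nat.le_of_ble_eq_true rfl) rfl

theorem c1462 : Block F al 0 374528 345677 :=
  block_comb c1461 b1462 (Nat.zero_le _) (Nat.le_of_ble_eq_true rfl) rfl

theorem c1463 : Block F al 0 374784 345910 :=
  block_comb c1462 b1463 (Nat.zero_le _) (Nat.le_of_ble_eq_true rfl) rfl

theorem c1464 : Block F al 0 375040 346145 :=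
  block_comb c1463 b1464 (Nat.zero_le _) (Nat.le_of_ble_eq_true rfl) rfl

theorem c1465 : Block F al 0 375296 346382 :=
  block_comb c1464 b1465 (Nat.zero_le _) (Nat.le_of_ble_eq_true rfl) rfl

theorem c1466 : Block F al 0 375552 346615 :=
  block_comb c1465 b1466 (Nat.zero_le _) (Nat.le_of_ble_eq_true rfl) rfl

theorem c1467 : Block F al 0 375808 346857 :=
  block_comb c1466 b1467 (Nat.zero_le _) (Nat.le_of_ble_eq_true rfl) rfl

theorem c1468 : Block F al 0 376064 347098 :=
  block_comb c1467 b1468 (Nat.zero_le _) (Nat.le_of_ble_eq_true rfl) rfl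

theorem c1469 : Block F al 0 376320 347331 :=
  block_comb c1468 b1469 (Nat.zero_le _) (Nat.le_of_ble_eq_true rfl) rfl

theorem c1470 : Block F al 0 376576 347576 :=
  block_comb c1469 b1470 (Nat.zero_le _) (Nat.le_of_ble_eq_true rfl) rfl

theorem c1471 : Block F al 0 376832 347819 :=
  block_comb c1470 b1471 (Nat.zero_le _) (Nat.le_of_ble_eq_true rfl) rfl

theorem c1472 : Block F al 0 377088 348058 :=
  block_comb c1471 b1472 (Nat.zero_le _) (Nat.le_of_ble_eq_true rfl) rfl

theorem c1473 : Block F al 0 377344 348292 :=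
  block_comb c1472 b1473 (Nat.zero_le _) (Nat.le_of_ble_eq_true rfl) rfl

theorem c1474 : Block F al 0 377600 348525 :=
  block_comb c1473 b1474 (Nat.zero_le _) (Nat.le_of_ble_eq_true rfl) rfl

theorem c1475 : Block F al 0 377856 348772 :=
  block_comb c1474 b1475 (Nat.zero_le _) (Nat.le_of_ble_eq_true rfl) rfl

theorem c1476 : Block F al 0 378112 349008 :=
  block_comb c1475 b1476 (Nat.zero_le _) (Nat.le_of_ble_eq_true rfl) rfl

theorem c1477 : Block F al 0 378368 349225 :=
  block_comb c1476 b1477 (Nat.zero_le _) (Nat.le_of_ble_eq_true rfl) rfl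

theorem c1478 : Block F al 0 378624 349428 :=
  block_comb c1477 b1478 (Nat.zero_le _) (Nat.le_of_ble_eq_true rfl) rfl

theorem c1479 : Block F al 0 378880 349668 :=
  block_comb c1478 b1479 (Nat.zero_le _) (Nat.le_of_ble_eq_true rfl) rfl

theorem c1480 : Block F al 0 379136 349901 :=
  block_comb c1479 b1480 (Nat.zero_le _) (Nat.le_of_ble_eq_true rfl) rfl

theorem c1481 : Block F al 0 379392 350136 :=
  block_comb c1480 b1481 (Nat.zero_le _) (Nat.le_of_ble_eq_true rfl) rfl

theorem c1482 : Block F al 0 379648 350378 :=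
  block_comb c1481 b1482 (Nat.zero_le _) (Nat.le_of_ble_eq_true rfl) rfl

theorem c1483 : Block F al 0 379904 350589 :=
  block_comb c1482 b1483 (Nat.zero_le _) (Nat.le_of_ble_eq_true rfl) rfl

theorem c1484 : Block F al 0 380160 350824 :=
  block_comb c1483 b1484 (Nat.zero_le _) (Nat.le_of_ble_eq_true rfl) rfl

theorem c1485 : Block F al 0 380416 351068 :=
  block_comb c1484 b1485 (Nat.zero_le _) (Nat.le_of_ble_eq_true rfl) rfl

theorem c1486 : Block F al 0 380672 351317 :=
  block_comb c1485 b1486 (Nat.zero_le _) (Nat.le_of_ble_eq_true rfl) rfl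

theorem c1487 : Block F al 0 380928 351555 :=
  block_comb c1486 b1487 (Nat.zero_le _) (Nat.le_of_ble_eq_true rfl) rfl

theorem c1488 : Block F al 0 381184 351781 :=
  block_comb c1487 b1488 (Nat.zero_le _) (Nat.le_of_ble_eq_true rfl) rfl

theorem c1489 : Block F al 0 381440 351992 :=
  block_comb c1488 b1489 (Nat.zero_le _) (Nat.le_of_ble_eq_true rfl) rfl

theorem c1490 : Block F al 0 381696 352210 :=
  block_comb c1489 b1490 (Nat.zero_le _) (Nat.le_of_ble_eq_true rfl) rfl

theorem c1491 : Block F al 0 381952 352403 :=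
  block_comb c1490 b1491 (Nat.zero_le _) (Nat.le_of_ble_eq_true rfl) rfl

theorem c1492 : Block F al 0 382208 352645 :=
  block_comb c1491 b1492 (Nat.zero_le _) (Nat.le_of_ble_eq_true rfl) rfl

theorem c1493 : Block F al 0 382464 352881 :=
  block_comb c1492 b1493 (Nat.zero_le _) (Nat.le_of_ble_eq_true rfl) rfl

theorem c1494 : Block F al 0 382720 353113 :=
  block_comb c1493 b1494 (Nat.zero_le _) (Nat.le_of_ble_eq_true rfl) rfl

theorem c1495 : Block F al 0 382976 353355 :=
  block_comb c1494 b1495 (Nat.zero_le _) (Nat.le_of_ble_eq_true rfl) rfl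

theorem c1496 : Block F al 0 383232 353610 :=
  block_comb c1495 b1496 (Nat.zero_le _) (Nat.le_of_ble_eq_true rfl) rfl

theorem c1497 : Block F al 0 383488 353861 :=
  block_comb c1496 b1497 (Nat.zero_le _) (Nat.le_of_ble_eq_true rfl) rfl

theorem c1498 : Block F al 0 383744 354101 :=
  block_comb c1497 b1498 (Nat.zero_le _) (Nat.le_of_ble_eq_true rfl) rfl

theorem c1499 : Block F al 0 384000 354343 :=
  block_comb c1498 b1499 (Nat.zero_le _) (Nat.le_of_ble_eq_true rfl) rfl

theorem c1500 : Block F al 0 384256 354592 :=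
  block_comb c1499 b1500 (Nat.zero_le _) (Nat.le_of_ble_eq_true rfl) rfl

theorem c1501 : Block F al 0 384512 354840 :=
  block_comb c1500 b1501 (Nat.zero_le _) (Nat.le_of_ble_eq_true rfl) rfl

theorem c1502 : Block F al 0 384768 355078 :=
  block_comb c1501 b1502 (Nat.zero_le _) (Nat.le_of_ble_eq_true rfl) rfl

theorem c1503 : Block F al 0 385024 355324 :=
  block_comb c1502 b1503 (Nat.zero_le _) (Nat.le_of_ble_eq_true rfl) rfl

theorem c1504 : Block F al 0 385280 355561 :=
  block_comb c1503 b1504 (Nat.zero_le _) (Nat.le_of_ble_eq_true rfl) rfl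

theorem c1505 : Block F al 0 385536 355810 :=
  block_comb c1504 b1505 (Nat.zero_le _) (Nat.le_of_ble_eq_true rfl) rfl

theorem c1506 : Block F al 0 385792 356049 :=
  block_comb c1505 b1506 (Nat.zero_le _) (Nat.le_of_ble_eq_true rfl) rfl

theorem c1507 : Block F al 0 386048 356285 :=
  block_comb c1506 b1507 (Nat.zero_le _) (Nat.le_of_ble_eq_true rfl) rfl

theorem c1508 : Block F al 0 386304 356527 :=
  block_comb c1507 b1508 (Nat.zero_le _) (Nat.le_of_ble_eq_true rfl) rfl

theorem c1509 : Block F al 0 386560 356767 :=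
  block_comb c1508 b1509 (Nat.zero_le _) (Nat.le_of_ble_eq_true rfl) rfl

theorem c1510 : Block F al 0 386816 356993 :=
  block_comb c1509 b1510 (Nat.zero_le _) (Nat.le_of_ble_eq_true rfl) rfl

theorem c1511 : Block F al 0 387072 357233 :=
  block_comb c1510 b1511 (Nat.zero_le _) (Nat.le_of_ble_eq_true rfl) rfl

theorem c1512 : Block F al 0 387328 357467 :=
  block_comb c1511 b1512 (Nat.zero_le _) (Nat.le_of_ble_eq_true rfl) rfl

theorem c1513 : Block F al 0 387584 357714 :=
  block_comb c1512 b1513 (Nat.zero_le _) (Nat.le_of_ble_eq_true rfl) rfl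

theorem c1514 : Block F al 0 387840 357968 :=
  block_comb c1513 b1514 (Nat.zero_le _) (Nat.le_of_ble_eq_true rfl) rfl

theorem c1515 : Block F al 0 388096 358208 :=
  block_comb c1514 b1515 (Nat.zero_le _) (Nat.le_of_ble_eq_true rfl) rfl

theorem c1516 : Block F al 0 388352 358453 :=
  block_comb c1515 b1516 (Nat.zero_le _) (Nat.le_of_ble_eq_true rfl) rfl

theorem c1517 : Block F al 0 388608 358697 :=
  block_comb c1516 b1517 (Nat.zero_le _) (Nat.le_of_ble_eq_true rfl) rfl

theorem c1518 : Block F al 0 388864 358944 :=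
  block_comb c1517 b1518 (Nat.zero_le _) (Nat.le_of_ble_eq_true rfl) rfl

theorem c1519 : Block F al 0 389120 359196 :=
  block_comb c1518 b1519 (Nat.zero_le _) (Nat.le_of_ble_eq_true rfl) rfl

theorem c1520 : Block F al 0 389376 359434 :=
  block_comb c1519 b1520 (Nat.zero_le _) (Nat.le_of_ble_eq_true rfl) rfl

theorem c1521 : Block F al 0 389632 359677 :=
  block_comb c1520 b1521 (Nat.zero_le _) (Nat.le_of_ble_eq_true rfl) rfl

theorem c1522 : Block F al 0 389888 359927 :=
  block_comb c1521 b1522 (Nat.zero_le _) (Nat.le_of_ble_eq_true rfl) rfl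

theorem c1523 : Block F al 0 390144 360162 :=
  block_comb c1522 b1523 (Nat.zero_le _) (Nat.le_of_ble_eq_true rfl) rfl

theorem c1524 : Block F al 0 390400 360398 :=
  block_comb c1523 b1524 (Nat.zero_le _) (Nat.le_of_ble_eq_true rfl) rfl

theorem c1525 : Block F al 0 390656 360647 :=
  block_comb c1524 b1525 (Nat.zero_le _) (Nat.le_of_ble_eq_true rfl) rfl

theorem c1526 : Block F al 0 390912 360895 :=
  block_comb c1525 b1526 (Nat.zero_le _) (Nat.le_of_ble_eq_true rfl) rfl

theorem c1527 : Block F al 0 391168 361138 :=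
  block_comb c1526 b1527 (Nat.zero_le _) (Nat.le_of_ble_eq_true rfl) rfl

theorem c1528 : Block F al 0 391424 361360 :=
  block_comb c1527 b1528 (Nat.zero_le _) (Nat.le_of_ble_eq_true rfl) rfl

theorem c1529 : Block F al 0 391680 361599 :=
  block_comb c1528 b1529 (Nat.zero_le _) (Nat.le_of_ble_eq_true rfl) rfl

theorem c1530 : Block F al 0 391936 361850 :=
  block_comb c1529 b1530 (Nat.zero_le _) (Nat.le_of_ble_eq_true rfl) rfl

theorem c1531 : Block F al 0 392192 362056 :=
  block_comb c1530 b1531 (Nat.zero_le _) (Nat.le_of_ble_eq_true rfl) rfl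

theorem c1532 : Block F al 0 392448 362306 :=
  block_comb c1531 b1532 (Nat.zero_le _) (Nat.le_of_ble_eq_true rfl) rfl

theorem c1533 : Block F al 0 392704 362537 :=
  block_comb c1532 b1533 (Nat.zero_le _) (Nat.le_of_ble_eq_true rfl) rfl

theorem c1534 : Block F al 0 392960 362763 :=
  block_comb c1533 b1534 (Nat.zero_le _) (Nat.le_of_ble_eq_true rfl) rfl

theorem c1535 : Block F al 0 393216 362989 :=
  block_comb c1534 b1535 (Nat.zero_le _) (Nat.le_of_ble_eq_true rfl) rfl

theorem c1536 : Block F al 0 393472 363223 :=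
  block_comb c1535 b1536 (Nat.zero_le _) (Nat.le_of_ble_eq_true rfl) rfl

theorem c1537 : Block F al 0 393728 363441 :=
  block_comb c1536 b1537 (Nat.zero_le _) (Nat.le_of_ble_eq_true rfl) rfl

theorem c1538 : Block F al 0 393984 363681 :=
  block_comb c1537 b1538 (Nat.zero_le _) (Nat.le_of_ble_eq_true rfl) rfl

theorem c1539 : Block F al 0 394240 363924 :=
  block_comb c1538 b1539 (Nat.zero_le _) (Nat.le_of_ble_eq_true rfl) rfl

theorem c1540 : Block F al 0 394496 364152 :=
  block_comb c1539 b1540 (Nat.zero_le _) (Nat.le_of_ble_eq_true rfl) rfl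

theorem c1541 : Block F al 0 394752 364386 :=
  block_comb c1540 b1541 (Nat.zero_le _) (Nat.le_of_ble_eq_true rfl) rfl

theorem c1542 : Block F al 0 395008 364633 :=
  block_comb c1541 b1542 (Nat.zero_le _) (Nat.le_of_ble_eq_true rfl) rfl

theorem c1543 : Block F al 0 395264 364877 :=
  block_comb c1542 b1543 (Nat.zero_le _) (Nat.le_of_ble_eq_true rfl) rfl

theorem c1544 : Block F al 0 395520 365116 :=
  block_comb c1543 b1544 (Nat.zero_le _) (Nat.le_of_ble_eq_true rfl) rfl

theorem c1545 : Block F al 0 395776 365347 :=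
  block_comb c1544 b1545 (Nat.zero_le _) (Nat.le_of_ble_eq_true rfl) rfl

theorem c1546 : Block F al 0 396032 365566 :=
  block_comb c1545 b1546 (Nat.zero_le _) (Nat.le_of_ble_eq_true rfl) rfl

theorem c1547 : Block F al 0 396288 365788 :=
  block_comb c1546 b1547 (Nat.zero_le _) (Nat.le_of_ble_eq_true rfl) rfl

theorem c1548 : Block F al 0 396544 366017 :=
  block_comb c1547 b1548 (Nat.zero_le _) (Nat.le_of_ble_eq_true rfl) rfl

theorem c1549 : Block F al 0 396800 366260 :=
  block_comb c1548 b1549 (Nat.zero_le _) (Nat.le_of_ble_eq_true rfl) rfl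

theorem c1550 : Block F al 0 397056 366504 :=
  block_comb c1549 b1550 (Nat.zero_le _) (Nat.le_of_ble_eq_true rfl) rfl

theorem c1551 : Block F al 0 397312 366738 :=
  block_comb c1550 b1551 (Nat.zero_le _) (Nat.le_of_ble_eq_true rfl) rfl

theorem c1552 : Block F al 0 397568 366974 :=
  block_comb c1551 b1552 (Nat.zero_le _) (Nat.le_of_ble_eq_true rfl) rfl

theorem c1553 : Block F al 0 397824 367203 :=
  block_comb c1552 b1553 (Nat.zero_le _) (Nat.le_of_ble_eq_true rfl) rfl

theorem c1554 : Block F al 0 398080 367435 :=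
  block_comb c1553 b1554 (Nat.zero_le _) (Nat.le_of_ble_eq_true rfl) rfl

theorem c1555 : Block F al 0 398336 367673 :=
  block_comb c1554 b1555 (Nat.zero_le _) (Nat.le_of_ble_eq_true rfl) rfl

theorem c1556 : Block F al 0 398592 367903 :=
  block_comb c1555 b1556 (Nat.zero_le _) (Nat.le_of_ble_eq_true rfl) rfl

theorem c1557 : Block F al 0 398848 368130 :=
  block_comb c1556 b1557 (Nat.zero_le _) (Nat.le_of_ble_eq_true rfl) rfl

theorem c1558 : Block F al 0 399104 368365 :=
  block_comb c1557 b1558 (Nat.zero_le _) (Nat.le_of_ble_eq_true rfl) rfl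

theorem c1559 : Block F al 0 399360 368576 :=
  block_comb c1558 b1559 (Nat.zero_le _) (Nat.le_of_ble_eq_true rfl) rfl

theorem c1560 : Block F al 0 399616 368795 :=
  block_comb c1559 b1560 (Nat.zero_le _) (Nat.le_of_ble_eq_true rfl) rfl

theorem c1561 : Block F al 0 399872 369024 :=
  block_comb c1560 b1561 (Nat.zero_le _) (Nat.le_of_ble_eq_true rfl) rfl

theorem c1562 : Block F al 0 400128 369269 :=
  block_comb c1561 b1562 (Nat.zero_le _) (Nat.le_of_ble_eq_true rfl) rfl

theorem c1563 : Block F al 0 400384 369509 :=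
  block_comb c1562 b1563 (Nat.zero_le _) (Nat.le_of_ble_eq_true rfl) rfl

theorem c1564 : Block F al 0 400640 369740 :=
  block_comb c1563 b1564 (Nat.zero_le _) (Nat.le_of_ble_eq_true rfl) rfl

theorem c1565 : Block F al 0 400896 369974 :=
  block_comb c1564 b1565 (Nat.zero_le _) (Nat.le_of_ble_eq_true rfl) rfl

theorem c1566 : Block F al 0 401152 370206 :=
  block_comb c1565 b1566 (Nat.zero_le _) (Nat.le_of_ble_eq_true rfl) rfl

theorem c1567 : Block F al 0 401408 370440 :=
  block_comb c1566 b1567 (Nat.zero_le _) (Nat.le_of_ble_eq_true rfl) rfl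

theorem c1568 : Block F al 0 401664 370683 :=
  block_comb c1567 b1568 (Nat.zero_le _) (Nat.le_of_ble_eq_true rfl) rfl

theorem c1569 : Block F al 0 401920 370910 :=
  block_comb c1568 b1569 (Nat.zero_le _) (Nat.le_of_ble_eq_true rfl) rfl

theorem c1570 : Block F al 0 402176 371146 :=
  block_comb c1569 b1570 (Nat.zero_le _) (Nat.le_of_ble_eq_true rfl) rfl

theorem c1571 : Block F al 0 402432 371385 :=
  block_comb c1570 b1571 (Nat.zero_le _) (Nat.le_of_ble_eq_true rfl) rfl

theorem c1572 : Block F al 0 402688 371623 :=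
  block_comb c1571 b1572 (Nat.zero_le _) (Nat.le_of_ble_eq_true rfl) rfl

theorem c1573 : Block F al 0 402944 371853 :=
  block_comb c1572 b1573 (Nat.zero_le _) (Nat.le_of_ble_eq_true rfl) rfl

theorem c1574 : Block F al 0 403200 372073 :=
  block_comb c1573 b1574 (Nat.zero_le _) (Nat.le_of_ble_eq_true rfl) rfl

theorem c1575 : Block F al 0 403456 372319 :=
  block_comb c1574 b1575 (Nat.zero_le _) (Nat.le_of_ble_eq_true rfl) rfl

theorem c1576 : Block F al 0 403712 372543 :=
  block_comb c1575 b1576 (Nat.zero_le _) (Nat.le_of_ble_eq_true rfl) rfl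

theorem c1577 : Block F al 0 403968 372773 :=
  block_comb c1576 b1577 (Nat.zero_le _) (Nat.le_of_ble_eq_true rfl) rfl

theorem c1578 : Block F al 0 404224 372998 :=
  block_comb c1577 b1578 (Nat.zero_le _) (Nat.le_of_ble_eq_true rfl) rfl

theorem c1579 : Block F al 0 404480 373201 :=
  block_comb c1578 b1579 (Nat.zero_le _) (Nat.le_of_ble_eq_true rfl) rfl

theorem c1580 : Block F al 0 404736 373422 :=
  block_comb c1579 b1580 (Nat.zero_le _) (Nat.le_of_ble_eq_true rfl) rfl

theorem c1581 : Block F al 0 404992 373660 :=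
  block_comb c1580 b1581 (Nat.zero_le _) (Nat.le_of_ble_eq_true rfl) rfl

theorem c1582 : Block F al 0 405248 373888 :=
  block_comb c1581 b1582 (Nat.zero_le _) (Nat.le_of_ble_eq_true rfl) rfl

theorem c1583 : Block F al 0 405504 374132 :=
  block_comb c1582 b1583 (Nat.zero_le _) (Nat.le_of_ble_eq_true rfl) rfl

theorem c1584 : Block F al 0 405760 374355 :=
  block_comb c1583 b1584 (Nat.zero_le _) (Nat.le_of_ble_eq_true rfl) rfl

theorem c1585 : Block F al 0 406016 374589 :=
  block_comb c1584 b1585 (Nat.zero_le _) (Nat.le_of_ble_eq_true rfl) rfl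

theorem c1586 : Block F al 0 406272 374812 :=
  block_comb c1585 b1586 (Nat.zero_le _) (Nat.le_of_ble_eq_true rfl) rfl

theorem c1587 : Block F al 0 406528 375068 :=
  block_comb c1586 b1587 (Nat.zero_le _) (Nat.le_of_ble_eq_true rfl) rfl

theorem c1588 : Block F al 0 406784 375316 :=
  block_comb c1587 b1588 (Nat.zero_le _) (Nat.le_of_ble_eq_true rfl) rfl

theorem c1589 : Block F al 0 407040 375562 :=
  block_comb c1588 b1589 (Nat.zero_le _) (Nat.le_of_ble_eq_true rfl) rfl

theorem c1590 : Block F al 0 407296 375806 :=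
  block_comb c1589 b1590 (Nat.zero_le _) (Nat.le_of_ble_eq_true rfl) rfl

theorem c1591 : Block F al 0 407552 376051 :=
  block_comb c1590 b1591 (Nat.zero_le _) (Nat.le_of_ble_eq_true rfl) rfl

theorem c1592 : Block F al 0 407808 376300 :=
  block_comb c1591 b1592 (Nat.zero_le _) (Nat.le_of_ble_eq_true rfl) rfl

theorem c1593 : Block F al 0 408064 376544 :=
  block_comb c1592 b1593 (Nat.zero_le _) (Nat.le_of_ble_eq_true rfl) rfl

theorem c1594 : Block F al 0 408320 376794 :=
  block_comb c1593 b1594 (Nat.zero_le _) (Nat.le_of_ble_eq_true rfl) rfl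

theorem c1595 : Block F al 0 408576 377040 :=
  block_comb c1594 b1595 (Nat.zero_le _) (Nat.le_of_ble_eq_true rfl) rfl

theorem c1596 : Block F al 0 408832 377268 :=
  block_comb c1595 b1596 (Nat.zero_le _) (Nat.le_of_ble_eq_true rfl) rfl

theorem c1597 : Block F al 0 409088 377520 :=
  block_comb c1596 b1597 (Nat.zero_le _) (Nat.le_of_ble_eq_true rfl) rfl

theorem c1598 : Block F al 0 409344 377754 :=
  block_comb c1597 b1598 (Nat.zero_le _) (Nat.le_of_ble_eq_true rfl) rfl

theorem c1599 : Block F al 0 409600 377992 :=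
  block_comb c1598 b1599 (Nat.zero_le _) (Nat.le_of_ble_eq_true rfl) rfl

theorem c1600 : Block F al 0 409856 378230 :=
  block_comb c1599 b1600 (Nat.zero_le _) (Nat.le_of_ble_eq_true rfl) rfl

theorem c1601 : Block F al 0 410112 378480 :=
  block_comb c1600 b1601 (Nat.zero_le _) (Nat.le_of_ble_eq_true rfl) rfl

theorem c1602 : Block F al 0 410368 378720 :=
  block_comb c1601 b1602 (Nat.zero_le _) (Nat.le_of_ble_eq_true rfl) rfl

theorem c1603 : Block F al 0 410624 378965 :=
  block_comb c1602 b1603 (Nat.zero_le _) (Nat.le_of_ble_eq_true rfl) rfl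

theorem c1604 : Block F al 0 410880 379210 :=
  block_comb c1603 b1604 (Nat.zero_le _) (Nat.le_of_ble_eq_true rfl) rfl

theorem c1605 : Block F al 0 411136 379457 :=
  block_comb c1604 b1605 (Nat.zero_le _) (Nat.le_of_ble_eq_true rfl) rfl

theorem c1606 : Block F al 0 411392 379710 :=
  block_comb c1605 b1606 (Nat.zero_le _) (Nat.le_of_ble_eq_true rfl) rfl

theorem c1607 : Block F al 0 411648 379955 :=
  block_comb c1606 b1607 (Nat.zero_le _) (Nat.le_of_ble_eq_true rfl) rfl

theorem c1608 : Block F al 0 411904 380205 :=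
  block_comb c1607 b1608 (Nat.zero_le _) (Nat.le_of_ble_eq_true rfl) rfl

theorem c1609 : Block F al 0 412160 380457 :=
  block_comb c1608 b1609 (Nat.zero_le _) (Nat.le_of_ble_eq_true rfl) rfl

theorem c1610 : Block F al 0 412416 380707 :=
  block_comb c1609 b1610 (Nat.zero_le _) (Nat.le_of_ble_eq_true rfl) rfl

theorem c1611 : Block F al 0 412672 380956 :=
  block_comb c1610 b1611 (Nat.zero_le _) (Nat.le_of_ble_eq_true rfl) rfl

theorem c1612 : Block F al 0 412928 381208 :=
  block_comb c1611 b1612 (Nat.zero_le _) (Nat.le_of_ble_eq_true rfl) rfl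

theorem c1613 : Block F al 0 413184 381456 :=
  block_comb c1612 b1613 (Nat.zero_le _) (Nat.le_of_ble_eq_true rfl) rfl

theorem c1614 : Block F al 0 413440 381712 :=
  block_comb c1613 b1614 (Nat.zero_le _) (Nat.le_of_ble_eq_true rfl) rfl

theorem c1615 : Block F al 0 413696 381956 :=
  block_comb c1614 b1615 (Nat.zero_le _) (Nat.le_of_ble_eq_true rfl) rfl

theorem c1616 : Block F al 0 413952 382199 :=
  block_comb c1615 b1616 (Nat.zero_le _) (Nat.le_of_ble_eq_true rfl) rfl

theorem c1617 : Block F al 0 414208 382438 :=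
  block_comb c1616 b1617 (Nat.zero_le _) (Nat.le_of_ble_eq_true rfl) rfl

theorem c1618 : Block F al 0 414464 382687 :=
  block_comb c1617 b1618 (Nat.zero_le _) (Nat.le_of_ble_eq_true rfl) rfl

theorem c1619 : Block F al 0 414720 382930 :=
  block_comb c1618 b1619 (Nat.zero_le _) (Nat.le_of_ble_eq_true rfl) rfl

theorem c1620 : Block F al 0 414976 383175 :=
  block_comb c1619 b1620 (Nat.zero_le _) (Nat.le_of_ble_eq_true rfl) rfl

theorem c1621 : Block F al 0 415232 383425 :=
  block_comb c1620 b1621 (Nat.zero_le _) (Nat.le_of_ble_eq_true rfl) rfl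

theorem c1622 : Block F al 0 415488 383678 :=
  block_comb c1621 b1622 (Nat.zero_le _) (Nat.le_of_ble_eq_true rfl) rfl

theorem c1623 : Block F al 0 415744 383927 :=
  block_comb c1622 b1623 (Nat.zero_le _) (Nat.le_of_ble_eq_true rfl) rfl

theorem c1624 : Block F al 0 416000 384176 :=
  block_comb c1623 b1624 (Nat.zero_le _) (Nat.le_of_ble_eq_true rfl) rfl

theorem c1625 : Block F al 0 416256 384407 :=
  block_comb c1624 b1625 (Nat.zero_le _) (Nat.le_of_ble_eq_true rfl) rfl

theorem c1626 : Block F al 0 416512 384645 :=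
  block_comb c1625 b1626 (Nat.zero_le _) (Nat.le_of_ble_eq_true rfl) rfl

theorem c1627 : Block F al 0 416768 384890 :=
  block_comb c1626 b1627 (Nat.zero_le _) (Nat.le_of_ble_eq_true rfl) rfl

theorem c1628 : Block F al 0 417024 385126 :=
  block_comb c1627 b1628 (Nat.zero_le _) (Nat.le_of_ble_eq_true rfl) rfl

theorem c1629 : Block F al 0 417280 385367 :=
  block_comb c1628 b1629 (Nat.zero_le _) (Nat.le_of_ble_eq_true rfl) rfl

theorem c1630 : Block F al 0 417536 385608 :=
  block_comb c1629 b1630 (Nat.zero_le _) (Nat.le_of_ble_eq_true rfl) rfl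

theorem c1631 : Block F al 0 417792 385845 :=
  block_comb c1630 b1631 (Nat.zero_le _) (Nat.le_of_ble_eq_true rfl) rfl

theorem c1632 : Block F al 0 418048 386095 :=
  block_comb c1631 b1632 (Nat.zero_le _) (Nat.le_of_ble_eq_true rfl) rfl

theorem c1633 : Block F al 0 418304 386331 :=
  block_comb c1632 b1633 (Nat.zero_le _) (Nat.le_of_ble_eq_true rfl) rfl

theorem c1634 : Block F al 0 418560 386566 :=
  block_comb c1633 b1634 (Nat.zero_le _) (Nat.le_of_ble_eq_true rfl) rfl

theorem c1635 : Block F al 0 418816 386819 :=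
  block_comb c1634 b1635 (Nat.zero_le _) (Nat.le_of_ble_eq_true rfl) rfl

theorem c1636 : Block F al 0 419072 387070 :=
  block_comb c1635 b1636 (Nat.zero_le _) (Nat.le_of_ble_eq_true rfl) rfl

theorem c1637 : Block F al 0 419328 387310 :=
  block_comb c1636 b1637 (Nat.zero_le _) (Nat.le_of_ble_eq_true rfl) rfl

theorem c1638 : Block F al 0 419584 387557 :=
  block_comb c1637 b1638 (Nat.zero_le _) (Nat.le_of_ble_eq_true rfl) rfl

theorem c1639 : Block F al 0 419840 387805 :=
  block_comb c1638 b1639 (Nat.zero_le _) (Nat.le_of_ble_eq_true rfl) rfl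

theorem c1640 : Block F al 0 420096 388045 :=
  block_comb c1639 b1640 (Nat.zero_le _) (Nat.le_of_ble_eq_true rfl) rfl

theorem c1641 : Block F al 0 420352 388294 :=
  block_comb c1640 b1641 (Nat.zero_le _) (Nat.le_of_ble_eq_true rfl) rfl

theorem c1642 : Block F al 0 420608 388532 :=
  block_comb c1641 b1642 (Nat.zero_le _) (Nat.le_of_ble_eq_true rfl) rfl

theorem c1643 : Block F al 0 420864 388782 :=
  block_comb c1642 b1643 (Nat.zero_le _) (Nat.le_of_ble_eq_true rfl) rfl

theorem c1644 : Block F al 0 421120 389027 :=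
  block_comb c1643 b1644 (Nat.zero_le _) (Nat.le_of_ble_eq_true rfl) rfl

theorem c1645 : Block F al 0 421376 389275 :=
  block_comb c1644 b1645 (Nat.zero_le _) (Nat.le_of_ble_eq_true rfl) rfl

theorem c1646 : Block F al 0 421632 389527 :=
  block_comb c1645 b1646 (Nat.zero_le _) (Nat.le_of_ble_eq_true rfl) rfl

theorem c1647 : Block F al 0 421888 389778 :=
  block_comb c1646 b1647 (Nat.zero_le _) (Nat.le_of_ble_eq_true rfl) rfl

theorem c1648 : Block F al 0 422144 390023 :=
  block_comb c1647 b1648 (Nat.zero_le _) (Nat.le_of_ble_eq_true rfl) rfl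

theorem c1649 : Block F al 0 422400 390267 :=
  block_comb c1648 b1649 (Nat.zero_le _) (Nat.le_of_ble_eq_true rfl) rfl

theorem c1650 : Block F al 0 422656 390519 :=
  block_comb c1649 b1650 (Nat.zero_le _) (Nat.le_of_ble_eq_true rfl) rfl

theorem c1651 : Block F al 0 422912 390758 :=
  block_comb c1650 b1651 (Nat.zero_le _) (Nat.le_of_ble_eq_true rfl) rfl

theorem c1652 : Block F al 0 423168 391007 :=
  block_comb c1651 b1652 (Nat.zero_le _) (Nat.le_of_ble_eq_true rfl) rfl

theorem c1653 : Block F al 0 423424 391249 :=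
  block_comb c1652 b1653 (Nat.zero_le _) (Nat.le_of_ble_eq_true rfl) rfl

theorem c1654 : Block F al 0 423680 391492 :=
  block_comb c1653 b1654 (Nat.zero_le _) (Nat.le_of_ble_eq_true rfl) rfl

theorem c1655 : Block F al 0 423936 391734 :=
  block_comb c1654 b1655 (Nat.zero_le _) (Nat.le_of_ble_eq_true rfl) rfl

theorem c1656 : Block F al 0 424192 391978 :=
  block_comb c1655 b1656 (Nat.zero_le _) (Nat.le_of_ble_eq_true rfl) rfl

theorem c1657 : Block F al 0 424448 392231 :=
  block_comb c1656 b1657 (Nat.zero_le _) (Nat.le_of_ble_eq_true rfl) rfl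

theorem c1658 : Block F al 0 424704 392476 :=
  block_comb c1657 b1658 (Nat.zero_le _) (Nat.le_of_ble_eq_true rfl) rfl

theorem c1659 : Block F al 0 424960 392725 :=
  block_comb c1658 b1659 (Nat.zero_le _) (Nat.le_of_ble_eq_true rfl) rfl

theorem c1660 : Block F al 0 425216 392964 :=
  block_comb c1659 b1660 (Nat.zero_le _) (Nat.le_of_ble_eq_true rfl) rfl

theorem c1661 : Block F al 0 425472 393200 :=
  block_comb c1660 b1661 (Nat.zero_le _) (Nat.le_of_ble_eq_true rfl) rfl

theorem c1662 : Block F al 0 425728 393426 :=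
  block_comb c1661 b1662 (Nat.zero_le _) (Nat.le_of_ble_eq_true rfl) rfl

theorem c1663 : Block F al 0 425984 393667 :=
  block_comb c1662 b1663 (Nat.zero_le _) (Nat.le_of_ble_eq_true rfl) rfl

theorem c1664 : Block F al 0 426240 393898 :=
  block_comb c1663 b1664 (Nat.zero_le _) (Nat.le_of_ble_eq_true rfl) rfl

theorem c1665 : Block F al 0 426496 394148 :=
  block_comb c1664 b1665 (Nat.zero_le _) (Nat.le_of_ble_eq_true rfl) rfl

theorem c1666 : Block F al 0 426752 394389 :=
  block_comb c1665 b1666 (Nat.zero_le _) (Nat.le_of_ble_eq_true rfl) rfl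

theorem c1667 : Block F al 0 427008 394642 :=
  block_comb c1666 b1667 (Nat.zero_le _) (Nat.le_of_ble_eq_true rfl) rfl

theorem c1668 : Block F al 0 427264 394888 :=
  block_comb c1667 b1668 (Nat.zero_le _) (Nat.le_of_ble_eq_true rfl) rfl

theorem c1669 : Block F al 0 427520 395129 :=
  block_comb c1668 b1669 (Nat.zero_le _) (Nat.le_of_ble_eq_true rfl) rfl

theorem c1670 : Block F al 0 427776 395372 :=
  block_comb c1669 b1670 (Nat.zero_le _) (Nat.le_of_ble_eq_true rfl) rfl

theorem c1671 : Block F al 0 428032 395622 :=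
  block_comb c1670 b1671 (Nat.zero_le _) (Nat.le_of_ble_eq_true rfl) rfl

theorem c1672 : Block F al 0 428288 395865 :=
  block_comb c1671 b1672 (Nat.zero_le _) (Nat.le_of_ble_eq_true rfl) rfl

theorem c1673 : Block F al 0 428544 396106 :=
  block_comb c1672 b1673 (Nat.zero_le _) (Nat.le_of_ble_eq_true rfl) rfl

theorem c1674 : Block F al 0 428800 396349 :=
  block_comb c1673 b1674 (Nat.zero_le _) (Nat.le_of_ble_eq_true rfl) rfl

theorem c1675 : Block F al 0 429056 396595 :=
  block_comb c1674 b1675 (Nat.zero_le _) (Nat.le_of_ble_eq_true rfl) rfl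

theorem c1676 : Block F al 0 429312 396840 :=
  block_comb c1675 b1676 (Nat.zero_le _) (Nat.le_of_ble_eq_true rfl) rfl

theorem c1677 : Block F al 0 429568 397095 :=
  block_comb c1676 b1677 (Nat.zero_le _) (Nat.le_of_ble_eq_true rfl) rfl

theorem c1678 : Block F al 0 429824 397348 :=
  block_comb c1677 b1678 (Nat.zero_le _) (Nat.le_of_ble_eq_true rfl) rfl

theorem c1679 : Block F al 0 430080 397597 :=
  block_comb c1678 b1679 (Nat.zero_le _) (Nat.le_of_ble_eq_true rfl) rfl

theorem c1680 : Block F al 0 430336 397841 :=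
  block_comb c1679 b1680 (Nat.zero_le _) (Nat.le_of_ble_eq_true rfl) rfl

theorem c1681 : Block F al 0 430592 398060 :=
  block_comb c1680 b1681 (Nat.zero_le _) (Nat.le_of_ble_eq_true rfl) rfl

theorem c1682 : Block F al 0 430848 398304 :=
  block_comb c1681 b1682 (Nat.zero_le _) (Nat.le_of_ble_eq_true rfl) rfl

theorem c1683 : Block F al 0 431104 398557 :=
  block_comb c1682 b1683 (Nat.zero_le _) (Nat.le_of_ble_eq_true rfl) rfl

theorem c1684 : Block F al 0 431360 398809 :=
  block_comb c1683 b1684 (Nat.zero_le _) (Nat.le_of_ble_eq_true rfl) rfl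

theorem c1685 : Block F al 0 431616 399050 :=
  block_comb c1684 b1685 (Nat.zero_le _) (Nat.le_of_ble_eq_true rfl) rfl

theorem c1686 : Block F al 0 431872 399293 :=
  block_comb c1685 b1686 (Nat.zero_le _) (Nat.le_of_ble_eq_true rfl) rfl

theorem c1687 : Block F al 0 432128 399543 :=
  block_comb c1686 b1687 (Nat.zero_le _) (Nat.le_of_ble_eq_true rfl) rfl

theorem c1688 : Block F al 0 432384 399795 :=
  block_comb c1687 b1688 (Nat.zero_le _) (Nat.le_of_ble_eq_true rfl) rfl

theorem c1689 : Block F al 0 432640 400029 :=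
  block_comb c1688 b1689 (Nat.zero_le _) (Nat.le_of_ble_eq_true rfl) rfl

theorem c1690 : Block F al 0 432896 400275 :=
  block_comb c1689 b1690 (Nat.zero_le _) (Nat.le_of_ble_eq_true rfl) rfl

theorem c1691 : Block F al 0 433152 400524 :=
  block_comb c1690 b1691 (Nat.zero_le _) (Nat.le_of_ble_eq_true rfl) rfl

theorem c1692 : Block F al 0 433408 400775 :=
  block_comb c1691 b1692 (Nat.zero_le _) (Nat.le_of_ble_eq_true rfl) rfl

theorem c1693 : Block F al 0 433664 401026 :=
  block_comb c1692 b1693 (Nat.zero_le _) (Nat.le_of_ble_eq_true rfl) rfl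

theorem c1694 : Block F al 0 433920 401272 :=
  block_comb c1693 b1694 (Nat.zero_le _) (Nat.le_of_ble_eq_true rfl) rfl

theorem c1695 : Block F al 0 434176 401519 :=
  block_comb c1694 b1695 (Nat.zero_le _) (Nat.le_of_ble_eq_true rfl) rfl

theorem c1696 : Block F al 0 434432 401753 :=
  block_comb c1695 b1696 (Nat.zero_le _) (Nat.le_of_ble_eq_true rfl) rfl

theorem c1697 : Block F al 0 434688 401984 :=
  block_comb c1696 b1697 (Nat.zero_le _) (Nat.le_of_ble_eq_true rfl) rfl

theorem c1698 : Block F al 0 434944 402228 :=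
  block_comb c1697 b1698 (Nat.zero_le _) (Nat.le_of_ble_eq_true rfl) rfl

theorem c1699 : Block F al 0 435200 402478 :=
  block_comb c1698 b1699 (Nat.zero_le _) (Nat.le_of_ble_eq_true rfl) rfl

theorem c1700 : Block F al 0 435456 402728 :=
  block_comb c1699 b1700 (Nat.zero_le _) (Nat.le_of_ble_eq_true rfl) rfl

theorem c1701 : Block F al 0 435712 402977 :=
  block_comb c1700 b1701 (Nat.zero_le _) (Nat.le_of_ble_eq_true rfl) rfl

theorem c1702 : Block F al 0 435968 403203 :=
  block_comb c1701 b1702 (Nat.zero_le _) (Nat.le_of_ble_eq_true rfl) rfl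

theorem c1703 : Block F al 0 436224 403448 :=
  block_comb c1702 b1703 (Nat.zero_le _) (Nat.le_of_ble_eq_true rfl) rfl

theorem c1704 : Block F al 0 436480 403693 :=
  block_comb c1703 b1704 (Nat.zero_le _) (Nat.le_of_ble_eq_true rfl) rfl

theorem c1705 : Block F al 0 436736 403927 :=
  block_comb c1704 b1705 (Nat.zero_le _) (Nat.le_of_ble_eq_true rfl) rfl

theorem c1706 : Block F al 0 436992 404156 :=
  block_comb c1705 b1706 (Nat.zero_le _) (Nat.le_of_ble_eq_true rfl) rfl

theorem c1707 : Block F al 0 437248 404405 :=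
  block_comb c1706 b1707 (Nat.zero_le _) (Nat.le_of_ble_eq_true rfl) rfl

theorem c1708 : Block F al 0 437504 404649 :=
  block_comb c1707 b1708 (Nat.zero_le _) (Nat.le_of_ble_eq_true rfl) rfl

theorem c1709 : Block F al 0 437760 404898 :=
  block_comb c1708 b1709 (Nat.zero_le _) (Nat.le_of_ble_eq_true rfl) rfl

theorem c1710 : Block F al 0 438016 405145 :=
  block_comb c1709 b1710 (Nat.zero_le _) (Nat.le_of_ble_eq_true rfl) rfl

theorem c1711 : Block F al 0 438272 405381 :=
  block_comb c1710 b1711 (Nat.zero_le _) (Nat.le_of_ble_eq_true rfl) rfl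

theorem c1712 : Block F al 0 438528 405612 :=
  block_comb c1711 b1712 (Nat.zero_le _) (Nat.le_of_ble_eq_true rfl) rfl

theorem c1713 : Block F al 0 438784 405850 :=
  block_comb c1712 b1713 (Nat.zero_le _) (Nat.le_of_ble_eq_true rfl) rfl

theorem c1714 : Block F al 0 439040 406085 :=
  block_comb c1713 b1714 (Nat.zero_le _) (Nat.le_of_ble_eq_true rfl) rfl

theorem c1715 : Block F al 0 439296 406324 :=
  block_comb c1714 b1715 (Nat.zero_le _) (Nat.le_of_ble_eq_true rfl) rfl

theorem c1716 : Block F al 0 439552 406559 :=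
  block_comb c1715 b1716 (Nat.zero_le _) (Nat.le_of_ble_eq_true rfl) rfl

theorem c1717 : Block F al 0 439808 406805 :=
  block_comb c1716 b1717 (Nat.zero_le _) (Nat.le_of_ble_eq_true rfl) rfl

theorem c1718 : Block F al 0 440064 407025 :=
  block_comb c1717 b1718 (Nat.zero_le _) (Nat.le_of_ble_eq_true rfl) rfl

theorem c1719 : Block F al 0 440320 407271 :=
  block_comb c1718 b1719 (Nat.zero_le _) (Nat.le_of_ble_eq_true rfl) rfl

theorem c1720 : Block F al 0 440576 407501 :=
  block_comb c1719 b1720 (Nat.zero_le _) (Nat.le_of_ble_eq_true rfl) rfl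

theorem c1721 : Block F al 0 440832 407740 :=
  block_comb c1720 b1721 (Nat.zero_le _) (Nat.le_of_ble_eq_true rfl) rfl

theorem c1722 : Block F al 0 441088 407972 :=
  block_comb c1721 b1722 (Nat.zero_le _) (Nat.le_of_ble_eq_true rfl) rfl

theorem c1723 : Block F al 0 441344 408214 :=
  block_comb c1722 b1723 (Nat.zero_le _) (Nat.le_of_ble_eq_true rfl) rfl

theorem c1724 : Block F al 0 441600 408427 :=
  block_comb c1723 b1724 (Nat.zero_le _) (Nat.le_of_ble_eq_true rfl) rfl

theorem c1725 : Block F al 0 441856 408670 :=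
  block_comb c1724 b1725 (Nat.zero_le _) (Nat.le_of_ble_eq_true rfl) rfl

theorem c1726 : Block F al 0 442112 408913 :=
  block_comb c1725 b1726 (Nat.zero_le _) (Nat.le_of_ble_eq_true rfl) rfl

theorem c1727 : Block F al 0 442368 409162 :=
  block_comb c1726 b1727 (Nat.zero_le _) (Nat.le_of_ble_eq_true rfl) rfl

theorem c1728 : Block F al 0 442624 409400 :=
  block_comb c1727 b1728 (Nat.zero_le _) (Nat.le_of_ble_eq_true rfl) rfl

theorem c1729 : Block F al 0 442880 409645 :=
  block_comb c1728 b1729 (Nat.zero_le _) (Nat.le_of_ble_eq_true rfl) rfl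

theorem c1730 : Block F al 0 443136 409893 :=
  block_comb c1729 b1730 (Nat.zero_le _) (Nat.le_of_ble_eq_true rfl) rfl

theorem c1731 : Block F al 0 443392 410114 :=
  block_comb c1730 b1731 (Nat.zero_le _) (Nat.le_of_ble_eq_true rfl) rfl

theorem c1732 : Block F al 0 443648 410355 :=
  block_comb c1731 b1732 (Nat.zero_le _) (Nat.le_of_ble_eq_true rfl) rfl

theorem c1733 : Block F al 0 443904 410591 :=
  block_comb c1732 b1733 (Nat.zero_le _) (Nat.le_of_ble_eq_true rfl) rfl

theorem c1734 : Block F al 0 444160 410835 :=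
  block_comb c1733 b1734 (Nat.zero_le _) (Nat.le_of_ble_eq_true rfl) rfl

theorem c1735 : Block F al 0 444416 411075 :=
  block_comb c1734 b1735 (Nat.zero_le _) (Nat.le_of_ble_eq_true rfl) rfl

theorem c1736 : Block F al 0 444672 411322 :=
  block_comb c1735 b1736 (Nat.zero_le _) (Nat.le_of_ble_eq_true rfl) rfl

theorem c1737 : Block F al 0 444928 411557 :=
  block_comb c1736 b1737 (Nat.zero_le _) (Nat.le_of_ble_eq_true rfl) rfl

theorem c1738 : Block F al 0 445184 411790 :=
  block_comb c1737 b1738 (Nat.zero_le _) (Nat.le_of_ble_eq_true rfl) rfl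

theorem c1739 : Block F al 0 445440 412021 :=
  block_comb c1738 b1739 (Nat.zero_le _) (Nat.le_of_ble_eq_true rfl) rfl

theorem c1740 : Block F al 0 445696 412262 :=
  block_comb c1739 b1740 (Nat.zero_le _) (Nat.le_of_ble_eq_true rfl) rfl

theorem c1741 : Block F al 0 445952 412505 :=
  block_comb c1740 b1741 (Nat.zero_le _) (Nat.le_of_ble_eq_true rfl) rfl

theorem c1742 : Block F al 0 446208 412742 :=
  block_comb c1741 b1742 (Nat.zero_le _) (Nat.le_of_ble_eq_true rfl) rfl

theorem c1743 : Block F al 0 446464 412975 :=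
  block_comb c1742 b1743 (Nat.zero_le _) (Nat.le_of_ble_eq_true rfl) rfl

theorem c1744 : Block F al 0 446720 413219 :=
  block_comb c1743 b1744 (Nat.zero_le _) (Nat.le_of_ble_eq_true rfl) rfl

theorem c1745 : Block F al 0 446976 413467 :=
  block_comb c1744 b1745 (Nat.zero_le _) (Nat.le_of_ble_eq_true rfl) rfl

theorem c1746 : Block F al 0 447232 413708 :=
  block_comb c1745 b1746 (Nat.zero_le _) (Nat.le_of_ble_eq_true rfl) rfl

theorem c1747 : Block F al 0 447488 413955 :=
  block_comb c1746 b1747 (Nat.zero_le _) (Nat.le_of_ble_eq_true rfl) rfl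

theorem c1748 : Block F al 0 447744 414204 :=
  block_comb c1747 b1748 (Nat.zero_le _) (Nat.le_of_ble_eq_true rfl) rfl

theorem c1749 : Block F al 0 448000 414444 :=
  block_comb c1748 b1749 (Nat.zero_le _) (Nat.le_of_ble_eq_true rfl) rfl

theorem c1750 : Block F al 0 448256 414684 :=
  block_comb c1749 b1750 (Nat.zero_le _) (Nat.le_of_ble_eq_true rfl) rfl

theorem c1751 : Block F al 0 448512 414934 :=
  block_comb c1750 b1751 (Nat.zero_le _) (Nat.le_of_ble_eq_true rfl) rfl

theorem c1752 : Block F al 0 448768 415180 :=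
  block_comb c1751 b1752 (Nat.zero_le _) (Nat.le_of_ble_eq_true rfl) rfl

theorem c1753 : Block F al 0 449024 415418 :=
  block_comb c1752 b1753 (Nat.zero_le _) (Nat.le_of_ble_eq_true rfl) rfl

theorem c1754 : Block F al 0 449280 415667 :=
  block_comb c1753 b1754 (Nat.zero_le _) (Nat.le_of_ble_eq_true rfl) rfl

theorem c1755 : Block F al 0 449536 415916 :=
  block_comb c1754 b1755 (Nat.zero_le _) (Nat.le_of_ble_eq_true rfl) rfl

theorem c1756 : Block F al 0 449792 416171 :=
  block_comb c1755 b1756 (Nat.zero_le _) (Nat.le_of_ble_eq_true rfl) rfl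

theorem c1757 : Block F al 0 450048 416418 :=
  block_comb c1756 b1757 (Nat.zero_le _) (Nat.le_of_ble_eq_true rfl) rfl

theorem c1758 : Block F al 0 450304 416661 :=
  block_comb c1757 b1758 (Nat.zero_le _) (Nat.le_of_ble_eq_true rfl) rfl

theorem c1759 : Block F al 0 450560 416891 :=
  block_comb c1758 b1759 (Nat.zero_le _) (Nat.le_of_ble_eq_true rfl) rfl

theorem c1760 : Block F al 0 450816 417116 :=
  block_comb c1759 b1760 (Nat.zero_le _) (Nat.le_of_ble_eq_true rfl) rfl

theorem c1761 : Block F al 0 451072 417349 :=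
  block_comb c1760 b1761 (Nat.zero_le _) (Nat.le_of_ble_eq_true rfl) rfl

theorem c1762 : Block F al 0 451328 417594 :=
  block_comb c1761 b1762 (Nat.zero_le _) (Nat.le_of_ble_eq_true rfl) rfl

theorem c1763 : Block F al 0 451584 417848 :=
  block_comb c1762 b1763 (Nat.zero_le _) (Nat.le_of_ble_eq_true rfl) rfl

theorem c1764 : Block F al 0 451840 418101 :=
  block_comb c1763 b1764 (Nat.zero_le _) (Nat.le_of_ble_eq_true rfl) rfl

theorem c1765 : Block F al 0 452096 418346 :=
  block_comb c1764 b1765 (Nat.zero_le _) (Nat.le_of_ble_eq_true rfl) rfl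

theorem c1766 : Block F al 0 452352 418587 :=
  block_comb c1765 b1766 (Nat.zero_le _) (Nat.le_of_ble_eq_true rfl) rfl

theorem c1767 : Block F al 0 452608 418830 :=
  block_comb c1766 b1767 (Nat.zero_le _) (Nat.le_of_ble_eq_true rfl) rfl

theorem c1768 : Block F al 0 452864 419082 :=
  block_comb c1767 b1768 (Nat.zero_le _) (Nat.le_of_ble_eq_true rfl) rfl

theorem c1769 : Block F al 0 453120 419319 :=
  block_comb c1768 b1769 (Nat.zero_le _) (Nat.le_of_ble_eq_true rfl) rfl

theorem c1770 : Block F al 0 453376 419562 :=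
  block_comb c1769 b1770 (Nat.zero_le _) (Nat.le_of_ble_eq_true rfl) rfl

theorem c1771 : Block F al 0 453632 419801 :=
  block_comb c1770 b1771 (Nat.zero_le _) (Nat.le_of_ble_eq_true rfl) rfl

theorem c1772 : Block F al 0 453888 420036 :=
  block_comb c1771 b1772 (Nat.zero_le _) (Nat.le_of_ble_eq_true rfl) rfl

theorem c1773 : Block F al 0 454144 420261 :=
  block_comb c1772 b1773 (Nat.zero_le _) (Nat.le_of_ble_eq_true rfl) rfl

theorem c1774 : Block F al 0 454400 420491 :=
  block_comb c1773 b1774 (Nat.zero_le _) (Nat.le_of_ble_eq_true rfl) rfl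

theorem c1775 : Block F al 0 454656 420723 :=
  block_comb c1774 b1775 (Nat.zero_le _) (Nat.le_of_ble_eq_true rfl) rfl

theorem c1776 : Block F al 0 454912 420966 :=
  block_comb c1775 b1776 (Nat.zero_le _) (Nat.le_of_ble_eq_true rfl) rfl

theorem c1777 : Block F al 0 455168 421216 :=
  block_comb c1776 b1777 (Nat.zero_le _) (Nat.le_of_ble_eq_true rfl) rfl

theorem c1778 : Block F al 0 455424 421469 :=
  block_comb c1777 b1778 (Nat.zero_le _) (Nat.le_of_ble_eq_true rfl) rfl

theorem c1779 : Block F al 0 455680 421713 :=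
  block_comb c1778 b1779 (Nat.zero_le _) (Nat.le_of_ble_eq_true rfl) rfl

theorem c1780 : Block F al 0 455936 421943 :=
  block_comb c1779 b1780 (Nat.zero_le _) (Nat.le_of_ble_eq_true rfl) rfl

theorem c1781 : Block F al 0 456192 422185 :=
  block_comb c1780 b1781 (Nat.zero_le _) (Nat.le_of_ble_eq_true rfl) rfl

theorem c1782 : Block F al 0 456448 422431 :=
  block_comb c1781 b1782 (Nat.zero_le _) (Nat.le_of_ble_eq_true rfl) rfl

theorem c1783 : Block F al 0 456704 422675 :=
  block_comb c1782 b1783 (Nat.zero_le _) (Nat.le_of_ble_eq_true rfl) rfl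

theorem c1784 : Block F al 0 456960 422920 :=
  block_comb c1783 b1784 (Nat.zero_le _) (Nat.le_of_ble_eq_true rfl) rfl

theorem c1785 : Block F al 0 457216 423151 :=
  block_comb c1784 b1785 (Nat.zero_le _) (Nat.le_of_ble_eq_true rfl) rfl

theorem c1786 : Block F al 0 457472 423401 :=
  block_comb c1785 b1786 (Nat.zero_le _) (Nat.le_of_ble_eq_true rfl) rfl

theorem c1787 : Block F al 0 457728 423647 :=
  block_comb c1786 b1787 (Nat.zero_le _) (Nat.le_of_ble_eq_true rfl) rfl

theorem c1788 : Block F al 0 457984 423903 :=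
  block_comb c1787 b1788 (Nat.zero_le _) (Nat.le_of_ble_eq_true rfl) rfl

theorem c1789 : Block F al 0 458240 424151 :=
  block_comb c1788 b1789 (Nat.zero_le _) (Nat.le_of_ble_eq_true rfl) rfl

theorem c1790 : Block F al 0 458496 424394 :=
  block_comb c1789 b1790 (Nat.zero_le _) (Nat.le_of_ble_eq_true rfl) rfl

theorem c1791 : Block F al 0 458752 424635 :=
  block_comb c1790 b1791 (Nat.zero_le _) (Nat.le_of_ble_eq_true rfl) rfl

theorem c1792 : Block F al 0 459008 424870 :=
  block_comb c1791 b1792 (Nat.zero_le _) (Nat.le_of_ble_eq_true rfl) rfl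

theorem c1793 : Block F al 0 459264 425106 :=
  block_comb c1792 b1793 (Nat.zero_le _) (Nat.le_of_ble_eq_true rfl) rfl

theorem c1794 : Block F al 0 459520 425354 :=
  block_comb c1793 b1794 (Nat.zero_le _) (Nat.le_of_ble_eq_true rfl) rfl

theorem c1795 : Block F al 0 459776 425588 :=
  block_comb c1794 b1795 (Nat.zero_le _) (Nat.le_of_ble_eq_true rfl) rfl

theorem c1796 : Block F al 0 460032 425829 :=
  block_comb c1795 b1796 (Nat.zero_le _) (Nat.le_of_ble_eq_true rfl) rfl

theorem c1797 : Block F al 0 460288 426066 :=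
  block_comb c1796 b1797 (Nat.zero_le _) (Nat.le_of_ble_eq_true rfl) rfl

theorem c1798 : Block F al 0 460544 426310 :=
  block_comb c1797 b1798 (Nat.zero_le _) (Nat.le_of_ble_eq_true rfl) rfl

theorem c1799 : Block F al 0 460800 426562 :=
  block_comb c1798 b1799 (Nat.zero_le _) (Nat.le_of_ble_eq_true rfl) rfl

theorem c1800 : Block F al 0 461056 426808 :=
  block_comb c1799 b1800 (Nat.zero_le _) (Nat.le_of_ble_eq_true rfl) rfl

theorem c1801 : Block F al 0 461312 427057 :=
  block_comb c1800 b1801 (Nat.zero_le _) (Nat.le_of_ble_eq_true rfl) rfl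

theorem c1802 : Block F al 0 461568 427301 :=
  block_comb c1801 b1802 (Nat.zero_le _) (Nat.le_of_ble_eq_true rfl) rfl

theorem c1803 : Block F al 0 461824 427545 :=
  block_comb c1802 b1803 (Nat.zero_le _) (Nat.le_of_ble_eq_true rfl) rfl

theorem c1804 : Block F al 0 462080 427787 :=
  block_comb c1803 b1804 (Nat.zero_le _) (Nat.le_of_ble_eq_true rfl) rfl

theorem c1805 : Block F al 0 462336 428030 :=
  block_comb c1804 b1805 (Nat.zero_le _) (Nat.le_of_ble_eq_true rfl) rfl

theorem c1806 : Block F al 0 462592 428271 :=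
  block_comb c1805 b1806 (Nat.zero_le _) (Nat.le_of_ble_eq_true rfl) rfl

theorem c1807 : Block F al 0 462848 428515 :=
  block_comb c1806 b1807 (Nat.zero_le _) (Nat.le_of_ble_eq_true rfl) rfl

theorem c1808 : Block F al 0 463104 428759 :=
  block_comb c1807 b1808 (Nat.zero_le _) (Nat.le_of_ble_eq_true rfl) rfl

theorem c1809 : Block F al 0 463360 428980 :=
  block_comb c1808 b1809 (Nat.zero_le _) (Nat.le_of_ble_eq_true rfl) rfl

theorem c1810 : Block F al 0 463616 429214 :=
  block_comb c1809 b1810 (Nat.zero_le _) (Nat.le_of_ble_eq_true rfl) rfl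

theorem c1811 : Block F al 0 463872 429446 :=
  block_comb c1810 b1811 (Nat.zero_le _) (Nat.le_of_ble_eq_true rfl) rfl

theorem c1812 : Block F al 0 464128 429685 :=
  block_comb c1811 b1812 (Nat.zero_le _) (Nat.le_of_ble_eq_true rfl) rfl

theorem c1813 : Block F al 0 464384 429932 :=
  block_comb c1812 b1813 (Nat.zero_le _) (Nat.le_of_ble_eq_true rfl) rfl

theorem c1814 : Block F al 0 464640 430177 :=
  block_comb c1813 b1814 (Nat.zero_le _) (Nat.le_of_ble_eq_true rfl) rfl

theorem c1815 : Block F al 0 464896 430425 :=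
  block_comb c1814 b1815 (Nat.zero_le _) (Nat.le_of_ble_eq_true rfl) rfl

theorem c1816 : Block F al 0 465152 430675 :=
  block_comb c1815 b1816 (Nat.zero_le _) (Nat.le_of_ble_eq_true rfl) rfl

theorem c1817 : Block F al 0 465408 430925 :=
  block_comb c1816 b1817 (Nat.zero_le _) (Nat.le_of_ble_eq_true rfl) rfl

theorem c1818 : Block F al 0 465664 431178 :=
  block_comb c1817 b1818 (Nat.zero_le _) (Nat.le_of_ble_eq_true rfl) rfl

theorem c1819 : Block F al 0 465920 431432 :=
  block_comb c1818 b1819 (Nat.zero_le _) (Nat.le_of_ble_eq_true rfl) rfl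

theorem c1820 : Block F al 0 466176 431672 :=
  block_comb c1819 b1820 (Nat.zero_le _) (Nat.le_of_ble_eq_true rfl) rfl

theorem c1821 : Block F al 0 466432 431903 :=
  block_comb c1820 b1821 (Nat.zero_le _) (Nat.le_of_ble_eq_true rfl) rfl

theorem c1822 : Block F al 0 466688 432149 :=
  block_comb c1821 b1822 (Nat.zero_le _) (Nat.le_of_ble_eq_true rfl) rfl

theorem c1823 : Block F al 0 466944 432394 :=
  block_comb c1822 b1823 (Nat.zero_le _) (Nat.le_of_ble_eq_true rfl) rfl

theorem c1824 : Block F al 0 467200 432638 :=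
  block_comb c1823 b1824 (Nat.zero_le _) (Nat.le_of_ble_eq_true rfl) rfl

theorem c1825 : Block F al 0 467456 432892 :=
  block_comb c1824 b1825 (Nat.zero_le _) (Nat.le_of_ble_eq_true rfl) rfl

theorem c1826 : Block F al 0 467712 433123 :=
  block_comb c1825 b1826 (Nat.zero_le _) (Nat.le_of_ble_eq_true rfl) rfl

theorem c1827 : Block F al 0 467968 433362 :=
  block_comb c1826 b1827 (Nat.zero_le _) (Nat.le_of_ble_eq_true rfl) rfl

theorem c1828 : Block F al 0 468224 433599 :=
  block_comb c1827 b1828 (Nat.zero_le _) (Nat.le_of_ble_eq_true rfl) rfl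

theorem c1829 : Block F al 0 468480 433849 :=
  block_comb c1828 b1829 (Nat.zero_le _) (Nat.le_of_ble_eq_true rfl) rfl

theorem c1830 : Block F al 0 468736 434102 :=
  block_comb c1829 b1830 (Nat.zero_le _) (Nat.le_of_ble_eq_true rfl) rfl

theorem c1831 : Block F al 0 468992 434346 :=
  block_comb c1830 b1831 (Nat.zero_le _) (Nat.le_of_ble_eq_true rfl) rfl

theorem c1832 : Block F al 0 469248 434600 :=
  block_comb c1831 b1832 (Nat.zero_le _) (Nat.le_of_ble_eq_true rfl) rfl

theorem c1833 : Block F al 0 469504 434852 :=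
  block_comb c1832 b1833 (Nat.zero_le _) (Nat.le_of_ble_eq_true rfl) rfl

theorem c1834 : Block F al 0 469760 435092 :=
  block_comb c1833 b1834 (Nat.zero_le _) (Nat.le_of_ble_eq_true rfl) rfl

theorem c1835 : Block F al 0 470016 435331 :=
  block_comb c1834 b1835 (Nat.zero_le _) (Nat.le_of_ble_eq_true rfl) rfl

theorem c1836 : Block F al 0 470272 435574 :=
  block_comb c1835 b1836 (Nat.zero_le _) (Nat.le_of_ble_eq_true rfl) rfl

theorem c1837 : Block F al 0 470528 435806 :=
  block_comb c1836 b1837 (Nat.zero_le _) (Nat.le_of_ble_eq_true rfl) rfl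

theorem c1838 : Block F al 0 470784 436044 :=
  block_comb c1837 b1838 (Nat.zero_le _) (Nat.le_of_ble_eq_true rfl) rfl

theorem c1839 : Block F al 0 471040 436290 :=
  block_comb c1838 b1839 (Nat.zero_le _) (Nat.le_of_ble_eq_true rfl) rfl

theorem c1840 : Block F al 0 471296 436533 :=
  block_comb c1839 b1840 (Nat.zero_le _) (Nat.le_of_ble_eq_true rfl) rfl

theorem c1841 : Block F al 0 471552 436764 :=
  block_comb c1840 b1841 (Nat.zero_le _) (Nat.le_of_ble_eq_true rfl) rfl

theorem c1842 : Block F al 0 471808 437012 :=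
  block_comb c1841 b1842 (Nat.zero_le _) (Nat.le_of_ble_eq_true rfl) rfl

theorem c1843 : Block F al 0 472064 437242 :=
  block_comb c1842 b1843 (Nat.zero_le _) (Nat.le_of_ble_eq_true rfl) rfl

theorem c1844 : Block F al 0 472320 437493 :=
  block_comb c1843 b1844 (Nat.zero_le _) (Nat.le_of_ble_eq_true rfl) rfl

theorem c1845 : Block F al 0 472576 437720 :=
  block_comb c1844 b1845 (Nat.zero_le _) (Nat.le_of_ble_eq_true rfl) rfl

theorem c1846 : Block F al 0 472832 437959 :=
  block_comb c1845 b1846 (Nat.zero_le _) (Nat.le_of_ble_eq_true rfl) rfl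

theorem c1847 : Block F al 0 473088 438206 :=
  block_comb c1846 b1847 (Nat.zero_le _) (Nat.le_of_ble_eq_true rfl) rfl

theorem c1848 : Block F al 0 473344 438438 :=
  block_comb c1847 b1848 (Nat.zero_le _) (Nat.le_of_ble_eq_true rfl) rfl

theorem c1849 : Block F al 0 473600 438666 :=
  block_comb c1848 b1849 (Nat.zero_le _) (Nat.le_of_ble_eq_true rfl) rfl

theorem c1850 : Block F al 0 473856 438895 :=
  block_comb c1849 b1850 (Nat.zero_le _) (Nat.le_of_ble_eq_true rfl) rfl

theorem c1851 : Block F al 0 474112 439136 :=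
  block_comb c1850 b1851 (Nat.zero_le _) (Nat.le_of_ble_eq_true rfl) rfl

theorem c1852 : Block F al 0 474368 439325 :=
  block_comb c1851 b1852 (Nat.zero_le _) (Nat.le_of_ble_eq_true rfl) rfl

theorem c1853 : Block F al 0 474624 439562 :=
  block_comb c1852 b1853 (Nat.zero_le _) (Nat.le_of_ble_eq_true rfl) rfl

theorem c1854 : Block F al 0 474880 439805 :=
  block_comb c1853 b1854 (Nat.zero_le _) (Nat.le_of_ble_eq_true rfl) rfl

theorem c1855 : Block F al 0 475136 440056 :=
  block_comb c1854 b1855 (Nat.zero_le _) (Nat.le_of_ble_eq_true rfl) rfl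

theorem c1856 : Block F al 0 475392 440308 :=
  block_comb c1855 b1856 (Nat.zero_le _) (Nat.le_of_ble_eq_true rfl) rfl

theorem c1857 : Block F al 0 475648 440545 :=
  block_comb c1856 b1857 (Nat.zero_le _) (Nat.le_of_ble_eq_true rfl) rfl

theorem c1858 : Block F al 0 475904 440779 :=
  block_comb c1857 b1858 (Nat.zero_le _) (Nat.le_of_ble_eq_true rfl) rfl

theorem c1859 : Block F al 0 476160 441007 :=
  block_comb c1858 b1859 (Nat.zero_le _) (Nat.le_of_ble_eq_true rfl) rfl

theorem c1860 : Block F al 0 476416 441263 :=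
  block_comb c1859 b1860 (Nat.zero_le _) (Nat.le_of_ble_eq_true rfl) rfl

theorem c1861 : Block F al 0 476672 441517 :=
  block_comb c1860 b1861 (Nat.zero_le _) (Nat.le_of_ble_eq_true rfl) rfl

theorem c1862 : Block F al 0 476928 441767 :=
  block_comb c1861 b1862 (Nat.zero_le _) (Nat.le_of_ble_eq_true rfl) rfl

theorem c1863 : Block F al 0 477184 442014 :=
  block_comb c1862 b1863 (Nat.zero_le _) (Nat.le_of_ble_eq_true rfl) rfl

theorem c1864 : Block F al 0 477440 442261 :=
  block_comb c1863 b1864 (Nat.zero_le _) (Nat.le_of_ble_eq_true rfl) rfl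

theorem c1865 : Block F al 0 477696 442515 :=
  block_comb c1864 b1865 (Nat.zero_le _) (Nat.le_of_ble_eq_true rfl) rfl

theorem c1866 : Block F al 0 477952 442762 :=
  block_comb c1865 b1866 (Nat.zero_le _) (Nat.le_of_ble_eq_true rfl) rfl

theorem c1867 : Block F al 0 478208 443004 :=
  block_comb c1866 b1867 (Nat.zero_le _) (Nat.le_of_ble_eq_true rfl) rfl

theorem c1868 : Block F al 0 478464 443238 :=
  block_comb c1867 b1868 (Nat.zero_le _) (Nat.le_of_ble_eq_true rfl) rfl

theorem c1869 : Block F al 0 478720 443480 :=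
  block_comb c1868 b1869 (Nat.zero_le _) (Nat.le_of_ble_eq_true rfl) rfl

theorem c1870 : Block F al 0 478976 443718 :=
  block_comb c1869 b1870 (Nat.zero_le _) (Nat.le_of_ble_eq_true rfl) rfl

theorem c1871 : Block F al 0 479232 443967 :=
  block_comb c1870 b1871 (Nat.zero_le _) (Nat.le_of_ble_eq_true rfl) rfl

theorem c1872 : Block F al 0 479488 444207 :=
  block_comb c1871 b1872 (Nat.zero_le _) (Nat.le_of_ble_eq_true rfl) rfl

theorem c1873 : Block F al 0 479744 444456 :=
  block_comb c1872 b1873 (Nat.zero_le _) (Nat.le_of_ble_eq_true rfl) rfl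

theorem c1874 : Block F al 0 480000 444698 :=
  block_comb c1873 b1874 (Nat.zero_le _) (Nat.le_of_ble_eq_true rfl) rfl

theorem c1875 : Block F al 0 480256 444947 :=
  block_comb c1874 b1875 (Nat.zero_le _) (Nat.le_of_ble_eq_true rfl) rfl

theorem c1876 : Block F al 0 480512 445194 :=
  block_comb c1875 b1876 (Nat.zero_le _) (Nat.le_of_ble_eq_true rfl) rfl

theorem c1877 : Block F al 0 480768 445443 :=
  block_comb c1876 b1877 (Nat.zero_le _) (Nat.le_of_ble_eq_true rfl) rfl

theorem c1878 : Block F al 0 481024 445687 :=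
  block_comb c1877 b1878 (Nat.zero_le _) (Nat.le_of_ble_eq_true rfl) rfl

theorem c1879 : Block F al 0 481280 445929 :=
  block_comb c1878 b1879 (Nat.zero_le _) (Nat.le_of_ble_eq_true rfl) rfl

theorem c1880 : Block F al 0 481536 446177 :=
  block_comb c1879 b1880 (Nat.zero_le _) (Nat.le_of_ble_eq_true rfl) rfl

theorem c1881 : Block F al 0 481792 446419 :=
  block_comb c1880 b1881 (Nat.zero_le _) (Nat.le_of_ble_eq_true rfl) rfl

theorem c1882 : Block F al 0 482048 446665 :=
  block_comb c1881 b1882 (Nat.zero_le _) (Nat.le_of_ble_eq_true rfl) rfl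

theorem c1883 : Block F al 0 482304 446892 :=
  block_comb c1882 b1883 (Nat.zero_le _) (Nat.le_of_ble_eq_true rfl) rfl

theorem c1884 : Block F al 0 482560 447142 :=
  block_comb c1883 b1884 (Nat.zero_le _) (Nat.le_of_ble_eq_true rfl) rfl

theorem c1885 : Block F al 0 482816 447394 :=
  block_comb c1884 b1885 (Nat.zero_le _) (Nat.le_of_ble_eq_true rfl) rfl

theorem c1886 : Block F al 0 483072 447646 :=
  block_comb c1885 b1886 (Nat.zero_le _) (Nat.le_of_ble_eq_true rfl) rfl

theorem c1887 : Block F al 0 483328 447899 :=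
  block_comb c1886 b1887 (Nat.zero_le _) (Nat.le_of_ble_eq_true rfl) rfl

theorem c1888 : Block F al 0 483584 448147 :=
  block_comb c1887 b1888 (Nat.zero_le _) (Nat.le_of_ble_eq_true rfl) rfl

theorem c1889 : Block F al 0 483840 448380 :=
  block_comb c1888 b1889 (Nat.zero_le _) (Nat.le_of_ble_eq_true rfl) rfl

theorem c1890 : Block F al 0 484096 448613 :=
  block_comb c1889 b1890 (Nat.zero_le _) (Nat.le_of_ble_eq_true rfl) rfl

theorem c1891 : Block F al 0 484352 448859 :=
  block_comb c1890 b1891 (Nat.zero_le _) (Nat.le_of_ble_eq_true rfl) rfl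

theorem c1892 : Block F al 0 484608 449105 :=
  block_comb c1891 b1892 (Nat.zero_le _) (Nat.le_of_ble_eq_true rfl) rfl

theorem c1893 : Block F al 0 484864 449356 :=
  block_comb c1892 b1893 (Nat.zero_le _) (Nat.le_of_ble_eq_true rfl) rfl

theorem c1894 : Block F al 0 485120 449606 :=
  block_comb c1893 b1894 (Nat.zero_le _) (Nat.le_of_ble_eq_true rfl) rfl

theorem c1895 : Block F al 0 485376 449851 :=
  block_comb c1894 b1895 (Nat.zero_le _) (Nat.le_of_ble_eq_true rfl) rfl

theorem c1896 : Block F al 0 485632 450094 :=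
  block_comb c1895 b1896 (Nat.zero_le _) (Nat.le_of_ble_eq_true rfl) rfl

theorem c1897 : Block F al 0 485888 450343 :=
  block_comb c1896 b1897 (Nat.zero_le _) (Nat.le_of_ble_eq_true rfl) rfl

theorem c1898 : Block F al 0 486144 450595 :=
  block_comb c1897 b1898 (Nat.zero_le _) (Nat.le_of_ble_eq_true rfl) rfl

theorem c1899 : Block F al 0 486400 450821 :=
  block_comb c1898 b1899 (Nat.zero_le _) (Nat.le_of_ble_eq_true rfl) rfl

theorem c1900 : Block F al 0 486656 451073 :=
  block_comb c1899 b1900 (Nat.zero_le _) (Nat.le_of_ble_eq_true rfl) rfl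

theorem c1901 : Block F al 0 486912 451314 :=
  block_comb c1900 b1901 (Nat.zero_le _) (Nat.le_of_ble_eq_true rfl) rfl

theorem c1902 : Block F al 0 487168 451552 :=
  block_comb c1901 b1902 (Nat.zero_le _) (Nat.le_of_ble_eq_true rfl) rfl

theorem c1903 : Block F al 0 487424 451794 :=
  block_comb c1902 b1903 (Nat.zero_le _) (Nat.le_of_ble_eq_true rfl) rfl

theorem c1904 : Block F al 0 487680 452029 :=
  block_comb c1903 b1904 (Nat.zero_le _) (Nat.le_of_ble_eq_true rfl) rfl

theorem c1905 : Block F al 0 487936 452277 :=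
  block_comb c1904 b1905 (Nat.zero_le _) (Nat.le_of_ble_eq_true rfl) rfl

theorem c1906 : Block F al 0 488192 452517 :=
  block_comb c1905 b1906 (Nat.zero_le _) (Nat.le_of_ble_eq_true rfl) rfl

theorem c1907 : Block F al 0 488448 452727 :=
  block_comb c1906 b1907 (Nat.zero_le _) (Nat.le_of_ble_eq_true rfl) rfl

theorem c1908 : Block F al 0 488704 452970 :=
  block_comb c1907 b1908 (Nat.zero_le _) (Nat.le_of_ble_eq_true rfl) rfl

theorem c1909 : Block F al 0 488960 453201 :=
  block_comb c1908 b1909 (Nat.zero_le _) (Nat.le_of_ble_eq_true rfl) rfl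

theorem c1910 : Block F al 0 489216 453447 :=
  block_comb c1909 b1910 (Nat.zero_le _) (Nat.le_of_ble_eq_true rfl) rfl

theorem c1911 : Block F al 0 489472 453696 :=
  block_comb c1910 b1911 (Nat.zero_le _) (Nat.le_of_ble_eq_true rfl) rfl

theorem c1912 : Block F al 0 489728 453926 :=
  block_comb c1911 b1912 (Nat.zero_le _) (Nat.le_of_ble_eq_true rfl) rfl

theorem c1913 : Block F al 0 489984 454163 :=
  block_comb c1912 b1913 (Nat.zero_le _) (Nat.le_of_ble_eq_true rfl) rfl

theorem c1914 : Block F al 0 490240 454399 :=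
  block_comb c1913 b1914 (Nat.zero_le _) (Nat.le_of_ble_eq_true rfl) rfl

theorem c1915 : Block F al 0 490496 454640 :=
  block_comb c1914 b1915 (Nat.zero_le _) (Nat.le_of_ble_eq_true rfl) rfl

theorem c1916 : Block F al 0 490752 454877 :=
  block_comb c1915 b1916 (Nat.zero_le _) (Nat.le_of_ble_eq_true rfl) rfl

theorem c1917 : Block F al 0 491008 455127 :=
  block_comb c1916 b1917 (Nat.zero_le _) (Nat.le_of_ble_eq_true rfl) rfl

theorem c1918 : Block F al 0 491264 455359 :=
  block_comb c1917 b1918 (Nat.zero_le _) (Nat.le_of_ble_eq_true rfl) rfl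

theorem c1919 : Block F al 0 491520 455591 :=
  block_comb c1918 b1919 (Nat.zero_le _) (Nat.le_of_ble_eq_true rfl) rfl

theorem c1920 : Block F al 0 491776 455837 :=
  block_comb c1919 b1920 (Nat.zero_le _) (Nat.le_of_ble_eq_true rfl) rfl

theorem c1921 : Block F al 0 492032 456070 :=
  block_comb c1920 b1921 (Nat.zero_le _) (Nat.le_of_ble_eq_true rfl) rfl

theorem c1922 : Block F al 0 492288 456322 :=
  block_comb c1921 b1922 (Nat.zero_le _) (Nat.le_of_ble_eq_true rfl) rfl

theorem c1923 : Block F al 0 492544 456549 :=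
  block_comb c1922 b1923 (Nat.zero_le _) (Nat.le_of_ble_eq_true rfl) rfl

theorem c1924 : Block F al 0 492800 456794 :=
  block_comb c1923 b1924 (Nat.zero_le _) (Nat.le_of_ble_eq_true rfl) rfl

theorem c1925 : Block F al 0 493056 457042 :=
  block_comb c1924 b1925 (Nat.zero_le _) (Nat.le_of_ble_eq_true rfl) rfl

theorem c1926 : Block F al 0 493312 457289 :=
  block_comb c1925 b1926 (Nat.zero_le _) (Nat.le_of_ble_eq_true rfl) rfl

theorem c1927 : Block F al 0 493568 457531 :=
  block_comb c1926 b1927 (Nat.zero_le _) (Nat.le_of_ble_eq_true rfl) rfl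

theorem c1928 : Block F al 0 493824 457765 :=
  block_comb c1927 b1928 (Nat.zero_le _) (Nat.le_of_ble_eq_true rfl) rfl

theorem c1929 : Block F al 0 494080 458015 :=
  block_comb c1928 b1929 (Nat.zero_le _) (Nat.le_of_ble_eq_true rfl) rfl

theorem c1930 : Block F al 0 494336 458262 :=
  block_comb c1929 b1930 (Nat.zero_le _) (Nat.le_of_ble_eq_true rfl) rfl

theorem c1931 : Block F al 0 494592 458504 :=
  block_comb c1930 b1931 (Nat.zero_le _) (Nat.le_of_ble_eq_true rfl) rfl

theorem c1932 : Block F al 0 494848 458734 :=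
  block_comb c1931 b1932 (Nat.zero_le _) (Nat.le_of_ble_eq_true rfl) rfl

theorem c1933 : Block F al 0 495104 458977 :=
  block_comb c1932 b1933 (Nat.zero_le _) (Nat.le_of_ble_eq_true rfl) rfl

theorem c1934 : Block F al 0 495360 459206 :=
  block_comb c1933 b1934 (Nat.zero_le _) (Nat.le_of_ble_eq_true rfl) rfl

theorem c1935 : Block F al 0 495616 459433 :=
  block_comb c1934 b1935 (Nat.zero_le _) (Nat.le_of_ble_eq_true rfl) rfl

theorem c1936 : Block F al 0 495872 459679 :=
  block_comb c1935 b1936 (Nat.zero_le _) (Nat.le_of_ble_eq_true rfl) rfl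

theorem c1937 : Block F al 0 496128 459920 :=
  block_comb c1936 b1937 (Nat.zero_le _) (Nat.le_of_ble_eq_true rfl) rfl

theorem c1938 : Block F al 0 496384 460162 :=
  block_comb c1937 b1938 (Nat.zero_le _) (Nat.le_of_ble_eq_true rfl) rfl

theorem c1939 : Block F al 0 496640 460399 :=
  block_comb c1938 b1939 (Nat.zero_le _) (Nat.le_of_ble_eq_true rfl) rfl

theorem c1940 : Block F al 0 496896 460638 :=
  block_comb c1939 b1940 (Nat.zero_le _) (Nat.le_of_ble_eq_true rfl) rfl

theorem c1941 : Block F al 0 497152 460881 :=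
  block_comb c1940 b1941 (Nat.zero_le _) (Nat.le_of_ble_eq_true rfl) rfl

theorem c1942 : Block F al 0 497408 461128 :=
  block_comb c1941 b1942 (Nat.zero_le _) (Nat.le_of_ble_eq_true rfl) rfl

theorem c1943 : Block F al 0 497664 461372 :=
  block_comb c1942 b1943 (Nat.zero_le _) (Nat.le_of_ble_eq_true rfl) rfl

theorem c1944 : Block F al 0 497920 461623 :=
  block_comb c1943 b1944 (Nat.zero_le _) (Nat.le_of_ble_eq_true rfl) rfl

theorem c1945 : Block F al 0 498176 461865 :=
  block_comb c1944 b1945 (Nat.zero_le _) (Nat.le_of_ble_eq_true rfl) rfl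

theorem c1946 : Block F al 0 498432 462101 :=
  block_comb c1945 b1946 (Nat.zero_le _) (Nat.le_of_ble_eq_true rfl) rfl

theorem c1947 : Block F al 0 498688 462341 :=
  block_comb c1946 b1947 (Nat.zero_le _) (Nat.le_of_ble_eq_true rfl) rfl

theorem c1948 : Block F al 0 498944 462587 :=
  block_comb c1947 b1948 (Nat.zero_le _) (Nat.le_of_ble_eq_true rfl) rfl

theorem c1949 : Block F al 0 499200 462833 :=
  block_comb c1948 b1949 (Nat.zero_le _) (Nat.le_of_ble_eq_true rfl) rfl

theorem c1950 : Block F al 0 499456 463069 :=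
  block_comb c1949 b1950 (Nat.zero_le _) (Nat.le_of_ble_eq_true rfl) rfl

theorem c1951 : Block F al 0 499712 463318 :=
  block_comb c1950 b1951 (Nat.zero_le _) (Nat.le_of_ble_eq_true rfl) rfl

theorem c1952 : Block F al 0 499968 463564 :=
  block_comb c1951 b1952 (Nat.zero_le _) (Nat.le_of_ble_eq_true rfl) rfl

theorem c1953 : Block F al 0 500224 463816 :=
  block_comb c1952 b1953 (Nat.zero_le _) (Nat.le_of_ble_eq_true rfl) rfl

theorem c1954 : Block F al 0 500480 464058 :=
  block_comb c1953 b1954 (Nat.zero_le _) (Nat.le_of_ble_eq_true rfl) rfl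

theorem c1955 : Block F al 0 500736 464295 :=
  block_comb c1954 b1955 (Nat.zero_le _) (Nat.le_of_ble_eq_true rfl) rfl

theorem c1956 : Block F al 0 500992 464547 :=
  block_comb c1955 b1956 (Nat.zero_le _) (Nat.le_of_ble_eq_true rfl) rfl

theorem c1957 : Block F al 0 501248 464789 :=
  block_comb c1956 b1957 (Nat.zero_le _) (Nat.le_of_ble_eq_true rfl) rfl

theorem c1958 : Block F al 0 501504 465038 :=
  block_comb c1957 b1958 (Nat.zero_le _) (Nat.le_of_ble_eq_true rfl) rfl

theorem c1959 : Block F al 0 501760 465289 :=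
  block_comb c1958 b1959 (Nat.zero_le _) (Nat.le_of_ble_eq_true rfl) rfl

theorem c1960 : Block F al 0 502016 465539 :=
  block_comb c1959 b1960 (Nat.zero_le _) (Nat.le_of_ble_eq_true rfl) rfl

theorem c1961 : Block F al 0 502272 465784 :=
  block_comb c1960 b1961 (Nat.zero_le _) (Nat.le_of_ble_eq_true rfl) rfl

theorem c1962 : Block F al 0 502528 466027 :=
  block_comb c1961 b1962 (Nat.zero_le _) (Nat.le_of_ble_eq_true rfl) rfl

theorem c1963 : Block F al 0 502784 466253 :=
  block_comb c1962 b1963 (Nat.zero_le _) (Nat.le_of_ble_eq_true rfl) rfl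

theorem c1964 : Block F al 0 503040 466473 :=
  block_comb c1963 b1964 (Nat.zero_le _) (Nat.le_of_ble_eq_true rfl) rfl

theorem c1965 : Block F al 0 503296 466692 :=
  block_comb c1964 b1965 (Nat.zero_le _) (Nat.le_of_ble_eq_true rfl) rfl

theorem c1966 : Block F al 0 503552 466941 :=
  block_comb c1965 b1966 (Nat.zero_le _) (Nat.le_of_ble_eq_true rfl) rfl

theorem c1967 : Block F al 0 503808 467191 :=
  block_comb c1966 b1967 (Nat.zero_le _) (Nat.le_of_ble_eq_true rfl) rfl

theorem c1968 : Block F al 0 504064 467440 :=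
  block_comb c1967 b1968 (Nat.zero_le _) (Nat.le_of_ble_eq_true rfl) rfl

theorem c1969 : Block F al 0 504320 467681 :=
  block_comb c1968 b1969 (Nat.zero_le _) (Nat.le_of_ble_eq_true rfl) rfl

theorem c1970 : Block F al 0 504576 467923 :=
  block_comb c1969 b1970 (Nat.zero_le _) (Nat.le_of_ble_eq_true rfl) rfl

theorem c1971 : Block F al 0 504832 468162 :=
  block_comb c1970 b1971 (Nat.zero_le _) (Nat.le_of_ble_eq_true rfl) rfl

theorem c1972 : Block F al 0 505088 468408 :=
  block_comb c1971 b1972 (Nat.zero_le _) (Nat.le_of_ble_eq_true rfl) rfl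

theorem c1973 : Block F al 0 505344 468643 :=
  block_comb c1972 b1973 (Nat.zero_le _) (Nat.le_of_ble_eq_true rfl) rfl

theorem c1974 : Block F al 0 505600 468866 :=
  block_comb c1973 b1974 (Nat.zero_le _) (Nat.le_of_ble_eq_true rfl) rfl

theorem c1975 : Block F al 0 505856 469074 :=
  block_comb c1974 b1975 (Nat.zero_le _) (Nat.le_of_ble_eq_true rfl) rfl

theorem c1976 : Block F al 0 506112 469297 :=
  block_comb c1975 b1976 (Nat.zero_le _) (Nat.le_of_ble_eq_true rfl) rfl

theorem c1977 : Block F al 0 506368 469535 :=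
  block_comb c1976 b1977 (Nat.zero_le _) (Nat.le_of_ble_eq_true rfl) rfl

theorem c1978 : Block F al 0 506624 469788 :=
  block_comb c1977 b1978 (Nat.zero_le _) (Nat.le_of_ble_eq_true rfl) rfl

theorem c1979 : Block F al 0 506880 470031 :=
  block_comb c1978 b1979 (Nat.zero_le _) (Nat.le_of_ble_eq_true rfl) rfl

theorem c1980 : Block F al 0 507136 470281 :=
  block_comb c1979 b1980 (Nat.zero_le _) (Nat.le_of_ble_eq_true rfl) rfl

theorem c1981 : Block F al 0 507392 470529 :=
  block_comb c1980 b1981 (Nat.zero_le _) (Nat.le_of_ble_eq_true rfl) rfl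

theorem c1982 : Block F al 0 507648 470777 :=
  block_comb c1981 b1982 (Nat.zero_le _) (Nat.le_of_ble_eq_true rfl) rfl

theorem c1983 : Block F al 0 507904 471027 :=
  block_comb c1982 b1983 (Nat.zero_le _) (Nat.le_of_ble_eq_true rfl) rfl

theorem c1984 : Block F al 0 508160 471279 :=
  block_comb c1983 b1984 (Nat.zero_le _) (Nat.le_of_ble_eq_true rfl) rfl

theorem c1985 : Block F al 0 508416 471514 :=
  block_comb c1984 b1985 (Nat.zero_le _) (Nat.le_of_ble_eq_true rfl) rfl

theorem c1986 : Block F al 0 508672 471763 :=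
  block_comb c1985 b1986 (Nat.zero_le _) (Nat.le_of_ble_eq_true rfl) rfl

theorem c1987 : Block F al 0 508928 471985 :=
  block_comb c1986 b1987 (Nat.zero_le _) (Nat.le_of_ble_eq_true rfl) rfl

theorem c1988 : Block F al 0 509184 472225 :=
  block_comb c1987 b1988 (Nat.zero_le _) (Nat.le_of_ble_eq_true rfl) rfl

theorem c1989 : Block F al 0 509440 472456 :=
  block_comb c1988 b1989 (Nat.zero_le _) (Nat.le_of_ble_eq_true rfl) rfl

theorem c1990 : Block F al 0 509696 472705 :=
  block_comb c1989 b1990 (Nat.zero_le _) (Nat.le_of_ble_eq_true rfl) rfl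

theorem c1991 : Block F al 0 509952 472949 :=
  block_comb c1990 b1991 (Nat.zero_le _) (Nat.le_of_ble_eq_true rfl) rfl

theorem c1992 : Block F al 0 510208 473197 :=
  block_comb c1991 b1992 (Nat.zero_le _) (Nat.le_of_ble_eq_true rfl) rfl

theorem c1993 : Block F al 0 510464 473438 :=
  block_comb c1992 b1993 (Nat.zero_le _) (Nat.le_of_ble_eq_true rfl) rfl

theorem c1994 : Block F al 0 510720 473690 :=
  block_comb c1993 b1994 (Nat.zero_le _) (Nat.le_of_ble_eq_true rfl) rfl

theorem c1995 : Block F al 0 510976 473936 :=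
  block_comb c1994 b1995 (Nat.zero_le _) (Nat.le_of_ble_eq_true rfl) rfl

theorem c1996 : Block F al 0 511232 474187 :=
  block_comb c1995 b1996 (Nat.zero_le _) (Nat.le_of_ble_eq_true rfl) rfl

theorem c1997 : Block F al 0 511488 474433 :=
  block_comb c1996 b1997 (Nat.zero_le _) (Nat.le_of_ble_eq_true rfl) rfl

theorem c1998 : Block F al 0 511744 474683 :=
  block_comb c1997 b1998 (Nat.zero_le _) (Nat.le_of_ble_eq_true rfl) rfl

theorem c1999 : Block F al 0 512000 474916 :=
  block_comb c1998 b1999 (Nat.zero_le _) (Nat.le_of_ble_eq_true rfl) rfl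

theorem c2000 : Block F al 0 512256 475123 :=
  block_comb c1999 b2000 (Nat.zero_le _) (Nat.le_of_ble_eq_true rfl) rfl

theorem c2001 : Block F al 0 512512 475332 :=
  block_comb c2000 b2001 (Nat.zero_le _) (Nat.le_of_ble_eq_true rfl) rfl

theorem c2002 : Block F al 0 512768 475550 :=
  block_comb c2001 b2002 (Nat.zero_le _) (Nat.le_of_ble_eq_true rfl) rfl

theorem c2003 : Block F al 0 513024 475803 :=
  block_comb c2002 b2003 (Nat.zero_le _) (Nat.le_of_ble_eq_true rfl) rfl

theorem c2004 : Block F al 0 513280 476049 :=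
  block_comb c2003 b2004 (Nat.zero_le _) (Nat.le_of_ble_eq_true rfl) rfl

theorem c2005 : Block F al 0 513536 476290 :=
  block_comb c2004 b2005 (Nat.zero_le _) (Nat.le_of_ble_eq_true rfl) rfl

theorem c2006 : Block F al 0 513792 476546 :=
  block_comb c2005 b2006 (Nat.zero_le _) (Nat.le_of_ble_eq_true rfl) rfl

theorem c2007 : Block F al 0 514048 476782 :=
  block_comb c2006 b2007 (Nat.zero_le _) (Nat.le_of_ble_eq_true rfl) rfl

theorem c2008 : Block F al 0 514304 477036 :=
  block_comb c2007 b2008 (Nat.zero_le _) (Nat.le_of_ble_eq_true rfl) rfl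

theorem c2009 : Block F al 0 514560 477276 :=
  block_comb c2008 b2009 (Nat.zero_le _) (Nat.le_of_ble_eq_true rfl) rfl

theorem c2010 : Block F al 0 514816 477501 :=
  block_comb c2009 b2010 (Nat.zero_le _) (Nat.le_of_ble_eq_true rfl) rfl

theorem c2011 : Block F al 0 515072 477748 :=
  block_comb c2010 b2011 (Nat.zero_le _) (Nat.le_of_ble_eq_true rfl) rfl

theorem c2012 : Block F al 0 515328 478002 :=
  block_comb c2011 b2012 (Nat.zero_le _) (Nat.le_of_ble_eq_true rfl) rfl

theorem c2013 : Block F al 0 515584 478233 :=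
  block_comb c2012 b2013 (Nat.zero_le _) (Nat.le_of_ble_eq_true rfl) rfl

theorem c2014 : Block F al 0 515840 478475 :=
  block_comb c2013 b2014 (Nat.zero_le _) (Nat.le_of_ble_eq_true rfl) rfl

theorem c2015 : Block F al 0 516096 478719 :=
  block_comb c2014 b2015 (Nat.zero_le _) (Nat.le_of_ble_eq_true rfl) rfl

theorem c2016 : Block F al 0 516352 478951 :=
  block_comb c2015 b2016 (Nat.zero_le _) (Nat.le_of_ble_eq_true rfl) rfl

theorem c2017 : Block F al 0 516608 479161 :=
  block_comb c2016 b2017 (Nat.zero_le _) (Nat.le_of_ble_eq_true rfl) rfl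

theorem c2018 : Block F al 0 516864 479394 :=
  block_comb c2017 b2018 (Nat.zero_le _) (Nat.le_of_ble_eq_true rfl) rfl

theorem c2019 : Block F al 0 517120 479648 :=
  block_comb c2018 b2019 (Nat.zero_le _) (Nat.le_of_ble_eq_true rfl) rfl

theorem c2020 : Block F al 0 517376 479889 :=
  block_comb c2019 b2020 (Nat.zero_le _) (Nat.le_of_ble_eq_true rfl) rfl

theorem c2021 : Block F al 0 517632 480132 :=
  block_comb c2020 b2021 (Nat.zero_le _) (Nat.le_of_ble_eq_true rfl) rfl

theorem c2022 : Block F al 0 517888 480381 :=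
  block_comb c2021 b2022 (Nat.zero_le _) (Nat.le_of_ble_eq_true rfl) rfl

theorem c2023 : Block F al 0 518144 480621 :=
  block_comb c2022 b2023 (Nat.zero_le _) (Nat.le_of_ble_eq_true rfl) rfl

theorem c2024 : Block F al 0 518400 480862 :=
  block_comb c2023 b2024 (Nat.zero_le _) (Nat.le_of_ble_eq_true rfl) rfl

theorem c2025 : Block F al 0 518656 481097 :=
  block_comb c2024 b2025 (Nat.zero_le _) (Nat.le_of_ble_eq_true rfl) rfl

theorem c2026 : Block F al 0 518912 481335 :=
  block_comb c2025 b2026 (Nat.zero_le _) (Nat.le_of_ble_eq_true rfl) rfl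

theorem c2027 : Block F al 0 519168 481576 :=
  block_comb c2026 b2027 (Nat.zero_le _) (Nat.le_of_ble_eq_true rfl) rfl

theorem c2028 : Block F al 0 519424 481816 :=
  block_comb c2027 b2028 (Nat.zero_le _) (Nat.le_of_ble_eq_true rfl) rfl

theorem c2029 : Block F al 0 519680 482067 :=
  block_comb c2028 b2029 (Nat.zero_le _) (Nat.le_of_ble_eq_true rfl) rfl

theorem c2030 : Block F al 0 519936 482314 :=
  block_comb c2029 b2030 (Nat.zero_le _) (Nat.le_of_ble_eq_true rfl) rfl

theorem c2031 : Block F al 0 520192 482565 :=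
  block_comb c2030 b2031 (Nat.zero_le _) (Nat.le_of_ble_eq_true rfl) rfl

theorem c2032 : Block F al 0 520448 482804 :=
  block_comb c2031 b2032 (Nat.zero_le _) (Nat.le_of_ble_eq_true rfl) rfl

theorem c2033 : Block F al 0 520704 483030 :=
  block_comb c2032 b2033 (Nat.zero_le _) (Nat.le_of_ble_eq_true rfl) rfl

theorem c2034 : Block F al 0 520960 483251 :=
  block_comb c2033 b2034 (Nat.zero_le _) (Nat.le_of_ble_eq_true rfl) rfl

theorem c2035 : Block F al 0 521216 483458 :=
  block_comb c2034 b2035 (Nat.zero_le _) (Nat.le_of_ble_eq_true rfl) rfl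

theorem c2036 : Block F al 0 521472 483697 :=
  block_comb c2035 b2036 (Nat.zero_le _) (Nat.le_of_ble_eq_true rfl) rfl

theorem c2037 : Block F al 0 521728 483909 :=
  block_comb c2036 b2037 (Nat.zero_le _) (Nat.le_of_ble_eq_true rfl) rfl

theorem c2038 : Block F al 0 521984 484107 :=
  block_comb c2037 b2038 (Nat.zero_le _) (Nat.le_of_ble_eq_true rfl) rfl

theorem c2039 : Block F al 0 522240 484331 :=
  block_comb c2038 b2039 (Nat.zero_le _) (Nat.le_of_ble_eq_true rfl) rfl

theorem c2040 : Block F al 0 522496 484574 :=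
  block_comb c2039 b2040 (Nat.zero_le _) (Nat.le_of_ble_eq_true rfl) rfl

theorem c2041 : Block F al 0 522752 484806 :=
  block_comb c2040 b2041 (Nat.zero_le _) (Nat.le_of_ble_eq_true rfl) rfl

theorem c2042 : Block F al 0 523008 485035 :=
  block_comb c2041 b2042 (Nat.zero_le _) (Nat.le_of_ble_eq_true rfl) rfl

theorem c2043 : Block F al 0 523264 485271 :=
  block_comb c2042 b2043 (Nat.zero_le _) (Nat.le_of_ble_eq_true rfl) rfl

theorem c2044 : Block F al 0 523520 485513 :=
  block_comb c2043 b2044 (Nat.zero_le _) (Nat.le_of_ble_eq_true rfl) rfl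

theorem c2045 : Block F al 0 523776 485745 :=
  block_comb c2044 b2045 (Nat.zero_le _) (Nat.le_of_ble_eq_true rfl) rfl

theorem c2046 : Block F al 0 524032 485975 :=
  block_comb c2045 b2046 (Nat.zero_le _) (Nat.le_of_ble_eq_true rfl) rfl

theorem c2047 : Block F al 0 524288 486213 :=
  block_comb c2046 b2047 (Nat.zero_le _) (Nat.le_of_ble_eq_true rfl) rfl

theorem c2048 : Block F al 0 524544 486449 :=
  block_comb c2047 b2048 (Nat.zero_le _) (Nat.le_of_ble_eq_true rfl) rfl

theorem c2049 : Block F al 0 524800 486695 :=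
  block_comb c2048 b2049 (Nat.zero_le _) (Nat.le_of_ble_eq_true rfl) rfl

theorem c2050 : Block F al 0 525056 486932 :=
  block_comb c2049 b2050 (Nat.zero_le _) (Nat.le_of_ble_eq_true rfl) rfl

theorem c2051 : Block F al 0 525312 487159 :=
  block_comb c2050 b2051 (Nat.zero_le _) (Nat.le_of_ble_eq_true rfl) rfl

theorem c2052 : Block F al 0 525568 487374 :=
  block_comb c2051 b2052 (Nat.zero_le _) (Nat.le_of_ble_eq_true rfl) rfl

theorem c2053 : Block F al 0 525824 487603 :=
  block_comb c2052 b2053 (Nat.zero_le _) (Nat.le_of_ble_eq_true rfl) rfl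

theorem c2054 : Block F al 0 526080 487838 :=
  block_comb c2053 b2054 (Nat.zero_le _) (Nat.le_of_ble_eq_true rfl) rfl

theorem c2055 : Block F al 0 526336 488084 :=
  block_comb c2054 b2055 (Nat.zero_le _) (Nat.le_of_ble_eq_true rfl) rfl

theorem c2056 : Block F al 0 526592 488326 :=
  block_comb c2055 b2056 (Nat.zero_le _) (Nat.le_of_ble_eq_true rfl) rfl

theorem c2057 : Block F al 0 526848 488562 :=
  block_comb c2056 b2057 (Nat.zero_le _) (Nat.le_of_ble_eq_true rfl) rfl

theorem c2058 : Block F al 0 527104 488800 :=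
  block_comb c2057 b2058 (Nat.zero_le _) (Nat.le_of_ble_eq_true rfl) rfl

theorem c2059 : Block F al 0 527360 489018 :=
  block_comb c2058 b2059 (Nat.zero_le _) (Nat.le_of_ble_eq_true rfl) rfl

theorem c2060 : Block F al 0 527616 489252 :=
  block_comb c2059 b2060 (Nat.zero_le _) (Nat.le_of_ble_eq_true rfl) rfl

theorem c2061 : Block F al 0 527872 489490 :=
  block_comb c2060 b2061 (Nat.zero_le _) (Nat.le_of_ble_eq_true rfl) rfl

theorem c2062 : Block F al 0 528128 489718 :=
  block_comb c2061 b2062 (Nat.zero_le _) (Nat.le_of_ble_eq_true rfl) rfl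

theorem c2063 : Block F al 0 528384 489949 :=
  block_comb c2062 b2063 (Nat.zero_le _) (Nat.le_of_ble_eq_true rfl) rfl

theorem c2064 : Block F al 0 528640 490189 :=
  block_comb c2063 b2064 (Nat.zero_le _) (Nat.le_of_ble_eq_true rfl) rfl

theorem c2065 : Block F al 0 528896 490423 :=
  block_comb c2064 b2065 (Nat.zero_le _) (Nat.le_of_ble_eq_true rfl) rfl

theorem c2066 : Block F al 0 529152 490661 :=
  block_comb c2065 b2066 (Nat.zero_le _) (Nat.le_of_ble_eq_true rfl) rfl

theorem c2067 : Block F al 0 529408 490904 :=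
  block_comb c2066 b2067 (Nat.zero_le _) (Nat.le_of_ble_eq_true rfl) rfl

theorem c2068 : Block F al 0 529664 491139 :=
  block_comb c2067 b2068 (Nat.zero_le _) (Nat.le_of_ble_eq_true rfl) rfl

theorem c2069 : Block F al 0 529920 491365 :=
  block_comb c2068 b2069 (Nat.zero_le _) (Nat.le_of_ble_eq_true rfl) rfl

theorem c2070 : Block F al 0 530176 491583 :=
  block_comb c2069 b2070 (Nat.zero_le _) (Nat.le_of_ble_eq_true rfl) rfl

theorem c2071 : Block F al 0 530432 491815 :=
  block_comb c2070 b2071 (Nat.zero_le _) (Nat.le_of_ble_eq_true rfl) rfl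

theorem c2072 : Block F al 0 530688 492054 :=
  block_comb c2071 b2072 (Nat.zero_le _) (Nat.le_of_ble_eq_true rfl) rfl

theorem c2073 : Block F al 0 530944 492295 :=
  block_comb c2072 b2073 (Nat.zero_le _) (Nat.le_of_ble_eq_true rfl) rfl

theorem c2074 : Block F al 0 531200 492534 :=
  block_comb c2073 b2074 (Nat.zero_le _) (Nat.le_of_ble_eq_true rfl) rfl

theorem c2075 : Block F al 0 531456 492758 :=
  block_comb c2074 b2075 (Nat.zero_le _) (Nat.le_of_ble_eq_true rfl) rfl

theorem c2076 : Block F al 0 531712 492992 :=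
  block_comb c2075 b2076 (Nat.zero_le _) (Nat.le_of_ble_eq_true rfl) rfl

theorem c2077 : Block F al 0 531968 493237 :=
  block_comb c2076 b2077 (Nat.zero_le _) (Nat.le_of_ble_eq_true rfl) rfl

theorem c2078 : Block F al 0 532224 493482 :=
  block_comb c2077 b2078 (Nat.zero_le _) (Nat.le_of_ble_eq_true rfl) rfl

theorem c2079 : Block F al 0 532480 493735 :=
  block_comb c2078 b2079 (Nat.zero_le _) (Nat.le_of_ble_eq_true rfl) rfl

theorem c2080 : Block F al 0 532736 493978 :=
  block_comb c2079 b2080 (Nat.zero_le _) (Nat.le_of_ble_eq_true rfl) rfl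

theorem c2081 : Block F al 0 532992 494226 :=
  block_comb c2080 b2081 (Nat.zero_le _) (Nat.le_of_ble_eq_true rfl) rfl

theorem c2082 : Block F al 0 533248 494473 :=
  block_comb c2081 b2082 (Nat.zero_le _) (Nat.le_of_ble_eq_true rfl) rfl

theorem c2083 : Block F al 0 533504 494722 :=
  block_comb c2082 b2083 (Nat.zero_le _) (Nat.le_of_ble_eq_true rfl) rfl

theorem c2084 : Block F al 0 533760 494964 :=
  block_comb c2083 b2084 (Nat.zero_le _) (Nat.le_of_ble_eq_true rfl) rfl

theorem c2085 : Block F al 0 534016 495218 :=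
  block_comb c2084 b2085 (Nat.zero_le _) (Nat.le_of_ble_eq_true rfl) rfl

theorem c2086 : Block F al 0 534272 495467 :=
  block_comb c2085 b2086 (Nat.zero_le _) (Nat.le_of_ble_eq_true rfl) rfl

theorem c2087 : Block F al 0 534528 495716 :=
  block_comb c2086 b2087 (Nat.zero_le _) (Nat.le_of_ble_eq_true rfl) rfl

theorem c2088 : Block F al 0 534784 495967 :=
  block_comb c2087 b2088 (Nat.zero_le _) (Nat.le_of_ble_eq_true rfl) rfl

theorem c2089 : Block F al 0 535040 496219 :=
  block_comb c2088 b2089 (Nat.zero_le _) (Nat.le_of_ble_eq_true rfl) rfl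

theorem c2090 : Block F al 0 535296 496460 :=
  block_comb c2089 b2090 (Nat.zero_le _) (Nat.le_of_ble_eq_true rfl) rfl

theorem c2091 : Block F al 0 535552 496705 :=
  block_comb c2090 b2091 (Nat.zero_le _) (Nat.le_of_ble_eq_true rfl) rfl

theorem c2092 : Block F al 0 535808 496958 :=
  block_comb c2091 b2092 (Nat.zero_le _) (Nat.le_of_ble_eq_true rfl) rfl

theorem c2093 : Block F al 0 536064 497209 :=
  block_comb c2092 b2093 (Nat.zero_le _) (Nat.le_of_ble_eq_true rfl) rfl

theorem c2094 : Block F al 0 536320 497449 :=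
  block_comb c2093 b2094 (Nat.zero_le _) (Nat.le_of_ble_eq_true rfl) rfl

theorem c2095 : Block F al 0 536576 497678 :=
  block_comb c2094 b2095 (Nat.zero_le _) (Nat.le_of_ble_eq_true rfl) rfl

theorem c2096 : Block F al 0 536832 497903 :=
  block_comb c2095 b2096 (Nat.zero_le _) (Nat.le_of_ble_eq_true rfl) rfl

theorem c2097 : Block F al 0 537088 498126 :=
  block_comb c2096 b2097 (Nat.zero_le _) (Nat.le_of_ble_eq_true rfl) rfl

theorem c2098 : Block F al 0 537344 498371 :=
  block_comb c2097 b2098 (Nat.zero_le _) (Nat.le_of_ble_eq_true rfl) rfl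

theorem c2099 : Block F al 0 537600 498606 :=
  block_comb c2098 b2099 (Nat.zero_le _) (Nat.le_of_ble_eq_true rfl) rfl

theorem c2100 : Block F al 0 537856 498855 :=
  block_comb c2099 b2100 (Nat.zero_le _) (Nat.le_of_ble_eq_true rfl) rfl

theorem c2101 : Block F al 0 538112 499079 :=
  block_comb c2100 b2101 (Nat.zero_le _) (Nat.le_of_ble_eq_true rfl) rfl

theorem c2102 : Block F al 0 538368 499330 :=
  block_comb c2101 b2102 (Nat.zero_le _) (Nat.le_of_ble_eq_true rfl) rfl

theorem c2103 : Block F al 0 538624 499572 :=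
  block_comb c2102 b2103 (Nat.zero_le _) (Nat.le_of_ble_eq_true rfl) rfl

theorem c2104 : Block F al 0 538880 499821 :=
  block_comb c2103 b2104 (Nat.zero_le _) (Nat.le_of_ble_eq_true rfl) rfl

theorem c2105 : Block F al 0 539136 500066 :=
  block_comb c2104 b2105 (Nat.zero_le _) (Nat.le_of_ble_eq_true rfl) rfl

theorem c2106 : Block F al 0 539392 500306 :=
  block_comb c2105 b2106 (Nat.zero_le _) (Nat.le_of_ble_eq_true rfl) rfl

theorem c2107 : Block F al 0 539648 500548 :=
  block_comb c2106 b2107 (Nat.zero_le _) (Nat.le_of_ble_eq_true rfl) rfl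

theorem c2108 : Block F al 0 539904 500793 :=
  block_comb c2107 b2108 (Nat.zero_le _) (Nat.le_of_ble_eq_true rfl) rfl

theorem c2109 : Block F al 0 540160 501026 :=
  block_comb c2108 b2109 (Nat.zero_le _) (Nat.le_of_ble_eq_true rfl) rfl

theorem c2110 : Block F al 0 540416 501276 :=
  block_comb c2109 b2110 (Nat.zero_le _) (Nat.le_of_ble_eq_true rfl) rfl

theorem c2111 : Block F al 0 540672 501520 :=
  block_comb c2110 b2111 (Nat.zero_le _) (Nat.le_of_ble_eq_true rfl) rfl

theorem c2112 : Block F al 0 540928 501758 :=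
  block_comb c2111 b2112 (Nat.zero_le _) (Nat.le_of_ble_eq_true rfl) rfl

theorem c2113 : Block F al 0 541184 502006 :=
  block_comb c2112 b2113 (Nat.zero_le _) (Nat.le_of_ble_eq_true rfl) rfl

theorem c2114 : Block F al 0 541440 502235 :=
  block_comb c2113 b2114 (Nat.zero_le _) (Nat.le_of_ble_eq_true rfl) rfl

theorem c2115 : Block F al 0 541696 502474 :=
  block_comb c2114 b2115 (Nat.zero_le _) (Nat.le_of_ble_eq_true rfl) rfl

theorem c2116 : Block F al 0 541952 502717 :=
  block_comb c2115 b2116 (Nat.zero_le _) (Nat.le_of_ble_eq_true rfl) rfl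

theorem c2117 : Block F al 0 542208 502969 :=
  block_comb c2116 b2117 (Nat.zero_le _) (Nat.le_of_ble_eq_true rfl) rfl

theorem c2118 : Block F al 0 542464 503216 :=
  block_comb c2117 b2118 (Nat.zero_le _) (Nat.le_of_ble_eq_true rfl) rfl

theorem c2119 : Block F al 0 542720 503452 :=
  block_comb c2118 b2119 (Nat.zero_le _) (Nat.le_of_ble_eq_true rfl) rfl

theorem c2120 : Block F al 0 542976 503697 :=
  block_comb c2119 b2120 (Nat.zero_le _) (Nat.le_of_ble_eq_true rfl) rfl

theorem c2121 : Block F al 0 543232 503915 :=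
  block_comb c2120 b2121 (Nat.zero_le _) (Nat.le_of_ble_eq_true rfl) rfl

theorem c2122 : Block F al 0 543488 504143 :=
  block_comb c2121 b2122 (Nat.zero_le _) (Nat.le_of_ble_eq_true rfl) rfl

theorem c2123 : Block F al 0 543744 504388 :=
  block_comb c2122 b2123 (Nat.zero_le _) (Nat.le_of_ble_eq_true rfl) rfl

theorem c2124 : Block F al 0 544000 504631 :=
  block_comb c2123 b2124 (Nat.zero_le _) (Nat.le_of_ble_eq_true rfl) rfl

theorem c2125 : Block F al 0 544256 504870 :=
  block_comb c2124 b2125 (Nat.zero_le _) (Nat.le_of_ble_eq_true rfl) rfl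

theorem c2126 : Block F al 0 544512 505083 :=
  block_comb c2125 b2126 (Nat.zero_le _) (Nat.le_of_ble_eq_true rfl) rfl

theorem c2127 : Block F al 0 544768 505311 :=
  block_comb c2126 b2127 (Nat.zero_le _) (Nat.le_of_ble_eq_true rfl) rfl

theorem c2128 : Block F al 0 545024 505557 :=
  block_comb c2127 b2128 (Nat.zero_le _) (Nat.le_of_ble_eq_true rfl) rfl

theorem c2129 : Block F al 0 545280 505803 :=
  block_comb c2128 b2129 (Nat.zero_le _) (Nat.le_of_ble_eq_true rfl) rfl

theorem c2130 : Block F al 0 545536 506047 :=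
  block_comb c2129 b2130 (Nat.zero_le _) (Nat.le_of_ble_eq_true rfl) rfl

theorem c2131 : Block F al 0 545792 506299 :=
  block_comb c2130 b2131 (Nat.zero_le _) (Nat.le_of_ble_eq_true rfl) rfl

theorem c2132 : Block F al 0 546048 506536 :=
  block_comb c2131 b2132 (Nat.zero_le _) (Nat.le_of_ble_eq_true rfl) rfl

theorem c2133 : Block F al 0 546304 506758 :=
  block_comb c2132 b2133 (Nat.zero_le _) (Nat.le_of_ble_eq_true rfl) rfl

theorem c2134 : Block F al 0 546560 506990 :=
  block_comb c2133 b2134 (Nat.zero_le _) (Nat.le_of_ble_eq_true rfl) rfl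

theorem c2135 : Block F al 0 546816 507231 :=
  block_comb c2134 b2135 (Nat.zero_le _) (Nat.le_of_ble_eq_true rfl) rfl

theorem c2136 : Block F al 0 547072 507484 :=
  block_comb c2135 b2136 (Nat.zero_le _) (Nat.le_of_ble_eq_true rfl) rfl

theorem c2137 : Block F al 0 547328 507724 :=
  block_comb c2136 b2137 (Nat.zero_le _) (Nat.le_of_ble_eq_true rfl) rfl

theorem c2138 : Block F al 0 547584 507960 :=
  block_comb c2137 b2138 (Nat.zero_le _) (Nat.le_of_ble_eq_true rfl) rfl

theorem c2139 : Block F al 0 547840 508199 :=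
  block_comb c2138 b2139 (Nat.zero_le _) (Nat.le_of_ble_eq_true rfl) rfl

theorem c2140 : Block F al 0 548096 508437 :=
  block_comb c2139 b2140 (Nat.zero_le _) (Nat.le_of_ble_eq_true rfl) rfl

theorem c2141 : Block F al 0 548352 508671 :=
  block_comb c2140 b2141 (Nat.zero_le _) (Nat.le_of_ble_eq_true rfl) rfl

theorem c2142 : Block F al 0 548608 508911 :=
  block_comb c2141 b2142 (Nat.zero_le _) (Nat.le_of_ble_eq_true rfl) rfl

theorem c2143 : Block F al 0 548864 509153 :=
  block_comb c2142 b2143 (Nat.zero_le _) (Nat.le_of_ble_eq_true rfl) rfl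

theorem c2144 : Block F al 0 549120 509385 :=
  block_comb c2143 b2144 (Nat.zero_le _) (Nat.le_of_ble_eq_true rfl) rfl

theorem c2145 : Block F al 0 549376 509611 :=
  block_comb c2144 b2145 (Nat.zero_le _) (Nat.le_of_ble_eq_true rfl) rfl

theorem c2146 : Block F al 0 549632 509841 :=
  block_comb c2145 b2146 (Nat.zero_le _) (Nat.le_of_ble_eq_true rfl) rfl

theorem c2147 : Block F al 0 549888 510079 :=
  block_comb c2146 b2147 (Nat.zero_le _) (Nat.le_of_ble_eq_true rfl) rfl

theorem c2148 : Block F al 0 550144 510317 :=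
  block_comb c2147 b2148 (Nat.zero_le _) (Nat.le_of_ble_eq_true rfl) rfl

theorem c2149 : Block F al 0 550400 510562 :=
  block_comb c2148 b2149 (Nat.zero_le _) (Nat.le_of_ble_eq_true rfl) rfl

theorem c2150 : Block F al 0 550656 510814 :=
  block_comb c2149 b2150 (Nat.zero_le _) (Nat.le_of_ble_eq_true rfl) rfl

theorem c2151 : Block F al 0 550912 511061 :=
  block_comb c2150 b2151 (Nat.zero_le _) (Nat.le_of_ble_eq_true rfl) rfl

theorem c2152 : Block F al 0 551168 511308 :=
  block_comb c2151 b2152 (Nat.zero_le _) (Nat.le_of_ble_eq_true rfl) rfl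

theorem c2153 : Block F al 0 551424 511556 :=
  block_comb c2152 b2153 (Nat.zero_le _) (Nat.le_of_ble_eq_true rfl) rfl

theorem c2154 : Block F al 0 551680 511802 :=
  block_comb c2153 b2154 (Nat.zero_le _) (Nat.le_of_ble_eq_true rfl) rfl

theorem c2155 : Block F al 0 551936 512053 :=
  block_comb c2154 b2155 (Nat.zero_le _) (Nat.le_of_ble_eq_true rfl) rfl

theorem c2156 : Block F al 0 552192 512299 :=
  block_comb c2155 b2156 (Nat.zero_le _) (Nat.le_of_ble_eq_true rfl) rfl

theorem c2157 : Block F al 0 552448 512554 :=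
  block_comb c2156 b2157 (Nat.zero_le _) (Nat.le_of_ble_eq_true rfl) rfl

theorem c2158 : Block F al 0 552704 512806 :=
  block_comb c2157 b2158 (Nat.zero_le _) (Nat.le_of_ble_eq_true rfl) rfl

theorem c2159 : Block F al 0 552960 513045 :=
  block_comb c2158 b2159 (Nat.zero_le _) (Nat.le_of_ble_eq_true rfl) rfl

theorem c2160 : Block F al 0 553216 513290 :=
  block_comb c2159 b2160 (Nat.zero_le _) (Nat.le_of_ble_eq_true rfl) rfl

theorem c2161 : Block F al 0 553472 513528 :=
  block_comb c2160 b2161 (Nat.zero_le _) (Nat.le_of_ble_eq_true rfl) rfl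

theorem c2162 : Block F al 0 553728 513771 :=
  block_comb c2161 b2162 (Nat.zero_le _) (Nat.le_of_ble_eq_true rfl) rfl

theorem c2163 : Block F al 0 553984 514015 :=
  block_comb c2162 b2163 (Nat.zero_le _) (Nat.le_of_ble_eq_true rfl) rfl

theorem c2164 : Block F al 0 554240 514267 :=
  block_comb c2163 b2164 (Nat.zero_le _) (Nat.le_of_ble_eq_true rfl) rfl

theorem c2165 : Block F al 0 554496 514519 :=
  block_comb c2164 b2165 (Nat.zero_le _) (Nat.le_of_ble_eq_true rfl) rfl

theorem c2166 : Block F al 0 554752 514769 :=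
  block_comb c2165 b2166 (Nat.zero_le _) (Nat.le_of_ble_eq_true rfl) rfl

theorem c2167 : Block F al 0 555008 515010 :=
  block_comb c2166 b2167 (Nat.zero_le _) (Nat.le_of_ble_eq_true rfl) rfl

theorem c2168 : Block F al 0 555264 515260 :=
  block_comb c2167 b2168 (Nat.zero_le _) (Nat.le_of_ble_eq_true rfl) rfl

theorem c2169 : Block F al 0 555520 515491 :=
  block_comb c2168 b2169 (Nat.zero_le _) (Nat.le_of_ble_eq_true rfl) rfl

theorem c2170 : Block F al 0 555776 515736 :=
  block_comb c2169 b2170 (Nat.zero_le _) (Nat.le_of_ble_eq_true rfl) rfl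

theorem c2171 : Block F al 0 556032 515979 :=
  block_comb c2170 b2171 (Nat.zero_le _) (Nat.le_of_ble_eq_true rfl) rfl

theorem c2172 : Block F al 0 556288 516228 :=
  block_comb c2171 b2172 (Nat.zero_le _) (Nat.le_of_ble_eq_true rfl) rfl

theorem c2173 : Block F al 0 556544 516479 :=
  block_comb c2172 b2173 (Nat.zero_le _) (Nat.le_of_ble_eq_true rfl) rfl

theorem c2174 : Block F al 0 556800 516729 :=
  block_comb c2173 b2174 (Nat.zero_le _) (Nat.le_of_ble_eq_true rfl) rfl

theorem c2175 : Block F al 0 557056 516972 :=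
  block_comb c2174 b2175 (Nat.zero_le _) (Nat.le_of_ble_eq_true rfl) rfl

theorem c2176 : Block F al 0 557312 517216 :=
  block_comb c2175 b2176 (Nat.zero_le _) (Nat.le_of_ble_eq_true rfl) rfl

theorem c2177 : Block F al 0 557568 517456 :=
  block_comb c2176 b2177 (Nat.zero_le _) (Nat.le_of_ble_eq_true rfl) rfl

theorem c2178 : Block F al 0 557824 517709 :=
  block_comb c2177 b2178 (Nat.zero_le _) (Nat.le_of_ble_eq_true rfl) rfl

theorem c2179 : Block F al 0 558080 517951 :=
  block_comb c2178 b2179 (Nat.zero_le _) (Nat.le_of_ble_eq_true rfl) rfl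

theorem c2180 : Block F al 0 558336 518202 :=
  block_comb c2179 b2180 (Nat.zero_le _) (Nat.le_of_ble_eq_true rfl) rfl

theorem c2181 : Block F al 0 558592 518443 :=
  block_comb c2180 b2181 (Nat.zero_le _) (Nat.le_of_ble_eq_true rfl) rfl

theorem c2182 : Block F al 0 558848 518692 :=
  block_comb c2181 b2182 (Nat.zero_le _) (Nat.le_of_ble_eq_true rfl) rfl

theorem c2183 : Block F al 0 559104 518917 :=
  block_comb c2182 b2183 (Nat.zero_le _) (Nat.le_of_ble_eq_true rfl) rfl

theorem c2184 : Block F al 0 559360 519155 :=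
  block_comb c2183 b2184 (Nat.zero_le _) (Nat.le_of_ble_eq_true rfl) rfl

theorem c2185 : Block F al 0 559616 519395 :=
  block_comb c2184 b2185 (Nat.zero_le _) (Nat.le_of_ble_eq_true rfl) rfl

theorem c2186 : Block F al 0 559872 519644 :=
  block_comb c2185 b2186 (Nat.zero_le _) (Nat.le_of_ble_eq_true rfl) rfl

theorem c2187 : Block F al 0 560128 519873 :=
  block_comb c2186 b2187 (Nat.zero_le _) (Nat.le_of_ble_eq_true rfl) rfl

theorem c2188 : Block F al 0 560384 520112 :=
  block_comb c2187 b2188 (Nat.zero_le _) (Nat.le_of_ble_eq_true rfl) rfl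

theorem c2189 : Block F al 0 560640 520355 :=
  block_comb c2188 b2189 (Nat.zero_le _) (Nat.le_of_ble_eq_true rfl) rfl

theorem c2190 : Block F al 0 560896 520600 :=
  block_comb c2189 b2190 (Nat.zero_le _) (Nat.le_of_ble_eq_true rfl) rfl

theorem c2191 : Block F al 0 561152 520840 :=
  block_comb c2190 b2191 (Nat.zero_le _) (Nat.le_of_ble_eq_true rfl) rfl

theorem c2192 : Block F al 0 561408 521086 :=
  block_comb c2191 b2192 (Nat.zero_le _) (Nat.le_of_ble_eq_true rfl) rfl

theorem c2193 : Block F al 0 561664 521334 :=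
  block_comb c2192 b2193 (Nat.zero_le _) (Nat.le_of_ble_eq_true rfl) rfl

theorem c2194 : Block F al 0 561920 521576 :=
  block_comb c2193 b2194 (Nat.zero_le _) (Nat.le_of_ble_eq_true rfl) rfl

theorem c2195 : Block F al 0 562176 521812 :=
  block_comb c2194 b2195 (Nat.zero_le _) (Nat.le_of_ble_eq_true rfl) rfl

theorem c2196 : Block F al 0 562432 522063 :=
  block_comb c2195 b2196 (Nat.zero_le _) (Nat.le_of_ble_eq_true rfl) rfl

theorem c2197 : Block F al 0 562688 522301 :=
  block_comb c2196 b2197 (Nat.zero_le _) (Nat.le_of_ble_eq_true rfl) rfl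

theorem c2198 : Block F al 0 562944 522543 :=
  block_comb c2197 b2198 (Nat.zero_le _) (Nat.le_of_ble_eq_true rfl) rfl

theorem c2199 : Block F al 0 563200 522794 :=
  block_comb c2198 b2199 (Nat.zero_le _) (Nat.le_of_ble_eq_true rfl) rfl

theorem c2200 : Block F al 0 563456 523024 :=
  block_comb c2199 b2200 (Nat.zero_le _) (Nat.le_of_ble_eq_true rfl) rfl

theorem c2201 : Block F al 0 563712 523268 :=
  block_comb c2200 b2201 (Nat.zero_le _) (Nat.le_of_ble_eq_true rfl) rfl

theorem c2202 : Block F al 0 563968 523516 :=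
  block_comb c2201 b2202 (Nat.zero_le _) (Nat.le_of_ble_eq_true rfl) rfl

theorem c2203 : Block F al 0 564224 523757 :=
  block_comb c2202 b2203 (Nat.zero_le _) (Nat.le_of_ble_eq_true rfl) rfl

theorem c2204 : Block F al 0 564480 523986 :=
  block_comb c2203 b2204 (Nat.zero_le _) (Nat.le_of_ble_eq_true rfl) rfl

theorem c2205 : Block F al 0 564736 524217 :=
  block_comb c2204 b2205 (Nat.zero_le _) (Nat.le_of_ble_eq_true rfl) rfl

theorem c2206 : Block F al 0 564992 524450 :=
  block_comb c2205 b2206 (Nat.zero_le _) (Nat.le_of_ble_eq_true rfl) rfl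

theorem c2207 : Block F al 0 565248 524685 :=
  block_comb c2206 b2207 (Nat.zero_le _) (Nat.le_of_ble_eq_true rfl) rfl

theorem c2208 : Block F al 0 565504 524928 :=
  block_comb c2207 b2208 (Nat.zero_le _) (Nat.le_of_ble_eq_true rfl) rfl

theorem c2209 : Block F al 0 565760 525178 :=
  block_comb c2208 b2209 (Nat.zero_le _) (Nat.le_of_ble_eq_true rfl) rfl

theorem c2210 : Block F al 0 566016 525416 :=
  block_comb c2209 b2210 (Nat.zero_le _) (Nat.le_of_ble_eq_true rfl) rfl

theorem c2211 : Block F al 0 566272 525655 :=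
  block_comb c2210 b2211 (Nat.zero_le _) (Nat.le_of_ble_eq_true rfl) rfl

theorem c2212 : Block F al 0 566528 525895 :=
  block_comb c2211 b2212 (Nat.zero_le _) (Nat.le_of_ble_eq_true rfl) rfl

theorem c2213 : Block F al 0 566784 526132 :=
  block_comb c2212 b2213 (Nat.zero_le _) (Nat.le_of_ble_eq_true rfl) rfl

theorem c2214 : Block F al 0 567040 526367 :=
  block_comb c2213 b2214 (Nat.zero_le _) (Nat.le_of_ble_eq_true rfl) rfl

theorem c2215 : Block F al 0 567296 526610 :=
  block_comb c2214 b2215 (Nat.zero_le _) (Nat.le_of_ble_eq_true rfl) rfl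

theorem c2216 : Block F al 0 567552 526846 :=
  block_comb c2215 b2216 (Nat.zero_le _) (Nat.le_of_ble_eq_true rfl) rfl

theorem c2217 : Block F al 0 567808 527089 :=
  block_comb c2216 b2217 (Nat.zero_le _) (Nat.le_of_ble_eq_true rfl) rfl

theorem c2218 : Block F al 0 568064 527334 :=
  block_comb c2217 b2218 (Nat.zero_le _) (Nat.le_of_ble_eq_true rfl) rfl

theorem c2219 : Block F al 0 568320 527581 :=
  block_comb c2218 b2219 (Nat.zero_le _) (Nat.le_of_ble_eq_true rfl) rfl

theorem c2220 : Block F al 0 568576 527826 :=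
  block_comb c2219 b2220 (Nat.zero_le _) (Nat.le_of_ble_eq_true rfl) rfl

theorem c2221 : Block F al 0 568832 528069 :=
  block_comb c2220 b2221 (Nat.zero_le _) (Nat.le_of_ble_eq_true rfl) rfl

theorem c2222 : Block F al 0 569088 528314 :=
  block_comb c2221 b2222 (Nat.zero_le _) (Nat.le_of_ble_eq_true rfl) rfl

theorem c2223 : Block F al 0 569344 528565 :=
  block_comb c2222 b2223 (Nat.zero_le _) (Nat.le_of_ble_eq_true rfl) rfl

theorem c2224 : Block F al 0 569600 528809 :=
  block_comb c2223 b2224 (Nat.zero_le _) (Nat.le_of_ble_eq_true rfl) rfl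

theorem c2225 : Block F al 0 569856 529062 :=
  block_comb c2224 b2225 (Nat.zero_le _) (Nat.le_of_ble_eq_true rfl) rfl

theorem c2226 : Block F al 0 570112 529310 :=
  block_comb c2225 b2226 (Nat.zero_le _) (Nat.le_of_ble_eq_true rfl) rfl

theorem c2227 : Block F al 0 570368 529565 :=
  block_comb c2226 b2227 (Nat.zero_le _) (Nat.le_of_ble_eq_true rfl) rfl

theorem c2228 : Block F al 0 570624 529813 :=
  block_comb c2227 b2228 (Nat.zero_le _) (Nat.le_of_ble_eq_true rfl) rfl

theorem c2229 : Block F al 0 570880 530060 :=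
  block_comb c2228 b2229 (Nat.zero_le _) (Nat.le_of_ble_eq_true rfl) rfl

theorem c2230 : Block F al 0 571136 530289 :=
  block_comb c2229 b2230 (Nat.zero_le _) (Nat.le_of_ble_eq_true rfl) rfl

theorem c2231 : Block F al 0 571392 530532 :=
  block_comb c2230 b2231 (Nat.zero_le _) (Nat.le_of_ble_eq_true rfl) rfl

theorem c2232 : Block F al 0 571648 530785 :=
  block_comb c2231 b2232 (Nat.zero_le _) (Nat.le_of_ble_eq_true rfl) rfl

theorem c2233 : Block F al 0 571904 531018 :=
  block_comb c2232 b2233 (Nat.zero_le _) (Nat.le_of_ble_eq_true rfl) rfl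

theorem c2234 : Block F al 0 572160 531268 :=
  block_comb c2233 b2234 (Nat.zero_le _) (Nat.le_of_ble_eq_true rfl) rfl

theorem c2235 : Block F al 0 572416 531507 :=
  block_comb c2234 b2235 (Nat.zero_le _) (Nat.le_of_ble_eq_true rfl) rfl

theorem c2236 : Block F al 0 572672 531744 :=
  block_comb c2235 b2236 (Nat.zero_le _) (Nat.le_of_ble_eq_true rfl) rfl

theorem c2237 : Block F al 0 572928 531989 :=
  block_comb c2236 b2237 (Nat.zero_le _) (Nat.le_of_ble_eq_true rfl) rfl

theorem c2238 : Block F al 0 573184 532228 :=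
  block_comb c2237 b2238 (Nat.zero_le _) (Nat.le_of_ble_eq_true rfl) rfl

theorem c2239 : Block F al 0 573440 532471 :=
  block_comb c2238 b2239 (Nat.zero_le _) (Nat.le_of_ble_eq_true rfl) rfl

theorem c2240 : Block F al 0 573696 532696 :=
  block_comb c2239 b2240 (Nat.zero_le _) (Nat.le_of_ble_eq_true rfl) rfl

theorem c2241 : Block F al 0 573952 532927 :=
  block_comb c2240 b2241 (Nat.zero_le _) (Nat.le_of_ble_eq_true rfl) rfl

theorem c2242 : Block F al 0 574208 533169 :=
  block_comb c2241 b2242 (Nat.zero_le _) (Nat.le_of_ble_eq_true rfl) rfl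

theorem c2243 : Block F al 0 574464 533400 :=
  block_comb c2242 b2243 (Nat.zero_le _) (Nat.le_of_ble_eq_true rfl) rfl

theorem c2244 : Block F al 0 574720 533648 :=
  block_comb c2243 b2244 (Nat.zero_le _) (Nat.le_of_ble_eq_true rfl) rfl

theorem c2245 : Block F al 0 574976 533893 :=
  block_comb c2244 b2245 (Nat.zero_le _) (Nat.le_of_ble_eq_true rfl) rfl

theorem c2246 : Block F al 0 575232 534140 :=
  block_comb c2245 b2246 (Nat.zero_le _) (Nat.le_of_ble_eq_true rfl) rfl

theorem c2247 : Block F al 0 575488 534381 :=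
  block_comb c2246 b2247 (Nat.zero_le _) (Nat.le_of_ble_eq_true rfl) rfl

theorem c2248 : Block F al 0 575744 534618 :=
  block_comb c2247 b2248 (Nat.zero_le _) (Nat.le_of_ble_eq_true rfl) rfl

theorem c2249 : Block F al 0 576000 534870 :=
  block_comb c2248 b2249 (Nat.zero_le _) (Nat.le_of_ble_eq_true rfl) rfl

theorem c2250 : Block F al 0 576256 535118 :=
  block_comb c2249 b2250 (Nat.zero_le _) (Nat.le_of_ble_eq_true rfl) rfl

theorem c2251 : Block F al 0 576512 535372 :=
  block_comb c2250 b2251 (Nat.zero_le _) (Nat.le_of_ble_eq_true rfl) rfl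

theorem c2252 : Block F al 0 576768 535615 :=
  block_comb c2251 b2252 (Nat.zero_le _) (Nat.le_of_ble_eq_true rfl) rfl

theorem c2253 : Block F al 0 577024 535855 :=
  block_comb c2252 b2253 (Nat.zero_le _) (Nat.le_of_ble_eq_true rfl) rfl

theorem c2254 : Block F al 0 577280 536100 :=
  block_comb c2253 b2254 (Nat.zero_le _) (Nat.le_of_ble_eq_true rfl) rfl

theorem c2255 : Block F al 0 577536 536349 :=
  block_comb c2254 b2255 (Nat.zero_le _) (Nat.le_of_ble_eq_true rfl) rfl

theorem c2256 : Block F al 0 577792 536599 :=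
  block_comb c2255 b2256 (Nat.zero_le _) (Nat.le_of_ble_eq_true rfl) rfl

theorem c2257 : Block F al 0 578048 536835 :=
  block_comb c2256 b2257 (Nat.zero_le _) (Nat.le_of_ble_eq_true rfl) rfl

theorem c2258 : Block F al 0 578304 537078 :=
  block_comb c2257 b2258 (Nat.zero_le _) (Nat.le_of_ble_eq_true rfl) rfl

theorem c2259 : Block F al 0 578560 537315 :=
  block_comb c2258 b2259 (Nat.zero_le _) (Nat.le_of_ble_eq_true rfl) rfl

theorem c2260 : Block F al 0 578816 537557 :=
  block_comb c2259 b2260 (Nat.zero_le _) (Nat.le_of_ble_eq_true rfl) rfl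

theorem c2261 : Block F al 0 579072 537799 :=
  block_comb c2260 b2261 (Nat.zero_le _) (Nat.le_of_ble_eq_true rfl) rfl

theorem c2262 : Block F al 0 579328 538037 :=
  block_comb c2261 b2262 (Nat.zero_le _) (Nat.le_of_ble_eq_true rfl) rfl

theorem c2263 : Block F al 0 579584 538274 :=
  block_comb c2262 b2263 (Nat.zero_le _) (Nat.le_of_ble_eq_true rfl) rfl

theorem c2264 : Block F al 0 579840 538518 :=
  block_comb c2263 b2264 (Nat.zero_le _) (Nat.le_of_ble_eq_true rfl) rfl

theorem c2265 : Block F al 0 580096 538765 :=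
  block_comb c2264 b2265 (Nat.zero_le _) (Nat.le_of_ble_eq_true rfl) rfl

theorem c2266 : Block F al 0 580352 539007 :=
  block_comb c2265 b2266 (Nat.zero_le _) (Nat.le_of_ble_eq_true rfl) rfl

theorem c2267 : Block F al 0 580608 539247 :=
  block_comb c2266 b2267 (Nat.zero_le _) (Nat.le_of_ble_eq_true rfl) rfl

theorem c2268 : Block F al 0 580864 539489 :=
  block_comb c2267 b2268 (Nat.zero_le _) (Nat.le_of_ble_eq_true rfl) rfl

theorem c2269 : Block F al 0 581120 539720 :=
  block_comb c2268 b2269 (Nat.zero_le _) (Nat.le_of_ble_eq_true rfl) rfl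

theorem c2270 : Block F al 0 581376 539969 :=
  block_comb c2269 b2270 (Nat.zero_le _) (Nat.le_of_ble_eq_true rfl) rfl

theorem c2271 : Block F al 0 581632 540209 :=
  block_comb c2270 b2271 (Nat.zero_le _) (Nat.le_of_ble_eq_true rfl) rfl

theorem c2272 : Block F al 0 581888 540453 :=
  block_comb c2271 b2272 (Nat.zero_le _) (Nat.le_of_ble_eq_true rfl) rfl

theorem c2273 : Block F al 0 582144 540692 :=
  block_comb c2272 b2273 (Nat.zero_le _) (Nat.le_of_ble_eq_true rfl) rfl

theorem c2274 : Block F al 0 582400 540937 :=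
  block_comb c2273 b2274 (Nat.zero_le _) (Nat.le_of_ble_eq_true rfl) rfl

theorem c2275 : Block F al 0 582656 541184 :=
  block_comb c2274 b2275 (Nat.zero_le _) (Nat.le_of_ble_eq_true rfl) rfl

theorem c2276 : Block F al 0 582912 541420 :=
  block_comb c2275 b2276 (Nat.zero_le _) (Nat.le_of_ble_eq_true rfl) rfl

theorem c2277 : Block F al 0 583168 541657 :=
  block_comb c2276 b2277 (Nat.zero_le _) (Nat.le_of_ble_eq_true rfl) rfl

theorem c2278 : Block F al 0 583424 541892 :=
  block_comb c2277 b2278 (Nat.zero_le _) (Nat.le_of_ble_eq_true rfl) rfl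

theorem c2279 : Block F al 0 583680 542132 :=
  block_comb c2278 b2279 (Nat.zero_le _) (Nat.le_of_ble_eq_true rfl) rfl

theorem c2280 : Block F al 0 583936 542373 :=
  block_comb c2279 b2280 (Nat.zero_le _) (Nat.le_of_ble_eq_true rfl) rfl

theorem c2281 : Block F al 0 584192 542614 :=
  block_comb c2280 b2281 (Nat.zero_le _) (Nat.le_of_ble_eq_true rfl) rfl

theorem c2282 : Block F al 0 584448 542852 :=
  block_comb c2281 b2282 (Nat.zero_le _) (Nat.le_of_ble_eq_true rfl) rfl

theorem c2283 : Block F al 0 584704 543098 :=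
  block_comb c2282 b2283 (Nat.zero_le _) (Nat.le_of_ble_eq_true rfl) rfl

theorem c2284 : Block F al 0 584960 543326 :=
  block_comb c2283 b2284 (Nat.zero_le _) (Nat.le_of_ble_eq_true rfl) rfl

theorem c2285 : Block F al 0 585216 543550 :=
  block_comb c2284 b2285 (Nat.zero_le _) (Nat.le_of_ble_eq_true rfl) rfl

theorem c2286 : Block F al 0 585472 543796 :=
  block_comb c2285 b2286 (Nat.zero_le _) (Nat.le_of_ble_eq_true rfl) rfl

theorem c2287 : Block F al 0 585728 544029 :=
  block_comb c2286 b2287 (Nat.zero_le _) (Nat.le_of_ble_eq_true rfl) rfl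

theorem c2288 : Block F al 0 585984 544277 :=
  block_comb c2287 b2288 (Nat.zero_le _) (Nat.le_of_ble_eq_true rfl) rfl

theorem c2289 : Block F al 0 586240 544520 :=
  block_comb c2288 b2289 (Nat.zero_le _) (Nat.le_of_ble_eq_true rfl) rfl

theorem c2290 : Block F al 0 586496 544758 :=
  block_comb c2289 b2290 (Nat.zero_le _) (Nat.le_of_ble_eq_true rfl) rfl

theorem c2291 : Block F al 0 586752 545001 :=
  block_comb c2290 b2291 (Nat.zero_le _) (Nat.le_of_ble_eq_true rfl) rfl

theorem c2292 : Block F al 0 587008 545232 :=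
  block_comb c2291 b2292 (Nat.zero_le _) (Nat.le_of_ble_eq_true rfl) rfl

theorem c2293 : Block F al 0 587264 545452 :=
  block_comb c2292 b2293 (Nat.zero_le _) (Nat.le_of_ble_eq_true rfl) rfl

theorem c2294 : Block F al 0 587520 545688 :=
  block_comb c2293 b2294 (Nat.zero_le _) (Nat.le_of_ble_eq_true rfl) rfl

theorem c2295 : Block F al 0 587776 545927 :=
  block_comb c2294 b2295 (Nat.zero_le _) (Nat.le_of_ble_eq_true rfl) rfl

theorem c2296 : Block F al 0 588032 546163 :=
  block_comb c2295 b2296 (Nat.zero_le _) (Nat.le_of_ble_eq_true rfl) rfl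

theorem c2297 : Block F al 0 588288 546405 :=
  block_comb c2296 b2297 (Nat.zero_le _) (Nat.le_of_ble_eq_true rfl) rfl

theorem c2298 : Block F al 0 588544 546651 :=
  block_comb c2297 b2298 (Nat.zero_le _) (Nat.le_of_ble_eq_true rfl) rfl

theorem c2299 : Block F al 0 588800 546883 :=
  block_comb c2298 b2299 (Nat.zero_le _) (Nat.le_of_ble_eq_true rfl) rfl

theorem c2300 : Block F al 0 589056 547121 :=
  block_comb c2299 b2300 (Nat.zero_le _) (Nat.le_of_ble_eq_true rfl) rfl

theorem c2301 : Block F al 0 589312 547359 :=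
  block_comb c2300 b2301 (Nat.zero_le _) (Nat.le_of_ble_eq_true rfl) rfl

theorem c2302 : Block F al 0 589568 547602 :=
  block_comb c2301 b2302 (Nat.zero_le _) (Nat.le_of_ble_eq_true rfl) rfl

theorem c2303 : Block F al 0 589824 547841 :=
  block_comb c2302 b2303 (Nat.zero_le _) (Nat.le_of_ble_eq_true rfl) rfl

theorem c2304 : Block F al 0 590080 548084 :=
  block_comb c2303 b2304 (Nat.zero_le _) (Nat.le_of_ble_eq_true rfl) rfl

theorem c2305 : Block F al 0 590336 548319 :=
  block_comb c2304 b2305 (Nat.zero_le _) (Nat.le_of_ble_eq_true rfl) rfl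

theorem c2306 : Block F al 0 590592 548554 :=
  block_comb c2305 b2306 (Nat.zero_le _) (Nat.le_of_ble_eq_true rfl) rfl

theorem c2307 : Block F al 0 590848 548789 :=
  block_comb c2306 b2307 (Nat.zero_le _) (Nat.le_of_ble_eq_true rfl) rfl

theorem c2308 : Block F al 0 591104 549043 :=
  block_comb c2307 b2308 (Nat.zero_le _) (Nat.le_of_ble_eq_true rfl) rfl

theorem c2309 : Block F al 0 591360 549290 :=
  block_comb c2308 b2309 (Nat.zero_le _) (Nat.le_of_ble_eq_true rfl) rfl

theorem c2310 : Block F al 0 591616 549541 :=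
  block_comb c2309 b2310 (Nat.zero_le _) (Nat.le_of_ble_eq_true rfl) rfl

theorem c2311 : Block F al 0 591872 549792 :=
  block_comb c2310 b2311 (Nat.zero_le _) (Nat.le_of_ble_eq_true rfl) rfl

theorem c2312 : Block F al 0 592128 550034 :=
  block_comb c2311 b2312 (Nat.zero_le _) (Nat.le_of_ble_eq_true rfl) rfl

theorem c2313 : Block F al 0 592384 550285 :=
  block_comb c2312 b2313 (Nat.zero_le _) (Nat.le_of_ble_eq_true rfl) rfl

theorem c2314 : Block F al 0 592640 550526 :=
  block_comb c2313 b2314 (Nat.zero_le _) (Nat.le_of_ble_eq_true rfl) rfl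

theorem c2315 : Block F al 0 592896 550780 :=
  block_comb c2314 b2315 (Nat.zero_le _) (Nat.le_of_ble_eq_true rfl) rfl

theorem c2316 : Block F al 0 593152 551017 :=
  block_comb c2315 b2316 (Nat.zero_le _) (Nat.le_of_ble_eq_true rfl) rfl

theorem c2317 : Block F al 0 593408 551258 :=
  block_comb c2316 b2317 (Nat.zero_le _) (Nat.le_of_ble_eq_true rfl) rfl

theorem c2318 : Block F al 0 593664 551498 :=
  block_comb c2317 b2318 (Nat.zero_le _) (Nat.le_of_ble_eq_true rfl) rfl

theorem c2319 : Block F al 0 593920 551719 :=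
  block_comb c2318 b2319 (Nat.zero_le _) (Nat.le_of_ble_eq_true rfl) rfl

theorem c2320 : Block F al 0 594176 551963 :=
  block_comb c2319 b2320 (Nat.zero_le _) (Nat.le_of_ble_eq_true rfl) rfl

theorem c2321 : Block F al 0 594432 552215 :=
  block_comb c2320 b2321 (Nat.zero_le _) (Nat.le_of_ble_eq_true rfl) rfl

theorem c2322 : Block F al 0 594688 552453 :=
  block_comb c2321 b2322 (Nat.zero_le _) (Nat.le_of_ble_eq_true rfl) rfl

theorem c2323 : Block F al 0 594944 552673 :=
  block_comb c2322 b2323 (Nat.zero_le _) (Nat.le_of_ble_eq_true rfl) rfl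

theorem c2324 : Block F al 0 595200 552909 :=
  block_comb c2323 b2324 (Nat.zero_le _) (Nat.le_of_ble_eq_true rfl) rfl

theorem c2325 : Block F al 0 595456 553150 :=
  block_comb c2324 b2325 (Nat.zero_le _) (Nat.le_of_ble_eq_true rfl) rfl

theorem c2326 : Block F al 0 595712 553381 :=
  block_comb c2325 b2326 (Nat.zero_le _) (Nat.le_of_ble_eq_true rfl) rfl

theorem c2327 : Block F al 0 595968 553630 :=
  block_comb c2326 b2327 (Nat.zero_le _) (Nat.le_of_ble_eq_true rfl) rfl

theorem c2328 : Block F al 0 596224 553873 :=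
  block_comb c2327 b2328 (Nat.zero_le _) (Nat.le_of_ble_eq_true rfl) rfl

theorem c2329 : Block F al 0 596480 554101 :=
  block_comb c2328 b2329 (Nat.zero_le _) (Nat.le_of_ble_eq_true rfl) rfl

theorem c2330 : Block F al 0 596736 554349 :=
  block_comb c2329 b2330 (Nat.zero_le _) (Nat.le_of_ble_eq_true rfl) rfl

theorem c2331 : Block F al 0 596992 554596 :=
  block_comb c2330 b2331 (Nat.zero_le _) (Nat.le_of_ble_eq_true rfl) rfl

theorem c2332 : Block F al 0 597248 554835 :=
  block_comb c2331 b2332 (Nat.zero_le _) (Nat.le_of_ble_eq_true rfl) rfl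

theorem c2333 : Block F al 0 597504 555086 :=
  block_comb c2332 b2333 (Nat.zero_le _) (Nat.le_of_ble_eq_true rfl) rfl

theorem c2334 : Block F al 0 597760 555335 :=
  block_comb c2333 b2334 (Nat.zero_le _) (Nat.le_of_ble_eq_true rfl) rfl

theorem c2335 : Block F al 0 598016 555578 :=
  block_comb c2334 b2335 (Nat.zero_le _) (Nat.le_of_ble_eq_true rfl) rfl

theorem c2336 : Block F al 0 598272 555830 :=
  block_comb c2335 b2336 (Nat.zero_le _) (Nat.le_of_ble_eq_true rfl) rfl

theorem c2337 : Block F al 0 598528 556071 :=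
  block_comb c2336 b2337 (Nat.zero_le _) (Nat.le_of_ble_eq_true rfl) rfl

theorem c2338 : Block F al 0 598784 556323 :=
  block_comb c2337 b2338 (Nat.zero_le _) (Nat.le_of_ble_eq_true rfl) rfl

theorem c2339 : Block F al 0 599040 556570 :=
  block_comb c2338 b2339 (Nat.zero_le _) (Nat.le_of_ble_eq_true rfl) rfl

theorem c2340 : Block F al 0 599296 556800 :=
  block_comb c2339 b2340 (Nat.zero_le _) (Nat.le_of_ble_eq_true rfl) rfl

theorem c2341 : Block F al 0 599552 557034 :=
  block_comb c2340 b2341 (Nat.zero_le _) (Nat.le_of_ble_eq_true rfl) rfl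

theorem c2342 : Block F al 0 599808 557279 :=
  block_comb c2341 b2342 (Nat.zero_le _) (Nat.le_of_ble_eq_true rfl) rfl

theorem c2343 : Block F al 0 600064 557515 :=
  block_comb c2342 b2343 (Nat.zero_le _) (Nat.le_of_ble_eq_true rfl) rfl

theorem c2344 : Block F al 0 600320 557761 :=
  block_comb c2343 b2344 (Nat.zero_le _) (Nat.le_of_ble_eq_true rfl) rfl

theorem c2345 : Block F al 0 600576 558010 :=
  block_comb c2344 b2345 (Nat.zero_le _) (Nat.le_of_ble_eq_true rfl) rfl

theorem c2346 : Block F al 0 600832 558262 :=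
  block_comb c2345 b2346 (Nat.zero_le _) (Nat.le_of_ble_eq_true rfl) rfl

theorem c2347 : Block F al 0 601088 558507 :=
  block_comb c2346 b2347 (Nat.zero_le _) (Nat.le_of_ble_eq_true rfl) rfl

theorem c2348 : Block F al 0 601344 558749 :=
  block_comb c2347 b2348 (Nat.zero_le _) (Nat.le_of_ble_eq_true rfl) rfl

theorem c2349 : Block F al 0 601600 558988 :=
  block_comb c2348 b2349 (Nat.zero_le _) (Nat.le_of_ble_eq_true rfl) rfl

theorem c2350 : Block F al 0 601856 559226 :=
  block_comb c2349 b2350 (Nat.zero_le _) (Nat.le_of_ble_eq_true rfl) rfl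

theorem c2351 : Block F al 0 602112 559462 :=
  block_comb c2350 b2351 (Nat.zero_le _) (Nat.le_of_ble_eq_true rfl) rfl

theorem c2352 : Block F al 0 602368 559705 :=
  block_comb c2351 b2352 (Nat.zero_le _) (Nat.le_of_ble_eq_true rfl) rfl

theorem c2353 : Block F al 0 602624 559934 :=
  block_comb c2352 b2353 (Nat.zero_le _) (Nat.le_of_ble_eq_true rfl) rfl

theorem c2354 : Block F al 0 602880 560171 :=
  block_comb c2353 b2354 (Nat.zero_le _) (Nat.le_of_ble_eq_true rfl) rfl

theorem c2355 : Block F al 0 603136 560416 :=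
  block_comb c2354 b2355 (Nat.zero_le _) (Nat.le_of_ble_eq_true rfl) rfl

theorem c2356 : Block F al 0 603392 560656 :=
  block_comb c2355 b2356 (Nat.zero_le _) (Nat.le_of_ble_eq_true rfl) rfl

theorem c2357 : Block F al 0 603648 560876 :=
  block_comb c2356 b2357 (Nat.zero_le _) (Nat.le_of_ble_eq_true rfl) rfl

theorem c2358 : Block F al 0 603904 561110 :=
  block_comb c2357 b2358 (Nat.zero_le _) (Nat.le_of_ble_eq_true rfl) rfl

theorem c2359 : Block F al 0 604160 561344 :=
  block_comb c2358 b2359 (Nat.zero_le _) (Nat.le_of_ble_eq_true rfl) rfl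

theorem c2360 : Block F al 0 604416 561597 :=
  block_comb c2359 b2360 (Nat.zero_le _) (Nat.le_of_ble_eq_true rfl) rfl

theorem c2361 : Block F al 0 604672 561834 :=
  block_comb c2360 b2361 (Nat.zero_le _) (Nat.le_of_ble_eq_true rfl) rfl

theorem c2362 : Block F al 0 604928 562062 :=
  block_comb c2361 b2362 (Nat.zero_le _) (Nat.le_of_ble_eq_true rfl) rfl

theorem c2363 : Block F al 0 605184 562301 :=
  block_comb c2362 b2363 (Nat.zero_le _) (Nat.le_of_ble_eq_true rfl) rfl

theorem c2364 : Block F al 0 605440 562528 :=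
  block_comb c2363 b2364 (Nat.zero_le _) (Nat.le_of_ble_eq_true rfl) rfl

theorem c2365 : Block F al 0 605696 562764 :=
  block_comb c2364 b2365 (Nat.zero_le _) (Nat.le_of_ble_eq_true rfl) rfl

theorem c2366 : Block F al 0 605952 562986 :=
  block_comb c2365 b2366 (Nat.zero_le _) (Nat.le_of_ble_eq_true rfl) rfl

theorem c2367 : Block F al 0 606208 563203 :=
  block_comb c2366 b2367 (Nat.zero_le _) (Nat.le_of_ble_eq_true rfl) rfl

theorem c2368 : Block F al 0 606464 563421 :=
  block_comb c2367 b2368 (Nat.zero_le _) (Nat.le_of_ble_eq_true rfl) rfl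

theorem c2369 : Block F al 0 606720 563652 :=
  block_comb c2368 b2369 (Nat.zero_le _) (Nat.le_of_ble_eq_true rfl) rfl

theorem c2370 : Block F al 0 606976 563888 :=
  block_comb c2369 b2370 (Nat.zero_le _) (Nat.le_of_ble_eq_true rfl) rfl

theorem c2371 : Block F al 0 607232 564122 :=
  block_comb c2370 b2371 (Nat.zero_le _) (Nat.le_of_ble_eq_true rfl) rfl

theorem c2372 : Block F al 0 607488 564345 :=
  block_comb c2371 b2372 (Nat.zero_le _) (Nat.le_of_ble_eq_true rfl) rfl

theorem c2373 : Block F al 0 607744 564586 :=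
  block_comb c2372 b2373 (Nat.zero_le _) (Nat.le_of_ble_eq_true rfl) rfl

theorem c2374 : Block F al 0 608000 564812 :=
  block_comb c2373 b2374 (Nat.zero_le _) (Nat.le_of_ble_eq_true rfl) rfl

theorem c2375 : Block F al 0 608256 565030 :=
  block_comb c2374 b2375 (Nat.zero_le _) (Nat.le_of_ble_eq_true rfl) rfl

theorem c2376 : Block F al 0 608512 565247 :=
  block_comb c2375 b2376 (Nat.zero_le _) (Nat.le_of_ble_eq_true rfl) rfl

theorem c2377 : Block F al 0 608768 565453 :=
  block_comb c2376 b2377 (Nat.zero_le _) (Nat.le_of_ble_eq_true rfl) rfl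

theorem c2378 : Block F al 0 609024 565686 :=
  block_comb c2377 b2378 (Nat.zero_le _) (Nat.le_of_ble_eq_true rfl) rfl

theorem c2379 : Block F al 0 609280 565906 :=
  block_comb c2378 b2379 (Nat.zero_le _) (Nat.le_of_ble_eq_true rfl) rfl

theorem c2380 : Block F al 0 609536 566137 :=
  block_comb c2379 b2380 (Nat.zero_le _) (Nat.le_of_ble_eq_true rfl) rfl

theorem c2381 : Block F al 0 609792 566381 :=
  block_comb c2380 b2381 (Nat.zero_le _) (Nat.le_of_ble_eq_true rfl) rfl

theorem c2382 : Block F al 0 610048 566624 :=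
  block_comb c2381 b2382 (Nat.zero_le _) (Nat.le_of_ble_eq_true rfl) rfl

theorem c2383 : Block F al 0 610304 566863 :=
  block_comb c2382 b2383 (Nat.zero_le _) (Nat.le_of_ble_eq_true rfl) rfl

theorem c2384 : Block F al 0 610560 567112 :=
  block_comb c2383 b2384 (Nat.zero_le _) (Nat.le_of_ble_eq_true rfl) rfl

theorem c2385 : Block F al 0 610816 567351 :=
  block_comb c2384 b2385 (Nat.zero_le _) (Nat.le_of_ble_eq_true rfl) rfl

theorem c2386 : Block F al 0 611072 567574 :=
  block_comb c2385 b2386 (Nat.zero_le _) (Nat.le_of_ble_eq_true rfl) rfl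

theorem c2387 : Block F al 0 611328 567796 :=
  block_comb c2386 b2387 (Nat.zero_le _) (Nat.le_of_ble_eq_true rfl) rfl

theorem c2388 : Block F al 0 611584 568028 :=
  block_comb c2387 b2388 (Nat.zero_le _) (Nat.le_of_ble_eq_true rfl) rfl

theorem c2389 : Block F al 0 611840 568259 :=
  block_comb c2388 b2389 (Nat.zero_le _) (Nat.le_of_ble_eq_true rfl) rfl

theorem c2390 : Block F al 0 612096 568494 :=
  block_comb c2389 b2390 (Nat.zero_le _) (Nat.le_of_ble_eq_true rfl) rfl

theorem c2391 : Block F al 0 612352 568734 :=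
  block_comb c2390 b2391 (Nat.zero_le _) (Nat.le_of_ble_eq_true rfl) rfl

theorem c2392 : Block F al 0 612608 568969 :=
  block_comb c2391 b2392 (Nat.zero_le _) (Nat.le_of_ble_eq_true rfl) rfl

theorem c2393 : Block F al 0 612864 569219 :=
  block_comb c2392 b2393 (Nat.zero_le _) (Nat.le_of_ble_eq_true rfl) rfl

theorem c2394 : Block F al 0 613120 569455 :=
  block_comb c2393 b2394 (Nat.zero_le _) (Nat.le_of_ble_eq_true rfl) rfl

theorem c2395 : Block F al 0 613376 569699 :=
  block_comb c2394 b2395 (Nat.zero_le _) (Nat.le_of_ble_eq_true rfl) rfl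

theorem c2396 : Block F al 0 613632 569936 :=
  block_comb c2395 b2396 (Nat.zero_le _) (Nat.le_of_ble_eq_true rfl) rfl

theorem c2397 : Block F al 0 613888 570170 :=
  block_comb c2396 b2397 (Nat.zero_le _) (Nat.le_of_ble_eq_true rfl) rfl

theorem c2398 : Block F al 0 614144 570405 :=
  block_comb c2397 b2398 (Nat.zero_le _) (Nat.le_of_ble_eq_true rfl) rfl

theorem c2399 : Block F al 0 614400 570649 :=
  block_comb c2398 b2399 (Nat.zero_le _) (Nat.le_of_ble_eq_true rfl) rfl

theorem c2400 : Block F al 0 614656 570899 :=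
  block_comb c2399 b2400 (Nat.zero_le _) (Nat.le_of_ble_eq_true rfl) rfl

theorem c2401 : Block F al 0 614912 571153 :=
  block_comb c2400 b2401 (Nat.zero_le _) (Nat.le_of_ble_eq_true rfl) rfl

theorem c2402 : Block F al 0 615168 571394 :=
  block_comb c2401 b2402 (Nat.zero_le _) (Nat.le_of_ble_eq_true rfl) rfl

theorem c2403 : Block F al 0 615424 571641 :=
  block_comb c2402 b2403 (Nat.zero_le _) (Nat.le_of_ble_eq_true rfl) rfl

theorem c2404 : Block F al 0 615680 571886 :=
  block_comb c2403 b2404 (Nat.zero_le _) (Nat.le_of_ble_eq_true rfl) rfl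

theorem c2405 : Block F al 0 615936 572127 :=
  block_comb c2404 b2405 (Nat.zero_le _) (Nat.le_of_ble_eq_true rfl) rfl

theorem c2406 : Block F al 0 616192 572373 :=
  block_comb c2405 b2406 (Nat.zero_le _) (Nat.le_of_ble_eq_true rfl) rfl

theorem c2407 : Block F al 0 616448 572624 :=
  block_comb c2406 b2407 (Nat.zero_le _) (Nat.le_of_ble_eq_true rfl) rfl

theorem c2408 : Block F al 0 616704 572876 :=
  block_comb c2407 b2408 (Nat.zero_le _) (Nat.le_of_ble_eq_true rfl) rfl

theorem c2409 : Block F al 0 616960 573122 :=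
  block_comb c2408 b2409 (Nat.zero_le _) (Nat.le_of_ble_eq_true rfl) rfl

theorem c2410 : Block F al 0 617216 573374 :=
  block_comb c2409 b2410 (Nat.zero_le _) (Nat.le_of_ble_eq_true rfl) rfl

theorem c2411 : Block F al 0 617472 573620 :=
  block_comb c2410 b2411 (Nat.zero_le _) (Nat.le_of_ble_eq_true rfl) rfl

theorem c2412 : Block F al 0 617728 573832 :=
  block_comb c2411 b2412 (Nat.zero_le _) (Nat.le_of_ble_eq_true rfl) rfl

theorem c2413 : Block F al 0 617984 574083 :=
  block_comb c2412 b2413 (Nat.zero_le _) (Nat.le_of_ble_eq_true rfl) rfl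

theorem c2414 : Block F al 0 618240 574320 :=
  block_comb c2413 b2414 (Nat.zero_le _) (Nat.le_of_ble_eq_true rfl) rfl

theorem c2415 : Block F al 0 618496 574560 :=
  block_comb c2414 b2415 (Nat.zero_le _) (Nat.le_of_ble_eq_true rfl) rfl

theorem c2416 : Block F al 0 618752 574803 :=
  block_comb c2415 b2416 (Nat.zero_le _) (Nat.le_of_ble_eq_true rfl) rfl

theorem c2417 : Block F al 0 619008 575047 :=
  block_comb c2416 b2417 (Nat.zero_le _) (Nat.le_of_ble_eq_true rfl) rfl

theorem c2418 : Block F al 0 619264 575296 :=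
  block_comb c2417 b2418 (Nat.zero_le _) (Nat.le_of_ble_eq_true rfl) rfl

theorem c2419 : Block F al 0 619520 575535 :=
  block_comb c2418 b2419 (Nat.zero_le _) (Nat.le_of_ble_eq_true rfl) rfl

theorem c2420 : Block F al 0 619776 575766 :=
  block_comb c2419 b2420 (Nat.zero_le _) (Nat.le_of_ble_eq_true rfl) rfl

theorem c2421 : Block F al 0 620032 576009 :=
  block_comb c2420 b2421 (Nat.zero_le _) (Nat.le_of_ble_eq_true rfl) rfl

theorem c2422 : Block F al 0 620288 576254 :=
  block_comb c2421 b2422 (Nat.zero_le _) (Nat.le_of_ble_eq_true rfl) rfl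

theorem c2423 : Block F al 0 620544 576484 :=
  block_comb c2422 b2423 (Nat.zero_le _) (Nat.le_of_ble_eq_true rfl) rfl

theorem c2424 : Block F al 0 620800 576723 :=
  block_comb c2423 b2424 (Nat.zero_le _) (Nat.le_of_ble_eq_true rfl) rfl

theorem c2425 : Block F al 0 621056 576960 :=
  block_comb c2424 b2425 (Nat.zero_le _) (Nat.le_of_ble_eq_true rfl) rfl

theorem c2426 : Block F al 0 621312 577204 :=
  block_comb c2425 b2426 (Nat.zero_le _) (Nat.le_of_ble_eq_true rfl) rfl

theorem c2427 : Block F al 0 621568 577441 :=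
  block_comb c2426 b2427 (Nat.zero_le _) (Nat.le_of_ble_eq_true rfl) rfl

theorem c2428 : Block F al 0 621824 577668 :=
  block_comb c2427 b2428 (Nat.zero_le _) (Nat.le_of_ble_eq_true rfl) rfl

theorem c2429 : Block F al 0 622080 577906 :=
  block_comb c2428 b2429 (Nat.zero_le _) (Nat.le_of_ble_eq_true rfl) rfl

theorem c2430 : Block F al 0 622336 578153 :=
  block_comb c2429 b2430 (Nat.zero_le _) (Nat.le_of_ble_eq_true rfl) rfl

theorem c2431 : Block F al 0 622592 578398 :=
  block_comb c2430 b2431 (Nat.zero_le _) (Nat.le_of_ble_eq_true rfl) rfl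

theorem c2432 : Block F al 0 622848 578648 :=
  block_comb c2431 b2432 (Nat.zero_le _) (Nat.le_of_ble_eq_true rfl) rfl

theorem c2433 : Block F al 0 623104 578898 :=
  block_comb c2432 b2433 (Nat.zero_le _) (Nat.le_of_ble_eq_true rfl) rfl

theorem c2434 : Block F al 0 623360 579135 :=
  block_comb c2433 b2434 (Nat.zero_le _) (Nat.le_of_ble_eq_true rfl) rfl

theorem c2435 : Block F al 0 623616 579385 :=
  block_comb c2434 b2435 (Nat.zero_le _) (Nat.le_of_ble_eq_true rfl) rfl

theorem c2436 : Block F al 0 623872 579627 :=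
  block_comb c2435 b2436 (Nat.zero_le _) (Nat.le_of_ble_eq_true rfl) rfl

theorem c2437 : Block F al 0 624128 579868 :=
  block_comb c2436 b2437 (Nat.zero_le _) (Nat.le_of_ble_eq_true rfl) rfl

theorem c2438 : Block F al 0 624384 580109 :=
  block_comb c2437 b2438 (Nat.zero_le _) (Nat.le_of_ble_eq_true rfl) rfl

theorem c2439 : Block F al 0 624640 580345 :=
  block_comb c2438 b2439 (Nat.zero_le _) (Nat.le_of_ble_eq_true rfl) rfl

theorem c2440 : Block F al 0 624896 580575 :=
  block_comb c2439 b2440 (Nat.zero_le _) (Nat.le_of_ble_eq_true rfl) rfl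

theorem c2441 : Block F al 0 625152 580821 :=
  block_comb c2440 b2441 (Nat.zero_le _) (Nat.le_of_ble_eq_true rfl) rfl

theorem c2442 : Block F al 0 625408 581060 :=
  block_comb c2441 b2442 (Nat.zero_le _) (Nat.le_of_ble_eq_true rfl) rfl

theorem c2443 : Block F al 0 625664 581312 :=
  block_comb c2442 b2443 (Nat.zero_le _) (Nat.le_of_ble_eq_true rfl) rfl

theorem c2444 : Block F al 0 625920 581560 :=
  block_comb c2443 b2444 (Nat.zero_le _) (Nat.le_of_ble_eq_true rfl) rfl

theorem c2445 : Block F al 0 626176 581809 :=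
  block_comb c2444 b2445 (Nat.zero_le _) (Nat.le_of_ble_eq_true rfl) rfl

theorem c2446 : Block F al 0 626432 582057 :=
  block_comb c2445 b2446 (Nat.zero_le _) (Nat.le_of_ble_eq_true rfl) rfl

theorem c2447 : Block F al 0 626688 582298 :=
  block_comb c2446 b2447 (Nat.zero_le _) (Nat.le_of_ble_eq_true rfl) rfl

theorem c2448 : Block F al 0 626944 582535 :=
  block_comb c2447 b2448 (Nat.zero_le _) (Nat.le_of_ble_eq_true rfl) rfl

theorem c2449 : Block F al 0 627200 582782 :=
  block_comb c2448 b2449 (Nat.zero_le _) (Nat.le_of_ble_eq_true rfl) rfl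

theorem c2450 : Block F al 0 627456 583011 :=
  block_comb c2449 b2450 (Nat.zero_le _) (Nat.le_of_ble_eq_true rfl) rfl

theorem c2451 : Block F al 0 627712 583257 :=
  block_comb c2450 b2451 (Nat.zero_le _) (Nat.le_of_ble_eq_true rfl) rfl

theorem c2452 : Block F al 0 627968 583503 :=
  block_comb c2451 b2452 (Nat.zero_le _) (Nat.le_of_ble_eq_true rfl) rfl

theorem c2453 : Block F al 0 628224 583746 :=
  block_comb c2452 b2453 (Nat.zero_le _) (Nat.le_of_ble_eq_true rfl) rfl

theorem c2454 : Block F al 0 628480 583987 :=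
  block_comb c2453 b2454 (Nat.zero_le _) (Nat.le_of_ble_eq_true rfl) rfl

theorem c2455 : Block F al 0 628736 584229 :=
  block_comb c2454 b2455 (Nat.zero_le _) (Nat.le_of_ble_eq_true rfl) rfl

theorem c2456 : Block F al 0 628992 584455 :=
  block_comb c2455 b2456 (Nat.zero_le _) (Nat.le_of_ble_eq_true rfl) rfl

theorem c2457 : Block F al 0 629248 584686 :=
  block_comb c2456 b2457 (Nat.zero_le _) (Nat.le_of_ble_eq_true rfl) rfl

theorem c2458 : Block F al 0 629504 584925 :=
  block_comb c2457 b2458 (Nat.zero_le _) (Nat.le_of_ble_eq_true rfl) rfl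

theorem c2459 : Block F al 0 629760 585169 :=
  block_comb c2458 b2459 (Nat.zero_le _) (Nat.le_of_ble_eq_true rfl) rfl

theorem c2460 : Block F al 0 630016 585407 :=
  block_comb c2459 b2460 (Nat.zero_le _) (Nat.le_of_ble_eq_true rfl) rfl

theorem c2461 : Block F al 0 630272 585646 :=
  block_comb c2460 b2461 (Nat.zero_le _) (Nat.le_of_ble_eq_true rfl) rfl

theorem c2462 : Block F al 0 630528 585883 :=
  block_comb c2461 b2462 (Nat.zero_le _) (Nat.le_of_ble_eq_true rfl) rfl

theorem c2463 : Block F al 0 630784 586124 :=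
  block_comb c2462 b2463 (Nat.zero_le _) (Nat.le_of_ble_eq_true rfl) rfl

theorem c2464 : Block F al 0 631040 586367 :=
  block_comb c2463 b2464 (Nat.zero_le _) (Nat.le_of_ble_eq_true rfl) rfl

theorem c2465 : Block F al 0 631296 586612 :=
  block_comb c2464 b2465 (Nat.zero_le _) (Nat.le_of_ble_eq_true rfl) rfl

theorem c2466 : Block F al 0 631552 586834 :=
  block_comb c2465 b2466 (Nat.zero_le _) (Nat.le_of_ble_eq_true rfl) rfl

theorem c2467 : Block F al 0 631808 587076 :=
  block_comb c2466 b2467 (Nat.zero_le _) (Nat.le_of_ble_eq_true rfl) rfl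

theorem c2468 : Block F al 0 632064 587306 :=
  block_comb c2467 b2468 (Nat.zero_le _) (Nat.le_of_ble_eq_true rfl) rfl

theorem c2469 : Block F al 0 632320 587556 :=
  block_comb c2468 b2469 (Nat.zero_le _) (Nat.le_of_ble_eq_true rfl) rfl

theorem c2470 : Block F al 0 632576 587798 :=
  block_comb c2469 b2470 (Nat.zero_le _) (Nat.le_of_ble_eq_true rfl) rfl

theorem c2471 : Block F al 0 632832 588041 :=
  block_comb c2470 b2471 (Nat.zero_le _) (Nat.le_of_ble_eq_true rfl) rfl

theorem c2472 : Block F al 0 633088 588289 :=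
  block_comb c2471 b2472 (Nat.zero_le _) (Nat.le_of_ble_eq_true rfl) rfl

theorem c2473 : Block F al 0 633344 588538 :=
  block_comb c2472 b2473 (Nat.zero_le _) (Nat.le_of_ble_eq_true rfl) rfl

theorem c2474 : Block F al 0 633600 588792 :=
  block_comb c2473 b2474 (Nat.zero_le _) (Nat.le_of_ble_eq_true rfl) rfl

theorem c2475 : Block F al 0 633856 589038 :=
  block_comb c2474 b2475 (Nat.zero_le _) (Nat.le_of_ble_eq_true rfl) rfl

theorem c2476 : Block F al 0 634112 589283 :=
  block_comb c2475 b2476 (Nat.zero_le _) (Nat.le_of_ble_eq_true rfl) rfl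

theorem c2477 : Block F al 0 634368 589529 :=
  block_comb c2476 b2477 (Nat.zero_le _) (Nat.le_of_ble_eq_true rfl) rfl

theorem c2478 : Block F al 0 634624 589779 :=
  block_comb c2477 b2478 (Nat.zero_le _) (Nat.le_of_ble_eq_true rfl) rfl

theorem c2479 : Block F al 0 634880 590008 :=
  block_comb c2478 b2479 (Nat.zero_le _) (Nat.le_of_ble_eq_true rfl) rfl

theorem c2480 : Block F al 0 635136 590254 :=
  block_comb c2479 b2480 (Nat.zero_le _) (Nat.le_of_ble_eq_true rfl) rfl

theorem c2481 : Block F al 0 635392 590496 :=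
  block_comb c2480 b2481 (Nat.zero_le _) (Nat.le_of_ble_eq_true rfl) rfl

theorem c2482 : Block F al 0 635648 590746 :=
  block_comb c2481 b2482 (Nat.zero_le _) (Nat.le_of_ble_eq_true rfl) rfl

theorem c2483 : Block F al 0 635904 590994 :=
  block_comb c2482 b2483 (Nat.zero_le _) (Nat.le_of_ble_eq_true rfl) rfl

theorem c2484 : Block F al 0 636160 591239 :=
  block_comb c2483 b2484 (Nat.zero_le _) (Nat.le_of_ble_eq_true rfl) rfl

theorem c2485 : Block F al 0 636416 591475 :=
  block_comb c2484 b2485 (Nat.zero_le _) (Nat.le_of_ble_eq_true rfl) rfl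

theorem c2486 : Block F al 0 636672 591712 :=
  block_comb c2485 b2486 (Nat.zero_le _) (Nat.le_of_ble_eq_true rfl) rfl

theorem c2487 : Block F al 0 636928 591948 :=
  block_comb c2486 b2487 (Nat.zero_le _) (Nat.le_of_ble_eq_true rfl) rfl

theorem c2488 : Block F al 0 637184 592185 :=
  block_comb c2487 b2488 (Nat.zero_le _) (Nat.le_of_ble_eq_true rfl) rfl

theorem c2489 : Block F al 0 637440 592426 :=
  block_comb c2488 b2489 (Nat.zero_le _) (Nat.le_of_ble_eq_true rfl) rfl

theorem c2490 : Block F al 0 637696 592662 :=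
  block_comb c2489 b2490 (Nat.zero_le _) (Nat.le_of_ble_eq_true rfl) rfl

theorem c2491 : Block F al 0 637952 592905 :=
  block_comb c2490 b2491 (Nat.zero_le _) (Nat.le_of_ble_eq_true rfl) rfl

theorem c2492 : Block F al 0 638208 593130 :=
  block_comb c2491 b2492 (Nat.zero_le _) (Nat.le_of_ble_eq_true rfl) rfl

theorem c2493 : Block F al 0 638464 593373 :=
  block_comb c2492 b2493 (Nat.zero_le _) (Nat.le_of_ble_eq_true rfl) rfl

theorem c2494 : Block F al 0 638720 593612 :=
  block_comb c2493 b2494 (Nat.zero_le _) (Nat.le_of_ble_eq_true rfl) rfl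

theorem c2495 : Block F al 0 638976 593852 :=
  block_comb c2494 b2495 (Nat.zero_le _) (Nat.le_of_ble_eq_true rfl) rfl

theorem c2496 : Block F al 0 639232 594086 :=
  block_comb c2495 b2496 (Nat.zero_le _) (Nat.le_of_ble_eq_true rfl) rfl

theorem c2497 : Block F al 0 639488 594329 :=
  block_comb c2496 b2497 (Nat.zero_le _) (Nat.le_of_ble_eq_true rfl) rfl

theorem c2498 : Block F al 0 639744 594576 :=
  block_comb c2497 b2498 (Nat.zero_le _) (Nat.le_of_ble_eq_true rfl) rfl

theorem c2499 : Block F al 0 640000 594814 :=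
  block_comb c2498 b2499 (Nat.zero_le _) (Nat.le_of_ble_eq_true rfl) rfl

theorem c2500 : Block F al 0 640256 595060 :=
  block_comb c2499 b2500 (Nat.zero_le _) (Nat.le_of_ble_eq_true rfl) rfl

theorem c2501 : Block F al 0 640512 595305 :=
  block_comb c2500 b2501 (Nat.zero_le _) (Nat.le_of_ble_eq_true rfl) rfl

theorem c2502 : Block F al 0 640768 595544 :=
  block_comb c2501 b2502 (Nat.zero_le _) (Nat.le_of_ble_eq_true rfl) rfl

theorem c2503 : Block F al 0 641024 595777 :=
  block_comb c2502 b2503 (Nat.zero_le _) (Nat.le_of_ble_eq_true rfl) rfl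

theorem c2504 : Block F al 0 641280 596016 :=
  block_comb c2503 b2504 (Nat.zero_le _) (Nat.le_of_ble_eq_true rfl) rfl

theorem c2505 : Block F al 0 641536 596267 :=
  block_comb c2504 b2505 (Nat.zero_le _) (Nat.le_of_ble_eq_true rfl) rfl

theorem c2506 : Block F al 0 641792 596519 :=
  block_comb c2505 b2506 (Nat.zero_le _) (Nat.le_of_ble_eq_true rfl) rfl

theorem c2507 : Block F al 0 642048 596753 :=
  block_comb c2506 b2507 (Nat.zero_le _) (Nat.le_of_ble_eq_true rfl) rfl

theorem c2508 : Block F al 0 642304 596997 :=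
  block_comb c2507 b2508 (Nat.zero_le _) (Nat.le_of_ble_eq_true rfl) rfl

theorem c2509 : Block F al 0 642560 597237 :=
  block_comb c2508 b2509 (Nat.zero_le _) (Nat.le_of_ble_eq_true rfl) rfl

theorem c2510 : Block F al 0 642816 597452 :=
  block_comb c2509 b2510 (Nat.zero_le _) (Nat.le_of_ble_eq_true rfl) rfl

theorem c2511 : Block F al 0 643072 597665 :=
  block_comb c2510 b2511 (Nat.zero_le _) (Nat.le_of_ble_eq_true rfl) rfl

theorem c2512 : Block F al 0 643328 597897 :=
  block_comb c2511 b2512 (Nat.zero_le _) (Nat.le_of_ble_eq_true rfl) rfl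

theorem c2513 : Block F al 0 643584 598135 :=
  block_comb c2512 b2513 (Nat.zero_le _) (Nat.le_of_ble_eq_true rfl) rfl

theorem c2514 : Block F al 0 643840 598365 :=
  block_comb c2513 b2514 (Nat.zero_le _) (Nat.le_of_ble_eq_true rfl) rfl

theorem c2515 : Block F al 0 644096 598610 :=
  block_comb c2514 b2515 (Nat.zero_le _) (Nat.le_of_ble_eq_true rfl) rfl

theorem c2516 : Block F al 0 644352 598851 :=
  block_comb c2515 b2516 (Nat.zero_le _) (Nat.le_of_ble_eq_true rfl) rfl

theorem c2517 : Block F al 0 644608 599090 :=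
  block_comb c2516 b2517 (Nat.zero_le _) (Nat.le_of_ble_eq_true rfl) rfl

theorem c2518 : Block F al 0 644864 599331 :=
  block_comb c2517 b2518 (Nat.zero_le _) (Nat.le_of_ble_eq_true rfl) rfl

theorem c2519 : Block F al 0 645120 599565 :=
  block_comb c2518 b2519 (Nat.zero_le _) (Nat.le_of_ble_eq_true rfl) rfl

theorem c2520 : Block F al 0 645376 599809 :=
  block_comb c2519 b2520 (Nat.zero_le _) (Nat.le_of_ble_eq_true rfl) rfl

theorem c2521 : Block F al 0 645632 600053 :=
  block_comb c2520 b2521 (Nat.zero_le _) (Nat.le_of_ble_eq_true rfl) rfl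

theorem c2522 : Block F al 0 645888 600287 :=
  block_comb c2521 b2522 (Nat.zero_le _) (Nat.le_of_ble_eq_true rfl) rfl

theorem c2523 : Block F al 0 646144 600528 :=
  block_comb c2522 b2523 (Nat.zero_le _) (Nat.le_of_ble_eq_true rfl) rfl

theorem c2524 : Block F al 0 646400 600775 :=
  block_comb c2523 b2524 (Nat.zero_le _) (Nat.le_of_ble_eq_true rfl) rfl

theorem c2525 : Block F al 0 646656 601009 :=
  block_comb c2524 b2525 (Nat.zero_le _) (Nat.le_of_ble_eq_true rfl) rfl

theorem c2526 : Block F al 0 646912 601250 :=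
  block_comb c2525 b2526 (Nat.zero_le _) (Nat.le_of_ble_eq_true rfl) rfl

theorem c2527 : Block F al 0 647168 601494 :=
  block_comb c2526 b2527 (Nat.zero_le _) (Nat.le_of_ble_eq_true rfl) rfl

theorem c2528 : Block F al 0 647424 601741 :=
  block_comb c2527 b2528 (Nat.zero_le _) (Nat.le_of_ble_eq_true rfl) rfl

theorem c2529 : Block F al 0 647680 601986 :=
  block_comb c2528 b2529 (Nat.zero_le _) (Nat.le_of_ble_eq_true rfl) rfl

theorem c2530 : Block F al 0 647936 602235 :=
  block_comb c2529 b2530 (Nat.zero_le _) (Nat.le_of_ble_eq_true rfl) rfl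

theorem c2531 : Block F al 0 648192 602474 :=
  block_comb c2530 b2531 (Nat.zero_le _) (Nat.le_of_ble_eq_true rfl) rfl

theorem c2532 : Block F al 0 648448 602719 :=
  block_comb c2531 b2532 (Nat.zero_le _) (Nat.le_of_ble_eq_true rfl) rfl

theorem c2533 : Block F al 0 648704 602963 :=
  block_comb c2532 b2533 (Nat.zero_le _) (Nat.le_of_ble_eq_true rfl) rfl

theorem c2534 : Block F al 0 648960 603207 :=
  block_comb c2533 b2534 (Nat.zero_le _) (Nat.le_of_ble_eq_true rfl) rfl

theorem c2535 : Block F al 0 649216 603449 :=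
  block_comb c2534 b2535 (Nat.zero_le _) (Nat.le_of_ble_eq_true rfl) rfl

theorem c2536 : Block F al 0 649472 603701 :=
  block_comb c2535 b2536 (Nat.zero_le _) (Nat.le_of_ble_eq_true rfl) rfl

theorem c2537 : Block F al 0 649728 603951 :=
  block_comb c2536 b2537 (Nat.zero_le _) (Nat.le_of_ble_eq_true rfl) rfl

theorem c2538 : Block F al 0 649984 604201 :=
  block_comb c2537 b2538 (Nat.zero_le _) (Nat.le_of_ble_eq_true rfl) rfl

theorem c2539 : Block F al 0 650240 604453 :=
  block_comb c2538 b2539 (Nat.zero_le _) (Nat.le_of_ble_eq_true rfl) rfl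

theorem c2540 : Block F al 0 650496 604689 :=
  block_comb c2539 b2540 (Nat.zero_le _) (Nat.le_of_ble_eq_true rfl) rfl

theorem c2541 : Block F al 0 650752 604936 :=
  block_comb c2540 b2541 (Nat.zero_le _) (Nat.le_of_ble_eq_true rfl) rfl

theorem c2542 : Block F al 0 651008 605183 :=
  block_comb c2541 b2542 (Nat.zero_le _) (Nat.le_of_ble_eq_true rfl) rfl

theorem c2543 : Block F al 0 651264 605423 :=
  block_comb c2542 b2543 (Nat.zero_le _) (Nat.le_of_ble_eq_true rfl) rfl

theorem c2544 : Block F al 0 651520 605664 :=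
  block_comb c2543 b2544 (Nat.zero_le _) (Nat.le_of_ble_eq_true rfl) rfl

theorem c2545 : Block F al 0 651776 605904 :=
  block_comb c2544 b2545 (Nat.zero_le _) (Nat.le_of_ble_eq_true rfl) rfl

theorem c2546 : Block F al 0 652032 606146 :=
  block_comb c2545 b2546 (Nat.zero_le _) (Nat.le_of_ble_eq_true rfl) rfl

theorem c2547 : Block F al 0 652288 606398 :=
  block_comb c2546 b2547 (Nat.zero_le _) (Nat.le_of_ble_eq_true rfl) rfl

theorem c2548 : Block F al 0 652544 606644 :=
  block_comb c2547 b2548 (Nat.zero_le _) (Nat.le_of_ble_eq_true rfl) rfl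

theorem c2549 : Block F al 0 652800 606875 :=
  block_comb c2548 b2549 (Nat.zero_le _) (Nat.le_of_ble_eq_true rfl) rfl

theorem c2550 : Block F al 0 653056 607120 :=
  block_comb c2549 b2550 (Nat.zero_le _) (Nat.le_of_ble_eq_true rfl) rfl

theorem c2551 : Block F al 0 653312 607351 :=
  block_comb c2550 b2551 (Nat.zero_le _) (Nat.le_of_ble_eq_true rfl) rfl

theorem c2552 : Block F al 0 653568 607578 :=
  block_comb c2551 b2552 (Nat.zero_le _) (Nat.le_of_ble_eq_true rfl) rfl

theorem c2553 : Block F al 0 653824 607828 :=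
  block_comb c2552 b2553 (Nat.zero_le _) (Nat.le_of_ble_eq_true rfl) rfl

theorem c2554 : Block F al 0 654080 608071 :=
  block_comb c2553 b2554 (Nat.zero_le _) (Nat.le_of_ble_eq_true rfl) rfl

theorem c2555 : Block F al 0 654336 608304 :=
  block_comb c2554 b2555 (Nat.zero_le _) (Nat.le_of_ble_eq_true rfl) rfl

theorem c2556 : Block F al 0 654592 608536 :=
  block_comb c2555 b2556 (Nat.zero_le _) (Nat.le_of_ble_eq_true rfl) rfl

theorem c2557 : Block F al 0 654848 608778 :=
  block_comb c2556 b2557 (Nat.zero_le _) (Nat.le_of_ble_eq_true rfl) rfl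

theorem c2558 : Block F al 0 655104 609024 :=
  block_comb c2557 b2558 (Nat.zero_le _) (Nat.le_of_ble_eq_true rfl) rfl

theorem c2559 : Block F al 0 655360 609259 :=
  block_comb c2558 b2559 (Nat.zero_le _) (Nat.le_of_ble_eq_true rfl) rfl

theorem c2560 : Block F al 0 655616 609506 :=
  block_comb c2559 b2560 (Nat.zero_le _) (Nat.le_of_ble_eq_true rfl) rfl

theorem c2561 : Block F al 0 655872 609753 :=
  block_comb c2560 b2561 (Nat.zero_le _) (Nat.le_of_ble_eq_true rfl) rfl

theorem c2562 : Block F al 0 656128 609999 :=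
  block_comb c2561 b2562 (Nat.zero_le _) (Nat.le_of_ble_eq_true rfl) rfl

theorem c2563 : Block F al 0 656384 610249 :=
  block_comb c2562 b2563 (Nat.zero_le _) (Nat.le_of_ble_eq_true rfl) rfl

theorem c2564 : Block F al 0 656640 610504 :=
  block_comb c2563 b2564 (Nat.zero_le _) (Nat.le_of_ble_eq_true rfl) rfl

theorem c2565 : Block F al 0 656896 610752 :=
  block_comb c2564 b2565 (Nat.zero_le _) (Nat.le_of_ble_eq_true rfl) rfl

theorem c2566 : Block F al 0 657152 610974 :=
  block_comb c2565 b2566 (Nat.zero_le _) (Nat.le_of_ble_eq_true rfl) rfl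

theorem c2567 : Block F al 0 657408 611214 :=
  block_comb c2566 b2567 (Nat.zero_le _) (Nat.le_of_ble_eq_true rfl) rfl

theorem c2568 : Block F al 0 657664 611444 :=
  block_comb c2567 b2568 (Nat.zero_le _) (Nat.le_of_ble_eq_true rfl) rfl

theorem c2569 : Block F al 0 657920 611691 :=
  block_comb c2568 b2569 (Nat.zero_le _) (Nat.le_of_ble_eq_true rfl) rfl

theorem c2570 : Block F al 0 658176 611934 :=
  block_comb c2569 b2570 (Nat.zero_le _) (Nat.le_of_ble_eq_true rfl) rfl

theorem c2571 : Block F al 0 658432 612176 :=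
  block_comb c2570 b2571 (Nat.zero_le _) (Nat.le_of_ble_eq_true rfl) rfl

theorem c2572 : Block F al 0 658688 612420 :=
  block_comb c2571 b2572 (Nat.zero_le _) (Nat.le_of_ble_eq_true rfl) rfl

theorem c2573 : Block F al 0 658944 612671 :=
  block_comb c2572 b2573 (Nat.zero_le _) (Nat.le_of_ble_eq_true rfl) rfl

theorem c2574 : Block F al 0 659200 612918 :=
  block_comb c2573 b2574 (Nat.zero_le _) (Nat.le_of_ble_eq_true rfl) rfl

theorem c2575 : Block F al 0 659456 613163 :=
  block_comb c2574 b2575 (Nat.zero_le _) (Nat.le_of_ble_eq_true rfl) rfl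

theorem c2576 : Block F al 0 659712 613403 :=
  block_comb c2575 b2576 (Nat.zero_le _) (Nat.le_of_ble_eq_true rfl) rfl

theorem c2577 : Block F al 0 659968 613634 :=
  block_comb c2576 b2577 (Nat.zero_le _) (Nat.le_of_ble_eq_true rfl) rfl

theorem c2578 : Block F al 0 660224 613871 :=
  block_comb c2577 b2578 (Nat.zero_le _) (Nat.le_of_ble_eq_true rfl) rfl

theorem c2579 : Block F al 0 660480 614123 :=
  block_comb c2578 b2579 (Nat.zero_le _) (Nat.le_of_ble_eq_true rfl) rfl

theorem c2580 : Block F al 0 660736 614362 :=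
  block_comb c2579 b2580 (Nat.zero_le _) (Nat.le_of_ble_eq_true rfl) rfl

theorem c2581 : Block F al 0 660992 614613 :=
  block_comb c2580 b2581 (Nat.zero_le _) (Nat.le_of_ble_eq_true rfl) rfl

theorem c2582 : Block F al 0 661248 614860 :=
  block_comb c2581 b2582 (Nat.zero_le _) (Nat.le_of_ble_eq_true rfl) rfl

theorem c2583 : Block F al 0 661504 615113 :=
  block_comb c2582 b2583 (Nat.zero_le _) (Nat.le_of_ble_eq_true rfl) rfl

theorem c2584 : Block F al 0 661760 615361 :=
  block_comb c2583 b2584 (Nat.zero_le _) (Nat.le_of_ble_eq_true rfl) rfl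

theorem c2585 : Block F al 0 662016 615601 :=
  block_comb c2584 b2585 (Nat.zero_le _) (Nat.le_of_ble_eq_true rfl) rfl

theorem c2586 : Block F al 0 662272 615844 :=
  block_comb c2585 b2586 (Nat.zero_le _) (Nat.le_of_ble_eq_true rfl) rfl

theorem c2587 : Block F al 0 662528 616073 :=
  block_comb c2586 b2587 (Nat.zero_le _) (Nat.le_of_ble_eq_true rfl) rfl

theorem c2588 : Block F al 0 662784 616314 :=
  block_comb c2587 b2588 (Nat.zero_le _) (Nat.le_of_ble_eq_true rfl) rfl

theorem c2589 : Block F al 0 663040 616561 :=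
  block_comb c2588 b2589 (Nat.zero_le _) (Nat.le_of_ble_eq_true rfl) rfl

theorem c2590 : Block F al 0 663296 616792 :=
  block_comb c2589 b2590 (Nat.zero_le _) (Nat.le_of_ble_eq_true rfl) rfl

theorem c2591 : Block F al 0 663552 617018 :=
  block_comb c2590 b2591 (Nat.zero_le _) (Nat.le_of_ble_eq_true rfl) rfl

theorem c2592 : Block F al 0 663808 617246 :=
  block_comb c2591 b2592 (Nat.zero_le _) (Nat.le_of_ble_eq_true rfl) rfl

theorem c2593 : Block F al 0 664064 617491 :=
  block_comb c2592 b2593 (Nat.zero_le _) (Nat.le_of_ble_eq_true rfl) rfl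

theorem c2594 : Block F al 0 664320 617739 :=
  block_comb c2593 b2594 (Nat.zero_le _) (Nat.le_of_ble_eq_true rfl) rfl

theorem c2595 : Block F al 0 664576 617982 :=
  block_comb c2594 b2595 (Nat.zero_le _) (Nat.le_of_ble_eq_true rfl) rfl

theorem c2596 : Block F al 0 664832 618234 :=
  block_comb c2595 b2596 (Nat.zero_le _) (Nat.le_of_ble_eq_true rfl) rfl

theorem c2597 : Block F al 0 665088 618470 :=
  block_comb c2596 b2597 (Nat.zero_le _) (Nat.le_of_ble_eq_true rfl) rfl

theorem c2598 : Block F al 0 665344 618712 :=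
  block_comb c2597 b2598 (Nat.zero_le _) (Nat.le_of_ble_eq_true rfl) rfl

theorem c2599 : Block F al 0 665600 618940 :=
  block_comb c2598 b2599 (Nat.zero_le _) (Nat.le_of_ble_eq_true rfl) rfl

theorem c2600 : Block F al 0 665856 619106 :=
  block_comb c2599 b2600 (Nat.zero_le _) (Nat.le_of_ble_eq_true rfl) rfl

theorem c2601 : Block F al 0 666112 619308 :=
  block_comb c2600 b2601 (Nat.zero_le _) (Nat.le_of_ble_eq_true rfl) rfl

theorem c2602 : Block F al 0 666368 619555 :=
  block_comb c2601 b2602 (Nat.zero_le _) (Nat.le_of_ble_eq_true rfl) rfl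

theorem c2603 : Block F al 0 666624 619769 :=
  block_comb c2602 b2603 (Nat.zero_le _) (Nat.le_of_ble_eq_true rfl) rfl

theorem c2604 : Block F al 0 666880 620002 :=
  block_comb c2603 b2604 (Nat.zero_le _) (Nat.le_of_ble_eq_true rfl) rfl

theorem c2605 : Block F al 0 667136 620222 :=
  block_comb c2604 b2605 (Nat.zero_le _) (Nat.le_of_ble_eq_true rfl) rfl

theorem c2606 : Block F al 0 667392 620470 :=
  block_comb c2605 b2606 (Nat.zero_le _) (Nat.le_of_ble_eq_true rfl) rfl

theorem c2607 : Block F al 0 667648 620707 :=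
  block_comb c2606 b2607 (Nat.zero_le _) (Nat.le_of_ble_eq_true rfl) rfl

theorem c2608 : Block F al 0 667904 620957 :=
  block_comb c2607 b2608 (Nat.zero_le _) (Nat.le_of_ble_eq_true rfl) rfl

theorem c2609 : Block F al 0 668160 621197 :=
  block_comb c2608 b2609 (Nat.zero_le _) (Nat.le_of_ble_eq_true rfl) rfl

theorem c2610 : Block F al 0 668416 621423 :=
  block_comb c2609 b2610 (Nat.zero_le _) (Nat.le_of_ble_eq_true rfl) rfl

theorem c2611 : Block F al 0 668672 621662 :=
  block_comb c2610 b2611 (Nat.zero_le _) (Nat.le_of_ble_eq_true rfl) rfl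

theorem c2612 : Block F al 0 668928 621915 :=
  block_comb c2611 b2612 (Nat.zero_le _) (Nat.le_of_ble_eq_true rfl) rfl

theorem c2613 : Block F al 0 669184 622159 :=
  block_comb c2612 b2613 (Nat.zero_le _) (Nat.le_of_ble_eq_true rfl) rfl

theorem c2614 : Block F al 0 669440 622397 :=
  block_comb c2613 b2614 (Nat.zero_le _) (Nat.le_of_ble_eq_true rfl) rfl

theorem c2615 : Block F al 0 669696 622610 :=
  block_comb c2614 b2615 (Nat.zero_le _) (Nat.le_of_ble_eq_true rfl) rfl

theorem c2616 : Block F al 0 669952 622860 :=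
  block_comb c2615 b2616 (Nat.zero_le _) (Nat.le_of_ble_eq_true rfl) rfl

theorem c2617 : Block F al 0 670208 623101 :=
  block_comb c2616 b2617 (Nat.zero_le _) (Nat.le_of_ble_eq_true rfl) rfl

theorem c2618 : Block F al 0 670464 623342 :=
  block_comb c2617 b2618 (Nat.zero_le _) (Nat.le_of_ble_eq_true rfl) rfl

theorem c2619 : Block F al 0 670720 623588 :=
  block_comb c2618 b2619 (Nat.zero_le _) (Nat.le_of_ble_eq_true rfl) rfl

theorem c2620 : Block F al 0 670976 623828 :=
  block_comb c2619 b2620 (Nat.zero_le _) (Nat.le_of_ble_eq_true rfl) rfl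

theorem c2621 : Block F al 0 671232 624062 :=
  block_comb c2620 b2621 (Nat.zero_le _) (Nat.le_of_ble_eq_true rfl) rfl

theorem c2622 : Block F al 0 671488 624298 :=
  block_comb c2621 b2622 (Nat.zero_le _) (Nat.le_of_ble_eq_true rfl) rfl

theorem c2623 : Block F al 0 671744 624548 :=
  block_comb c2622 b2623 (Nat.zero_le _) (Nat.le_of_ble_eq_true rfl) rfl

theorem c2624 : Block F al 0 672000 624783 :=
  block_comb c2623 b2624 (Nat.zero_le _) (Nat.le_of_ble_eq_true rfl) rfl

theorem c2625 : Block F al 0 672256 625032 :=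
  block_comb c2624 b2625 (Nat.zero_le _) (Nat.le_of_ble_eq_true rfl) rfl

theorem c2626 : Block F al 0 672512 625283 :=
  block_comb c2625 b2626 (Nat.zero_le _) (Nat.le_of_ble_eq_true rfl) rfl

theorem c2627 : Block F al 0 672768 625523 :=
  block_comb c2626 b2627 (Nat.zero_le _) (Nat.le_of_ble_eq_true rfl) rfl

theorem c2628 : Block F al 0 673024 625765 :=
  block_comb c2627 b2628 (Nat.zero_le _) (Nat.le_of_ble_eq_true rfl) rfl

theorem c2629 : Block F al 0 673280 625988 :=
  block_comb c2628 b2629 (Nat.zero_le _) (Nat.le_of_ble_eq_true rfl) rfl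

theorem c2630 : Block F al 0 673536 626234 :=
  block_comb c2629 b2630 (Nat.zero_le _) (Nat.le_of_ble_eq_true rfl) rfl

theorem c2631 : Block F al 0 673792 626480 :=
  block_comb c2630 b2631 (Nat.zero_le _) (Nat.le_of_ble_eq_true rfl) rfl

theorem c2632 : Block F al 0 674048 626716 :=
  block_comb c2631 b2632 (Nat.zero_le _) (Nat.le_of_ble_eq_true rfl) rfl

theorem c2633 : Block F al 0 674304 626946 :=
  block_comb c2632 b2633 (Nat.zero_le _) (Nat.le_of_ble_eq_true rfl) rfl

theorem c2634 : Block F al 0 674560 627181 :=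
  block_comb c2633 b2634 (Nat.zero_le _) (Nat.le_of_ble_eq_true rfl) rfl

theorem c2635 : Block F al 0 674816 627419 :=
  block_comb c2634 b2635 (Nat.zero_le _) (Nat.le_of_ble_eq_true rfl) rfl

theorem c2636 : Block F al 0 675072 627654 :=
  block_comb c2635 b2636 (Nat.zero_le _) (Nat.le_of_ble_eq_true rfl) rfl

theorem c2637 : Block F al 0 675328 627891 :=
  block_comb c2636 b2637 (Nat.zero_le _) (Nat.le_of_ble_eq_true rfl) rfl

theorem c2638 : Block F al 0 675584 628145 :=
  block_comb c2637 b2638 (Nat.zero_le _) (Nat.le_of_ble_eq_true rfl) rfl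

theorem c2639 : Block F al 0 675840 628382 :=
  block_comb c2638 b2639 (Nat.zero_le _) (Nat.le_of_ble_eq_true rfl) rfl

theorem c2640 : Block F al 0 676096 628634 :=
  block_comb c2639 b2640 (Nat.zero_le _) (Nat.le_of_ble_eq_true rfl) rfl

theorem c2641 : Block F al 0 676352 628877 :=
  block_comb c2640 b2641 (Nat.zero_le _) (Nat.le_of_ble_eq_true rfl) rfl

theorem c2642 : Block F al 0 676608 629118 :=
  block_comb c2641 b2642 (Nat.zero_le _) (Nat.le_of_ble_eq_true rfl) rfl

theorem c2643 : Block F al 0 676864 629363 :=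
  block_comb c2642 b2643 (Nat.zero_le _) (Nat.le_of_ble_eq_true rfl) rfl

theorem c2644 : Block F al 0 677120 629601 :=
  block_comb c2643 b2644 (Nat.zero_le _) (Nat.le_of_ble_eq_true rfl) rfl

theorem c2645 : Block F al 0 677376 629837 :=
  block_comb c2644 b2645 (Nat.zero_le _) (Nat.le_of_ble_eq_true rfl) rfl

theorem c2646 : Block F al 0 677632 630073 :=
  block_comb c2645 b2646 (Nat.zero_le _) (Nat.le_of_ble_eq_true rfl) rfl

theorem c2647 : Block F al 0 677888 630303 :=
  block_comb c2646 b2647 (Nat.zero_le _) (Nat.le_of_ble_eq_true rfl) rfl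

theorem c2648 : Block F al 0 678144 630552 :=
  block_comb c2647 b2648 (Nat.zero_le _) (Nat.le_of_ble_eq_true rfl) rfl

theorem c2649 : Block F al 0 678400 630793 :=
  block_comb c2648 b2649 (Nat.zero_le _) (Nat.le_of_ble_eq_true rfl) rfl

theorem c2650 : Block F al 0 678656 631045 :=
  block_comb c2649 b2650 (Nat.zero_le _) (Nat.le_of_ble_eq_true rfl) rfl

theorem c2651 : Block F al 0 678912 631293 :=
  block_comb c2650 b2651 (Nat.zero_le _) (Nat.le_of_ble_eq_true rfl) rfl

theorem c2652 : Block F al 0 679168 631509 :=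
  block_comb c2651 b2652 (Nat.zero_le _) (Nat.le_of_ble_eq_true rfl) rfl

theorem c2653 : Block F al 0 679424 631749 :=
  block_comb c2652 b2653 (Nat.zero_le _) (Nat.le_of_ble_eq_true rfl) rfl

theorem c2654 : Block F al 0 679680 631982 :=
  block_comb c2653 b2654 (Nat.zero_le _) (Nat.le_of_ble_eq_true rfl) rfl

theorem c2655 : Block F al 0 679936 632212 :=
  block_comb c2654 b2655 (Nat.zero_le _) (Nat.le_of_ble_eq_true rfl) rfl

theorem c2656 : Block F al 0 680192 632452 :=
  block_comb c2655 b2656 (Nat.zero_le _) (Nat.le_of_ble_eq_true rfl) rfl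

theorem c2657 : Block F al 0 680448 632698 :=
  block_comb c2656 b2657 (Nat.zero_le _) (Nat.le_of_ble_eq_true rfl) rfl

theorem c2658 : Block F al 0 680704 632940 :=
  block_comb c2657 b2658 (Nat.zero_le _) (Nat.le_of_ble_eq_true rfl) rfl

theorem c2659 : Block F al 0 680960 633175 :=
  block_comb c2658 b2659 (Nat.zero_le _) (Nat.le_of_ble_eq_true rfl) rfl

theorem c2660 : Block F al 0 681216 633420 :=
  block_comb c2659 b2660 (Nat.zero_le _) (Nat.le_of_ble_eq_true rfl) rfl

theorem c2661 : Block F al 0 681472 633656 :=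
  block_comb c2660 b2661 (Nat.zero_le _) (Nat.le_of_ble_eq_true rfl) rfl

theorem c2662 : Block F al 0 681728 633868 :=
  block_comb c2661 b2662 (Nat.zero_le _) (Nat.le_of_ble_eq_true rfl) rfl

theorem c2663 : Block F al 0 681984 634086 :=
  block_comb c2662 b2663 (Nat.zero_le _) (Nat.le_of_ble_eq_true rfl) rfl

theorem c2664 : Block F al 0 682240 634332 :=
  block_comb c2663 b2664 (Nat.zero_le _) (Nat.le_of_ble_eq_true rfl) rfl

theorem c2665 : Block F al 0 682496 634547 :=
  block_comb c2664 b2665 (Nat.zero_le _) (Nat.le_of_ble_eq_true rfl) rfl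

theorem c2666 : Block F al 0 682752 634779 :=
  block_comb c2665 b2666 (Nat.zero_le _) (Nat.le_of_ble_eq_true rfl) rfl

theorem c2667 : Block F al 0 683008 635016 :=
  block_comb c2666 b2667 (Nat.zero_le _) (Nat.le_of_ble_eq_true rfl) rfl

theorem c2668 : Block F al 0 683264 635226 :=
  block_comb c2667 b2668 (Nat.zero_le _) (Nat.le_of_ble_eq_true rfl) rfl

theorem c2669 : Block F al 0 683520 635428 :=
  block_comb c2668 b2669 (Nat.zero_le _) (Nat.le_of_ble_eq_true rfl) rfl

theorem c2670 : Block F al 0 683776 635650 :=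
  block_comb c2669 b2670 (Nat.zero_le _) (Nat.le_of_ble_eq_true rfl) rfl

theorem c2671 : Block F al 0 684032 635877 :=
  block_comb c2670 b2671 (Nat.zero_le _) (Nat.le_of_ble_eq_true rfl) rfl

theorem c2672 : Block F al 0 684288 636127 :=
  block_comb c2671 b2672 (Nat.zero_le _) (Nat.le_of_ble_eq_true rfl) rfl

theorem c2673 : Block F al 0 684544 636372 :=
  block_comb c2672 b2673 (Nat.zero_le _) (Nat.le_of_ble_eq_true rfl) rfl

theorem c2674 : Block F al 0 684800 636614 :=
  block_comb c2673 b2674 (Nat.zero_le _) (Nat.le_of_ble_eq_true rfl) rfl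

theorem c2675 : Block F al 0 685056 636863 :=
  block_comb c2674 b2675 (Nat.zero_le _) (Nat.le_of_ble_eq_true rfl) rfl

theorem c2676 : Block F al 0 685312 637093 :=
  block_comb c2675 b2676 (Nat.zero_le _) (Nat.le_of_ble_eq_true rfl) rfl

theorem c2677 : Block F al 0 685568 637340 :=
  block_comb c2676 b2677 (Nat.zero_le _) (Nat.le_of_ble_eq_true rfl) rfl

theorem c2678 : Block F al 0 685824 637578 :=
  block_comb c2677 b2678 (Nat.zero_le _) (Nat.le_of_ble_eq_true rfl) rfl

theorem c2679 : Block F al 0 686080 637816 :=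
  block_comb c2678 b2679 (Nat.zero_le _) (Nat.le_of_ble_eq_true rfl) rfl

theorem c2680 : Block F al 0 686336 638059 :=
  block_comb c2679 b2680 (Nat.zero_le _) (Nat.le_of_ble_eq_true rfl) rfl

theorem c2681 : Block F al 0 686592 638288 :=
  block_comb c2680 b2681 (Nat.zero_le _) (Nat.le_of_ble_eq_true rfl) rfl

theorem c2682 : Block F al 0 686848 638537 :=
  block_comb c2681 b2682 (Nat.zero_le _) (Nat.le_of_ble_eq_true rfl) rfl

theorem c2683 : Block F al 0 687104 638782 :=
  block_comb c2682 b2683 (Nat.zero_le _) (Nat.le_of_ble_eq_true rfl) rfl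

theorem c2684 : Block F al 0 687360 639034 :=
  block_comb c2683 b2684 (Nat.zero_le _) (Nat.le_of_ble_eq_true rfl) rfl

theorem c2685 : Block F al 0 687616 639283 :=
  block_comb c2684 b2685 (Nat.zero_le _) (Nat.le_of_ble_eq_true rfl) rfl

theorem c2686 : Block F al 0 687872 639523 :=
  block_comb c2685 b2686 (Nat.zero_le _) (Nat.le_of_ble_eq_true rfl) rfl

theorem c2687 : Block F al 0 688128 639765 :=
  block_comb c2686 b2687 (Nat.zero_le _) (Nat.le_of_ble_eq_true rfl) rfl

theorem c2688 : Block F al 0 688384 640001 :=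
  block_comb c2687 b2688 (Nat.zero_le _) (Nat.le_of_ble_eq_true rfl) rfl

theorem c2689 : Block F al 0 688640 640251 :=
  block_comb c2688 b2689 (Nat.zero_le _) (Nat.le_of_ble_eq_true rfl) rfl

theorem c2690 : Block F al 0 688896 640496 :=
  block_comb c2689 b2690 (Nat.zero_le _) (Nat.le_of_ble_eq_true rfl) rfl

theorem c2691 : Block F al 0 689152 640742 :=
  block_comb c2690 b2691 (Nat.zero_le _) (Nat.le_of_ble_eq_true rfl) rfl

theorem c2692 : Block F al 0 689408 640961 :=
  block_comb c2691 b2692 (Nat.zero_le _) (Nat.le_of_ble_eq_true rfl) rfl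

theorem c2693 : Block F al 0 689664 641175 :=
  block_comb c2692 b2693 (Nat.zero_le _) (Nat.le_of_ble_eq_true rfl) rfl

theorem c2694 : Block F al 0 689920 641411 :=
  block_comb c2693 b2694 (Nat.zero_le _) (Nat.le_of_ble_eq_true rfl) rfl

theorem c2695 : Block F al 0 690176 641643 :=
  block_comb c2694 b2695 (Nat.zero_le _) (Nat.le_of_ble_eq_true rfl) rfl

theorem c2696 : Block F al 0 690432 641881 :=
  block_comb c2695 b2696 (Nat.zero_le _) (Nat.le_of_ble_eq_true rfl) rfl

theorem c2697 : Block F al 0 690688 642118 :=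
  block_comb c2696 b2697 (Nat.zero_le _) (Nat.le_of_ble_eq_true rfl) rfl

theorem c2698 : Block F al 0 690944 642359 :=
  block_comb c2697 b2698 (Nat.zero_le _) (Nat.le_of_ble_eq_true rfl) rfl

theorem c2699 : Block F al 0 691200 642583 :=
  block_comb c2698 b2699 (Nat.zero_le _) (Nat.le_of_ble_eq_true rfl) rfl

theorem c2700 : Block F al 0 691456 642827 :=
  block_comb c2699 b2700 (Nat.zero_le _) (Nat.le_of_ble_eq_true rfl) rfl

theorem c2701 : Block F al 0 691712 643041 :=
  block_comb c2700 b2701 (Nat.zero_le _) (Nat.le_of_ble_eq_true rfl) rfl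

theorem c2702 : Block F al 0 691968 643284 :=
  block_comb c2701 b2702 (Nat.zero_le _) (Nat.le_of_ble_eq_true rfl) rfl

theorem c2703 : Block F al 0 692224 643533 :=
  block_comb c2702 b2703 (Nat.zero_le _) (Nat.le_of_ble_eq_true rfl) rfl

theorem c2704 : Block F al 0 692480 643766 :=
  block_comb c2703 b2704 (Nat.zero_le _) (Nat.le_of_ble_eq_true rfl) rfl

theorem c2705 : Block F al 0 692736 644003 :=
  block_comb c2704 b2705 (Nat.zero_le _) (Nat.le_of_ble_eq_true rfl) rfl

theorem c2706 : Block F al 0 692992 644248 :=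
  block_comb c2705 b2706 (Nat.zero_le _) (Nat.le_of_ble_eq_true rfl) rfl

theorem c2707 : Block F al 0 693248 644489 :=
  block_comb c2706 b2707 (Nat.zero_le _) (Nat.le_of_ble_eq_true rfl) rfl

theorem c2708 : Block F al 0 693504 644731 :=
  block_comb c2707 b2708 (Nat.zero_le _) (Nat.le_of_ble_eq_true rfl) rfl

theorem c2709 : Block F al 0 693760 644977 :=
  block_comb c2708 b2709 (Nat.zero_le _) (Nat.le_of_ble_eq_true rfl) rfl

theorem c2710 : Block F al 0 694016 645213 :=
  block_comb c2709 b2710 (Nat.zero_le _) (Nat.le_of_ble_eq_true rfl) rfl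

theorem c2711 : Block F al 0 694272 645452 :=
  block_comb c2710 b2711 (Nat.zero_le _) (Nat.le_of_ble_eq_true rfl) rfl

theorem c2712 : Block F al 0 694528 645703 :=
  block_comb c2711 b2712 (Nat.zero_le _) (Nat.le_of_ble_eq_true rfl) rfl

theorem c2713 : Block F al 0 694784 645951 :=
  block_comb c2712 b2713 (Nat.zero_le _) (Nat.le_of_ble_eq_true rfl) rfl

theorem c2714 : Block F al 0 695040 646194 :=
  block_comb c2713 b2714 (Nat.zero_le _) (Nat.le_of_ble_eq_true rfl) rfl

theorem c2715 : Block F al 0 695296 646433 :=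
  block_comb c2714 b2715 (Nat.zero_le _) (Nat.le_of_ble_eq_true rfl) rfl

theorem c2716 : Block F al 0 695552 646683 :=
  block_comb c2715 b2716 (Nat.zero_le _) (Nat.le_of_ble_eq_true rfl) rfl

theorem c2717 : Block F al 0 695808 646930 :=
  block_comb c2716 b2717 (Nat.zero_le _) (Nat.le_of_ble_eq_true rfl) rfl

theorem c2718 : Block F al 0 696064 647164 :=
  block_comb c2717 b2718 (Nat.zero_le _) (Nat.le_of_ble_eq_true rfl) rfl

theorem c2719 : Block F al 0 696320 647389 :=
  block_comb c2718 b2719 (Nat.zero_le _) (Nat.le_of_ble_eq_true rfl) rfl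

theorem c2720 : Block F al 0 696576 647622 :=
  block_comb c2719 b2720 (Nat.zero_le _) (Nat.le_of_ble_eq_true rfl) rfl

theorem c2721 : Block F al 0 696832 647870 :=
  block_comb c2720 b2721 (Nat.zero_le _) (Nat.le_of_ble_eq_true rfl) rfl

theorem c2722 : Block F al 0 697088 648105 :=
  block_comb c2721 b2722 (Nat.zero_le _) (Nat.le_of_ble_eq_true rfl) rfl

theorem c2723 : Block F al 0 697344 648348 :=
  block_comb c2722 b2723 (Nat.zero_le _) (Nat.le_of_ble_eq_true rfl) rfl

theorem c2724 : Block F al 0 697600 648595 :=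
  block_comb c2723 b2724 (Nat.zero_le _) (Nat.le_of_ble_eq_true rfl) rfl

theorem c2725 : Block F al 0 697856 648833 :=
  block_comb c2724 b2725 (Nat.zero_le _) (Nat.le_of_ble_eq_true rfl) rfl

theorem c2726 : Block F al 0 698112 649079 :=
  block_comb c2725 b2726 (Nat.zero_le _) (Nat.le_of_ble_eq_true rfl) rfl

theorem c2727 : Block F al 0 698368 649325 :=
  block_comb c2726 b2727 (Nat.zero_le _) (Nat.le_of_ble_eq_true rfl) rfl

theorem c2728 : Block F al 0 698624 649571 :=
  block_comb c2727 b2728 (Nat.zero_le _) (Nat.le_of_ble_eq_true rfl) rfl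

theorem c2729 : Block F al 0 698880 649817 :=
  block_comb c2728 b2729 (Nat.zero_le _) (Nat.le_of_ble_eq_true rfl) rfl

theorem c2730 : Block F al 0 699136 650070 :=
  block_comb c2729 b2730 (Nat.zero_le _) (Nat.le_of_ble_eq_true rfl) rfl

theorem c2731 : Block F al 0 699392 650313 :=
  block_comb c2730 b2731 (Nat.zero_le _) (Nat.le_of_ble_eq_true rfl) rfl

theorem c2732 : Block F al 0 699648 650554 :=
  block_comb c2731 b2732 (Nat.zero_le _) (Nat.le_of_ble_eq_true rfl) rfl

theorem c2733 : Block F al 0 699904 650803 :=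
  block_comb c2732 b2733 (Nat.zero_le _) (Nat.le_of_ble_eq_true rfl) rfl

theorem c2734 : Block F al 0 700160 651050 :=
  block_comb c2733 b2734 (Nat.zero_le _) (Nat.le_of_ble_eq_true rfl) rfl

theorem c2735 : Block F al 0 700416 651285 :=
  block_comb c2734 b2735 (Nat.zero_le _) (Nat.le_of_ble_eq_true rfl) rfl

theorem c2736 : Block F al 0 700672 651521 :=
  block_comb c2735 b2736 (Nat.zero_le _) (Nat.le_of_ble_eq_true rfl) rfl

theorem c2737 : Block F al 0 700928 651759 :=
  block_comb c2736 b2737 (Nat.zero_le _) (Nat.le_of_ble_eq_true rfl) rfl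

theorem c2738 : Block F al 0 701184 651977 :=
  block_comb c2737 b2738 (Nat.zero_le _) (Nat.le_of_ble_eq_true rfl) rfl

theorem c2739 : Block F al 0 701440 652217 :=
  block_comb c2738 b2739 (Nat.zero_le _) (Nat.le_of_ble_eq_true rfl) rfl

theorem c2740 : Block F al 0 701696 652460 :=
  block_comb c2739 b2740 (Nat.zero_le _) (Nat.le_of_ble_eq_true rfl) rfl

theorem c2741 : Block F al 0 701952 652704 :=
  block_comb c2740 b2741 (Nat.zero_le _) (Nat.le_of_ble_eq_true rfl) rfl

theorem c2742 : Block F al 0 702208 652927 :=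
  block_comb c2741 b2742 (Nat.zero_le _) (Nat.le_of_ble_eq_true rfl) rfl

theorem c2743 : Block F al 0 702464 653178 :=
  block_comb c2742 b2743 (Nat.zero_le _) (Nat.le_of_ble_eq_true rfl) rfl

theorem c2744 : Block F al 0 702720 653423 :=
  block_comb c2743 b2744 (Nat.zero_le _) (Nat.le_of_ble_eq_true rfl) rfl

theorem c2745 : Block F al 0 702976 653672 :=
  block_comb c2744 b2745 (Nat.zero_le _) (Nat.le_of_ble_eq_true rfl) rfl

theorem c2746 : Block F al 0 703232 653918 :=
  block_comb c2745 b2746 (Nat.zero_le _) (Nat.le_of_ble_eq_true rfl) rfl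

theorem c2747 : Block F al 0 703488 654169 :=
  block_comb c2746 b2747 (Nat.zero_le _) (Nat.le_of_ble_eq_true rfl) rfl

theorem c2748 : Block F al 0 703744 654417 :=
  block_comb c2747 b2748 (Nat.zero_le _) (Nat.le_of_ble_eq_true rfl) rfl

theorem c2749 : Block F al 0 704000 654667 :=
  block_comb c2748 b2749 (Nat.zero_le _) (Nat.le_of_ble_eq_true rfl) rfl

theorem c2750 : Block F al 0 704256 654909 :=
  block_comb c2749 b2750 (Nat.zero_le _) (Nat.le_of_ble_eq_true rfl) rfl

theorem c2751 : Block F al 0 704512 655154 :=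
  block_comb c2750 b2751 (Nat.zero_le _) (Nat.le_of_ble_eq_true rfl) rfl

theorem c2752 : Block F al 0 704768 655404 :=
  block_comb c2751 b2752 (Nat.zero_le _) (Nat.le_of_ble_eq_true rfl) rfl

theorem c2753 : Block F al 0 705024 655653 :=
  block_comb c2752 b2753 (Nat.zero_le _) (Nat.le_of_ble_eq_true rfl) rfl

theorem c2754 : Block F al 0 705280 655897 :=
  block_comb c2753 b2754 (Nat.zero_le _) (Nat.le_of_ble_eq_true rfl) rfl

theorem c2755 : Block F al 0 705536 656133 :=
  block_comb c2754 b2755 (Nat.zero_le _) (Nat.le_of_ble_eq_true rfl) rfl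

theorem c2756 : Block F al 0 705792 656367 :=
  block_comb c2755 b2756 (Nat.zero_le _) (Nat.le_of_ble_eq_true rfl) rfl

theorem c2757 : Block F al 0 706048 656605 :=
  block_comb c2756 b2757 (Nat.zero_le _) (Nat.le_of_ble_eq_true rfl) rfl

theorem c2758 : Block F al 0 706304 656852 :=
  block_comb c2757 b2758 (Nat.zero_le _) (Nat.le_of_ble_eq_true rfl) rfl

theorem c2759 : Block F al 0 706560 657080 :=
  block_comb c2758 b2759 (Nat.zero_le _) (Nat.le_of_ble_eq_true rfl) rfl

theorem c2760 : Block F al 0 706816 657329 :=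
  block_comb c2759 b2760 (Nat.zero_le _) (Nat.le_of_ble_eq_true rfl) rfl

theorem c2761 : Block F al 0 707072 657571 :=
  block_comb c2760 b2761 (Nat.zero_le _) (Nat.le_of_ble_eq_true rfl) rfl

theorem c2762 : Block F al 0 707328 657794 :=
  block_comb c2761 b2762 (Nat.zero_le _) (Nat.le_of_ble_eq_true rfl) rfl

theorem c2763 : Block F al 0 707584 658046 :=
  block_comb c2762 b2763 (Nat.zero_le _) (Nat.le_of_ble_eq_true rfl) rfl

theorem c2764 : Block F al 0 707840 658287 :=
  block_comb c2763 b2764 (Nat.zero_le _) (Nat.le_of_ble_eq_true rfl) rfl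

theorem c2765 : Block F al 0 708096 658532 :=
  block_comb c2764 b2765 (Nat.zero_le _) (Nat.le_of_ble_eq_true rfl) rfl

theorem c2766 : Block F al 0 708352 658780 :=
  block_comb c2765 b2766 (Nat.zero_le _) (Nat.le_of_ble_eq_true rfl) rfl

theorem c2767 : Block F al 0 708608 659015 :=
  block_comb c2766 b2767 (Nat.zero_le _) (Nat.le_of_ble_eq_true rfl) rfl

theorem c2768 : Block F al 0 708864 659257 :=
  block_comb c2767 b2768 (Nat.zero_le _) (Nat.le_of_ble_eq_true rfl) rfl

theorem c2769 : Block F al 0 709120 659495 :=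
  block_comb c2768 b2769 (Nat.zero_le _) (Nat.le_of_ble_eq_true rfl) rfl

theorem c2770 : Block F al 0 709376 659721 :=
  block_comb c2769 b2770 (Nat.zero_le _) (Nat.le_of_ble_eq_true rfl) rfl

theorem c2771 : Block F al 0 709632 659954 :=
  block_comb c2770 b2771 (Nat.zero_le _) (Nat.le_of_ble_eq_true rfl) rfl

theorem c2772 : Block F al 0 709888 660191 :=
  block_comb c2771 b2772 (Nat.zero_le _) (Nat.le_of_ble_eq_true rfl) rfl

theorem c2773 : Block F al 0 710144 660431 :=
  block_comb c2772 b2773 (Nat.zero_le _) (Nat.le_of_ble_eq_true rfl) rfl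

theorem c2774 : Block F al 0 710400 660678 :=
  block_comb c2773 b2774 (Nat.zero_le _) (Nat.le_of_ble_eq_true rfl) rfl

theorem c2775 : Block F al 0 710656 660922 :=
  block_comb c2774 b2775 (Nat.zero_le _) (Nat.le_of_ble_eq_true rfl) rfl

theorem c2776 : Block F al 0 710912 661169 :=
  block_comb c2775 b2776 (Nat.zero_le _) (Nat.le_of_ble_eq_true rfl) rfl

theorem c2777 : Block F al 0 711168 661417 :=
  block_comb c2776 b2777 (Nat.zero_le _) (Nat.le_of_ble_eq_true rfl) rfl

theorem c2778 : Block F al 0 711424 661663 :=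
  block_comb c2777 b2778 (Nat.zero_le _) (Nat.le_of_ble_eq_true rfl) rfl

theorem c2779 : Block F al 0 711680 661893 :=
  block_comb c2778 b2779 (Nat.zero_le _) (Nat.le_of_ble_eq_true rfl) rfl

theorem c2780 : Block F al 0 711936 662149 :=
  block_comb c2779 b2780 (Nat.zero_le _) (Nat.le_of_ble_eq_true rfl) rfl

theorem c2781 : Block F al 0 712192 662393 :=
  block_comb c2780 b2781 (Nat.zero_le _) (Nat.le_of_ble_eq_true rfl) rfl

theorem c2782 : Block F al 0 712448 662631 :=
  block_comb c2781 b2782 (Nat.zero_le _) (Nat.le_of_ble_eq_true rfl) rfl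

theorem c2783 : Block F al 0 712704 662884 :=
  block_comb c2782 b2783 (Nat.zero_le _) (Nat.le_of_ble_eq_true rfl) rfl

theorem c2784 : Block F al 0 712960 663129 :=
  block_comb c2783 b2784 (Nat.zero_le _) (Nat.le_of_ble_eq_true rfl) rfl

theorem c2785 : Block F al 0 713216 663370 :=
  block_comb c2784 b2785 (Nat.zero_le _) (Nat.le_of_ble_eq_true rfl) rfl

theorem c2786 : Block F al 0 713472 663609 :=
  block_comb c2785 b2786 (Nat.zero_le _) (Nat.le_of_ble_eq_true rfl) rfl

theorem c2787 : Block F al 0 713728 663855 :=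
  block_comb c2786 b2787 (Nat.zero_le _) (Nat.le_of_ble_eq_true rfl) rfl

theorem c2788 : Block F al 0 713984 664093 :=
  block_comb c2787 b2788 (Nat.zero_le _) (Nat.le_of_ble_eq_true rfl) rfl

theorem c2789 : Block F al 0 714240 664334 :=
  block_comb c2788 b2789 (Nat.zero_le _) (Nat.le_of_ble_eq_true rfl) rfl

theorem c2790 : Block F al 0 714496 664576 :=
  block_comb c2789 b2790 (Nat.zero_le _) (Nat.le_of_ble_eq_true rfl) rfl

theorem c2791 : Block F al 0 714752 664823 :=
  block_comb c2790 b2791 (Nat.zero_le _) (Nat.le_of_ble_eq_true rfl) rfl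

theorem c2792 : Block F al 0 715008 665063 :=
  block_comb c2791 b2792 (Nat.zero_le _) (Nat.le_of_ble_eq_true rfl) rfl

theorem c2793 : Block F al 0 715264 665310 :=
  block_comb c2792 b2793 (Nat.zero_le _) (Nat.le_of_ble_eq_true rfl) rfl

theorem c2794 : Block F al 0 715520 665554 :=
  block_comb c2793 b2794 (Nat.zero_le _) (Nat.le_of_ble_eq_true rfl) rfl

theorem c2795 : Block F al 0 715776 665801 :=
  block_comb c2794 b2795 (Nat.zero_le _) (Nat.le_of_ble_eq_true rfl) rfl

theorem c2796 : Block F al 0 716032 666049 :=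
  block_comb c2795 b2796 (Nat.zero_le _) (Nat.le_of_ble_eq_true rfl) rfl

theorem c2797 : Block F al 0 716288 666256 :=
  block_comb c2796 b2797 (Nat.zero_le _) (Nat.le_of_ble_eq_true rfl) rfl

theorem c2798 : Block F al 0 716544 666495 :=
  block_comb c2797 b2798 (Nat.zero_le _) (Nat.le_of_ble_eq_true rfl) rfl

theorem c2799 : Block F al 0 716800 666709 :=
  block_comb c2798 b2799 (Nat.zero_le _) (Nat.le_of_ble_eq_true rfl) rfl

theorem c2800 : Block F al 0 717056 666956 :=
  block_comb c2799 b2800 (Nat.zero_le _) (Nat.le_of_ble_eq_true rfl) rfl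

theorem c2801 : Block F al 0 717312 667199 :=
  block_comb c2800 b2801 (Nat.zero_le _) (Nat.le_of_ble_eq_true rfl) rfl

theorem c2802 : Block F al 0 717568 667428 :=
  block_comb c2801 b2802 (Nat.zero_le _) (Nat.le_of_ble_eq_true rfl) rfl

theorem c2803 : Block F al 0 717824 667657 :=
  block_comb c2802 b2803 (Nat.zero_le _) (Nat.le_of_ble_eq_true rfl) rfl

theorem c2804 : Block F al 0 718080 667890 :=
  block_comb c2803 b2804 (Nat.zero_le _) (Nat.le_of_ble_eq_true rfl) rfl

theorem c2805 : Block F al 0 718336 668135 :=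
  block_comb c2804 b2805 (Nat.zero_le _) (Nat.le_of_ble_eq_true rfl) rfl

theorem c2806 : Block F al 0 718592 668374 :=
  block_comb c2805 b2806 (Nat.zero_le _) (Nat.le_of_ble_eq_true rfl) rfl

theorem c2807 : Block F al 0 718848 668603 :=
  block_comb c2806 b2807 (Nat.zero_le _) (Nat.le_of_ble_eq_true rfl) rfl

theorem c2808 : Block F al 0 719104 668829 :=
  block_comb c2807 b2808 (Nat.zero_le _) (Nat.le_of_ble_eq_true rfl) rfl

theorem c2809 : Block F al 0 719360 669072 :=
  block_comb c2808 b2809 (Nat.zero_le _) (Nat.le_of_ble_eq_true rfl) rfl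

theorem c2810 : Block F al 0 719616 669311 :=
  block_comb c2809 b2810 (Nat.zero_le _) (Nat.le_of_ble_eq_true rfl) rfl

theorem c2811 : Block F al 0 719872 669557 :=
  block_comb c2810 b2811 (Nat.zero_le _) (Nat.le_of_ble_eq_true rfl) rfl

theorem c2812 : Block F al 0 720128 669782 :=
  block_comb c2811 b2812 (Nat.zero_le _) (Nat.le_of_ble_eq_true rfl) rfl

theorem c2813 : Block F al 0 720384 670024 :=
  block_comb c2812 b2813 (Nat.zero_le _) (Nat.le_of_ble_eq_true rfl) rfl

theorem c2814 : Block F al 0 720640 670274 :=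
  block_comb c2813 b2814 (Nat.zero_le _) (Nat.le_of_ble_eq_true rfl) rfl

theorem c2815 : Block F al 0 720896 670483 :=
  block_comb c2814 b2815 (Nat.zero_le _) (Nat.le_of_ble_eq_true rfl) rfl

theorem c2816 : Block F al 0 721152 670736 :=
  block_comb c2815 b2816 (Nat.zero_le _) (Nat.le_of_ble_eq_true rfl) rfl

theorem c2817 : Block F al 0 721408 670979 :=
  block_comb c2816 b2817 (Nat.zero_le _) (Nat.le_of_ble_eq_true rfl) rfl

theorem c2818 : Block F al 0 721664 671224 :=
  block_comb c2817 b2818 (Nat.zero_le _) (Nat.le_of_ble_eq_true rfl) rfl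

theorem c2819 : Block F al 0 721920 671471 :=
  block_comb c2818 b2819 (Nat.zero_le _) (Nat.le_of_ble_eq_true rfl) rfl

theorem c2820 : Block F al 0 722176 671710 :=
  block_comb c2819 b2820 (Nat.zero_le _) (Nat.le_of_ble_eq_true rfl) rfl

theorem c2821 : Block F al 0 722432 671955 :=
  block_comb c2820 b2821 (Nat.zero_le _) (Nat.le_of_ble_eq_true rfl) rfl

theorem c2822 : Block F al 0 722688 672196 :=
  block_comb c2821 b2822 (Nat.zero_le _) (Nat.le_of_ble_eq_true rfl) rfl

theorem c2823 : Block F al 0 722944 672431 :=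
  block_comb c2822 b2823 (Nat.zero_le _) (Nat.le_of_ble_eq_true rfl) rfl

theorem c2824 : Block F al 0 723200 672670 :=
  block_comb c2823 b2824 (Nat.zero_le _) (Nat.le_of_ble_eq_true rfl) rfl

theorem c2825 : Block F al 0 723456 672909 :=
  block_comb c2824 b2825 (Nat.zero_le _) (Nat.le_of_ble_eq_true rfl) rfl

theorem c2826 : Block F al 0 723712 673146 :=
  block_comb c2825 b2826 (Nat.zero_le _) (Nat.le_of_ble_eq_true rfl) rfl

theorem c2827 : Block F al 0 723968 673399 :=
  block_comb c2826 b2827 (Nat.zero_le _) (Nat.le_of_ble_eq_true rfl) rfl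

theorem c2828 : Block F al 0 724224 673649 :=
  block_comb c2827 b2828 (Nat.zero_le _) (Nat.le_of_ble_eq_true rfl) rfl

theorem c2829 : Block F al 0 724480 673892 :=
  block_comb c2828 b2829 (Nat.zero_le _) (Nat.le_of_ble_eq_true rfl) rfl

theorem c2830 : Block F al 0 724736 674145 :=
  block_comb c2829 b2830 (Nat.zero_le _) (Nat.le_of_ble_eq_true rfl) rfl

theorem c2831 : Block F al 0 724992 674396 :=
  block_comb c2830 b2831 (Nat.zero_le _) (Nat.le_of_ble_eq_true rfl) rfl

theorem c2832 : Block F al 0 725248 674643 :=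
  block_comb c2831 b2832 (Nat.zero_le _) (Nat.le_of_ble_eq_true rfl) rfl

theorem c2833 : Block F al 0 725504 674894 :=
  block_comb c2832 b2833 (Nat.zero_le _) (Nat.le_of_ble_eq_true rfl) rfl

theorem c2834 : Block F al 0 725760 675126 :=
  block_comb c2833 b2834 (Nat.zero_le _) (Nat.le_of_ble_eq_true rfl) rfl

theorem c2835 : Block F al 0 726016 675376 :=
  block_comb c2834 b2835 (Nat.zero_le _) (Nat.le_of_ble_eq_true rfl) rfl

theorem c2836 : Block F al 0 726272 675623 :=
  block_comb c2835 b2836 (Nat.zero_le _) (Nat.le_of_ble_eq_true rfl) rfl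

theorem c2837 : Block F al 0 726528 675867 :=
  block_comb c2836 b2837 (Nat.zero_le _) (Nat.le_of_ble_eq_true rfl) rfl

theorem c2838 : Block F al 0 726784 676091 :=
  block_comb c2837 b2838 (Nat.zero_le _) (Nat.le_of_ble_eq_true rfl) rfl

theorem c2839 : Block F al 0 727040 676337 :=
  block_comb c2838 b2839 (Nat.zero_le _) (Nat.le_of_ble_eq_true rfl) rfl

theorem c2840 : Block F al 0 727296 676573 :=
  block_comb c2839 b2840 (Nat.zero_le _) (Nat.le_of_ble_eq_true rfl) rfl

theorem c2841 : Block F al 0 727552 676818 :=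
  block_comb c2840 b2841 (Nat.zero_le _) (Nat.le_of_ble_eq_true rfl) rfl

theorem c2842 : Block F al 0 727808 677065 :=
  block_comb c2841 b2842 (Nat.zero_le _) (Nat.le_of_ble_eq_true rfl) rfl

theorem c2843 : Block F al 0 728064 677285 :=
  block_comb c2842 b2843 (Nat.zero_le _) (Nat.le_of_ble_eq_true rfl) rfl

theorem c2844 : Block F al 0 728320 677533 :=
  block_comb c2843 b2844 (Nat.zero_le _) (Nat.le_of_ble_eq_true rfl) rfl

theorem c2845 : Block F al 0 728576 677773 :=
  block_comb c2844 b2845 (Nat.zero_le _) (Nat.le_of_ble_eq_true rfl) rfl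

theorem c2846 : Block F al 0 728832 678000 :=
  block_comb c2845 b2846 (Nat.zero_le _) (Nat.le_of_ble_eq_true rfl) rfl

theorem c2847 : Block F al 0 729088 678238 :=
  block_comb c2846 b2847 (Nat.zero_le _) (Nat.le_of_ble_eq_true rfl) rfl

theorem c2848 : Block F al 0 729344 678462 :=
  block_comb c2847 b2848 (Nat.zero_le _) (Nat.le_of_ble_eq_true rfl) rfl

theorem c2849 : Block F al 0 729600 678690 :=
  block_comb c2848 b2849 (Nat.zero_le _) (Nat.le_of_ble_eq_true rfl) rfl

theorem c2850 : Block F al 0 729856 678898 :=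
  block_comb c2849 b2850 (Nat.zero_le _) (Nat.le_of_ble_eq_true rfl) rfl

theorem c2851 : Block F al 0 730112 679121 :=
  block_comb c2850 b2851 (Nat.zero_le _) (Nat.le_of_ble_eq_true rfl) rfl

theorem c2852 : Block F al 0 730368 679356 :=
  block_comb c2851 b2852 (Nat.zero_le _) (Nat.le_of_ble_eq_true rfl) rfl

theorem c2853 : Block F al 0 730624 679582 :=
  block_comb c2852 b2853 (Nat.zero_le _) (Nat.le_of_ble_eq_true rfl) rfl

theorem c2854 : Block F al 0 730880 679816 :=
  block_comb c2853 b2854 (Nat.zero_le _) (Nat.le_of_ble_eq_true rfl) rfl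

theorem c2855 : Block F al 0 731136 680039 :=
  block_comb c2854 b2855 (Nat.zero_le _) (Nat.le_of_ble_eq_true rfl) rfl

theorem c2856 : Block F al 0 731392 680266 :=
  block_comb c2855 b2856 (Nat.zero_le _) (Nat.le_of_ble_eq_true rfl) rfl

theorem c2857 : Block F al 0 731648 680494 :=
  block_comb c2856 b2857 (Nat.zero_le _) (Nat.le_of_ble_eq_true rfl) rfl

theorem c2858 : Block F al 0 731904 680748 :=
  block_comb c2857 b2858 (Nat.zero_le _) (Nat.le_of_ble_eq_true rfl) rfl

theorem c2859 : Block F al 0 732160 680994 :=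
  block_comb c2858 b2859 (Nat.zero_le _) (Nat.le_of_ble_eq_true rfl) rfl

theorem c2860 : Block F al 0 732416 681235 :=
  block_comb c2859 b2860 (Nat.zero_le _) (Nat.le_of_ble_eq_true rfl) rfl

theorem c2861 : Block F al 0 732672 681478 :=
  block_comb c2860 b2861 (Nat.zero_le _) (Nat.le_of_ble_eq_true rfl) rfl

theorem c2862 : Block F al 0 732928 681715 :=
  block_comb c2861 b2862 (Nat.zero_le _) (Nat.le_of_ble_eq_true rfl) rfl

theorem c2863 : Block F al 0 733184 681969 :=
  block_comb c2862 b2863 (Nat.zero_le _) (Nat.le_of_ble_eq_true rfl) rfl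

theorem c2864 : Block F al 0 733440 682224 :=
  block_comb c2863 b2864 (Nat.zero_le _) (Nat.le_of_ble_eq_true rfl) rfl

theorem c2865 : Block F al 0 733696 682472 :=
  block_comb c2864 b2865 (Nat.zero_le _) (Nat.le_of_ble_eq_true rfl) rfl

theorem c2866 : Block F al 0 733952 682723 :=
  block_comb c2865 b2866 (Nat.zero_le _) (Nat.le_of_ble_eq_true rfl) rfl

theorem c2867 : Block F al 0 734208 682974 :=
  block_comb c2866 b2867 (Nat.zero_le _) (Nat.le_of_ble_eq_true rfl) rfl

theorem c2868 : Block F al 0 734464 683199 :=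
  block_comb c2867 b2868 (Nat.zero_le _) (Nat.le_of_ble_eq_true rfl) rfl

theorem c2869 : Block F al 0 734720 683442 :=
  block_comb c2868 b2869 (Nat.zero_le _) (Nat.le_of_ble_eq_true rfl) rfl

theorem c2870 : Block F al 0 734976 683687 :=
  block_comb c2869 b2870 (Nat.zero_le _) (Nat.le_of_ble_eq_true rfl) rfl

theorem c2871 : Block F al 0 735232 683941 :=
  block_comb c2870 b2871 (Nat.zero_le _) (Nat.le_of_ble_eq_true rfl) rfl

theorem c2872 : Block F al 0 735488 684192 :=
  block_comb c2871 b2872 (Nat.zero_le _) (Nat.le_of_ble_eq_true rfl) rfl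

theorem c2873 : Block F al 0 735744 684436 :=
  block_comb c2872 b2873 (Nat.zero_le _) (Nat.le_of_ble_eq_true rfl) rfl

theorem c2874 : Block F al 0 736000 684678 :=
  block_comb c2873 b2874 (Nat.zero_le _) (Nat.le_of_ble_eq_true rfl) rfl

theorem c2875 : Block F al 0 736256 684918 :=
  block_comb c2874 b2875 (Nat.zero_le _) (Nat.le_of_ble_eq_true rfl) rfl

theorem c2876 : Block F al 0 736512 685159 :=
  block_comb c2875 b2876 (Nat.zero_le _) (Nat.le_of_ble_eq_true rfl) rfl

theorem c2877 : Block F al 0 736768 685398 :=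
  block_comb c2876 b2877 (Nat.zero_le _) (Nat.le_of_ble_eq_true rfl) rfl

theorem c2878 : Block F al 0 737024 685638 :=
  block_comb c2877 b2878 (Nat.zero_le _) (Nat.le_of_ble_eq_true rfl) rfl

theorem c2879 : Block F al 0 737280 685884 :=
  block_comb c2878 b2879 (Nat.zero_le _) (Nat.le_of_ble_eq_true rfl) rfl

theorem c2880 : Block F al 0 737536 686138 :=
  block_comb c2879 b2880 (Nat.zero_le _) (Nat.le_of_ble_eq_true rfl) rfl

theorem c2881 : Block F al 0 737792 686385 :=
  block_comb c2880 b2881 (Nat.zero_le _) (Nat.le_of_ble_eq_true rfl) rfl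

theorem c2882 : Block F al 0 738048 686622 :=
  block_comb c2881 b2882 (Nat.zero_le _) (Nat.le_of_ble_eq_true rfl) rfl

theorem c2883 : Block F al 0 738304 686872 :=
  block_comb c2882 b2883 (Nat.zero_le _) (Nat.le_of_ble_eq_true rfl) rfl

theorem c2884 : Block F al 0 738560 687118 :=
  block_comb c2883 b2884 (Nat.zero_le _) (Nat.le_of_ble_eq_true rfl) rfl

theorem c2885 : Block F al 0 738816 687361 :=
  block_comb c2884 b2885 (Nat.zero_le _) (Nat.le_of_ble_eq_true rfl) rfl

theorem c2886 : Block F al 0 739072 687608 :=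
  block_comb c2885 b2886 (Nat.zero_le _) (Nat.le_of_ble_eq_true rfl) rfl

theorem c2887 : Block F al 0 739328 687855 :=
  block_comb c2886 b2887 (Nat.zero_le _) (Nat.le_of_ble_eq_true rfl) rfl

theorem c2888 : Block F al 0 739584 688103 :=
  block_comb c2887 b2888 (Nat.zero_le _) (Nat.le_of_ble_eq_true rfl) rfl

theorem c2889 : Block F al 0 739840 688355 :=
  block_comb c2888 b2889 (Nat.zero_le _) (Nat.le_of_ble_eq_true rfl) rfl

theorem c2890 : Block F al 0 740096 688608 :=
  block_comb c2889 b2890 (Nat.zero_le _) (Nat.le_of_ble_eq_true rfl) rfl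

theorem c2891 : Block F al 0 740352 688851 :=
  block_comb c2890 b2891 (Nat.zero_le _) (Nat.le_of_ble_eq_true rfl) rfl

theorem c2892 : Block F al 0 740608 689095 :=
  block_comb c2891 b2892 (Nat.zero_le _) (Nat.le_of_ble_eq_true rfl) rfl

theorem c2893 : Block F al 0 740864 689339 :=
  block_comb c2892 b2893 (Nat.zero_le _) (Nat.le_of_ble_eq_true rfl) rfl

theorem c2894 : Block F al 0 741120 689581 :=
  block_comb c2893 b2894 (Nat.zero_le _) (Nat.le_of_ble_eq_true rfl) rfl

theorem c2895 : Block F al 0 741376 689822 :=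
  block_comb c2894 b2895 (Nat.zero_le _) (Nat.le_of_ble_eq_true rfl) rfl

theorem c2896 : Block F al 0 741632 690070 :=
  block_comb c2895 b2896 (Nat.zero_le _) (Nat.le_of_ble_eq_true rfl) rfl

theorem c2897 : Block F al 0 741888 690314 :=
  block_comb c2896 b2897 (Nat.zero_le _) (Nat.le_of_ble_eq_true rfl) rfl

theorem c2898 : Block F al 0 742144 690556 :=
  block_comb c2897 b2898 (Nat.zero_le _) (Nat.le_of_ble_eq_true rfl) rfl

theorem c2899 : Block F al 0 742400 690795 :=
  block_comb c2898 b2899 (Nat.zero_le _) (Nat.le_of_ble_eq_true rfl) rfl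

theorem c2900 : Block F al 0 742656 691039 :=
  block_comb c2899 b2900 (Nat.zero_le _) (Nat.le_of_ble_eq_true rfl) rfl

theorem c2901 : Block F al 0 742912 691292 :=
  block_comb c2900 b2901 (Nat.zero_le _) (Nat.le_of_ble_eq_true rfl) rfl

theorem c2902 : Block F al 0 743168 691538 :=
  block_comb c2901 b2902 (Nat.zero_le _) (Nat.le_of_ble_eq_true rfl) rfl

theorem c2903 : Block F al 0 743424 691784 :=
  block_comb c2902 b2903 (Nat.zero_le _) (Nat.le_of_ble_eq_true rfl) rfl

theorem c2904 : Block F al 0 743680 692037 :=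
  block_comb c2903 b2904 (Nat.zero_le _) (Nat.le_of_ble_eq_true rfl) rfl

theorem c2905 : Block F al 0 743936 692293 :=
  block_comb c2904 b2905 (Nat.zero_le _) (Nat.le_of_ble_eq_true rfl) rfl

theorem c2906 : Block F al 0 744192 692534 :=
  block_comb c2905 b2906 (Nat.zero_le _) (Nat.le_of_ble_eq_true rfl) rfl

theorem c2907 : Block F al 0 744448 692777 :=
  block_comb c2906 b2907 (Nat.zero_le _) (Nat.le_of_ble_eq_true rfl) rfl

theorem c2908 : Block F al 0 744704 693020 :=
  block_comb c2907 b2908 (Nat.zero_le _) (Nat.le_of_ble_eq_true rfl) rfl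

theorem c2909 : Block F al 0 744960 693263 :=
  block_comb c2908 b2909 (Nat.zero_le _) (Nat.le_of_ble_eq_true rfl) rfl

theorem c2910 : Block F al 0 745216 693483 :=
  block_comb c2909 b2910 (Nat.zero_le _) (Nat.le_of_ble_eq_true rfl) rfl

theorem c2911 : Block F al 0 745472 693725 :=
  block_comb c2910 b2911 (Nat.zero_le _) (Nat.le_of_ble_eq_true rfl) rfl

theorem c2912 : Block F al 0 745728 693976 :=
  block_comb c2911 b2912 (Nat.zero_le _) (Nat.le_of_ble_eq_true rfl) rfl

theorem c2913 : Block F al 0 745984 694228 :=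
  block_comb c2912 b2913 (Nat.zero_le _) (Nat.le_of_ble_eq_true rfl) rfl

theorem c2914 : Block F al 0 746240 694457 :=
  block_comb c2913 b2914 (Nat.zero_le _) (Nat.le_of_ble_eq_true rfl) rfl

theorem c2915 : Block F al 0 746496 694691 :=
  block_comb c2914 b2915 (Nat.zero_le _) (Nat.le_of_ble_eq_true rfl) rfl

theorem c2916 : Block F al 0 746752 694933 :=
  block_comb c2915 b2916 (Nat.zero_le _) (Nat.le_of_ble_eq_true rfl) rfl

theorem c2917 : Block F al 0 747008 695182 :=
  block_comb c2916 b2917 (Nat.zero_le _) (Nat.le_of_ble_eq_true rfl) rfl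

theorem c2918 : Block F al 0 747264 695418 :=
  block_comb c2917 b2918 (Nat.zero_le _) (Nat.le_of_ble_eq_true rfl) rfl

theorem c2919 : Block F al 0 747520 695656 :=
  block_comb c2918 b2919 (Nat.zero_le _) (Nat.le_of_ble_eq_true rfl) rfl

theorem c2920 : Block F al 0 747776 695906 :=
  block_comb c2919 b2920 (Nat.zero_le _) (Nat.le_of_ble_eq_true rfl) rfl

theorem c2921 : Block F al 0 748032 696149 :=
  block_comb c2920 b2921 (Nat.zero_le _) (Nat.le_of_ble_eq_true rfl) rfl

theorem c2922 : Block F al 0 748288 696393 :=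
  block_comb c2921 b2922 (Nat.zero_le _) (Nat.le_of_ble_eq_true rfl) rfl

theorem c2923 : Block F al 0 748544 696637 :=
  block_comb c2922 b2923 (Nat.zero_le _) (Nat.le_of_ble_eq_true rfl) rfl

theorem c2924 : Block F al 0 748800 696889 :=
  block_comb c2923 b2924 (Nat.zero_le _) (Nat.le_of_ble_eq_true rfl) rfl

theorem c2925 : Block F al 0 749056 697139 :=
  block_comb c2924 b2925 (Nat.zero_le _) (Nat.le_of_ble_eq_true rfl) rfl

theorem c2926 : Block F al 0 749312 697390 :=
  block_comb c2925 b2926 (Nat.zero_le _) (Nat.le_of_ble_eq_true rfl) rfl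

theorem c2927 : Block F al 0 749568 697632 :=
  block_comb c2926 b2927 (Nat.zero_le _) (Nat.le_of_ble_eq_true rfl) rfl

theorem c2928 : Block F al 0 749824 697872 :=
  block_comb c2927 b2928 (Nat.zero_le _) (Nat.le_of_ble_eq_true rfl) rfl

theorem c2929 : Block F al 0 750080 698119 :=
  block_comb c2928 b2929 (Nat.zero_le _) (Nat.le_of_ble_eq_true rfl) rfl

theorem c2930 : Block F al 0 750336 698368 :=
  block_comb c2929 b2930 (Nat.zero_le _) (Nat.le_of_ble_eq_true rfl) rfl

theorem c2931 : Block F al 0 750592 698609 :=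
  block_comb c2930 b2931 (Nat.zero_le _) (Nat.le_of_ble_eq_true rfl) rfl

theorem c2932 : Block F al 0 750848 698861 :=
  block_comb c2931 b2932 (Nat.zero_le _) (Nat.le_of_ble_eq_true rfl) rfl

theorem c2933 : Block F al 0 751104 699105 :=
  block_comb c2932 b2933 (Nat.zero_le _) (Nat.le_of_ble_eq_true rfl) rfl

theorem c2934 : Block F al 0 751360 699355 :=
  block_comb c2933 b2934 (Nat.zero_le _) (Nat.le_of_ble_eq_true rfl) rfl

theorem c2935 : Block F al 0 751616 699608 :=
  block_comb c2934 b2935 (Nat.zero_le _) (Nat.le_of_ble_eq_true rfl) rfl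

theorem c2936 : Block F al 0 751872 699850 :=
  block_comb c2935 b2936 (Nat.zero_le _) (Nat.le_of_ble_eq_true rfl) rfl

theorem c2937 : Block F al 0 752128 700090 :=
  block_comb c2936 b2937 (Nat.zero_le _) (Nat.le_of_ble_eq_true rfl) rfl

theorem c2938 : Block F al 0 752384 700323 :=
  block_comb c2937 b2938 (Nat.zero_le _) (Nat.le_of_ble_eq_true rfl) rfl

theorem c2939 : Block F al 0 752640 700572 :=
  block_comb c2938 b2939 (Nat.zero_le _) (Nat.le_of_ble_eq_true rfl) rfl

theorem c2940 : Block F al 0 752896 700825 :=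
  block_comb c2939 b2940 (Nat.zero_le _) (Nat.le_of_ble_eq_true rfl) rfl

theorem c2941 : Block F al 0 753152 701063 :=
  block_comb c2940 b2941 (Nat.zero_le _) (Nat.le_of_ble_eq_true rfl) rfl

theorem c2942 : Block F al 0 753408 701301 :=
  block_comb c2941 b2942 (Nat.zero_le _) (Nat.le_of_ble_eq_true rfl) rfl

theorem c2943 : Block F al 0 753664 701548 :=
  block_comb c2942 b2943 (Nat.zero_le _) (Nat.le_of_ble_eq_true rfl) rfl

theorem c2944 : Block F al 0 753920 701788 :=
  block_comb c2943 b2944 (Nat.zero_le _) (Nat.le_of_ble_eq_true rfl) rfl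

theorem c2945 : Block F al 0 754176 702033 :=
  block_comb c2944 b2945 (Nat.zero_le _) (Nat.le_of_ble_eq_true rfl) rfl

theorem c2946 : Block F al 0 754432 702277 :=
  block_comb c2945 b2946 (Nat.zero_le _) (Nat.le_of_ble_eq_true rfl) rfl

theorem c2947 : Block F al 0 754688 702520 :=
  block_comb c2946 b2947 (Nat.zero_le _) (Nat.le_of_ble_eq_true rfl) rfl

theorem c2948 : Block F al 0 754944 702760 :=
  block_comb c2947 b2948 (Nat.zero_le _) (Nat.le_of_ble_eq_true rfl) rfl

theorem c2949 : Block F al 0 755200 703013 :=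
  block_comb c2948 b2949 (Nat.zero_le _) (Nat.le_of_ble_eq_true rfl) rfl

theorem c2950 : Block F al 0 755456 703258 :=
  block_comb c2949 b2950 (Nat.zero_le _) (Nat.le_of_ble_eq_true rfl) rfl

theorem c2951 : Block F al 0 755712 703501 :=
  block_comb c2950 b2951 (Nat.zero_le _) (Nat.le_of_ble_eq_true rfl) rfl

theorem c2952 : Block F al 0 755968 703739 :=
  block_comb c2951 b2952 (Nat.zero_le _) (Nat.le_of_ble_eq_true rfl) rfl

theorem c2953 : Block F al 0 756224 703982 :=
  block_comb c2952 b2953 (Nat.zero_le _) (Nat.le_of_ble_eq_true rfl) rfl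

theorem c2954 : Block F al 0 756480 704212 :=
  block_comb c2953 b2954 (Nat.zero_le _) (Nat.le_of_ble_eq_true rfl) rfl

theorem c2955 : Block F al 0 756736 704461 :=
  block_comb c2954 b2955 (Nat.zero_le _) (Nat.le_of_ble_eq_true rfl) rfl

theorem c2956 : Block F al 0 756992 704707 :=
  block_comb c2955 b2956 (Nat.zero_le _) (Nat.le_of_ble_eq_true rfl) rfl

theorem c2957 : Block F al 0 757248 704946 :=
  block_comb c2956 b2957 (Nat.zero_le _) (Nat.le_of_ble_eq_true rfl) rfl

theorem c2958 : Block F al 0 757504 705194 :=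
  block_comb c2957 b2958 (Nat.zero_le _) (Nat.le_of_ble_eq_true rfl) rfl

theorem c2959 : Block F al 0 757760 705438 :=
  block_comb c2958 b2959 (Nat.zero_le _) (Nat.le_of_ble_eq_true rfl) rfl

theorem c2960 : Block F al 0 758016 705672 :=
  block_comb c2959 b2960 (Nat.zero_le _) (Nat.le_of_ble_eq_true rfl) rfl

theorem c2961 : Block F al 0 758272 705922 :=
  block_comb c2960 b2961 (Nat.zero_le _) (Nat.le_of_ble_eq_true rfl) rfl

theorem c2962 : Block F al 0 758528 706154 :=
  block_comb c2961 b2962 (Nat.zero_le _) (Nat.le_of_ble_eq_true rfl) rfl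

theorem c2963 : Block F al 0 758784 706403 :=
  block_comb c2962 b2963 (Nat.zero_le _) (Nat.le_of_ble_eq_true rfl) rfl

theorem c2964 : Block F al 0 759040 706657 :=
  block_comb c2963 b2964 (Nat.zero_le _) (Nat.le_of_ble_eq_true rfl) rfl

theorem c2965 : Block F al 0 759296 706902 :=
  block_comb c2964 b2965 (Nat.zero_le _) (Nat.le_of_ble_eq_true rfl) rfl

theorem c2966 : Block F al 0 759552 707148 :=
  block_comb c2965 b2966 (Nat.zero_le _) (Nat.le_of_ble_eq_true rfl) rfl

theorem c2967 : Block F al 0 759808 707400 :=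
  block_comb c2966 b2967 (Nat.zero_le _) (Nat.le_of_ble_eq_true rfl) rfl

theorem c2968 : Block F al 0 760064 707636 :=
  block_comb c2967 b2968 (Nat.zero_le _) (Nat.le_of_ble_eq_true rfl) rfl

theorem c2969 : Block F al 0 760320 707888 :=
  block_comb c2968 b2969 (Nat.zero_le _) (Nat.le_of_ble_eq_true rfl) rfl

theorem c2970 : Block F al 0 760576 708138 :=
  block_comb c2969 b2970 (Nat.zero_le _) (Nat.le_of_ble_eq_true rfl) rfl

theorem c2971 : Block F al 0 760832 708384 :=
  block_comb c2970 b2971 (Nat.zero_le _) (Nat.le_of_ble_eq_true rfl) rfl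

theorem c2972 : Block F al 0 761088 708626 :=
  block_comb c2971 b2972 (Nat.zero_le _) (Nat.le_of_ble_eq_true rfl) rfl

theorem c2973 : Block F al 0 761344 708870 :=
  block_comb c2972 b2973 (Nat.zero_le _) (Nat.le_of_ble_eq_true rfl) rfl

theorem c2974 : Block F al 0 761600 709125 :=
  block_comb c2973 b2974 (Nat.zero_le _) (Nat.le_of_ble_eq_true rfl) rfl

theorem c2975 : Block F al 0 761856 709367 :=
  block_comb c2974 b2975 (Nat.zero_le _) (Nat.le_of_ble_eq_true rfl) rfl

theorem c2976 : Block F al 0 762112 709620 :=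
  block_comb c2975 b2976 (Nat.zero_le _) (Nat.le_of_ble_eq_true rfl) rfl

theorem c2977 : Block F al 0 762368 709868 :=
  block_comb c2976 b2977 (Nat.zero_le _) (Nat.le_of_ble_eq_true rfl) rfl

theorem c2978 : Block F al 0 762624 710106 :=
  block_comb c2977 b2978 (Nat.zero_le _) (Nat.le_of_ble_eq_true rfl) rfl

theorem c2979 : Block F al 0 762880 710356 :=
  block_comb c2978 b2979 (Nat.zero_le _) (Nat.le_of_ble_eq_true rfl) rfl

theorem c2980 : Block F al 0 763136 710597 :=
  block_comb c2979 b2980 (Nat.zero_le _) (Nat.le_of_ble_eq_true rfl) rfl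

theorem c2981 : Block F al 0 763392 710847 :=
  block_comb c2980 b2981 (Nat.zero_le _) (Nat.le_of_ble_eq_true rfl) rfl

theorem c2982 : Block F al 0 763648 711095 :=
  block_comb c2981 b2982 (Nat.zero_le _) (Nat.le_of_ble_eq_true rfl) rfl

theorem c2983 : Block F al 0 763904 711338 :=
  block_comb c2982 b2983 (Nat.zero_le _) (Nat.le_of_ble_eq_true rfl) rfl

theorem c2984 : Block F al 0 764160 711578 :=
  block_comb c2983 b2984 (Nat.zero_le _) (Nat.le_of_ble_eq_true rfl) rfl

theorem c2985 : Block F al 0 764416 711821 :=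
  block_comb c2984 b2985 (Nat.zero_le _) (Nat.le_of_ble_eq_true rfl) rfl

theorem c2986 : Block F al 0 764672 712065 :=
  block_comb c2985 b2986 (Nat.zero_le _) (Nat.le_of_ble_eq_true rfl) rfl

theorem c2987 : Block F al 0 764928 712307 :=
  block_comb c2986 b2987 (Nat.zero_le _) (Nat.le_of_ble_eq_true rfl) rfl

theorem c2988 : Block F al 0 765184 712553 :=
  block_comb c2987 b2988 (Nat.zero_le _) (Nat.le_of_ble_eq_true rfl) rfl

theorem c2989 : Block F al 0 765440 712798 :=
  block_comb c2988 b2989 (Nat.zero_le _) (Nat.le_of_ble_eq_true rfl) rfl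

theorem c2990 : Block F al 0 765696 713045 :=
  block_comb c2989 b2990 (Nat.zero_le _) (Nat.le_of_ble_eq_true rfl) rfl

theorem c2991 : Block F al 0 765952 713284 :=
  block_comb c2990 b2991 (Nat.zero_le _) (Nat.le_of_ble_eq_true rfl) rfl

theorem c2992 : Block F al 0 766208 713527 :=
  block_comb c2991 b2992 (Nat.zero_le _) (Nat.le_of_ble_eq_true rfl) rfl

theorem c2993 : Block F al 0 766464 713771 :=
  block_comb c2992 b2993 (Nat.zero_le _) (Nat.le_of_ble_eq_true rfl) rfl

theorem c2994 : Block F al 0 766720 714013 :=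
  block_comb c2993 b2994 (Nat.zero_le _) (Nat.le_of_ble_eq_true rfl) rfl

theorem c2995 : Block F al 0 766976 714254 :=
  block_comb c2994 b2995 (Nat.zero_le _) (Nat.le_of_ble_eq_true rfl) rfl

theorem c2996 : Block F al 0 767232 714499 :=
  block_comb c2995 b2996 (Nat.zero_le _) (Nat.le_of_ble_eq_true rfl) rfl

theorem c2997 : Block F al 0 767488 714750 :=
  block_comb c2996 b2997 (Nat.zero_le _) (Nat.le_of_ble_eq_true rfl) rfl

theorem c2998 : Block F al 0 767744 714999 :=
  block_comb c2997 b2998 (Nat.zero_le _) (Nat.le_of_ble_eq_true rfl) rfl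

theorem c2999 : Block F al 0 768000 715243 :=
  block_comb c2998 b2999 (Nat.zero_le _) (Nat.le_of_ble_eq_true rfl) rfl

theorem c3000 : Block F al 0 768256 715497 :=
  block_comb c2999 b3000 (Nat.zero_le _) (Nat.le_of_ble_eq_true rfl) rfl

theorem c3001 : Block F al 0 768512 715742 :=
  block_comb c3000 b3001 (Nat.zero_le _) (Nat.le_of_ble_eq_true rfl) rfl

theorem c3002 : Block F al 0 768768 715986 :=
  block_comb c3001 b3002 (Nat.zero_le _) (Nat.le_of_ble_eq_true rfl) rfl

theorem c3003 : Block F al 0 769024 716225 :=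
  block_comb c3002 b3003 (Nat.zero_le _) (Nat.le_of_ble_eq_true rfl) rfl

theorem c3004 : Block F al 0 769280 716447 :=
  block_comb c3003 b3004 (Nat.zero_le _) (Nat.le_of_ble_eq_true rfl) rfl

theorem c3005 : Block F al 0 769536 716686 :=
  block_comb c3004 b3005 (Nat.zero_le _) (Nat.le_of_ble_eq_true rfl) rfl

theorem c3006 : Block F al 0 769792 716927 :=
  block_comb c3005 b3006 (Nat.zero_le _) (Nat.le_of_ble_eq_true rfl) rfl

theorem c3007 : Block F al 0 770048 717174 :=
  block_comb c3006 b3007 (Nat.zero_le _) (Nat.le_of_ble_eq_true rfl) rfl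

theorem c3008 : Block F al 0 770304 717418 :=
  block_comb c3007 b3008 (Nat.zero_le _) (Nat.le_of_ble_eq_true rfl) rfl

theorem c3009 : Block F al 0 770560 717659 :=
  block_comb c3008 b3009 (Nat.zero_le _) (Nat.le_of_ble_eq_true rfl) rfl

theorem c3010 : Block F al 0 770816 717907 :=
  block_comb c3009 b3010 (Nat.zero_le _) (Nat.le_of_ble_eq_true rfl) rfl

theorem c3011 : Block F al 0 771072 718159 :=
  block_comb c3010 b3011 (Nat.zero_le _) (Nat.le_of_ble_eq_true rfl) rfl

theorem c3012 : Block F al 0 771328 718410 :=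
  block_comb c3011 b3012 (Nat.zero_le _) (Nat.le_of_ble_eq_true rfl) rfl

theorem c3013 : Block F al 0 771584 718649 :=
  block_comb c3012 b3013 (Nat.zero_le _) (Nat.le_of_ble_eq_true rfl) rfl

theorem c3014 : Block F al 0 771840 718898 :=
  block_comb c3013 b3014 (Nat.zero_le _) (Nat.le_of_ble_eq_true rfl) rfl

theorem c3015 : Block F al 0 772096 719147 :=
  block_comb c3014 b3015 (Nat.zero_le _) (Nat.le_of_ble_eq_true rfl) rfl

theorem c3016 : Block F al 0 772352 719383 :=
  block_comb c3015 b3016 (Nat.zero_le _) (Nat.le_of_ble_eq_true rfl) rfl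

theorem c3017 : Block F al 0 772608 719628 :=
  block_comb c3016 b3017 (Nat.zero_le _) (Nat.le_of_ble_eq_true rfl) rfl

theorem c3018 : Block F al 0 772864 719868 :=
  block_comb c3017 b3018 (Nat.zero_le _) (Nat.le_of_ble_eq_true rfl) rfl

theorem c3019 : Block F al 0 773120 720107 :=
  block_comb c3018 b3019 (Nat.zero_le _) (Nat.le_of_ble_eq_true rfl) rfl

theorem c3020 : Block F al 0 773376 720346 :=
  block_comb c3019 b3020 (Nat.zero_le _) (Nat.le_of_ble_eq_true rfl) rfl

theorem c3021 : Block F al 0 773632 720582 :=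
  block_comb c3020 b3021 (Nat.zero_le _) (Nat.le_of_ble_eq_true rfl) rfl

theorem c3022 : Block F al 0 773888 720825 :=
  block_comb c3021 b3022 (Nat.zero_le _) (Nat.le_of_ble_eq_true rfl) rfl

theorem c3023 : Block F al 0 774144 721064 :=
  block_comb c3022 b3023 (Nat.zero_le _) (Nat.le_of_ble_eq_true rfl) rfl

theorem c3024 : Block F al 0 774400 721300 :=
  block_comb c3023 b3024 (Nat.zero_le _) (Nat.le_of_ble_eq_true rfl) rfl

theorem c3025 : Block F al 0 774656 721547 :=
  block_comb c3024 b3025 (Nat.zero_le _) (Nat.le_of_ble_eq_true rfl) rfl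

theorem c3026 : Block F al 0 774912 721803 :=
  block_comb c3025 b3026 (Nat.zero_le _) (Nat.le_of_ble_eq_true rfl) rfl

theorem c3027 : Block F al 0 775168 722038 :=
  block_comb c3026 b3027 (Nat.zero_le _) (Nat.le_of_ble_eq_true rfl) rfl

theorem c3028 : Block F al 0 775424 722272 :=
  block_comb c3027 b3028 (Nat.zero_le _) (Nat.le_of_ble_eq_true rfl) rfl

theorem c3029 : Block F al 0 775680 722516 :=
  block_comb c3028 b3029 (Nat.zero_le _) (Nat.le_of_ble_eq_true rfl) rfl

theorem c3030 : Block F al 0 775936 722755 :=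
  block_comb c3029 b3030 (Nat.zero_le _) (Nat.le_of_ble_eq_true rfl) rfl

theorem c3031 : Block F al 0 776192 722982 :=
  block_comb c3030 b3031 (Nat.zero_le _) (Nat.le_of_ble_eq_true rfl) rfl

theorem c3032 : Block F al 0 776448 723221 :=
  block_comb c3031 b3032 (Nat.zero_le _) (Nat.le_of_ble_eq_true rfl) rfl

theorem c3033 : Block F al 0 776704 723471 :=
  block_comb c3032 b3033 (Nat.zero_le _) (Nat.le_of_ble_eq_true rfl) rfl

theorem c3034 : Block F al 0 776960 723718 :=
  block_comb c3033 b3034 (Nat.zero_le _) (Nat.le_of_ble_eq_true rfl) rfl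

theorem c3035 : Block F al 0 777216 723956 :=
  block_comb c3034 b3035 (Nat.zero_le _) (Nat.le_of_ble_eq_true rfl) rfl

theorem c3036 : Block F al 0 777472 724196 :=
  block_comb c3035 b3036 (Nat.zero_le _) (Nat.le_of_ble_eq_true rfl) rfl

theorem c3037 : Block F al 0 777728 724440 :=
  block_comb c3036 b3037 (Nat.zero_le _) (Nat.le_of_ble_eq_true rfl) rfl

theorem c3038 : Block F al 0 777984 724678 :=
  block_comb c3037 b3038 (Nat.zero_le _) (Nat.le_of_ble_eq_true rfl) rfl

theorem c3039 : Block F al 0 778240 724906 :=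
  block_comb c3038 b3039 (Nat.zero_le _) (Nat.le_of_ble_eq_true rfl) rfl

theorem c3040 : Block F al 0 778496 725144 :=
  block_comb c3039 b3040 (Nat.zero_le _) (Nat.le_of_ble_eq_true rfl) rfl

theorem c3041 : Block F al 0 778752 725372 :=
  block_comb c3040 b3041 (Nat.zero_le _) (Nat.le_of_ble_eq_true rfl) rfl

theorem c3042 : Block F al 0 779008 725607 :=
  block_comb c3041 b3042 (Nat.zero_le _) (Nat.le_of_ble_eq_true rfl) rfl

theorem c3043 : Block F al 0 779264 725850 :=
  block_comb c3042 b3043 (Nat.zero_le _) (Nat.le_of_ble_eq_true rfl) rfl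

theorem c3044 : Block F al 0 779520 726095 :=
  block_comb c3043 b3044 (Nat.zero_le _) (Nat.le_of_ble_eq_true rfl) rfl

theorem c3045 : Block F al 0 779776 726322 :=
  block_comb c3044 b3045 (Nat.zero_le _) (Nat.le_of_ble_eq_true rfl) rfl

theorem c3046 : Block F al 0 780032 726541 :=
  block_comb c3045 b3046 (Nat.zero_le _) (Nat.le_of_ble_eq_true rfl) rfl

theorem c3047 : Block F al 0 780288 726788 :=
  block_comb c3046 b3047 (Nat.zero_le _) (Nat.le_of_ble_eq_true rfl) rfl

theorem c3048 : Block F al 0 780544 727034 :=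
  block_comb c3047 b3048 (Nat.zero_le _) (Nat.le_of_ble_eq_true rfl) rfl

theorem c3049 : Block F al 0 780800 727273 :=
  block_comb c3048 b3049 (Nat.zero_le _) (Nat.le_of_ble_eq_true rfl) rfl

theorem c3050 : Block F al 0 781056 727514 :=
  block_comb c3049 b3050 (Nat.zero_le _) (Nat.le_of_ble_eq_true rfl) rfl

theorem c3051 : Block F al 0 781312 727769 :=
  block_comb c3050 b3051 (Nat.zero_le _) (Nat.le_of_ble_eq_true rfl) rfl

theorem c3052 : Block F al 0 781568 728014 :=
  block_comb c3051 b3052 (Nat.zero_le _) (Nat.le_of_ble_eq_true rfl) rfl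

theorem c3053 : Block F al 0 781824 728257 :=
  block_comb c3052 b3053 (Nat.zero_le _) (Nat.le_of_ble_eq_true rfl) rfl

theorem c3054 : Block F al 0 782080 728501 :=
  block_comb c3053 b3054 (Nat.zero_le _) (Nat.le_of_ble_eq_true rfl) rfl

theorem c3055 : Block F al 0 782336 728738 :=
  block_comb c3054 b3055 (Nat.zero_le _) (Nat.le_of_ble_eq_true rfl) rfl

theorem c3056 : Block F al 0 782592 728988 :=
  block_comb c3055 b3056 (Nat.zero_le _) (Nat.le_of_ble_eq_true rfl) rfl

theorem c3057 : Block F al 0 782848 729233 :=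
  block_comb c3056 b3057 (Nat.zero_le _) (Nat.le_of_ble_eq_true rfl) rfl

theorem c3058 : Block F al 0 783104 729473 :=
  block_comb c3057 b3058 (Nat.zero_le _) (Nat.le_of_ble_eq_true rfl) rfl

theorem c3059 : Block F al 0 783360 729715 :=
  block_comb c3058 b3059 (Nat.zero_le _) (Nat.le_of_ble_eq_true rfl) rfl

theorem c3060 : Block F al 0 783616 729965 :=
  block_comb c3059 b3060 (Nat.zero_le _) (Nat.le_of_ble_eq_true rfl) rfl

theorem c3061 : Block F al 0 783872 730203 :=
  block_comb c3060 b3061 (Nat.zero_le _) (Nat.le_of_ble_eq_true rfl) rfl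

theorem c3062 : Block F al 0 784128 730440 :=
  block_comb c3061 b3062 (Nat.zero_le _) (Nat.le_of_ble_eq_true rfl) rfl

theorem c3063 : Block F al 0 784384 730673 :=
  block_comb c3062 b3063 (Nat.zero_le _) (Nat.le_of_ble_eq_true rfl) rfl

theorem c3064 : Block F al 0 784640 730901 :=
  block_comb c3063 b3064 (Nat.zero_le _) (Nat.le_of_ble_eq_true rfl) rfl

theorem c3065 : Block F al 0 784896 731152 :=
  block_comb c3064 b3065 (Nat.zero_le _) (Nat.le_of_ble_eq_true rfl) rfl

theorem c3066 : Block F al 0 785152 731402 :=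
  block_comb c3065 b3066 (Nat.zero_le _) (Nat.le_of_ble_eq_true rfl) rfl

theorem c3067 : Block F al 0 785408 731637 :=
  block_comb c3066 b3067 (Nat.zero_le _) (Nat.le_of_ble_eq_true rfl) rfl

theorem c3068 : Block F al 0 785664 731884 :=
  block_comb c3067 b3068 (Nat.zero_le _) (Nat.le_of_ble_eq_true rfl) rfl

theorem c3069 : Block F al 0 785920 732139 :=
  block_comb c3068 b3069 (Nat.zero_le _) (Nat.le_of_ble_eq_true rfl) rfl

theorem c3070 : Block F al 0 786176 732390 :=
  block_comb c3069 b3070 (Nat.zero_le _) (Nat.le_of_ble_eq_true rfl) rfl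

theorem c3071 : Block F al 0 786432 732642 :=
  block_comb c3070 b3071 (Nat.zero_le _) (Nat.le_of_ble_eq_true rfl) rfl

theorem c3072 : Block F al 0 786688 732887 :=
  block_comb c3071 b3072 (Nat.zero_le _) (Nat.le_of_ble_eq_true rfl) rfl

theorem c3073 : Block F al 0 786944 733119 :=
  block_comb c3072 b3073 (Nat.zero_le _) (Nat.le_of_ble_eq_true rfl) rfl

theorem c3074 : Block F al 0 787200 733355 :=
  block_comb c3073 b3074 (Nat.zero_le _) (Nat.le_of_ble_eq_true rfl) rfl

theorem c3075 : Block F al 0 787456 733585 :=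
  block_comb c3074 b3075 (Nat.zero_le _) (Nat.le_of_ble_eq_true rfl) rfl

theorem c3076 : Block F al 0 787712 733829 :=
  block_comb c3075 b3076 (Nat.zero_le _) (Nat.le_of_ble_eq_true rfl) rfl

theorem c3077 : Block F al 0 787968 734066 :=
  block_comb c3076 b3077 (Nat.zero_le _) (Nat.le_of_ble_eq_true rfl) rfl

theorem c3078 : Block F al 0 788224 734313 :=
  block_comb c3077 b3078 (Nat.zero_le _) (Nat.le_of_ble_eq_true rfl) rfl

theorem c3079 : Block F al 0 788480 734555 :=
  block_comb c3078 b3079 (Nat.zero_le _) (Nat.le_of_ble_eq_true rfl) rfl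

theorem c3080 : Block F al 0 788736 734796 :=
  block_comb c3079 b3080 (Nat.zero_le _) (Nat.le_of_ble_eq_true rfl) rfl

theorem c3081 : Block F al 0 788992 735040 :=
  block_comb c3080 b3081 (Nat.zero_le _) (Nat.le_of_ble_eq_true rfl) rfl

theorem c3082 : Block F al 0 789248 735274 :=
  block_comb c3081 b3082 (Nat.zero_le _) (Nat.le_of_ble_eq_true rfl) rfl

theorem c3083 : Block F al 0 789504 735511 :=
  block_comb c3082 b3083 (Nat.zero_le _) (Nat.le_of_ble_eq_true rfl) rfl

theorem c3084 : Block F al 0 789760 735756 :=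
  block_comb c3083 b3084 (Nat.zero_le _) (Nat.le_of_ble_eq_true rfl) rfl

theorem c3085 : Block F al 0 790016 735997 :=
  block_comb c3084 b3085 (Nat.zero_le _) (Nat.le_of_ble_eq_true rfl) rfl

theorem c3086 : Block F al 0 790272 736234 :=
  block_comb c3085 b3086 (Nat.zero_le _) (Nat.le_of_ble_eq_true rfl) rfl

theorem c3087 : Block F al 0 790528 736472 :=
  block_comb c3086 b3087 (Nat.zero_le _) (Nat.le_of_ble_eq_true rfl) rfl

theorem c3088 : Block F al 0 790784 736716 :=
  block_comb c3087 b3088 (Nat.zero_le _) (Nat.le_of_ble_eq_true rfl) rfl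

theorem c3089 : Block F al 0 791040 736958 :=
  block_comb c3088 b3089 (Nat.zero_le _) (Nat.le_of_ble_eq_true rfl) rfl

theorem c3090 : Block F al 0 791296 737209 :=
  block_comb c3089 b3090 (Nat.zero_le _) (Nat.le_of_ble_eq_true rfl) rfl

theorem c3091 : Block F al 0 791552 737446 :=
  block_comb c3090 b3091 (Nat.zero_le _) (Nat.le_of_ble_eq_true rfl) rfl

theorem c3092 : Block F al 0 791808 737684 :=
  block_comb c3091 b3092 (Nat.zero_le _) (Nat.le_of_ble_eq_true rfl) rfl

theorem c3093 : Block F al 0 792064 737927 :=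
  block_comb c3092 b3093 (Nat.zero_le _) (Nat.le_of_ble_eq_true rfl) rfl

theorem c3094 : Block F al 0 792320 738167 :=
  block_comb c3093 b3094 (Nat.zero_le _) (Nat.le_of_ble_eq_true rfl) rfl

theorem c3095 : Block F al 0 792576 738403 :=
  block_comb c3094 b3095 (Nat.zero_le _) (Nat.le_of_ble_eq_true rfl) rfl

theorem c3096 : Block F al 0 792832 738640 :=
  block_comb c3095 b3096 (Nat.zero_le _) (Nat.le_of_ble_eq_true rfl) rfl

theorem c3097 : Block F al 0 793088 738876 :=
  block_comb c3096 b3097 (Nat.zero_le _) (Nat.le_of_ble_eq_true rfl) rfl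

theorem c3098 : Block F al 0 793344 739106 :=
  block_comb c3097 b3098 (Nat.zero_le _) (Nat.le_of_ble_eq_true rfl) rfl

theorem c3099 : Block F al 0 793600 739350 :=
  block_comb c3098 b3099 (Nat.zero_le _) (Nat.le_of_ble_eq_true rfl) rfl

theorem c3100 : Block F al 0 793856 739594 :=
  block_comb c3099 b3100 (Nat.zero_le _) (Nat.le_of_ble_eq_true rfl) rfl

theorem c3101 : Block F al 0 794112 739844 :=
  block_comb c3100 b3101 (Nat.zero_le _) (Nat.le_of_ble_eq_true rfl) rfl

theorem c3102 : Block F al 0 794368 740080 :=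
  block_comb c3101 b3102 (Nat.zero_le _) (Nat.le_of_ble_eq_true rfl) rfl

theorem c3103 : Block F al 0 794624 740325 :=
  block_comb c3102 b3103 (Nat.zero_le _) (Nat.le_of_ble_eq_true rfl) rfl

theorem c3104 : Block F al 0 794880 740560 :=
  block_comb c3103 b3104 (Nat.zero_le _) (Nat.le_of_ble_eq_true rfl) rfl

theorem c3105 : Block F al 0 795136 740798 :=
  block_comb c3104 b3105 (Nat.zero_le _) (Nat.le_of_ble_eq_true rfl) rfl

theorem c3106 : Block F al 0 795392 741034 :=
  block_comb c3105 b3106 (Nat.zero_le _) (Nat.le_of_ble_eq_true rfl) rfl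

theorem c3107 : Block F al 0 795648 741271 :=
  block_comb c3106 b3107 (Nat.zero_le _) (Nat.le_of_ble_eq_true rfl) rfl

theorem c3108 : Block F al 0 795904 741505 :=
  block_comb c3107 b3108 (Nat.zero_le _) (Nat.le_of_ble_eq_true rfl) rfl

theorem c3109 : Block F al 0 796160 741751 :=
  block_comb c3108 b3109 (Nat.zero_le _) (Nat.le_of_ble_eq_true rfl) rfl

theorem c3110 : Block F al 0 796416 741999 :=
  block_comb c3109 b3110 (Nat.zero_le _) (Nat.le_of_ble_eq_true rfl) rfl

theorem c3111 : Block F al 0 796672 742233 :=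
  block_comb c3110 b3111 (Nat.zero_le _) (Nat.le_of_ble_eq_true rfl) rfl

theorem c3112 : Block F al 0 796928 742480 :=
  block_comb c3111 b3112 (Nat.zero_le _) (Nat.le_of_ble_eq_true rfl) rfl

theorem c3113 : Block F al 0 797184 742723 :=
  block_comb c3112 b3113 (Nat.zero_le _) (Nat.le_of_ble_eq_true rfl) rfl

theorem c3114 : Block F al 0 797440 742963 :=
  block_comb c3113 b3114 (Nat.zero_le _) (Nat.le_of_ble_eq_true rfl) rfl

theorem c3115 : Block F al 0 797696 743213 :=
  block_comb c3114 b3115 (Nat.zero_le _) (Nat.le_of_ble_eq_true rfl) rfl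

theorem c3116 : Block F al 0 797952 743451 :=
  block_comb c3115 b3116 (Nat.zero_le _) (Nat.le_of_ble_eq_true rfl) rfl

theorem c3117 : Block F al 0 798208 743692 :=
  block_comb c3116 b3117 (Nat.zero_le _) (Nat.le_of_ble_eq_true rfl) rfl

theorem c3118 : Block F al 0 798464 743928 :=
  block_comb c3117 b3118 (Nat.zero_le _) (Nat.le_of_ble_eq_true rfl) rfl

theorem c3119 : Block F al 0 798720 744167 :=
  block_comb c3118 b3119 (Nat.zero_le _) (Nat.le_of_ble_eq_true rfl) rfl

theorem c3120 : Block F al 0 798976 744409 :=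
  block_comb c3119 b3120 (Nat.zero_le _) (Nat.le_of_ble_eq_true rfl) rfl

theorem c3121 : Block F al 0 799232 744649 :=
  block_comb c3120 b3121 (Nat.zero_le _) (Nat.le_of_ble_eq_true rfl) rfl

theorem c3122 : Block F al 0 799488 744887 :=
  block_comb c3121 b3122 (Nat.zero_le _) (Nat.le_of_ble_eq_true rfl) rfl

theorem c3123 : Block F al 0 799744 745117 :=
  block_comb c3122 b3123 (Nat.zero_le _) (Nat.le_of_ble_eq_true rfl) rfl

theorem c3124 : Block F al 0 800000 745359 :=
  block_comb c3123 b3124 (Nat.zero_le _) (Nat.le_of_ble_eq_true rfl) rfl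

theorem c3125 : Block F al 0 800256 745596 :=
  block_comb c3124 b3125 (Nat.zero_le _) (Nat.le_of_ble_eq_true rfl) rfl

theorem c3126 : Block F al 0 800512 745839 :=
  block_comb c3125 b3126 (Nat.zero_le _) (Nat.le_of_ble_eq_true rfl) rfl

theorem c3127 : Block F al 0 800768 746081 :=
  block_comb c3126 b3127 (Nat.zero_le _) (Nat.le_of_ble_eq_true rfl) rfl

theorem c3128 : Block F al 0 801024 746322 :=
  block_comb c3127 b3128 (Nat.zero_le _) (Nat.le_of_ble_eq_true rfl) rfl

theorem c3129 : Block F al 0 801280 746559 :=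
  block_comb c3128 b3129 (Nat.zero_le _) (Nat.le_of_ble_eq_true rfl) rfl

theorem c3130 : Block F al 0 801536 746797 :=
  block_comb c3129 b3130 (Nat.zero_le _) (Nat.le_of_ble_eq_true rfl) rfl

theorem c3131 : Block F al 0 801792 747031 :=
  block_comb c3130 b3131 (Nat.zero_le _) (Nat.le_of_ble_eq_true rfl) rfl

theorem c3132 : Block F al 0 802048 747270 :=
  block_comb c3131 b3132 (Nat.zero_le _) (Nat.le_of_ble_eq_true rfl) rfl

theorem c3133 : Block F al 0 802304 747517 :=
  block_comb c3132 b3133 (Nat.zero_le _) (Nat.le_of_ble_eq_true rfl) rfl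

theorem c3134 : Block F al 0 802560 747765 :=
  block_comb c3133 b3134 (Nat.zero_le _) (Nat.le_of_ble_eq_true rfl) rfl

theorem c3135 : Block F al 0 802816 748018 :=
  block_comb c3134 b3135 (Nat.zero_le _) (Nat.le_of_ble_eq_true rfl) rfl

theorem c3136 : Block F al 0 803072 748264 :=
  block_comb c3135 b3136 (Nat.zero_le _) (Nat.le_of_ble_eq_true rfl) rfl

theorem c3137 : Block F al 0 803328 748511 :=
  block_comb c3136 b3137 (Nat.zero_le _) (Nat.le_of_ble_eq_true rfl) rfl

theorem c3138 : Block F al 0 803584 748763 :=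
  block_comb c3137 b3138 (Nat.zero_le _) (Nat.le_of_ble_eq_true rfl) rfl

theorem c3139 : Block F al 0 803840 749011 :=
  block_comb c3138 b3139 (Nat.zero_le _) (Nat.le_of_ble_eq_true rfl) rfl

theorem c3140 : Block F al 0 804096 749259 :=
  block_comb c3139 b3140 (Nat.zero_le _) (Nat.le_of_ble_eq_true rfl) rfl

theorem c3141 : Block F al 0 804352 749505 :=
  block_comb c3140 b3141 (Nat.zero_le _) (Nat.le_of_ble_eq_true rfl) rfl

theorem c3142 : Block F al 0 804608 749749 :=
  block_comb c3141 b3142 (Nat.zero_le _) (Nat.le_of_ble_eq_true rfl) rfl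

theorem c3143 : Block F al 0 804864 749982 :=
  block_comb c3142 b3143 (Nat.zero_le _) (Nat.le_of_ble_eq_true rfl) rfl

theorem c3144 : Block F al 0 805120 750225 :=
  block_comb c3143 b3144 (Nat.zero_le _) (Nat.le_of_ble_eq_true rfl) rfl

theorem c3145 : Block F al 0 805376 750470 :=
  block_comb c3144 b3145 (Nat.zero_le _) (Nat.le_of_ble_eq_true rfl) rfl

theorem c3146 : Block F al 0 805632 750719 :=
  block_comb c3145 b3146 (Nat.zero_le _) (Nat.le_of_ble_eq_true rfl) rfl

theorem c3147 : Block F al 0 805888 750965 :=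
  block_comb c3146 b3147 (Nat.zero_le _) (Nat.le_of_ble_eq_true rfl) rfl

theorem c3148 : Block F al 0 806144 751215 :=
  block_comb c3147 b3148 (Nat.zero_le _) (Nat.le_of_ble_eq_true rfl) rfl

theorem c3149 : Block F al 0 806400 751455 :=
  block_comb c3148 b3149 (Nat.zero_le _) (Nat.le_of_ble_eq_true rfl) rfl

theorem c3150 : Block F al 0 806656 751698 :=
  block_comb c3149 b3150 (Nat.zero_le _) (Nat.le_of_ble_eq_true rfl) rfl

theorem c3151 : Block F al 0 806912 751948 :=
  block_comb c3150 b3151 (Nat.zero_le _) (Nat.le_of_ble_eq_true rfl) rfl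

theorem c3152 : Block F al 0 807168 752198 :=
  block_comb c3151 b3152 (Nat.zero_le _) (Nat.le_of_ble_eq_true rfl) rfl

theorem c3153 : Block F al 0 807424 752442 :=
  block_comb c3152 b3153 (Nat.zero_le _) (Nat.le_of_ble_eq_true rfl) rfl

theorem c3154 : Block F al 0 807680 752692 :=
  block_comb c3153 b3154 (Nat.zero_le _) (Nat.le_of_ble_eq_true rfl) rfl

theorem c3155 : Block F al 0 807936 752937 :=
  block_comb c3154 b3155 (Nat.zero_le _) (Nat.le_of_ble_eq_true rfl) rfl

theorem c3156 : Block F al 0 808192 753186 :=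
  block_comb c3155 b3156 (Nat.zero_le _) (Nat.le_of_ble_eq_true rfl) rfl

theorem c3157 : Block F al 0 808448 753427 :=
  block_comb c3156 b3157 (Nat.zero_le _) (Nat.le_of_ble_eq_true rfl) rfl

theorem c3158 : Block F al 0 808704 753674 :=
  block_comb c3157 b3158 (Nat.zero_le _) (Nat.le_of_ble_eq_true rfl) rfl

theorem c3159 : Block F al 0 808960 753927 :=
  block_comb c3158 b3159 (Nat.zero_le _) (Nat.le_of_ble_eq_true rfl) rfl

theorem c3160 : Block F al 0 809216 754180 :=
  block_comb c3159 b3160 (Nat.zero_le _) (Nat.le_of_ble_eq_true rfl) rfl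

theorem c3161 : Block F al 0 809472 754432 :=
  block_comb c3160 b3161 (Nat.zero_le _) (Nat.le_of_ble_eq_true rfl) rfl

theorem c3162 : Block F al 0 809728 754679 :=
  block_comb c3161 b3162 (Nat.zero_le _) (Nat.le_of_ble_eq_true rfl) rfl

theorem c3163 : Block F al 0 809984 754932 :=
  block_comb c3162 b3163 (Nat.zero_le _) (Nat.le_of_ble_eq_true rfl) rfl

theorem c3164 : Block F al 0 810240 755179 :=
  block_comb c3163 b3164 (Nat.zero_le _) (Nat.le_of_ble_eq_true rfl) rfl

theorem c3165 : Block F al 0 810496 755416 :=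
  block_comb c3164 b3165 (Nat.zero_le _) (Nat.le_of_ble_eq_true rfl) rfl

theorem c3166 : Block F al 0 810752 755663 :=
  block_comb c3165 b3166 (Nat.zero_le _) (Nat.le_of_ble_eq_true rfl) rfl

theorem c3167 : Block F al 0 811008 755905 :=
  block_comb c3166 b3167 (Nat.zero_le _) (Nat.le_of_ble_eq_true rfl) rfl

theorem c3168 : Block F al 0 811264 756147 :=
  block_comb c3167 b3168 (Nat.zero_le _) (Nat.le_of_ble_eq_true rfl) rfl

theorem c3169 : Block F al 0 811520 756394 :=
  block_comb c3168 b3169 (Nat.zero_le _) (Nat.le_of_ble_eq_true rfl) rfl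

theorem c3170 : Block F al 0 811776 756646 :=
  block_comb c3169 b3170 (Nat.zero_le _) (Nat.le_of_ble_eq_true rfl) rfl

theorem c3171 : Block F al 0 812032 756897 :=
  block_comb c3170 b3171 (Nat.zero_le _) (Nat.le_of_ble_eq_true rfl) rfl

theorem c3172 : Block F al 0 812288 757152 :=
  block_comb c3171 b3172 (Nat.zero_le _) (Nat.le_of_ble_eq_true rfl) rfl

theorem c3173 : Block F al 0 812544 757407 :=
  block_comb c3172 b3173 (Nat.zero_le _) (Nat.le_of_ble_eq_true rfl) rfl

theorem c3174 : Block F al 0 812800 757662 :=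
  block_comb c3173 b3174 (Nat.zero_le _) (Nat.le_of_ble_eq_true rfl) rfl

theorem c3175 : Block F al 0 813056 757909 :=
  block_comb c3174 b3175 (Nat.zero_le _) (Nat.le_of_ble_eq_true rfl) rfl

theorem c3176 : Block F al 0 813312 758148 :=
  block_comb c3175 b3176 (Nat.zero_le _) (Nat.le_of_ble_eq_true rfl) rfl

theorem c3177 : Block F al 0 813568 758386 :=
  block_comb c3176 b3177 (Nat.zero_le _) (Nat.le_of_ble_eq_true rfl) rfl

theorem c3178 : Block F al 0 813824 758634 :=
  block_comb c3177 b3178 (Nat.zero_le _) (Nat.le_of_ble_eq_true rfl) rfl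

theorem c3179 : Block F al 0 814080 758879 :=
  block_comb c3178 b3179 (Nat.zero_le _) (Nat.le_of_ble_eq_true rfl) rfl

theorem c3180 : Block F al 0 814336 759117 :=
  block_comb c3179 b3180 (Nat.zero_le _) (Nat.le_of_ble_eq_true rfl) rfl

theorem c3181 : Block F al 0 814592 759355 :=
  block_comb c3180 b3181 (Nat.zero_le _) (Nat.le_of_ble_eq_true rfl) rfl

theorem c3182 : Block F al 0 814848 759600 :=
  block_comb c3181 b3182 (Nat.zero_le _) (Nat.le_of_ble_eq_true rfl) rfl

theorem c3183 : Block F al 0 815104 759842 :=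
  block_comb c3182 b3183 (Nat.zero_le _) (Nat.le_of_ble_eq_true rfl) rfl

theorem c3184 : Block F al 0 815360 760090 :=
  block_comb c3183 b3184 (Nat.zero_le _) (Nat.le_of_ble_eq_true rfl) rfl

theorem c3185 : Block F al 0 815616 760344 :=
  block_comb c3184 b3185 (Nat.zero_le _) (Nat.le_of_ble_eq_true rfl) rfl

theorem c3186 : Block F al 0 815872 760580 :=
  block_comb c3185 b3186 (Nat.zero_le _) (Nat.le_of_ble_eq_true rfl) rfl

theorem c3187 : Block F al 0 816128 760827 :=
  block_comb c3186 b3187 (Nat.zero_le _) (Nat.le_of_ble_eq_true rfl) rfl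

theorem c3188 : Block F al 0 816384 761076 :=
  block_comb c3187 b3188 (Nat.zero_le _) (Nat.le_of_ble_eq_true rfl) rfl

theorem c3189 : Block F al 0 816640 761330 :=
  block_comb c3188 b3189 (Nat.zero_le _) (Nat.le_of_ble_eq_true rfl) rfl

theorem c3190 : Block F al 0 816896 761564 :=
  block_comb c3189 b3190 (Nat.zero_le _) (Nat.le_of_ble_eq_true rfl) rfl

theorem c3191 : Block F al 0 817152 761818 :=
  block_comb c3190 b3191 (Nat.zero_le _) (Nat.le_of_ble_eq_true rfl) rfl

theorem c3192 : Block F al 0 817408 762067 :=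
  block_comb c3191 b3192 (Nat.zero_le _) (Nat.le_of_ble_eq_true rfl) rfl

theorem c3193 : Block F al 0 817664 762318 :=
  block_comb c3192 b3193 (Nat.zero_le _) (Nat.le_of_ble_eq_true rfl) rfl

theorem c3194 : Block F al 0 817920 762570 :=
  block_comb c3193 b3194 (Nat.zero_le _) (Nat.le_of_ble_eq_true rfl) rfl

theorem c3195 : Block F al 0 818176 762813 :=
  block_comb c3194 b3195 (Nat.zero_le _) (Nat.le_of_ble_eq_true rfl) rfl

theorem c3196 : Block F al 0 818432 763058 :=
  block_comb c3195 b3196 (Nat.zero_le _) (Nat.le_of_ble_eq_true rfl) rfl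

theorem c3197 : Block F al 0 818688 763311 :=
  block_comb c3196 b3197 (Nat.zero_le _) (Nat.le_of_ble_eq_true rfl) rfl

theorem c3198 : Block F al 0 818944 763561 :=
  block_comb c3197 b3198 (Nat.zero_le _) (Nat.le_of_ble_eq_true rfl) rfl

theorem c3199 : Block F al 0 819200 763813 :=
  block_comb c3198 b3199 (Nat.zero_le _) (Nat.le_of_ble_eq_true rfl) rfl

theorem c3200 : Block F al 0 819456 764065 :=
  block_comb c3199 b3200 (Nat.zero_le _) (Nat.le_of_ble_eq_true rfl) rfl

theorem c3201 : Block F al 0 819712 764316 :=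
  block_comb c3200 b3201 (Nat.zero_le _) (Nat.le_of_ble_eq_true rfl) rfl

theorem c3202 : Block F al 0 819968 764560 :=
  block_comb c3201 b3202 (Nat.zero_le _) (Nat.le_of_ble_eq_true rfl) rfl

theorem c3203 : Block F al 0 820224 764806 :=
  block_comb c3202 b3203 (Nat.zero_le _) (Nat.le_of_ble_eq_true rfl) rfl

theorem c3204 : Block F al 0 820480 765054 :=
  block_comb c3203 b3204 (Nat.zero_le _) (Nat.le_of_ble_eq_true rfl) rfl

theorem c3205 : Block F al 0 820736 765305 :=
  block_comb c3204 b3205 (Nat.zero_le _) (Nat.le_of_ble_eq_true rfl) rfl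

theorem c3206 : Block F al 0 820992 765557 :=
  block_comb c3205 b3206 (Nat.zero_le _) (Nat.le_of_ble_eq_true rfl) rfl

theorem c3207 : Block F al 0 821248 765808 :=
  block_comb c3206 b3207 (Nat.zero_le _) (Nat.le_of_ble_eq_true rfl) rfl

theorem c3208 : Block F al 0 821504 766057 :=
  block_comb c3207 b3208 (Nat.zero_le _) (Nat.le_of_ble_eq_true rfl) rfl

theorem c3209 : Block F al 0 821760 766299 :=
  block_comb c3208 b3209 (Nat.zero_le _) (Nat.le_of_ble_eq_true rfl) rfl

theorem c3210 : Block F al 0 822016 766549 :=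
  block_comb c3209 b3210 (Nat.zero_le _) (Nat.le_of_ble_eq_true rfl) rfl

theorem c3211 : Block F al 0 822272 766788 :=
  block_comb c3210 b3211 (Nat.zero_le _) (Nat.le_of_ble_eq_true rfl) rfl

theorem c3212 : Block F al 0 822528 767037 :=
  block_comb c3211 b3212 (Nat.zero_le _) (Nat.le_of_ble_eq_true rfl) rfl

theorem c3213 : Block F al 0 822784 767283 :=
  block_comb c3212 b3213 (Nat.zero_le _) (Nat.le_of_ble_eq_true rfl) rfl

theorem c3214 : Block F al 0 823040 767521 :=
  block_comb c3213 b3214 (Nat.zero_le _) (Nat.le_of_ble_eq_true rfl) rfl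

theorem c3215 : Block F al 0 823296 767765 :=
  block_comb c3214 b3215 (Nat.zero_le _) (Nat.le_of_ble_eq_true rfl) rfl

theorem c3216 : Block F al 0 823552 768017 :=
  block_comb c3215 b3216 (Nat.zero_le _) (Nat.le_of_ble_eq_true rfl) rfl

theorem c3217 : Block F al 0 823808 768256 :=
  block_comb c3216 b3217 (Nat.zero_le _) (Nat.le_of_ble_eq_true rfl) rfl

theorem c3218 : Block F al 0 824064 768498 :=
  block_comb c3217 b3218 (Nat.zero_le _) (Nat.le_of_ble_eq_true rfl) rfl

theorem c3219 : Block F al 0 824320 768743 :=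
  block_comb c3218 b3219 (Nat.zero_le _) (Nat.le_of_ble_eq_true rfl) rfl

theorem c3220 : Block F al 0 824576 768991 :=
  block_comb c3219 b3220 (Nat.zero_le _) (Nat.le_of_ble_eq_true rfl) rfl

theorem c3221 : Block F al 0 824832 769238 :=
  block_comb c3220 b3221 (Nat.zero_le _) (Nat.le_of_ble_eq_true rfl) rfl

theorem c3222 : Block F al 0 825088 769490 :=
  block_comb c3221 b3222 (Nat.zero_le _) (Nat.le_of_ble_eq_true rfl) rfl

theorem c3223 : Block F al 0 825344 769739 :=
  block_comb c3222 b3223 (Nat.zero_le _) (Nat.le_of_ble_eq_true rfl) rfl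

theorem c3224 : Block F al 0 825600 769984 :=
  block_comb c3223 b3224 (Nat.zero_le _) (Nat.le_of_ble_eq_true rfl) rfl

theorem c3225 : Block F al 0 825856 770229 :=
  block_comb c3224 b3225 (Nat.zero_le _) (Nat.le_of_ble_eq_true rfl) rfl

theorem c3226 : Block F al 0 826112 770479 :=
  block_comb c3225 b3226 (Nat.zero_le _) (Nat.le_of_ble_eq_true rfl) rfl

theorem c3227 : Block F al 0 826368 770715 :=
  block_comb c3226 b3227 (Nat.zero_le _) (Nat.le_of_ble_eq_true rfl) rfl

theorem c3228 : Block F al 0 826624 770967 :=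
  block_comb c3227 b3228 (Nat.zero_le _) (Nat.le_of_ble_eq_true rfl) rfl

theorem c3229 : Block F al 0 826880 771219 :=
  block_comb c3228 b3229 (Nat.zero_le _) (Nat.le_of_ble_eq_true rfl) rfl

theorem c3230 : Block F al 0 827136 771471 :=
  block_comb c3229 b3230 (Nat.zero_le _) (Nat.le_of_ble_eq_true rfl) rfl

theorem c3231 : Block F al 0 827392 771724 :=
  block_comb c3230 b3231 (Nat.zero_le _) (Nat.le_of_ble_eq_true rfl) rfl

theorem c3232 : Block F al 0 827648 771966 :=
  block_comb c3231 b3232 (Nat.zero_le _) (Nat.le_of_ble_eq_true rfl) rfl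

theorem c3233 : Block F al 0 827904 772210 :=
  block_comb c3232 b3233 (Nat.zero_le _) (Nat.le_of_ble_eq_true rfl) rfl

theorem c3234 : Block F al 0 828160 772450 :=
  block_comb c3233 b3234 (Nat.zero_le _) (Nat.le_of_ble_eq_true rfl) rfl

theorem c3235 : Block F al 0 828416 772692 :=
  block_comb c3234 b3235 (Nat.zero_le _) (Nat.le_of_ble_eq_true rfl) rfl

theorem c3236 : Block F al 0 828672 772930 :=
  block_comb c3235 b3236 (Nat.zero_le _) (Nat.le_of_ble_eq_true rfl) rfl

theorem c3237 : Block F al 0 828928 773175 :=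
  block_comb c3236 b3237 (Nat.zero_le _) (Nat.le_of_ble_eq_true rfl) rfl

theorem c3238 : Block F al 0 829184 773411 :=
  block_comb c3237 b3238 (Nat.zero_le _) (Nat.le_of_ble_eq_true rfl) rfl

theorem c3239 : Block F al 0 829440 773655 :=
  block_comb c3238 b3239 (Nat.zero_le _) (Nat.le_of_ble_eq_true rfl) rfl

theorem c3240 : Block F al 0 829696 773905 :=
  block_comb c3239 b3240 (Nat.zero_le _) (Nat.le_of_ble_eq_true rfl) rfl

theorem c3241 : Block F al 0 829952 774154 :=
  block_comb c3240 b3241 (Nat.zero_le _) (Nat.le_of_ble_eq_true rfl) rfl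

theorem c3242 : Block F al 0 830208 774402 :=
  block_comb c3241 b3242 (Nat.zero_le _) (Nat.le_of_ble_eq_true rfl) rfl

theorem c3243 : Block F al 0 830464 774644 :=
  block_comb c3242 b3243 (Nat.zero_le _) (Nat.le_of_ble_eq_true rfl) rfl

theorem c3244 : Block F al 0 830720 774888 :=
  block_comb c3243 b3244 (Nat.zero_le _) (Nat.le_of_ble_eq_true rfl) rfl

theorem c3245 : Block F al 0 830976 775138 :=
  block_comb c3244 b3245 (Nat.zero_le _) (Nat.le_of_ble_eq_true rfl) rfl

theorem c3246 : Block F al 0 831232 775389 :=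
  block_comb c3245 b3246 (Nat.zero_le _) (Nat.le_of_ble_eq_true rfl) rfl

theorem c3247 : Block F al 0 831488 775638 :=
  block_comb c3246 b3247 (Nat.zero_le _) (Nat.le_of_ble_eq_true rfl) rfl

theorem c3248 : Block F al 0 831744 775888 :=
  block_comb c3247 b3248 (Nat.zero_le _) (Nat.le_of_ble_eq_true rfl) rfl

theorem c3249 : Block F al 0 832000 776131 :=
  block_comb c3248 b3249 (Nat.zero_le _) (Nat.le_of_ble_eq_true rfl) rfl

theorem c3250 : Block F al 0 832256 776374 :=
  block_comb c3249 b3250 (Nat.zero_le _) (Nat.le_of_ble_eq_true rfl) rfl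

theorem c3251 : Block F al 0 832512 776614 :=
  block_comb c3250 b3251 (Nat.zero_le _) (Nat.le_of_ble_eq_true rfl) rfl

theorem c3252 : Block F al 0 832768 776864 :=
  block_comb c3251 b3252 (Nat.zero_le _) (Nat.le_of_ble_eq_true rfl) rfl

theorem c3253 : Block F al 0 833024 777112 :=
  block_comb c3252 b3253 (Nat.zero_le _) (Nat.le_of_ble_eq_true rfl) rfl

theorem c3254 : Block F al 0 833280 777366 :=
  block_comb c3253 b3254 (Nat.zero_le _) (Nat.le_of_ble_eq_true rfl) rfl

theorem c3255 : Block F al 0 833536 777614 :=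
  block_comb c3254 b3255 (Nat.zero_le _) (Nat.le_of_ble_eq_true rfl) rfl

theorem c3256 : Block F al 0 833792 777864 :=
  block_comb c3255 b3256 (Nat.zero_le _) (Nat.le_of_ble_eq_true rfl) rfl

theorem c3257 : Block F al 0 834048 778110 :=
  block_comb c3256 b3257 (Nat.zero_le _) (Nat.le_of_ble_eq_true rfl) rfl

theorem c3258 : Block F al 0 834304 778351 :=
  block_comb c3257 b3258 (Nat.zero_le _) (Nat.le_of_ble_eq_true rfl) rfl

theorem c3259 : Block F al 0 834560 778601 :=
  block_comb c3258 b3259 (Nat.zero_le _) (Nat.le_of_ble_eq_true rfl) rfl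

theorem c3260 : Block F al 0 834816 778848 :=
  block_comb c3259 b3260 (Nat.zero_le _) (Nat.le_of_ble_eq_true rfl) rfl

theorem c3261 : Block F al 0 835072 779091 :=
  block_comb c3260 b3261 (Nat.zero_le _) (Nat.le_of_ble_eq_true rfl) rfl

theorem c3262 : Block F al 0 835328 779337 :=
  block_comb c3261 b3262 (Nat.zero_le _) (Nat.le_of_ble_eq_true rfl) rfl

theorem c3263 : Block F al 0 835584 779588 :=
  block_comb c3262 b3263 (Nat.zero_le _) (Nat.le_of_ble_eq_true rfl) rfl

theorem c3264 : Block F al 0 835840 779831 :=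
  block_comb c3263 b3264 (Nat.zero_le _) (Nat.le_of_ble_eq_true rfl) rfl

theorem c3265 : Block F al 0 836096 780075 :=
  block_comb c3264 b3265 (Nat.zero_le _) (Nat.le_of_ble_eq_true rfl) rfl

theorem c3266 : Block F al 0 836352 780323 :=
  block_comb c3265 b3266 (Nat.zero_le _) (Nat.le_of_ble_eq_true rfl) rfl

theorem c3267 : Block F al 0 836608 780573 :=
  block_comb c3266 b3267 (Nat.zero_le _) (Nat.le_of_ble_eq_true rfl) rfl

theorem c3268 : Block F al 0 836864 780818 :=
  block_comb c3267 b3268 (Nat.zero_le _) (Nat.le_of_ble_eq_true rfl) rfl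

theorem c3269 : Block F al 0 837120 781067 :=
  block_comb c3268 b3269 (Nat.zero_le _) (Nat.le_of_ble_eq_true rfl) rfl

theorem c3270 : Block F al 0 837376 781313 :=
  block_comb c3269 b3270 (Nat.zero_le _) (Nat.le_of_ble_eq_true rfl) rfl

theorem c3271 : Block F al 0 837632 781561 :=
  block_comb c3270 b3271 (Nat.zero_le _) (Nat.le_of_ble_eq_true rfl) rfl

theorem c3272 : Block F al 0 837888 781810 :=
  block_comb c3271 b3272 (Nat.zero_le _) (Nat.le_of_ble_eq_true rfl) rfl

theorem c3273 : Block F al 0 838144 782058 :=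
  block_comb c3272 b3273 (Nat.zero_le _) (Nat.le_of_ble_eq_true rfl) rfl

theorem c3274 : Block F al 0 838400 782300 :=
  block_comb c3273 b3274 (Nat.zero_le _) (Nat.le_of_ble_eq_true rfl) rfl

theorem c3275 : Block F al 0 838656 782548 :=
  block_comb c3274 b3275 (Nat.zero_le _) (Nat.le_of_ble_eq_true rfl) rfl

theorem c3276 : Block F al 0 838912 782801 :=
  block_comb c3275 b3276 (Nat.zero_le _) (Nat.le_of_ble_eq_true rfl) rfl

theorem c3277 : Block F al 0 839168 783048 :=
  block_comb c3276 b3277 (Nat.zero_le _) (Nat.le_of_ble_eq_true rfl) rfl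

theorem c3278 : Block F al 0 839424 783287 :=
  block_comb c3277 b3278 (Nat.zero_le _) (Nat.le_of_ble_eq_true rfl) rfl

theorem c3279 : Block F al 0 839680 783516 :=
  block_comb c3278 b3279 (Nat.zero_le _) (Nat.le_of_ble_eq_true rfl) rfl

theorem c3280 : Block F al 0 839936 783759 :=
  block_comb c3279 b3280 (Nat.zero_le _) (Nat.le_of_ble_eq_true rfl) rfl

theorem c3281 : Block F al 0 840192 783998 :=
  block_comb c3280 b3281 (Nat.zero_le _) (Nat.le_of_ble_eq_true rfl) rfl

theorem c3282 : Block F al 0 840448 784235 :=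
  block_comb c3281 b3282 (Nat.zero_le _) (Nat.le_of_ble_eq_true rfl) rfl

theorem c3283 : Block F al 0 840704 784476 :=
  block_comb c3282 b3283 (Nat.zero_le _) (Nat.le_of_ble_eq_true rfl) rfl

theorem c3284 : Block F al 0 840960 784718 :=
  block_comb c3283 b3284 (Nat.zero_le _) (Nat.le_of_ble_eq_true rfl) rfl

theorem c3285 : Block F al 0 841216 784947 :=
  block_comb c3284 b3285 (Nat.zero_le _) (Nat.le_of_ble_eq_true rfl) rfl

theorem c3286 : Block F al 0 841472 785174 :=
  block_comb c3285 b3286 (Nat.zero_le _) (Nat.le_of_ble_eq_true rfl) rfl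

theorem c3287 : Block F al 0 841728 785424 :=
  block_comb c3286 b3287 (Nat.zero_le _) (Nat.le_of_ble_eq_true rfl) rfl

theorem c3288 : Block F al 0 841984 785678 :=
  block_comb c3287 b3288 (Nat.zero_le _) (Nat.le_of_ble_eq_true rfl) rfl

theorem c3289 : Block F al 0 842240 785917 :=
  block_comb c3288 b3289 (Nat.zero_le _) (Nat.le_of_ble_eq_true rfl) rfl

theorem c3290 : Block F al 0 842496 786166 :=
  block_comb c3289 b3290 (Nat.zero_le _) (Nat.le_of_ble_eq_true rfl) rfl

theorem c3291 : Block F al 0 842752 786410 :=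
  block_comb c3290 b3291 (Nat.zero_le _) (Nat.le_of_ble_eq_true rfl) rfl

theorem c3292 : Block F al 0 843008 786644 :=
  block_comb c3291 b3292 (Nat.zero_le _) (Nat.le_of_ble_eq_true rfl) rfl

theorem c3293 : Block F al 0 843264 786884 :=
  block_comb c3292 b3293 (Nat.zero_le _) (Nat.le_of_ble_eq_true rfl) rfl

theorem c3294 : Block F al 0 843520 787113 :=
  block_comb c3293 b3294 (Nat.zero_le _) (Nat.le_of_ble_eq_true rfl) rfl

theorem c3295 : Block F al 0 843776 787353 :=
  block_comb c3294 b3295 (Nat.zero_le _) (Nat.le_of_ble_eq_true rfl) rfl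

theorem c3296 : Block F al 0 844032 787593 :=
  block_comb c3295 b3296 (Nat.zero_le _) (Nat.le_of_ble_eq_true rfl) rfl

theorem c3297 : Block F al 0 844288 787834 :=
  block_comb c3296 b3297 (Nat.zero_le _) (Nat.le_of_ble_eq_true rfl) rfl

theorem c3298 : Block F al 0 844544 788084 :=
  block_comb c3297 b3298 (Nat.zero_le _) (Nat.le_of_ble_eq_true rfl) rfl

theorem c3299 : Block F al 0 844800 788316 :=
  block_comb c3298 b3299 (Nat.zero_le _) (Nat.le_of_ble_eq_true rfl) rfl

theorem c3300 : Block F al 0 845056 788550 :=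
  block_comb c3299 b3300 (Nat.zero_le _) (Nat.le_of_ble_eq_true rfl) rfl

theorem c3301 : Block F al 0 845312 788794 :=
  block_comb c3300 b3301 (Nat.zero_le _) (Nat.le_of_ble_eq_true rfl) rfl

theorem c3302 : Block F al 0 845568 789025 :=
  block_comb c3301 b3302 (Nat.zero_le _) (Nat.le_of_ble_eq_true rfl) rfl

theorem c3303 : Block F al 0 845824 789255 :=
  block_comb c3302 b3303 (Nat.zero_le _) (Nat.le_of_ble_eq_true rfl) rfl

theorem c3304 : Block F al 0 846080 789508 :=
  block_comb c3303 b3304 (Nat.zero_le _) (Nat.le_of_ble_eq_true rfl) rfl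

theorem c3305 : Block F al 0 846336 789756 :=
  block_comb c3304 b3305 (Nat.zero_le _) (Nat.le_of_ble_eq_true rfl) rfl

theorem c3306 : Block F al 0 846592 789994 :=
  block_comb c3305 b3306 (Nat.zero_le _) (Nat.le_of_ble_eq_true rfl) rfl

theorem c3307 : Block F al 0 846848 790238 :=
  block_comb c3306 b3307 (Nat.zero_le _) (Nat.le_of_ble_eq_true rfl) rfl

theorem c3308 : Block F al 0 847104 790481 :=
  block_comb c3307 b3308 (Nat.zero_le _) (Nat.le_of_ble_eq_true rfl) rfl

theorem c3309 : Block F al 0 847360 790727 :=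
  block_comb c3308 b3309 (Nat.zero_le _) (Nat.le_of_ble_eq_true rfl) rfl

theorem c3310 : Block F al 0 847616 790977 :=
  block_comb c3309 b3310 (Nat.zero_le _) (Nat.le_of_ble_eq_true rfl) rfl

theorem c3311 : Block F al 0 847872 791221 :=
  block_comb c3310 b3311 (Nat.zero_le _) (Nat.le_of_ble_eq_true rfl) rfl

theorem c3312 : Block F al 0 848128 791459 :=
  block_comb c3311 b3312 (Nat.zero_le _) (Nat.le_of_ble_eq_true rfl) rfl

theorem c3313 : Block F al 0 848384 791699 :=
  block_comb c3312 b3313 (Nat.zero_le _) (Nat.le_of_ble_eq_true rfl) rfl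

theorem c3314 : Block F al 0 848640 791943 :=
  block_comb c3313 b3314 (Nat.zero_le _) (Nat.le_of_ble_eq_true rfl) rfl

theorem c3315 : Block F al 0 848896 792178 :=
  block_comb c3314 b3315 (Nat.zero_le _) (Nat.le_of_ble_eq_true rfl) rfl

theorem c3316 : Block F al 0 849152 792427 :=
  block_comb c3315 b3316 (Nat.zero_le _) (Nat.le_of_ble_eq_true rfl) rfl

theorem c3317 : Block F al 0 849408 792678 :=
  block_comb c3316 b3317 (Nat.zero_le _) (Nat.le_of_ble_eq_true rfl) rfl

theorem c3318 : Block F al 0 849664 792924 :=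
  block_comb c3317 b3318 (Nat.zero_le _) (Nat.le_of_ble_eq_true rfl) rfl

theorem c3319 : Block F al 0 849920 793142 :=
  block_comb c3318 b3319 (Nat.zero_le _) (Nat.le_of_ble_eq_true rfl) rfl

theorem c3320 : Block F al 0 850176 793362 :=
  block_comb c3319 b3320 (Nat.zero_le _) (Nat.le_of_ble_eq_true rfl) rfl

theorem c3321 : Block F al 0 850432 793599 :=
  block_comb c3320 b3321 (Nat.zero_le _) (Nat.le_of_ble_eq_true rfl) rfl

theorem c3322 : Block F al 0 850688 793845 :=
  block_comb c3321 b3322 (Nat.zero_le _) (Nat.le_of_ble_eq_true rfl) rfl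

theorem c3323 : Block F al 0 850944 794095 :=
  block_comb c3322 b3323 (Nat.zero_le _) (Nat.le_of_ble_eq_true rfl) rfl

theorem c3324 : Block F al 0 851200 794337 :=
  block_comb c3323 b3324 (Nat.zero_le _) (Nat.le_of_ble_eq_true rfl) rfl

theorem c3325 : Block F al 0 851456 794585 :=
  block_comb c3324 b3325 (Nat.zero_le _) (Nat.le_of_ble_eq_true rfl) rfl

theorem c3326 : Block F al 0 851712 794832 :=
  block_comb c3325 b3326 (Nat.zero_le _) (Nat.le_of_ble_eq_true rfl) rfl

theorem c3327 : Block F al 0 851968 795085 :=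
  block_comb c3326 b3327 (Nat.zero_le _) (Nat.le_of_ble_eq_true rfl) rfl

theorem c3328 : Block F al 0 852224 795328 :=
  block_comb c3327 b3328 (Nat.zero_le _) (Nat.le_of_ble_eq_true rfl) rfl

theorem c3329 : Block F al 0 852480 795576 :=
  block_comb c3328 b3329 (Nat.zero_le _) (Nat.le_of_ble_eq_true rfl) rfl

theorem c3330 : Block F al 0 852736 795826 :=
  block_comb c3329 b3330 (Nat.zero_le _) (Nat.le_of_ble_eq_true rfl) rfl

theorem c3331 : Block F al 0 852992 796077 :=
  block_comb c3330 b3331 (Nat.zero_le _) (Nat.le_of_ble_eq_true rfl) rfl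

theorem c3332 : Block F al 0 853248 796323 :=
  block_comb c3331 b3332 (Nat.zero_le _) (Nat.le_of_ble_eq_true rfl) rfl

theorem c3333 : Block F al 0 853504 796563 :=
  block_comb c3332 b3333 (Nat.zero_le _) (Nat.le_of_ble_eq_true rfl) rfl

theorem c3334 : Block F al 0 853760 796812 :=
  block_comb c3333 b3334 (Nat.zero_le _) (Nat.le_of_ble_eq_true rfl) rfl

theorem c3335 : Block F al 0 854016 797057 :=
  block_comb c3334 b3335 (Nat.zero_le _) (Nat.le_of_ble_eq_true rfl) rfl

theorem c3336 : Block F al 0 854272 797310 :=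
  block_comb c3335 b3336 (Nat.zero_le _) (Nat.le_of_ble_eq_true rfl) rfl

theorem c3337 : Block F al 0 854528 797565 :=
  block_comb c3336 b3337 (Nat.zero_le _) (Nat.le_of_ble_eq_true rfl) rfl

theorem c3338 : Block F al 0 854784 797816 :=
  block_comb c3337 b3338 (Nat.zero_le _) (Nat.le_of_ble_eq_true rfl) rfl

theorem c3339 : Block F al 0 855040 798064 :=
  block_comb c3338 b3339 (Nat.zero_le _) (Nat.le_of_ble_eq_true rfl) rfl

theorem c3340 : Block F al 0 855296 798311 :=
  block_comb c3339 b3340 (Nat.zero_le _) (Nat.le_of_ble_eq_true rfl) rfl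

theorem c3341 : Block F al 0 855552 798562 :=
  block_comb c3340 b3341 (Nat.zero_le _) (Nat.le_of_ble_eq_true rfl) rfl

theorem c3342 : Block F al 0 855808 798798 :=
  block_comb c3341 b3342 (Nat.zero_le _) (Nat.le_of_ble_eq_true rfl) rfl

theorem c3343 : Block F al 0 856064 799048 :=
  block_comb c3342 b3343 (Nat.zero_le _) (Nat.le_of_ble_eq_true rfl) rfl

theorem c3344 : Block F al 0 856320 799296 :=
  block_comb c3343 b3344 (Nat.zero_le _) (Nat.le_of_ble_eq_true rfl) rfl

theorem c3345 : Block F al 0 856576 799548 :=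
  block_comb c3344 b3345 (Nat.zero_le _) (Nat.le_of_ble_eq_true rfl) rfl

theorem c3346 : Block F al 0 856832 799796 :=
  block_comb c3345 b3346 (Nat.zero_le _) (Nat.le_of_ble_eq_true rfl) rfl

theorem c3347 : Block F al 0 857088 800040 :=
  block_comb c3346 b3347 (Nat.zero_le _) (Nat.le_of_ble_eq_true rfl) rfl

theorem c3348 : Block F al 0 857344 800290 :=
  block_comb c3347 b3348 (Nat.zero_le _) (Nat.le_of_ble_eq_true rfl) rfl

theorem c3349 : Block F al 0 857600 800543 :=
  block_comb c3348 b3349 (Nat.zero_le _) (Nat.le_of_ble_eq_true rfl) rfl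

theorem c3350 : Block F al 0 857856 800795 :=
  block_comb c3349 b3350 (Nat.zero_le _) (Nat.le_of_ble_eq_true rfl) rfl

theorem c3351 : Block F al 0 858112 801043 :=
  block_comb c3350 b3351 (Nat.zero_le _) (Nat.le_of_ble_eq_true rfl) rfl

theorem c3352 : Block F al 0 858368 801293 :=
  block_comb c3351 b3352 (Nat.zero_le _) (Nat.le_of_ble_eq_true rfl) rfl

theorem c3353 : Block F al 0 858624 801537 :=
  block_comb c3352 b3353 (Nat.zero_le _) (Nat.le_of_ble_eq_true rfl) rfl

theorem c3354 : Block F al 0 858880 801785 :=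
  block_comb c3353 b3354 (Nat.zero_le _) (Nat.le_of_ble_eq_true rfl) rfl

theorem c3355 : Block F al 0 859136 802035 :=
  block_comb c3354 b3355 (Nat.zero_le _) (Nat.le_of_ble_eq_true rfl) rfl

theorem c3356 : Block F al 0 859392 802280 :=
  block_comb c3355 b3356 (Nat.zero_le _) (Nat.le_of_ble_eq_true rfl) rfl

theorem c3357 : Block F al 0 859648 802526 :=
  block_comb c3356 b3357 (Nat.zero_le _) (Nat.le_of_ble_eq_true rfl) rfl

theorem c3358 : Block F al 0 859904 802777 :=
  block_comb c3357 b3358 (Nat.zero_le _) (Nat.le_of_ble_eq_true rfl) rfl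

theorem c3359 : Block F al 0 860160 803026 :=
  block_comb c3358 b3359 (Nat.zero_le _) (Nat.le_of_ble_eq_true rfl) rfl

theorem c3360 : Block F al 0 860416 803279 :=
  block_comb c3359 b3360 (Nat.zero_le _) (Nat.le_of_ble_eq_true rfl) rfl

theorem c3361 : Block F al 0 860672 803529 :=
  block_comb c3360 b3361 (Nat.zero_le _) (Nat.le_of_ble_eq_true rfl) rfl

theorem c3362 : Block F al 0 860928 803772 :=
  block_comb c3361 b3362 (Nat.zero_le _) (Nat.le_of_ble_eq_true rfl) rfl

theorem c3363 : Block F al 0 861184 804026 :=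
  block_comb c3362 b3363 (Nat.zero_le _) (Nat.le_of_ble_eq_true rfl) rfl

theorem c3364 : Block F al 0 861440 804280 :=
  block_comb c3363 b3364 (Nat.zero_le _) (Nat.le_of_ble_eq_true rfl) rfl

theorem c3365 : Block F al 0 861696 804529 :=
  block_comb c3364 b3365 (Nat.zero_le _) (Nat.le_of_ble_eq_true rfl) rfl

theorem c3366 : Block F al 0 861952 804773 :=
  block_comb c3365 b3366 (Nat.zero_le _) (Nat.le_of_ble_eq_true rfl) rfl

theorem c3367 : Block F al 0 862208 805022 :=
  block_comb c3366 b3367 (Nat.zero_le _) (Nat.le_of_ble_eq_true rfl) rfl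

theorem c3368 : Block F al 0 862464 805275 :=
  block_comb c3367 b3368 (Nat.zero_le _) (Nat.le_of_ble_eq_true rfl) rfl

theorem c3369 : Block F al 0 862720 805528 :=
  block_comb c3368 b3369 (Nat.zero_le _) (Nat.le_of_ble_eq_true rfl) rfl

theorem c3370 : Block F al 0 862976 805779 :=
  block_comb c3369 b3370 (Nat.zero_le _) (Nat.le_of_ble_eq_true rfl) rfl

theorem c3371 : Block F al 0 863232 806028 :=
  block_comb c3370 b3371 (Nat.zero_le _) (Nat.le_of_ble_eq_true rfl) rfl

theorem c3372 : Block F al 0 863488 806275 :=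
  block_comb c3371 b3372 (Nat.zero_le _) (Nat.le_of_ble_eq_true rfl) rfl

theorem c3373 : Block F al 0 863744 806515 :=
  block_comb c3372 b3373 (Nat.zero_le _) (Nat.le_of_ble_eq_true rfl) rfl

theorem c3374 : Block F al 0 864000 806765 :=
  block_comb c3373 b3374 (Nat.zero_le _) (Nat.le_of_ble_eq_true rfl) rfl

theorem c3375 : Block F al 0 864256 807009 :=
  block_comb c3374 b3375 (Nat.zero_le _) (Nat.le_of_ble_eq_true rfl) rfl

theorem c3376 : Block F al 0 864512 807254 :=
  block_comb c3375 b3376 (Nat.zero_le _) (Nat.le_of_ble_eq_true rfl) rfl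

theorem c3377 : Block F al 0 864768 807503 :=
  block_comb c3376 b3377 (Nat.zero_le _) (Nat.le_of_ble_eq_true rfl) rfl

theorem c3378 : Block F al 0 865024 807744 :=
  block_comb c3377 b3378 (Nat.zero_le _) (Nat.le_of_ble_eq_true rfl) rfl

theorem c3379 : Block F al 0 865280 807996 :=
  block_comb c3378 b3379 (Nat.zero_le _) (Nat.le_of_ble_eq_true rfl) rfl

theorem c3380 : Block F al 0 865536 808242 :=
  block_comb c3379 b3380 (Nat.zero_le _) (Nat.le_of_ble_eq_true rfl) rfl

theorem c3381 : Block F al 0 865792 808489 :=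
  block_comb c3380 b3381 (Nat.zero_le _) (Nat.le_of_ble_eq_true rfl) rfl

theorem c3382 : Block F al 0 866048 808735 :=
  block_comb c3381 b3382 (Nat.zero_le _) (Nat.le_of_ble_eq_true rfl) rfl

theorem c3383 : Block F al 0 866304 808983 :=
  block_comb c3382 b3383 (Nat.zero_le _) (Nat.le_of_ble_eq_true rfl) rfl

theorem c3384 : Block F al 0 866560 809232 :=
  block_comb c3383 b3384 (Nat.zero_le _) (Nat.le_of_ble_eq_true rfl) rfl

theorem c3385 : Block F al 0 866816 809465 :=
  block_comb c3384 b3385 (Nat.zero_le _) (Nat.le_of_ble_eq_true rfl) rfl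

theorem c3386 : Block F al 0 867072 809711 :=
  block_comb c3385 b3386 (Nat.zero_le _) (Nat.le_of_ble_eq_true rfl) rfl

theorem c3387 : Block F al 0 867328 809962 :=
  block_comb c3386 b3387 (Nat.zero_le _) (Nat.le_of_ble_eq_true rfl) rfl

theorem c3388 : Block F al 0 867584 810204 :=
  block_comb c3387 b3388 (Nat.zero_le _) (Nat.le_of_ble_eq_true rfl) rfl

theorem c3389 : Block F al 0 867840 810454 :=
  block_comb c3388 b3389 (Nat.zero_le _) (Nat.le_of_ble_eq_true rfl) rfl

theorem c3390 : Block F al 0 868096 810708 :=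
  block_comb c3389 b3390 (Nat.zero_le _) (Nat.le_of_ble_eq_true rfl) rfl

theorem c3391 : Block F al 0 868352 810951 :=
  block_comb c3390 b3391 (Nat.zero_le _) (Nat.le_of_ble_eq_true rfl) rfl

theorem c3392 : Block F al 0 868608 811200 :=
  block_comb c3391 b3392 (Nat.zero_le _) (Nat.le_of_ble_eq_true rfl) rfl

theorem c3393 : Block F al 0 868864 811451 :=
  block_comb c3392 b3393 (Nat.zero_le _) (Nat.le_of_ble_eq_true rfl) rfl

theorem c3394 : Block F al 0 869120 811699 :=
  block_comb c3393 b3394 (Nat.zero_le _) (Nat.le_of_ble_eq_true rfl) rfl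

theorem c3395 : Block F al 0 869376 811954 :=
  block_comb c3394 b3395 (Nat.zero_le _) (Nat.le_of_ble_eq_true rfl) rfl

theorem c3396 : Block F al 0 869632 812202 :=
  block_comb c3395 b3396 (Nat.zero_le _) (Nat.le_of_ble_eq_true rfl) rfl

theorem c3397 : Block F al 0 869888 812455 :=
  block_comb c3396 b3397 (Nat.zero_le _) (Nat.le_of_ble_eq_true rfl) rfl

theorem c3398 : Block F al 0 870144 812696 :=
  block_comb c3397 b3398 (Nat.zero_le _) (Nat.le_of_ble_eq_true rfl) rfl

theorem c3399 : Block F al 0 870400 812935 :=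
  block_comb c3398 b3399 (Nat.zero_le _) (Nat.le_of_ble_eq_true rfl) rfl

theorem c3400 : Block F al 0 870656 813189 :=
  block_comb c3399 b3400 (Nat.zero_le _) (Nat.le_of_ble_eq_true rfl) rfl

theorem c3401 : Block F al 0 870912 813436 :=
  block_comb c3400 b3401 (Nat.zero_le _) (Nat.le_of_ble_eq_true rfl) rfl

theorem c3402 : Block F al 0 871168 813686 :=
  block_comb c3401 b3402 (Nat.zero_le _) (Nat.le_of_ble_eq_true rfl) rfl

theorem c3403 : Block F al 0 871424 813940 :=
  block_comb c3402 b3403 (Nat.zero_le _) (Nat.le_of_ble_eq_true rfl) rfl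

theorem c3404 : Block F al 0 871680 814170 :=
  block_comb c3403 b3404 (Nat.zero_le _) (Nat.le_of_ble_eq_true rfl) rfl

theorem c3405 : Block F al 0 871936 814411 :=
  block_comb c3404 b3405 (Nat.zero_le _) (Nat.le_of_ble_eq_true rfl) rfl

theorem c3406 : Block F al 0 872192 814662 :=
  block_comb c3405 b3406 (Nat.zero_le _) (Nat.le_of_ble_eq_true rfl) rfl

theorem c3407 : Block F al 0 872448 814910 :=
  block_comb c3406 b3407 (Nat.zero_le _) (Nat.le_of_ble_eq_true rfl) rfl

theorem c3408 : Block F al 0 872704 815153 :=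
  block_comb c3407 b3408 (Nat.zero_le _) (Nat.le_of_ble_eq_true rfl) rfl

theorem c3409 : Block F al 0 872960 815402 :=
  block_comb c3408 b3409 (Nat.zero_le _) (Nat.le_of_ble_eq_true rfl) rfl

theorem c3410 : Block F al 0 873216 815648 :=
  block_comb c3409 b3410 (Nat.zero_le _) (Nat.le_of_ble_eq_true rfl) rfl

theorem c3411 : Block F al 0 873472 815897 :=
  block_comb c3410 b3411 (Nat.zero_le _) (Nat.le_of_ble_eq_true rfl) rfl

theorem c3412 : Block F al 0 873728 816150 :=
  block_comb c3411 b3412 (Nat.zero_le _) (Nat.le_of_ble_eq_true rfl) rfl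

theorem c3413 : Block F al 0 873984 816403 :=
  block_comb c3412 b3413 (Nat.zero_le _) (Nat.le_of_ble_eq_true rfl) rfl

theorem c3414 : Block F al 0 874240 816656 :=
  block_comb c3413 b3414 (Nat.zero_le _) (Nat.le_of_ble_eq_true rfl) rfl

theorem c3415 : Block F al 0 874496 816910 :=
  block_comb c3414 b3415 (Nat.zero_le _) (Nat.le_of_ble_eq_true rfl) rfl

theorem c3416 : Block F al 0 874752 817150 :=
  block_comb c3415 b3416 (Nat.zero_le _) (Nat.le_of_ble_eq_true rfl) rfl

theorem c3417 : Block F al 0 875008 817387 :=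
  block_comb c3416 b3417 (Nat.zero_le _) (Nat.le_of_ble_eq_true rfl) rfl

theorem c3418 : Block F al 0 875264 817631 :=
  block_comb c3417 b3418 (Nat.zero_le _) (Nat.le_of_ble_eq_true rfl) rfl

theorem c3419 : Block F al 0 875520 817873 :=
  block_comb c3418 b3419 (Nat.zero_le _) (Nat.le_of_ble_eq_true rfl) rfl

theorem c3420 : Block F al 0 875776 818119 :=
  block_comb c3419 b3420 (Nat.zero_le _) (Nat.le_of_ble_eq_true rfl) rfl

theorem c3421 : Block F al 0 876032 818369 :=
  block_comb c3420 b3421 (Nat.zero_le _) (Nat.le_of_ble_eq_true rfl) rfl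

theorem c3422 : Block F al 0 876288 818612 :=
  block_comb c3421 b3422 (Nat.zero_le _) (Nat.le_of_ble_eq_true rfl) rfl

theorem c3423 : Block F al 0 876544 818836 :=
  block_comb c3422 b3423 (Nat.zero_le _) (Nat.le_of_ble_eq_true rfl) rfl

theorem c3424 : Block F al 0 876800 819086 :=
  block_comb c3423 b3424 (Nat.zero_le _) (Nat.le_of_ble_eq_true rfl) rfl

theorem c3425 : Block F al 0 877056 819332 :=
  block_comb c3424 b3425 (Nat.zero_le _) (Nat.le_of_ble_eq_true rfl) rfl

theorem c3426 : Block F al 0 877312 819580 :=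
  block_comb c3425 b3426 (Nat.zero_le _) (Nat.le_of_ble_eq_true rfl) rfl

theorem c3427 : Block F al 0 877568 819829 :=
  block_comb c3426 b3427 (Nat.zero_le _) (Nat.le_of_ble_eq_true rfl) rfl

theorem c3428 : Block F al 0 877824 820079 :=
  block_comb c3427 b3428 (Nat.zero_le _) (Nat.le_of_ble_eq_true rfl) rfl

theorem c3429 : Block F al 0 878080 820330 :=
  block_comb c3428 b3429 (Nat.zero_le _) (Nat.le_of_ble_eq_true rfl) rfl

theorem c3430 : Block F al 0 878336 820582 :=
  block_comb c3429 b3430 (Nat.zero_le _) (Nat.le_of_ble_eq_true rfl) rfl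

theorem c3431 : Block F al 0 878592 820825 :=
  block_comb c3430 b3431 (Nat.zero_le _) (Nat.le_of_ble_eq_true rfl) rfl

theorem c3432 : Block F al 0 878848 821064 :=
  block_comb c3431 b3432 (Nat.zero_le _) (Nat.le_of_ble_eq_true rfl) rfl

theorem c3433 : Block F al 0 879104 821320 :=
  block_comb c3432 b3433 (Nat.zero_le _) (Nat.le_of_ble_eq_true rfl) rfl

theorem c3434 : Block F al 0 879360 821563 :=
  block_comb c3433 b3434 (Nat.zero_le _) (Nat.le_of_ble_eq_true rfl) rfl

theorem c3435 : Block F al 0 879616 821806 :=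
  block_comb c3434 b3435 (Nat.zero_le _) (Nat.le_of_ble_eq_true rfl) rfl

theorem c3436 : Block F al 0 879872 822043 :=
  block_comb c3435 b3436 (Nat.zero_le _) (Nat.le_of_ble_eq_true rfl) rfl

theorem c3437 : Block F al 0 880128 822289 :=
  block_comb c3436 b3437 (Nat.zero_le _) (Nat.le_of_ble_eq_true rfl) rfl

theorem c3438 : Block F al 0 880384 822515 :=
  block_comb c3437 b3438 (Nat.zero_le _) (Nat.le_of_ble_eq_true rfl) rfl

theorem c3439 : Block F al 0 880640 822769 :=
  block_comb c3438 b3439 (Nat.zero_le _) (Nat.le_of_ble_eq_true rfl) rfl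

theorem c3440 : Block F al 0 880896 823023 :=
  block_comb c3439 b3440 (Nat.zero_le _) (Nat.le_of_ble_eq_true rfl) rfl

theorem c3441 : Block F al 0 881152 823273 :=
  block_comb c3440 b3441 (Nat.zero_le _) (Nat.le_of_ble_eq_true rfl) rfl

theorem c3442 : Block F al 0 881408 823524 :=
  block_comb c3441 b3442 (Nat.zero_le _) (Nat.le_of_ble_eq_true rfl) rfl

theorem c3443 : Block F al 0 881664 823775 :=
  block_comb c3442 b3443 (Nat.zero_le _) (Nat.le_of_ble_eq_true rfl) rfl

theorem c3444 : Block F al 0 881920 824021 :=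
  block_comb c3443 b3444 (Nat.zero_le _) (Nat.le_of_ble_eq_true rfl) rfl

theorem c3445 : Block F al 0 882176 824271 :=
  block_comb c3444 b3445 (Nat.zero_le _) (Nat.le_of_ble_eq_true rfl) rfl

theorem c3446 : Block F al 0 882432 824514 :=
  block_comb c3445 b3446 (Nat.zero_le _) (Nat.le_of_ble_eq_true rfl) rfl

theorem c3447 : Block F al 0 882688 824759 :=
  block_comb c3446 b3447 (Nat.zero_le _) (Nat.le_of_ble_eq_true rfl) rfl

theorem c3448 : Block F al 0 882944 825006 :=
  block_comb c3447 b3448 (Nat.zero_le _) (Nat.le_of_ble_eq_true rfl) rfl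

theorem c3449 : Block F al 0 883200 825252 :=
  block_comb c3448 b3449 (Nat.zero_le _) (Nat.le_of_ble_eq_true rfl) rfl

theorem c3450 : Block F al 0 883456 825492 :=
  block_comb c3449 b3450 (Nat.zero_le _) (Nat.le_of_ble_eq_true rfl) rfl

theorem c3451 : Block F al 0 883712 825739 :=
  block_comb c3450 b3451 (Nat.zero_le _) (Nat.le_of_ble_eq_true rfl) rfl

theorem c3452 : Block F al 0 883968 825978 :=
  block_comb c3451 b3452 (Nat.zero_le _) (Nat.le_of_ble_eq_true rfl) rfl

theorem c3453 : Block F al 0 884224 826219 :=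
  block_comb c3452 b3453 (Nat.zero_le _) (Nat.le_of_ble_eq_true rfl) rfl

theorem c3454 : Block F al 0 884480 826467 :=
  block_comb c3453 b3454 (Nat.zero_le _) (Nat.le_of_ble_eq_true rfl) rfl

theorem c3455 : Block F al 0 884736 826692 :=
  block_comb c3454 b3455 (Nat.zero_le _) (Nat.le_of_ble_eq_true rfl) rfl

theorem c3456 : Block F al 0 884992 826919 :=
  block_comb c3455 b3456 (Nat.zero_le _) (Nat.le_of_ble_eq_true rfl) rfl

theorem c3457 : Block F al 0 885248 827159 :=
  block_comb c3456 b3457 (Nat.zero_le _) (Nat.le_of_ble_eq_true rfl) rfl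

theorem c3458 : Block F al 0 885504 827396 :=
  block_comb c3457 b3458 (Nat.zero_le _) (Nat.le_of_ble_eq_true rfl) rfl

theorem c3459 : Block F al 0 885760 827648 :=
  block_comb c3458 b3459 (Nat.zero_le _) (Nat.le_of_ble_eq_true rfl) rfl

theorem c3460 : Block F al 0 886016 827886 :=
  block_comb c3459 b3460 (Nat.zero_le _) (Nat.le_of_ble_eq_true rfl) rfl

theorem c3461 : Block F al 0 886272 828140 :=
  block_comb c3460 b3461 (Nat.zero_le _) (Nat.le_of_ble_eq_true rfl) rfl

theorem c3462 : Block F al 0 886528 828387 :=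
  block_comb c3461 b3462 (Nat.zero_le _) (Nat.le_of_ble_eq_true rfl) rfl

theorem c3463 : Block F al 0 886784 828639 :=
  block_comb c3462 b3463 (Nat.zero_le _) (Nat.le_of_ble_eq_true rfl) rfl

theorem c3464 : Block F al 0 887040 828894 :=
  block_comb c3463 b3464 (Nat.zero_le _) (Nat.le_of_ble_eq_true rfl) rfl

theorem c3465 : Block F al 0 887296 829148 :=
  block_comb c3464 b3465 (Nat.zero_le _) (Nat.le_of_ble_eq_true rfl) rfl

theorem c3466 : Block F al 0 887552 829378 :=
  block_comb c3465 b3466 (Nat.zero_le _) (Nat.le_of_ble_eq_true rfl) rfl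

theorem c3467 : Block F al 0 887808 829619 :=
  block_comb c3466 b3467 (Nat.zero_le _) (Nat.le_of_ble_eq_true rfl) rfl

theorem c3468 : Block F al 0 888064 829868 :=
  block_comb c3467 b3468 (Nat.zero_le _) (Nat.le_of_ble_eq_true rfl) rfl

theorem c3469 : Block F al 0 888320 830117 :=
  block_comb c3468 b3469 (Nat.zero_le _) (Nat.le_of_ble_eq_true rfl) rfl

theorem c3470 : Block F al 0 888576 830360 :=
  block_comb c3469 b3470 (Nat.zero_le _) (Nat.le_of_ble_eq_true rfl) rfl

theorem c3471 : Block F al 0 888832 830608 :=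
  block_comb c3470 b3471 (Nat.zero_le _) (Nat.le_of_ble_eq_true rfl) rfl

theorem c3472 : Block F al 0 889088 830848 :=
  block_comb c3471 b3472 (Nat.zero_le _) (Nat.le_of_ble_eq_true rfl) rfl

theorem c3473 : Block F al 0 889344 831099 :=
  block_comb c3472 b3473 (Nat.zero_le _) (Nat.le_of_ble_eq_true rfl) rfl

theorem c3474 : Block F al 0 889600 831347 :=
  block_comb c3473 b3474 (Nat.zero_le _) (Nat.le_of_ble_eq_true rfl) rfl

theorem c3475 : Block F al 0 889856 831589 :=
  block_comb c3474 b3475 (Nat.zero_le _) (Nat.le_of_ble_eq_true rfl) rfl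

theorem c3476 : Block F al 0 890112 831838 :=
  block_comb c3475 b3476 (Nat.zero_le _) (Nat.le_of_ble_eq_true rfl) rfl

theorem c3477 : Block F al 0 890368 832087 :=
  block_comb c3476 b3477 (Nat.zero_le _) (Nat.le_of_ble_eq_true rfl) rfl

theorem c3478 : Block F al 0 890624 832332 :=
  block_comb c3477 b3478 (Nat.zero_le _) (Nat.le_of_ble_eq_true rfl) rfl

theorem c3479 : Block F al 0 890880 832582 :=
  block_comb c3478 b3479 (Nat.zero_le _) (Nat.le_of_ble_eq_true rfl) rfl

theorem c3480 : Block F al 0 891136 832831 :=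
  block_comb c3479 b3480 (Nat.zero_le _) (Nat.le_of_ble_eq_true rfl) rfl

theorem c3481 : Block F al 0 891392 833082 :=
  block_comb c3480 b3481 (Nat.zero_le _) (Nat.le_of_ble_eq_true rfl) rfl

theorem c3482 : Block F al 0 891648 833334 :=
  block_comb c3481 b3482 (Nat.zero_le _) (Nat.le_of_ble_eq_true rfl) rfl

theorem c3483 : Block F al 0 891904 833588 :=
  block_comb c3482 b3483 (Nat.zero_le _) (Nat.le_of_ble_eq_true rfl) rfl

theorem c3484 : Block F al 0 892160 833830 :=
  block_comb c3483 b3484 (Nat.zero_le _) (Nat.le_of_ble_eq_true rfl) rfl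

theorem c3485 : Block F al 0 892416 834081 :=
  block_comb c3484 b3485 (Nat.zero_le _) (Nat.le_of_ble_eq_true rfl) rfl

theorem c3486 : Block F al 0 892672 834335 :=
  block_comb c3485 b3486 (Nat.zero_le _) (Nat.le_of_ble_eq_true rfl) rfl

theorem c3487 : Block F al 0 892928 834591 :=
  block_comb c3486 b3487 (Nat.zero_le _) (Nat.le_of_ble_eq_true rfl) rfl

theorem c3488 : Block F al 0 893184 834835 :=
  block_comb c3487 b3488 (Nat.zero_le _) (Nat.le_of_ble_eq_true rfl) rfl

theorem c3489 : Block F al 0 893440 835073 :=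
  block_comb c3488 b3489 (Nat.zero_le _) (Nat.le_of_ble_eq_true rfl) rfl

theorem c3490 : Block F al 0 893696 835319 :=
  block_comb c3489 b3490 (Nat.zero_le _) (Nat.le_of_ble_eq_true rfl) rfl

theorem c3491 : Block F al 0 893952 835568 :=
  block_comb c3490 b3491 (Nat.zero_le _) (Nat.le_of_ble_eq_true rfl) rfl

theorem c3492 : Block F al 0 894208 835807 :=
  block_comb c3491 b3492 (Nat.zero_le _) (Nat.le_of_ble_eq_true rfl) rfl

theorem c3493 : Block F al 0 894464 836058 :=
  block_comb c3492 b3493 (Nat.zero_le _) (Nat.le_of_ble_eq_true rfl) rfl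

theorem c3494 : Block F al 0 894720 836311 :=
  block_comb c3493 b3494 (Nat.zero_le _) (Nat.le_of_ble_eq_true rfl) rfl

theorem c3495 : Block F al 0 894976 836556 :=
  block_comb c3494 b3495 (Nat.zero_le _) (Nat.le_of_ble_eq_true rfl) rfl

theorem c3496 : Block F al 0 895232 836800 :=
  block_comb c3495 b3496 (Nat.zero_le _) (Nat.le_of_ble_eq_true rfl) rfl

theorem c3497 : Block F al 0 895488 837049 :=
  block_comb c3496 b3497 (Nat.zero_le _) (Nat.le_of_ble_eq_true rfl) rfl

theorem c3498 : Block F al 0 895744 837297 :=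
  block_comb c3497 b3498 (Nat.zero_le _) (Nat.le_of_ble_eq_true rfl) rfl

theorem c3499 : Block F al 0 896000 837546 :=
  block_comb c3498 b3499 (Nat.zero_le _) (Nat.le_of_ble_eq_true rfl) rfl

theorem c3500 : Block F al 0 896256 837795 :=
  block_comb c3499 b3500 (Nat.zero_le _) (Nat.le_of_ble_eq_true rfl) rfl

theorem c3501 : Block F al 0 896512 838040 :=
  block_comb c3500 b3501 (Nat.zero_le _) (Nat.le_of_ble_eq_true rfl) rfl

theorem c3502 : Block F al 0 896768 838292 :=
  block_comb c3501 b3502 (Nat.zero_le _) (Nat.le_of_ble_eq_true rfl) rfl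

theorem c3503 : Block F al 0 897024 838542 :=
  block_comb c3502 b3503 (Nat.zero_le _) (Nat.le_of_ble_eq_true rfl) rfl

theorem c3504 : Block F al 0 897280 838785 :=
  block_comb c3503 b3504 (Nat.zero_le _) (Nat.le_of_ble_eq_true rfl) rfl

theorem c3505 : Block F al 0 897536 839025 :=
  block_comb c3504 b3505 (Nat.zero_le _) (Nat.le_of_ble_eq_true rfl) rfl

theorem c3506 : Block F al 0 897792 839271 :=
  block_comb c3505 b3506 (Nat.zero_le _) (Nat.le_of_ble_eq_true rfl) rfl

theorem c3507 : Block F al 0 898048 839518 :=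
  block_comb c3506 b3507 (Nat.zero_le _) (Nat.le_of_ble_eq_true rfl) rfl

theorem c3508 : Block F al 0 898304 839763 :=
  block_comb c3507 b3508 (Nat.zero_le _) (Nat.le_of_ble_eq_true rfl) rfl

theorem c3509 : Block F al 0 898560 840008 :=
  block_comb c3508 b3509 (Nat.zero_le _) (Nat.le_of_ble_eq_true rfl) rfl

theorem c3510 : Block F al 0 898816 840258 :=
  block_comb c3509 b3510 (Nat.zero_le _) (Nat.le_of_ble_eq_true rfl) rfl

theorem c3511 : Block F al 0 899072 840506 :=
  block_comb c3510 b3511 (Nat.zero_le _) (Nat.le_of_ble_eq_true rfl) rfl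

theorem c3512 : Block F al 0 899328 840759 :=
  block_comb c3511 b3512 (Nat.zero_le _) (Nat.le_of_ble_eq_true rfl) rfl

theorem c3513 : Block F al 0 899584 841010 :=
  block_comb c3512 b3513 (Nat.zero_le _) (Nat.le_of_ble_eq_true rfl) rfl

theorem c3514 : Block F al 0 899840 841247 :=
  block_comb c3513 b3514 (Nat.zero_le _) (Nat.le_of_ble_eq_true rfl) rfl

theorem c3515 : Block F al 0 900096 841491 :=
  block_comb c3514 b3515 (Nat.zero_le _) (Nat.le_of_ble_eq_true rfl) rfl

theorem c3516 : Block F al 0 900352 841741 :=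
  block_comb c3515 b3516 (Nat.zero_le _) (Nat.le_of_ble_eq_true rfl) rfl

theorem c3517 : Block F al 0 900608 841981 :=
  block_comb c3516 b3517 (Nat.zero_le _) (Nat.le_of_ble_eq_true rfl) rfl

theorem c3518 : Block F al 0 900864 842220 :=
  block_comb c3517 b3518 (Nat.zero_le _) (Nat.le_of_ble_eq_true rfl) rfl

theorem c3519 : Block F al 0 901120 842470 :=
  block_comb c3518 b3519 (Nat.zero_le _) (Nat.le_of_ble_eq_true rfl) rfl

theorem c3520 : Block F al 0 901376 842707 :=
  block_comb c3519 b3520 (Nat.zero_le _) (Nat.le_of_ble_eq_true rfl) rfl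

theorem c3521 : Block F al 0 901632 842952 :=
  block_comb c3520 b3521 (Nat.zero_le _) (Nat.le_of_ble_eq_true rfl) rfl

theorem c3522 : Block F al 0 901888 843200 :=
  block_comb c3521 b3522 (Nat.zero_le _) (Nat.le_of_ble_eq_true rfl) rfl

theorem c3523 : Block F al 0 902144 843452 :=
  block_comb c3522 b3523 (Nat.zero_le _) (Nat.le_of_ble_eq_true rfl) rfl

theorem c3524 : Block F al 0 902400 843683 :=
  block_comb c3523 b3524 (Nat.zero_le _) (Nat.le_of_ble_eq_true rfl) rfl

theorem c3525 : Block F al 0 902656 843910 :=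
  block_comb c3524 b3525 (Nat.zero_le _) (Nat.le_of_ble_eq_true rfl) rfl

theorem c3526 : Block F al 0 902912 844157 :=
  block_comb c3525 b3526 (Nat.zero_le _) (Nat.le_of_ble_eq_true rfl) rfl

theorem c3527 : Block F al 0 903168 844404 :=
  block_comb c3526 b3527 (Nat.zero_le _) (Nat.le_of_ble_eq_true rfl) rfl

theorem c3528 : Block F al 0 903424 844655 :=
  block_comb c3527 b3528 (Nat.zero_le _) (Nat.le_of_ble_eq_true rfl) rfl

theorem c3529 : Block F al 0 903680 844900 :=
  block_comb c3528 b3529 (Nat.zero_le _) (Nat.le_of_ble_eq_true rfl) rfl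

theorem c3530 : Block F al 0 903936 845142 :=
  block_comb c3529 b3530 (Nat.zero_le _) (Nat.le_of_ble_eq_true rfl) rfl

theorem c3531 : Block F al 0 904192 845383 :=
  block_comb c3530 b3531 (Nat.zero_le _) (Nat.le_of_ble_eq_true rfl) rfl

theorem c3532 : Block F al 0 904448 845632 :=
  block_comb c3531 b3532 (Nat.zero_le _) (Nat.le_of_ble_eq_true rfl) rfl

theorem c3533 : Block F al 0 904704 845883 :=
  block_comb c3532 b3533 (Nat.zero_le _) (Nat.le_of_ble_eq_true rfl) rfl

theorem c3534 : Block F al 0 904960 846116 :=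
  block_comb c3533 b3534 (Nat.zero_le _) (Nat.le_of_ble_eq_true rfl) rfl

theorem c3535 : Block F al 0 905216 846352 :=
  block_comb c3534 b3535 (Nat.zero_le _) (Nat.le_of_ble_eq_true rfl) rfl

theorem c3536 : Block F al 0 905472 846590 :=
  block_comb c3535 b3536 (Nat.zero_le _) (Nat.le_of_ble_eq_true rfl) rfl

theorem c3537 : Block F al 0 905728 846836 :=
  block_comb c3536 b3537 (Nat.zero_le _) (Nat.le_of_ble_eq_true rfl) rfl

theorem c3538 : Block F al 0 905984 847080 :=
  block_comb c3537 b3538 (Nat.zero_le _) (Nat.le_of_ble_eq_true rfl) rfl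

theorem c3539 : Block F al 0 906240 847320 :=
  block_comb c3538 b3539 (Nat.zero_le _) (Nat.le_of_ble_eq_true rfl) rfl

theorem c3540 : Block F al 0 906496 847572 :=
  block_comb c3539 b3540 (Nat.zero_le _) (Nat.le_of_ble_eq_true rfl) rfl

theorem c3541 : Block F al 0 906752 847818 :=
  block_comb c3540 b3541 (Nat.zero_le _) (Nat.le_of_ble_eq_true rfl) rfl

theorem c3542 : Block F al 0 907008 848060 :=
  block_comb c3541 b3542 (Nat.zero_le _) (Nat.le_of_ble_eq_true rfl) rfl

theorem c3543 : Block F al 0 907264 848296 :=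
  block_comb c3542 b3543 (Nat.zero_le _) (Nat.le_of_ble_eq_true rfl) rfl

theorem c3544 : Block F al 0 907520 848537 :=
  block_comb c3543 b3544 (Nat.zero_le _) (Nat.le_of_ble_eq_true rfl) rfl

theorem c3545 : Block F al 0 907776 848786 :=
  block_comb c3544 b3545 (Nat.zero_le _) (Nat.le_of_ble_eq_true rfl) rfl

theorem c3546 : Block F al 0 908032 849033 :=
  block_comb c3545 b3546 (Nat.zero_le _) (Nat.le_of_ble_eq_true rfl) rfl

theorem c3547 : Block F al 0 908288 849287 :=
  block_comb c3546 b3547 (Nat.zero_le _) (Nat.le_of_ble_eq_true rfl) rfl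

theorem c3548 : Block F al 0 908544 849539 :=
  block_comb c3547 b3548 (Nat.zero_le _) (Nat.le_of_ble_eq_true rfl) rfl

theorem c3549 : Block F al 0 908800 849792 :=
  block_comb c3548 b3549 (Nat.zero_le _) (Nat.le_of_ble_eq_true rfl) rfl

theorem c3550 : Block F al 0 909056 850042 :=
  block_comb c3549 b3550 (Nat.zero_le _) (Nat.le_of_ble_eq_true rfl) rfl

theorem c3551 : Block F al 0 909312 850285 :=
  block_comb c3550 b3551 (Nat.zero_le _) (Nat.le_of_ble_eq_true rfl) rfl

theorem c3552 : Block F al 0 909568 850535 :=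
  block_comb c3551 b3552 (Nat.zero_le _) (Nat.le_of_ble_eq_true rfl) rfl

theorem c3553 : Block F al 0 909824 850780 :=
  block_comb c3552 b3553 (Nat.zero_le _) (Nat.le_of_ble_eq_true rfl) rfl

theorem c3554 : Block F al 0 910080 851029 :=
  block_comb c3553 b3554 (Nat.zero_le _) (Nat.le_of_ble_eq_true rfl) rfl

theorem c3555 : Block F al 0 910336 851274 :=
  block_comb c3554 b3555 (Nat.zero_le _) (Nat.le_of_ble_eq_true rfl) rfl

theorem c3556 : Block F al 0 910592 851526 :=
  block_comb c3555 b3556 (Nat.zero_le _) (Nat.le_of_ble_eq_true rfl) rfl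

theorem c3557 : Block F al 0 910848 851781 :=
  block_comb c3556 b3557 (Nat.zero_le _) (Nat.le_of_ble_eq_true rfl) rfl

theorem c3558 : Block F al 0 911104 852029 :=
  block_comb c3557 b3558 (Nat.zero_le _) (Nat.le_of_ble_eq_true rfl) rfl

theorem c3559 : Block F al 0 911360 852273 :=
  block_comb c3558 b3559 (Nat.zero_le _) (Nat.le_of_ble_eq_true rfl) rfl

theorem c3560 : Block F al 0 911616 852520 :=
  block_comb c3559 b3560 (Nat.zero_le _) (Nat.le_of_ble_eq_true rfl) rfl

theorem c3561 : Block F al 0 911872 852763 :=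
  block_comb c3560 b3561 (Nat.zero_le _) (Nat.le_of_ble_eq_true rfl) rfl

theorem c3562 : Block F al 0 912128 853016 :=
  block_comb c3561 b3562 (Nat.zero_le _) (Nat.le_of_ble_eq_true rfl) rfl

theorem c3563 : Block F al 0 912384 853256 :=
  block_comb c3562 b3563 (Nat.zero_le _) (Nat.le_of_ble_eq_true rfl) rfl

theorem c3564 : Block F al 0 912640 853504 :=
  block_comb c3563 b3564 (Nat.zero_le _) (Nat.le_of_ble_eq_true rfl) rfl

theorem c3565 : Block F al 0 912896 853747 :=
  block_comb c3564 b3565 (Nat.zero_le _) (Nat.le_of_ble_eq_true rfl) rfl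

theorem c3566 : Block F al 0 913152 853994 :=
  block_comb c3565 b3566 (Nat.zero_le _) (Nat.le_of_ble_eq_true rfl) rfl

theorem c3567 : Block F al 0 913408 854243 :=
  block_comb c3566 b3567 (Nat.zero_le _) (Nat.le_of_ble_eq_true rfl) rfl

theorem c3568 : Block F al 0 913664 854492 :=
  block_comb c3567 b3568 (Nat.zero_le _) (Nat.le_of_ble_eq_true rfl) rfl

theorem c3569 : Block F al 0 913920 854735 :=
  block_comb c3568 b3569 (Nat.zero_le _) (Nat.le_of_ble_eq_true rfl) rfl

theorem c3570 : Block F al 0 914176 854984 :=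
  block_comb c3569 b3570 (Nat.zero_le _) (Nat.le_of_ble_eq_true rfl) rfl

theorem c3571 : Block F al 0 914432 855238 :=
  block_comb c3570 b3571 (Nat.zero_le _) (Nat.le_of_ble_eq_true rfl) rfl

theorem c3572 : Block F al 0 914688 855486 :=
  block_comb c3571 b3572 (Nat.zero_le _) (Nat.le_of_ble_eq_true rfl) rfl

theorem c3573 : Block F al 0 914944 855730 :=
  block_comb c3572 b3573 (Nat.zero_le _) (Nat.le_of_ble_eq_true rfl) rfl

theorem c3574 : Block F al 0 915200 855972 :=
  block_comb c3573 b3574 (Nat.zero_le _) (Nat.le_of_ble_eq_true rfl) rfl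

theorem c3575 : Block F al 0 915456 856225 :=
  block_comb c3574 b3575 (Nat.zero_le _) (Nat.le_of_ble_eq_true rfl) rfl

theorem c3576 : Block F al 0 915712 856480 :=
  block_comb c3575 b3576 (Nat.zero_le _) (Nat.le_of_ble_eq_true rfl) rfl

theorem c3577 : Block F al 0 915968 856729 :=
  block_comb c3576 b3577 (Nat.zero_le _) (Nat.le_of_ble_eq_true rfl) rfl

theorem c3578 : Block F al 0 916224 856982 :=
  block_comb c3577 b3578 (Nat.zero_le _) (Nat.le_of_ble_eq_true rfl) rfl

theorem c3579 : Block F al 0 916480 857231 :=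
  block_comb c3578 b3579 (Nat.zero_le _) (Nat.le_of_ble_eq_true rfl) rfl

theorem c3580 : Block F al 0 916736 857475 :=
  block_comb c3579 b3580 (Nat.zero_le _) (Nat.le_of_ble_eq_true rfl) rfl

theorem c3581 : Block F al 0 916992 857720 :=
  block_comb c3580 b3581 (Nat.zero_le _) (Nat.le_of_ble_eq_true rfl) rfl

theorem c3582 : Block F al 0 917248 857963 :=
  block_comb c3581 b3582 (Nat.zero_le _) (Nat.le_of_ble_eq_true rfl) rfl

theorem c3583 : Block F al 0 917504 858208 :=
  block_comb c3582 b3583 (Nat.zero_le _) (Nat.le_of_ble_eq_true rfl) rfl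

theorem c3584 : Block F al 0 917760 858457 :=
  block_comb c3583 b3584 (Nat.zero_le _) (Nat.le_of_ble_eq_true rfl) rfl

theorem c3585 : Block F al 0 918016 858707 :=
  block_comb c3584 b3585 (Nat.zero_le _) (Nat.le_of_ble_eq_true rfl) rfl

theorem c3586 : Block F al 0 918272 858961 :=
  block_comb c3585 b3586 (Nat.zero_le _) (Nat.le_of_ble_eq_true rfl) rfl

theorem c3587 : Block F al 0 918528 859209 :=
  block_comb c3586 b3587 (Nat.zero_le _) (Nat.le_of_ble_eq_true rfl) rfl

theorem c3588 : Block F al 0 918784 859461 :=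
  block_comb c3587 b3588 (Nat.zero_le _) (Nat.le_of_ble_eq_true rfl) rfl

theorem c3589 : Block F al 0 919040 859711 :=
  block_comb c3588 b3589 (Nat.zero_le _) (Nat.le_of_ble_eq_true rfl) rfl

theorem c3590 : Block F al 0 919296 859958 :=
  block_comb c3589 b3590 (Nat.zero_le _) (Nat.le_of_ble_eq_true rfl) rfl

theorem c3591 : Block F al 0 919552 860208 :=
  block_comb c3590 b3591 (Nat.zero_le _) (Nat.le_of_ble_eq_true rfl) rfl

theorem c3592 : Block F al 0 919808 860461 :=
  block_comb c3591 b3592 (Nat.zero_le _) (Nat.le_of_ble_eq_true rfl) rfl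

theorem c3593 : Block F al 0 920064 860706 :=
  block_comb c3592 b3593 (Nat.zero_le _) (Nat.le_of_ble_eq_true rfl) rfl

theorem c3594 : Block F al 0 920320 860960 :=
  block_comb c3593 b3594 (Nat.zero_le _) (Nat.le_of_ble_eq_true rfl) rfl

theorem c3595 : Block F al 0 920576 861200 :=
  block_comb c3594 b3595 (Nat.zero_le _) (Nat.le_of_ble_eq_true rfl) rfl

theorem c3596 : Block F al 0 920832 861452 :=
  block_comb c3595 b3596 (Nat.zero_le _) (Nat.le_of_ble_eq_true rfl) rfl

theorem c3597 : Block F al 0 921088 861685 :=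
  block_comb c3596 b3597 (Nat.zero_le _) (Nat.le_of_ble_eq_true rfl) rfl

theorem c3598 : Block F al 0 921344 861929 :=
  block_comb c3597 b3598 (Nat.zero_le _) (Nat.le_of_ble_eq_true rfl) rfl

theorem c3599 : Block F al 0 921600 862178 :=
  block_comb c3598 b3599 (Nat.zero_le _) (Nat.le_of_ble_eq_true rfl) rfl

theorem c3600 : Block F al 0 921856 862420 :=
  block_comb c3599 b3600 (Nat.zero_le _) (Nat.le_of_ble_eq_true rfl) rfl

theorem c3601 : Block F al 0 922112 862664 :=
  block_comb c3600 b3601 (Nat.zero_le _) (Nat.le_of_ble_eq_true rfl) rfl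

theorem c3602 : Block F al 0 922368 862918 :=
  block_comb c3601 b3602 (Nat.zero_le _) (Nat.le_of_ble_eq_true rfl) rfl

theorem c3603 : Block F al 0 922624 863168 :=
  block_comb c3602 b3603 (Nat.zero_le _) (Nat.le_of_ble_eq_true rfl) rfl

theorem c3604 : Block F al 0 922880 863419 :=
  block_comb c3603 b3604 (Nat.zero_le _) (Nat.le_of_ble_eq_true rfl) rfl

theorem c3605 : Block F al 0 923136 863672 :=
  block_comb c3604 b3605 (Nat.zero_le _) (Nat.le_of_ble_eq_true rfl) rfl

theorem c3606 : Block F al 0 923392 863924 :=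
  block_comb c3605 b3606 (Nat.zero_le _) (Nat.le_of_ble_eq_true rfl) rfl

theorem c3607 : Block F al 0 923648 864173 :=
  block_comb c3606 b3607 (Nat.zero_le _) (Nat.le_of_ble_eq_true rfl) rfl

theorem c3608 : Block F al 0 923904 864408 :=
  block_comb c3607 b3608 (Nat.zero_le _) (Nat.le_of_ble_eq_true rfl) rfl

theorem c3609 : Block F al 0 924160 864660 :=
  block_comb c3608 b3609 (Nat.zero_le _) (Nat.le_of_ble_eq_true rfl) rfl

theorem c3610 : Block F al 0 924416 864909 :=
  block_comb c3609 b3610 (Nat.zero_le _) (Nat.le_of_ble_eq_true rfl) rfl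

theorem c3611 : Block F al 0 924672 865137 :=
  block_comb c3610 b3611 (Nat.zero_le _) (Nat.le_of_ble_eq_true rfl) rfl

theorem c3612 : Block F al 0 924928 865389 :=
  block_comb c3611 b3612 (Nat.zero_le _) (Nat.le_of_ble_eq_true rfl) rfl

theorem c3613 : Block F al 0 925184 865641 :=
  block_comb c3612 b3613 (Nat.zero_le _) (Nat.le_of_ble_eq_true rfl) rfl

theorem c3614 : Block F al 0 925440 865891 :=
  block_comb c3613 b3614 (Nat.zero_le _) (Nat.le_of_ble_eq_true rfl) rfl

theorem c3615 : Block F al 0 925696 866143 :=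
  block_comb c3614 b3615 (Nat.zero_le _) (Nat.le_of_ble_eq_true rfl) rfl

theorem c3616 : Block F al 0 925952 866380 :=
  block_comb c3615 b3616 (Nat.zero_le _) (Nat.le_of_ble_eq_true rfl) rfl

theorem c3617 : Block F al 0 926208 866619 :=
  block_comb c3616 b3617 (Nat.zero_le _) (Nat.le_of_ble_eq_true rfl) rfl

theorem c3618 : Block F al 0 926464 866867 :=
  block_comb c3617 b3618 (Nat.zero_le _) (Nat.le_of_ble_eq_true rfl) rfl

theorem c3619 : Block F al 0 926720 867117 :=
  block_comb c3618 b3619 (Nat.zero_le _) (Nat.le_of_ble_eq_true rfl) rfl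

theorem c3620 : Block F al 0 926976 867364 :=
  block_comb c3619 b3620 (Nat.zero_le _) (Nat.le_of_ble_eq_true rfl) rfl

theorem c3621 : Block F al 0 927232 867612 :=
  block_comb c3620 b3621 (Nat.zero_le _) (Nat.le_of_ble_eq_true rfl) rfl

theorem c3622 : Block F al 0 927488 867853 :=
  block_comb c3621 b3622 (Nat.zero_le _) (Nat.le_of_ble_eq_true rfl) rfl

theorem c3623 : Block F al 0 927744 868100 :=
  block_comb c3622 b3623 (Nat.zero_le _) (Nat.le_of_ble_eq_true rfl) rfl

theorem c3624 : Block F al 0 928000 868353 :=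
  block_comb c3623 b3624 (Nat.zero_le _) (Nat.le_of_ble_eq_true rfl) rfl

theorem c3625 : Block F al 0 928256 868604 :=
  block_comb c3624 b3625 (Nat.zero_le _) (Nat.le_of_ble_eq_true rfl) rfl

theorem c3626 : Block F al 0 928512 868851 :=
  block_comb c3625 b3626 (Nat.zero_le _) (Nat.le_of_ble_eq_true rfl) rfl

theorem c3627 : Block F al 0 928768 869100 :=
  block_comb c3626 b3627 (Nat.zero_le _) (Nat.le_of_ble_eq_true rfl) rfl

theorem c3628 : Block F al 0 929024 869347 :=
  block_comb c3627 b3628 (Nat.zero_le _) (Nat.le_of_ble_eq_true rfl) rfl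

theorem c3629 : Block F al 0 929280 869596 :=
  block_comb c3628 b3629 (Nat.zero_le _) (Nat.le_of_ble_eq_true rfl) rfl

theorem c3630 : Block F al 0 929536 869840 :=
  block_comb c3629 b3630 (Nat.zero_le _) (Nat.le_of_ble_eq_true rfl) rfl

theorem c3631 : Block F al 0 929792 870081 :=
  block_comb c3630 b3631 (Nat.zero_le _) (Nat.le_of_ble_eq_true rfl) rfl

theorem c3632 : Block F al 0 930048 870317 :=
  block_comb c3631 b3632 (Nat.zero_le _) (Nat.le_of_ble_eq_true rfl) rfl

theorem c3633 : Block F al 0 930304 870557 :=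
  block_comb c3632 b3633 (Nat.zero_le _) (Nat.le_of_ble_eq_true rfl) rfl

theorem c3634 : Block F al 0 930560 870778 :=
  block_comb c3633 b3634 (Nat.zero_le _) (Nat.le_of_ble_eq_true rfl) rfl

theorem c3635 : Block F al 0 930816 871012 :=
  block_comb c3634 b3635 (Nat.zero_le _) (Nat.le_of_ble_eq_true rfl) rfl

theorem c3636 : Block F al 0 931072 871256 :=
  block_comb c3635 b3636 (Nat.zero_le _) (Nat.le_of_ble_eq_true rfl) rfl

theorem c3637 : Block F al 0 931328 871506 :=
  block_comb c3636 b3637 (Nat.zero_le _) (Nat.le_of_ble_eq_true rfl) rfl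

theorem c3638 : Block F al 0 931584 871755 :=
  block_comb c3637 b3638 (Nat.zero_le _) (Nat.le_of_ble_eq_true rfl) rfl

theorem c3639 : Block F al 0 931840 871997 :=
  block_comb c3638 b3639 (Nat.zero_le _) (Nat.le_of_ble_eq_true rfl) rfl

theorem c3640 : Block F al 0 932096 872250 :=
  block_comb c3639 b3640 (Nat.zero_le _) (Nat.le_of_ble_eq_true rfl) rfl

theorem c3641 : Block F al 0 932352 872493 :=
  block_comb c3640 b3641 (Nat.zero_le _) (Nat.le_of_ble_eq_true rfl) rfl

theorem c3642 : Block F al 0 932608 872746 :=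
  block_comb c3641 b3642 (Nat.zero_le _) (Nat.le_of_ble_eq_true rfl) rfl

theorem c3643 : Block F al 0 932864 873000 :=
  block_comb c3642 b3643 (Nat.zero_le _) (Nat.le_of_ble_eq_true rfl) rfl

theorem c3644 : Block F al 0 933120 873241 :=
  block_comb c3643 b3644 (Nat.zero_le _) (Nat.le_of_ble_eq_true rfl) rfl

theorem c3645 : Block F al 0 933376 873497 :=
  block_comb c3644 b3645 (Nat.zero_le _) (Nat.le_of_ble_eq_true rfl) rfl

theorem c3646 : Block F al 0 933632 873742 :=
  block_comb c3645 b3646 (Nat.zero_le _) (Nat.le_of_ble_eq_true rfl) rfl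

theorem c3647 : Block F al 0 933888 873977 :=
  block_comb c3646 b3647 (Nat.zero_le _) (Nat.le_of_ble_eq_true rfl) rfl

theorem c3648 : Block F al 0 934144 874227 :=
  block_comb c3647 b3648 (Nat.zero_le _) (Nat.le_of_ble_eq_true rfl) rfl

theorem c3649 : Block F al 0 934400 874477 :=
  block_comb c3648 b3649 (Nat.zero_le _) (Nat.le_of_ble_eq_true rfl) rfl

theorem c3650 : Block F al 0 934656 874725 :=
  block_comb c3649 b3650 (Nat.zero_le _) (Nat.le_of_ble_eq_true rfl) rfl

theorem c3651 : Block F al 0 934912 874969 :=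
  block_comb c3650 b3651 (Nat.zero_le _) (Nat.le_of_ble_eq_true rfl) rfl

theorem c3652 : Block F al 0 935168 875217 :=
  block_comb c3651 b3652 (Nat.zero_le _) (Nat.le_of_ble_eq_true rfl) rfl

theorem c3653 : Block F al 0 935424 875465 :=
  block_comb c3652 b3653 (Nat.zero_le _) (Nat.le_of_ble_eq_true rfl) rfl

theorem c3654 : Block F al 0 935680 875718 :=
  block_comb c3653 b3654 (Nat.zero_le _) (Nat.le_of_ble_eq_true rfl) rfl

theorem c3655 : Block F al 0 935936 875967 :=
  block_comb c3654 b3655 (Nat.zero_le _) (Nat.le_of_ble_eq_true rfl) rfl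

theorem c3656 : Block F al 0 936192 876212 :=
  block_comb c3655 b3656 (Nat.zero_le _) (Nat.le_of_ble_eq_true rfl) rfl

theorem c3657 : Block F al 0 936448 876462 :=
  block_comb c3656 b3657 (Nat.zero_le _) (Nat.le_of_ble_eq_true rfl) rfl

theorem c3658 : Block F al 0 936704 876713 :=
  block_comb c3657 b3658 (Nat.zero_le _) (Nat.le_of_ble_eq_true rfl) rfl

theorem c3659 : Block F al 0 936960 876960 :=
  block_comb c3658 b3659 (Nat.zero_le _) (Nat.le_of_ble_eq_true rfl) rfl

theorem c3660 : Block F al 0 937216 877207 :=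
  block_comb c3659 b3660 (Nat.zero_le _) (Nat.le_of_ble_eq_true rfl) rfl

theorem c3661 : Block F al 0 937472 877458 :=
  block_comb c3660 b3661 (Nat.zero_le _) (Nat.le_of_ble_eq_true rfl) rfl

theorem c3662 : Block F al 0 937728 877710 :=
  block_comb c3661 b3662 (Nat.zero_le _) (Nat.le_of_ble_eq_true rfl) rfl

theorem c3663 : Block F al 0 937984 877966 :=
  block_comb c3662 b3663 (Nat.zero_le _) (Nat.le_of_ble_eq_true rfl) rfl

theorem c3664 : Block F al 0 938240 878212 :=
  block_comb c3663 b3664 (Nat.zero_le _) (Nat.le_of_ble_eq_true rfl) rfl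

theorem c3665 : Block F al 0 938496 878468 :=
  block_comb c3664 b3665 (Nat.zero_le _) (Nat.le_of_ble_eq_true rfl) rfl

theorem c3666 : Block F al 0 938752 878721 :=
  block_comb c3665 b3666 (Nat.zero_le _) (Nat.le_of_ble_eq_true rfl) rfl

theorem c3667 : Block F al 0 939008 878974 :=
  block_comb c3666 b3667 (Nat.zero_le _) (Nat.le_of_ble_eq_true rfl) rfl

theorem c3668 : Block F al 0 939264 879224 :=
  block_comb c3667 b3668 (Nat.zero_le _) (Nat.le_of_ble_eq_true rfl) rfl

theorem c3669 : Block F al 0 939520 879476 :=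
  block_comb c3668 b3669 (Nat.zero_le _) (Nat.le_of_ble_eq_true rfl) rfl

theorem c3670 : Block F al 0 939776 879731 :=
  block_comb c3669 b3670 (Nat.zero_le _) (Nat.le_of_ble_eq_true rfl) rfl

theorem c3671 : Block F al 0 940032 879986 :=
  block_comb c3670 b3671 (Nat.zero_le _) (Nat.le_of_ble_eq_true rfl) rfl

theorem c3672 : Block F al 0 940288 880241 :=
  block_comb c3671 b3672 (Nat.zero_le _) (Nat.le_of_ble_eq_true rfl) rfl

theorem c3673 : Block F al 0 940544 880493 :=
  block_comb c3672 b3673 (Nat.zero_le _) (Nat.le_of_ble_eq_true rfl) rfl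

theorem c3674 : Block F al 0 940800 880742 :=
  block_comb c3673 b3674 (Nat.zero_le _) (Nat.le_of_ble_eq_true rfl) rfl

theorem c3675 : Block F al 0 941056 880994 :=
  block_comb c3674 b3675 (Nat.zero_le _) (Nat.le_of_ble_eq_true rfl) rfl

theorem c3676 : Block F al 0 941312 881239 :=
  block_comb c3675 b3676 (Nat.zero_le _) (Nat.le_of_ble_eq_true rfl) rfl

theorem c3677 : Block F al 0 941568 881481 :=
  block_comb c3676 b3677 (Nat.zero_le _) (Nat.le_of_ble_eq_true rfl) rfl

theorem c3678 : Block F al 0 941824 881734 :=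
  block_comb c3677 b3678 (Nat.zero_le _) (Nat.le_of_ble_eq_true rfl) rfl

theorem c3679 : Block F al 0 942080 881988 :=
  block_comb c3678 b3679 (Nat.zero_le _) (Nat.le_of_ble_eq_true rfl) rfl

theorem c3680 : Block F al 0 942336 882241 :=
  block_comb c3679 b3680 (Nat.zero_le _) (Nat.le_of_ble_eq_true rfl) rfl

theorem c3681 : Block F al 0 942592 882493 :=
  block_comb c3680 b3681 (Nat.zero_le _) (Nat.le_of_ble_eq_true rfl) rfl

theorem c3682 : Block F al 0 942848 882741 :=
  block_comb c3681 b3682 (Nat.zero_le _) (Nat.le_of_ble_eq_true rfl) rfl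

theorem c3683 : Block F al 0 943104 882990 :=
  block_comb c3682 b3683 (Nat.zero_le _) (Nat.le_of_ble_eq_true rfl) rfl

theorem c3684 : Block F al 0 943360 883235 :=
  block_comb c3683 b3684 (Nat.zero_le _) (Nat.le_of_ble_eq_true rfl) rfl

theorem c3685 : Block F al 0 943616 883489 :=
  block_comb c3684 b3685 (Nat.zero_le _) (Nat.le_of_ble_eq_true rfl) rfl

theorem c3686 : Block F al 0 943872 883735 :=
  block_comb c3685 b3686 (Nat.zero_le _) (Nat.le_of_ble_eq_true rfl) rfl

theorem c3687 : Block F al 0 944128 883985 :=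
  block_comb c3686 b3687 (Nat.zero_le _) (Nat.le_of_ble_eq_true rfl) rfl

theorem c3688 : Block F al 0 944384 884231 :=
  block_comb c3687 b3688 (Nat.zero_le _) (Nat.le_of_ble_eq_true rfl) rfl

theorem c3689 : Block F al 0 944640 884477 :=
  block_comb c3688 b3689 (Nat.zero_le _) (Nat.le_of_ble_eq_true rfl) rfl

theorem c3690 : Block F al 0 944896 884726 :=
  block_comb c3689 b3690 (Nat.zero_le _) (Nat.le_of_ble_eq_true rfl) rfl

theorem c3691 : Block F al 0 945152 884960 :=
  block_comb c3690 b3691 (Nat.zero_le _) (Nat.le_of_ble_eq_true rfl) rfl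

theorem c3692 : Block F al 0 945408 885207 :=
  block_comb c3691 b3692 (Nat.zero_le _) (Nat.le_of_ble_eq_true rfl) rfl

theorem c3693 : Block F al 0 945664 885456 :=
  block_comb c3692 b3693 (Nat.zero_le _) (Nat.le_of_ble_eq_true rfl) rfl

theorem c3694 : Block F al 0 945920 885709 :=
  block_comb c3693 b3694 (Nat.zero_le _) (Nat.le_of_ble_eq_true rfl) rfl

theorem c3695 : Block F al 0 946176 885958 :=
  block_comb c3694 b3695 (Nat.zero_le _) (Nat.le_of_ble_eq_true rfl) rfl

theorem c3696 : Block F al 0 946432 886206 :=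
  block_comb c3695 b3696 (Nat.zero_le _) (Nat.le_of_ble_eq_true rfl) rfl

theorem c3697 : Block F al 0 946688 886459 :=
  block_comb c3696 b3697 (Nat.zero_le _) (Nat.le_of_ble_eq_true rfl) rfl

theorem c3698 : Block F al 0 946944 886710 :=
  block_comb c3697 b3698 (Nat.zero_le _) (Nat.le_of_ble_eq_true rfl) rfl

theorem c3699 : Block F al 0 947200 886961 :=
  block_comb c3698 b3699 (Nat.zero_le _) (Nat.le_of_ble_eq_true rfl) rfl

theorem c3700 : Block F al 0 947456 887214 :=
  block_comb c3699 b3700 (Nat.zero_le _) (Nat.le_of_ble_eq_true rfl) rfl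

theorem c3701 : Block F al 0 947712 887457 :=
  block_comb c3700 b3701 (Nat.zero_le _) (Nat.le_of_ble_eq_true rfl) rfl

theorem c3702 : Block F al 0 947968 887695 :=
  block_comb c3701 b3702 (Nat.zero_le _) (Nat.le_of_ble_eq_true rfl) rfl

theorem c3703 : Block F al 0 948224 887945 :=
  block_comb c3702 b3703 (Nat.zero_le _) (Nat.le_of_ble_eq_true rfl) rfl

theorem c3704 : Block F al 0 948480 888198 :=
  block_comb c3703 b3704 (Nat.zero_le _) (Nat.le_of_ble_eq_true rfl) rfl

theorem c3705 : Block F al 0 948736 888444 :=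
  block_comb c3704 b3705 (Nat.zero_le _) (Nat.le_of_ble_eq_true rfl) rfl

theorem c3706 : Block F al 0 948992 888698 :=
  block_comb c3705 b3706 (Nat.zero_le _) (Nat.le_of_ble_eq_true rfl) rfl

theorem c3707 : Block F al 0 949248 888950 :=
  block_comb c3706 b3707 (Nat.zero_le _) (Nat.le_of_ble_eq_true rfl) rfl

theorem c3708 : Block F al 0 949504 889200 :=
  block_comb c3707 b3708 (Nat.zero_le _) (Nat.le_of_ble_eq_true rfl) rfl

theorem c3709 : Block F al 0 949760 889453 :=
  block_comb c3708 b3709 (Nat.zero_le _) (Nat.le_of_ble_eq_true rfl) rfl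

theorem c3710 : Block F al 0 950016 889701 :=
  block_comb c3709 b3710 (Nat.zero_le _) (Nat.le_of_ble_eq_true rfl) rfl

theorem c3711 : Block F al 0 950272 889955 :=
  block_comb c3710 b3711 (Nat.zero_le _) (Nat.le_of_ble_eq_true rfl) rfl

theorem c3712 : Block F al 0 950528 890209 :=
  block_comb c3711 b3712 (Nat.zero_le _) (Nat.le_of_ble_eq_true rfl) rfl

theorem c3713 : Block F al 0 950784 890461 :=
  block_comb c3712 b3713 (Nat.zero_le _) (Nat.le_of_ble_eq_true rfl) rfl

theorem c3714 : Block F al 0 951040 890709 :=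
  block_comb c3713 b3714 (Nat.zero_le _) (Nat.le_of_ble_eq_true rfl) rfl

theorem c3715 : Block F al 0 951296 890958 :=
  block_comb c3714 b3715 (Nat.zero_le _) (Nat.le_of_ble_eq_true rfl) rfl

theorem c3716 : Block F al 0 951552 891199 :=
  block_comb c3715 b3716 (Nat.zero_le _) (Nat.le_of_ble_eq_true rfl) rfl

theorem c3717 : Block F al 0 951808 891444 :=
  block_comb c3716 b3717 (Nat.zero_le _) (Nat.le_of_ble_eq_true rfl) rfl

theorem c3718 : Block F al 0 952064 891682 :=
  block_comb c3717 b3718 (Nat.zero_le _) (Nat.le_of_ble_eq_true rfl) rfl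

theorem c3719 : Block F al 0 952320 891924 :=
  block_comb c3718 b3719 (Nat.zero_le _) (Nat.le_of_ble_eq_true rfl) rfl

theorem c3720 : Block F al 0 952576 892170 :=
  block_comb c3719 b3720 (Nat.zero_le _) (Nat.le_of_ble_eq_true rfl) rfl

theorem c3721 : Block F al 0 952832 892417 :=
  block_comb c3720 b3721 (Nat.zero_le _) (Nat.le_of_ble_eq_true rfl) rfl

theorem c3722 : Block F al 0 953088 892662 :=
  block_comb c3721 b3722 (Nat.zero_le _) (Nat.le_of_ble_eq_true rfl) rfl

theorem c3723 : Block F al 0 953344 892917 :=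
  block_comb c3722 b3723 (Nat.zero_le _) (Nat.le_of_ble_eq_true rfl) rfl

theorem c3724 : Block F al 0 953600 893164 :=
  block_comb c3723 b3724 (Nat.zero_le _) (Nat.le_of_ble_eq_true rfl) rfl

theorem c3725 : Block F al 0 953856 893414 :=
  block_comb c3724 b3725 (Nat.zero_le _) (Nat.le_of_ble_eq_true rfl) rfl

theorem c3726 : Block F al 0 954112 893670 :=
  block_comb c3725 b3726 (Nat.zero_le _) (Nat.le_of_ble_eq_true rfl) rfl

theorem c3727 : Block F al 0 954368 893922 :=
  block_comb c3726 b3727 (Nat.zero_le _) (Nat.le_of_ble_eq_true rfl) rfl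

theorem c3728 : Block F al 0 954624 894174 :=
  block_comb c3727 b3728 (Nat.zero_le _) (Nat.le_of_ble_eq_true rfl) rfl

theorem c3729 : Block F al 0 954880 894426 :=
  block_comb c3728 b3729 (Nat.zero_le _) (Nat.le_of_ble_eq_true rfl) rfl

theorem c3730 : Block F al 0 955136 894667 :=
  block_comb c3729 b3730 (Nat.zero_le _) (Nat.le_of_ble_eq_true rfl) rfl

theorem c3731 : Block F al 0 955392 894905 :=
  block_comb c3730 b3731 (Nat.zero_le _) (Nat.le_of_ble_eq_true rfl) rfl

theorem c3732 : Block F al 0 955648 895147 :=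
  block_comb c3731 b3732 (Nat.zero_le _) (Nat.le_of_ble_eq_true rfl) rfl

theorem c3733 : Block F al 0 955904 895400 :=
  block_comb c3732 b3733 (Nat.zero_le _) (Nat.le_of_ble_eq_true rfl) rfl

theorem c3734 : Block F al 0 956160 895639 :=
  block_comb c3733 b3734 (Nat.zero_le _) (Nat.le_of_ble_eq_true rfl) rfl

theorem c3735 : Block F al 0 956416 895889 :=
  block_comb c3734 b3735 (Nat.zero_le _) (Nat.le_of_ble_eq_true rfl) rfl

theorem c3736 : Block F al 0 956672 896132 :=
  block_comb c3735 b3736 (Nat.zero_le _) (Nat.le_of_ble_eq_true rfl) rfl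

theorem c3737 : Block F al 0 956928 896377 :=
  block_comb c3736 b3737 (Nat.zero_le _) (Nat.le_of_ble_eq_true rfl) rfl

theorem c3738 : Block F al 0 957184 896630 :=
  block_comb c3737 b3738 (Nat.zero_le _) (Nat.le_of_ble_eq_true rfl) rfl

theorem c3739 : Block F al 0 957440 896882 :=
  block_comb c3738 b3739 (Nat.zero_le _) (Nat.le_of_ble_eq_true rfl) rfl

theorem c3740 : Block F al 0 957696 897133 :=
  block_comb c3739 b3740 (Nat.zero_le _) (Nat.le_of_ble_eq_true rfl) rfl

theorem c3741 : Block F al 0 957952 897387 :=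
  block_comb c3740 b3741 (Nat.zero_le _) (Nat.le_of_ble_eq_true rfl) rfl

theorem c3742 : Block F al 0 958208 897642 :=
  block_comb c3741 b3742 (Nat.zero_le _) (Nat.le_of_ble_eq_true rfl) rfl

theorem c3743 : Block F al 0 958464 897896 :=
  block_comb c3742 b3743 (Nat.zero_le _) (Nat.le_of_ble_eq_true rfl) rfl

theorem c3744 : Block F al 0 958720 898150 :=
  block_comb c3743 b3744 (Nat.zero_le _) (Nat.le_of_ble_eq_true rfl) rfl

theorem c3745 : Block F al 0 958976 898401 :=
  block_comb c3744 b3745 (Nat.zero_le _) (Nat.le_of_ble_eq_true rfl) rfl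

theorem c3746 : Block F al 0 959232 898656 :=
  block_comb c3745 b3746 (Nat.zero_le _) (Nat.le_of_ble_eq_true rfl) rfl

theorem c3747 : Block F al 0 959488 898908 :=
  block_comb c3746 b3747 (Nat.zero_le _) (Nat.le_of_ble_eq_true rfl) rfl

theorem c3748 : Block F al 0 959744 899161 :=
  block_comb c3747 b3748 (Nat.zero_le _) (Nat.le_of_ble_eq_true rfl) rfl

theorem c3749 : Block F al 0 960000 899402 :=
  block_comb c3748 b3749 (Nat.zero_le _) (Nat.le_of_ble_eq_true rfl) rfl

theorem c3750 : Block F al 0 960256 899655 :=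
  block_comb c3749 b3750 (Nat.zero_le _) (Nat.le_of_ble_eq_true rfl) rfl

theorem c3751 : Block F al 0 960512 899901 :=
  block_comb c3750 b3751 (Nat.zero_le _) (Nat.le_of_ble_eq_true rfl) rfl

theorem c3752 : Block F al 0 960768 900147 :=
  block_comb c3751 b3752 (Nat.zero_le _) (Nat.le_of_ble_eq_true rfl) rfl

theorem c3753 : Block F al 0 961024 900399 :=
  block_comb c3752 b3753 (Nat.zero_le _) (Nat.le_of_ble_eq_true rfl) rfl

theorem c3754 : Block F al 0 961280 900648 :=
  block_comb c3753 b3754 (Nat.zero_le _) (Nat.le_of_ble_eq_true rfl) rfl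

theorem c3755 : Block F al 0 961536 900894 :=
  block_comb c3754 b3755 (Nat.zero_le _) (Nat.le_of_ble_eq_true rfl) rfl

theorem c3756 : Block F al 0 961792 901139 :=
  block_comb c3755 b3756 (Nat.zero_le _) (Nat.le_of_ble_eq_true rfl) rfl

theorem c3757 : Block F al 0 962048 901392 :=
  block_comb c3756 b3757 (Nat.zero_le _) (Nat.le_of_ble_eq_true rfl) rfl

theorem c3758 : Block F al 0 962304 901644 :=
  block_comb c3757 b3758 (Nat.zero_le _) (Nat.le_of_ble_eq_true rfl) rfl

theorem c3759 : Block F al 0 962560 901896 :=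
  block_comb c3758 b3759 (Nat.zero_le _) (Nat.le_of_ble_eq_true rfl) rfl

theorem c3760 : Block F al 0 962816 902148 :=
  block_comb c3759 b3760 (Nat.zero_le _) (Nat.le_of_ble_eq_true rfl) rfl

theorem c3761 : Block F al 0 963072 902397 :=
  block_comb c3760 b3761 (Nat.zero_le _) (Nat.le_of_ble_eq_true rfl) rfl

theorem c3762 : Block F al 0 963328 902649 :=
  block_comb c3761 b3762 (Nat.zero_le _) (Nat.le_of_ble_eq_true rfl) rfl

theorem c3763 : Block F al 0 963584 902888 :=
  block_comb c3762 b3763 (Nat.zero_le _) (Nat.le_of_ble_eq_true rfl) rfl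

theorem c3764 : Block F al 0 963840 903135 :=
  block_comb c3763 b3764 (Nat.zero_le _) (Nat.le_of_ble_eq_true rfl) rfl

theorem c3765 : Block F al 0 964096 903372 :=
  block_comb c3764 b3765 (Nat.zero_le _) (Nat.le_of_ble_eq_true rfl) rfl

theorem c3766 : Block F al 0 964352 903616 :=
  block_comb c3765 b3766 (Nat.zero_le _) (Nat.le_of_ble_eq_true rfl) rfl

theorem c3767 : Block F al 0 964608 903865 :=
  block_comb c3766 b3767 (Nat.zero_le _) (Nat.le_of_ble_eq_true rfl) rfl

theorem c3768 : Block F al 0 964864 904116 :=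
  block_comb c3767 b3768 (Nat.zero_le _) (Nat.le_of_ble_eq_true rfl) rfl

theorem c3769 : Block F al 0 965120 904365 :=
  block_comb c3768 b3769 (Nat.zero_le _) (Nat.le_of_ble_eq_true rfl) rfl

theorem c3770 : Block F al 0 965376 904619 :=
  block_comb c3769 b3770 (Nat.zero_le _) (Nat.le_of_ble_eq_true rfl) rfl

theorem c3771 : Block F al 0 965632 904865 :=
  block_comb c3770 b3771 (Nat.zero_le _) (Nat.le_of_ble_eq_true rfl) rfl

theorem c3772 : Block F al 0 965888 905111 :=
  block_comb c3771 b3772 (Nat.zero_le _) (Nat.le_of_ble_eq_true rfl) rfl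

theorem c3773 : Block F al 0 966144 905360 :=
  block_comb c3772 b3773 (Nat.zero_le _) (Nat.le_of_ble_eq_true rfl) rfl

theorem c3774 : Block F al 0 966400 905610 :=
  block_comb c3773 b3774 (Nat.zero_le _) (Nat.le_of_ble_eq_true rfl) rfl

theorem c3775 : Block F al 0 966656 905861 :=
  block_comb c3774 b3775 (Nat.zero_le _) (Nat.le_of_ble_eq_true rfl) rfl

theorem c3776 : Block F al 0 966912 906117 :=
  block_comb c3775 b3776 (Nat.zero_le _) (Nat.le_of_ble_eq_true rfl) rfl

theorem c3777 : Block F al 0 967168 906367 :=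
  block_comb c3776 b3777 (Nat.zero_le _) (Nat.le_of_ble_eq_true rfl) rfl

theorem c3778 : Block F al 0 967424 906614 :=
  block_comb c3777 b3778 (Nat.zero_le _) (Nat.le_of_ble_eq_true rfl) rfl

theorem c3779 : Block F al 0 967680 906862 :=
  block_comb c3778 b3779 (Nat.zero_le _) (Nat.le_of_ble_eq_true rfl) rfl

theorem c3780 : Block F al 0 967936 907111 :=
  block_comb c3779 b3780 (Nat.zero_le _) (Nat.le_of_ble_eq_true rfl) rfl

theorem c3781 : Block F al 0 968192 907359 :=
  block_comb c3780 b3781 (Nat.zero_le _) (Nat.le_of_ble_eq_true rfl) rfl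

theorem c3782 : Block F al 0 968448 907604 :=
  block_comb c3781 b3782 (Nat.zero_le _) (Nat.le_of_ble_eq_true rfl) rfl

theorem c3783 : Block F al 0 968704 907854 :=
  block_comb c3782 b3783 (Nat.zero_le _) (Nat.le_of_ble_eq_true rfl) rfl

theorem c3784 : Block F al 0 968960 908103 :=
  block_comb c3783 b3784 (Nat.zero_le _) (Nat.le_of_ble_eq_true rfl) rfl

theorem c3785 : Block F al 0 969216 908352 :=
  block_comb c3784 b3785 (Nat.zero_le _) (Nat.le_of_ble_eq_true rfl) rfl

theorem c3786 : Block F al 0 969472 908602 :=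
  block_comb c3785 b3786 (Nat.zero_le _) (Nat.le_of_ble_eq_true rfl) rfl

theorem c3787 : Block F al 0 969728 908847 :=
  block_comb c3786 b3787 (Nat.zero_le _) (Nat.le_of_ble_eq_true rfl) rfl

theorem c3788 : Block F al 0 969984 909085 :=
  block_comb c3787 b3788 (Nat.zero_le _) (Nat.le_of_ble_eq_true rfl) rfl

theorem c3789 : Block F al 0 970240 909329 :=
  block_comb c3788 b3789 (Nat.zero_le _) (Nat.le_of_ble_eq_true rfl) rfl

theorem c3790 : Block F al 0 970496 909581 :=
  block_comb c3789 b3790 (Nat.zero_le _) (Nat.le_of_ble_eq_true rfl) rfl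

theorem c3791 : Block F al 0 970752 909829 :=
  block_comb c3790 b3791 (Nat.zero_le _) (Nat.le_of_ble_eq_true rfl) rfl

theorem c3792 : Block F al 0 971008 910063 :=
  block_comb c3791 b3792 (Nat.zero_le _) (Nat.le_of_ble_eq_true rfl) rfl

theorem c3793 : Block F al 0 971264 910306 :=
  block_comb c3792 b3793 (Nat.zero_le _) (Nat.le_of_ble_eq_true rfl) rfl

theorem c3794 : Block F al 0 971520 910548 :=
  block_comb c3793 b3794 (Nat.zero_le _) (Nat.le_of_ble_eq_true rfl) rfl

theorem c3795 : Block F al 0 971776 910790 :=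
  block_comb c3794 b3795 (Nat.zero_le _) (Nat.le_of_ble_eq_true rfl) rfl

theorem c3796 : Block F al 0 972032 911041 :=
  block_comb c3795 b3796 (Nat.zero_le _) (Nat.le_of_ble_eq_true rfl) rfl

theorem c3797 : Block F al 0 972288 911286 :=
  block_comb c3796 b3797 (Nat.zero_le _) (Nat.le_of_ble_eq_true rfl) rfl

theorem c3798 : Block F al 0 972544 911525 :=
  block_comb c3797 b3798 (Nat.zero_le _) (Nat.le_of_ble_eq_true rfl) rfl

theorem c3799 : Block F al 0 972800 911773 :=
  block_comb c3798 b3799 (Nat.zero_le _) (Nat.le_of_ble_eq_true rfl) rfl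

theorem c3800 : Block F al 0 973056 912002 :=
  block_comb c3799 b3800 (Nat.zero_le _) (Nat.le_of_ble_eq_true rfl) rfl

theorem c3801 : Block F al 0 973312 912252 :=
  block_comb c3800 b3801 (Nat.zero_le _) (Nat.le_of_ble_eq_true rfl) rfl

theorem c3802 : Block F al 0 973568 912501 :=
  block_comb c3801 b3802 (Nat.zero_le _) (Nat.le_of_ble_eq_true rfl) rfl

theorem c3803 : Block F al 0 973824 912746 :=
  block_comb c3802 b3803 (Nat.zero_le _) (Nat.le_of_ble_eq_true rfl) rfl

theorem c3804 : Block F al 0 974080 912995 :=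
  block_comb c3803 b3804 (Nat.zero_le _) (Nat.le_of_ble_eq_true rfl) rfl

theorem c3805 : Block F al 0 974336 913245 :=
  block_comb c3804 b3805 (Nat.zero_le _) (Nat.le_of_ble_eq_true rfl) rfl

theorem c3806 : Block F al 0 974592 913491 :=
  block_comb c3805 b3806 (Nat.zero_le _) (Nat.le_of_ble_eq_true rfl) rfl

theorem c3807 : Block F al 0 974848 913727 :=
  block_comb c3806 b3807 (Nat.zero_le _) (Nat.le_of_ble_eq_true rfl) rfl

theorem c3808 : Block F al 0 975104 913975 :=
  block_comb c3807 b3808 (Nat.zero_le _) (Nat.le_of_ble_eq_true rfl) rfl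

theorem c3809 : Block F al 0 975360 914227 :=
  block_comb c3808 b3809 (Nat.zero_le _) (Nat.le_of_ble_eq_true rfl) rfl

theorem c3810 : Block F al 0 975616 914470 :=
  block_comb c3809 b3810 (Nat.zero_le _) (Nat.le_of_ble_eq_true rfl) rfl

theorem c3811 : Block F al 0 975872 914715 :=
  block_comb c3810 b3811 (Nat.zero_le _) (Nat.le_of_ble_eq_true rfl) rfl

theorem c3812 : Block F al 0 976128 914967 :=
  block_comb c3811 b3812 (Nat.zero_le _) (Nat.le_of_ble_eq_true rfl) rfl

theorem c3813 : Block F al 0 976384 915211 :=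
  block_comb c3812 b3813 (Nat.zero_le _) (Nat.le_of_ble_eq_true rfl) rfl

theorem c3814 : Block F al 0 976640 915442 :=
  block_comb c3813 b3814 (Nat.zero_le _) (Nat.le_of_ble_eq_true rfl) rfl

theorem c3815 : Block F al 0 976896 915692 :=
  block_comb c3814 b3815 (Nat.zero_le _) (Nat.le_of_ble_eq_true rfl) rfl

theorem c3816 : Block F al 0 977152 915943 :=
  block_comb c3815 b3816 (Nat.zero_le _) (Nat.le_of_ble_eq_true rfl) rfl

theorem c3817 : Block F al 0 977408 916187 :=
  block_comb c3816 b3817 (Nat.zero_le _) (Nat.le_of_ble_eq_true rfl) rfl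

theorem c3818 : Block F al 0 977664 916427 :=
  block_comb c3817 b3818 (Nat.zero_le _) (Nat.le_of_ble_eq_true rfl) rfl

theorem c3819 : Block F al 0 977920 916670 :=
  block_comb c3818 b3819 (Nat.zero_le _) (Nat.le_of_ble_eq_true rfl) rfl

theorem c3820 : Block F al 0 978176 916917 :=
  block_comb c3819 b3820 (Nat.zero_le _) (Nat.le_of_ble_eq_true rfl) rfl

theorem c3821 : Block F al 0 978432 917170 :=
  block_comb c3820 b3821 (Nat.zero_le _) (Nat.le_of_ble_eq_true rfl) rfl

theorem c3822 : Block F al 0 978688 917415 :=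
  block_comb c3821 b3822 (Nat.zero_le _) (Nat.le_of_ble_eq_true rfl) rfl

theorem c3823 : Block F al 0 978944 917651 :=
  block_comb c3822 b3823 (Nat.zero_le _) (Nat.le_of_ble_eq_true rfl) rfl

theorem c3824 : Block F al 0 979200 917899 :=
  block_comb c3823 b3824 (Nat.zero_le _) (Nat.le_of_ble_eq_true rfl) rfl

theorem c3825 : Block F al 0 979456 918146 :=
  block_comb c3824 b3825 (Nat.zero_le _) (Nat.le_of_ble_eq_true rfl) rfl

theorem c3826 : Block F al 0 979712 918393 :=
  block_comb c3825 b3826 (Nat.zero_le _) (Nat.le_of_ble_eq_true rfl) rfl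

theorem c3827 : Block F al 0 979968 918644 :=
  block_comb c3826 b3827 (Nat.zero_le _) (Nat.le_of_ble_eq_true rfl) rfl

theorem c3828 : Block F al 0 980224 918886 :=
  block_comb c3827 b3828 (Nat.zero_le _) (Nat.le_of_ble_eq_true rfl) rfl

theorem c3829 : Block F al 0 980480 919127 :=
  block_comb c3828 b3829 (Nat.zero_le _) (Nat.le_of_ble_eq_true rfl) rfl

theorem c3830 : Block F al 0 980736 919370 :=
  block_comb c3829 b3830 (Nat.zero_le _) (Nat.le_of_ble_eq_true rfl) rfl

theorem c3831 : Block F al 0 980992 919603 :=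
  block_comb c3830 b3831 (Nat.zero_le _) (Nat.le_of_ble_eq_true rfl) rfl

theorem c3832 : Block F al 0 981248 919841 :=
  block_comb c3831 b3832 (Nat.zero_le _) (Nat.le_of_ble_eq_true rfl) rfl

theorem c3833 : Block F al 0 981504 920088 :=
  block_comb c3832 b3833 (Nat.zero_le _) (Nat.le_of_ble_eq_true rfl) rfl

theorem c3834 : Block F al 0 981760 920335 :=
  block_comb c3833 b3834 (Nat.zero_le _) (Nat.le_of_ble_eq_true rfl) rfl

theorem c3835 : Block F al 0 982016 920585 :=
  block_comb c3834 b3835 (Nat.zero_le _) (Nat.le_of_ble_eq_true rfl) rfl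

theorem c3836 : Block F al 0 982272 920826 :=
  block_comb c3835 b3836 (Nat.zero_le _) (Nat.le_of_ble_eq_true rfl) rfl

theorem c3837 : Block F al 0 982528 921071 :=
  block_comb c3836 b3837 (Nat.zero_le _) (Nat.le_of_ble_eq_true rfl) rfl

theorem c3838 : Block F al 0 982784 921320 :=
  block_comb c3837 b3838 (Nat.zero_le _) (Nat.le_of_ble_eq_true rfl) rfl

theorem c3839 : Block F al 0 983040 921561 :=
  block_comb c3838 b3839 (Nat.zero_le _) (Nat.le_of_ble_eq_true rfl) rfl

theorem c3840 : Block F al 0 983296 921808 :=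
  block_comb c3839 b3840 (Nat.zero_le _) (Nat.le_of_ble_eq_true rfl) rfl

theorem c3841 : Block F al 0 983552 922061 :=
  block_comb c3840 b3841 (Nat.zero_le _) (Nat.le_of_ble_eq_true rfl) rfl

theorem c3842 : Block F al 0 983808 922301 :=
  block_comb c3841 b3842 (Nat.zero_le _) (Nat.le_of_ble_eq_true rfl) rfl

theorem c3843 : Block F al 0 984064 922542 :=
  block_comb c3842 b3843 (Nat.zero_le _) (Nat.le_of_ble_eq_true rfl) rfl

theorem c3844 : Block F al 0 984320 922789 :=
  block_comb c3843 b3844 (Nat.zero_le _) (Nat.le_of_ble_eq_true rfl) rfl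

theorem c3845 : Block F al 0 984576 923032 :=
  block_comb c3844 b3845 (Nat.zero_le _) (Nat.le_of_ble_eq_true rfl) rfl

theorem c3846 : Block F al 0 984832 923283 :=
  block_comb c3845 b3846 (Nat.zero_le _) (Nat.le_of_ble_eq_true rfl) rfl

theorem c3847 : Block F al 0 985088 923525 :=
  block_comb c3846 b3847 (Nat.zero_le _) (Nat.le_of_ble_eq_true rfl) rfl

theorem c3848 : Block F al 0 985344 923765 :=
  block_comb c3847 b3848 (Nat.zero_le _) (Nat.le_of_ble_eq_true rfl) rfl

theorem c3849 : Block F al 0 985600 924005 :=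
  block_comb c3848 b3849 (Nat.zero_le _) (Nat.le_of_ble_eq_true rfl) rfl

theorem c3850 : Block F al 0 985856 924235 :=
  block_comb c3849 b3850 (Nat.zero_le _) (Nat.le_of_ble_eq_true rfl) rfl

theorem c3851 : Block F al 0 986112 924478 :=
  block_comb c3850 b3851 (Nat.zero_le _) (Nat.le_of_ble_eq_true rfl) rfl

theorem c3852 : Block F al 0 986368 924732 :=
  block_comb c3851 b3852 (Nat.zero_le _) (Nat.le_of_ble_eq_true rfl) rfl

theorem c3853 : Block F al 0 986624 924986 :=
  block_comb c3852 b3853 (Nat.zero_le _) (Nat.le_of_ble_eq_true rfl) rfl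

theorem c3854 : Block F al 0 986880 925236 :=
  block_comb c3853 b3854 (Nat.zero_le _) (Nat.le_of_ble_eq_true rfl) rfl

theorem c3855 : Block F al 0 987136 925480 :=
  block_comb c3854 b3855 (Nat.zero_le _) (Nat.le_of_ble_eq_true rfl) rfl

theorem c3856 : Block F al 0 987392 925733 :=
  block_comb c3855 b3856 (Nat.zero_le _) (Nat.le_of_ble_eq_true rfl) rfl

theorem c3857 : Block F al 0 987648 925986 :=
  block_comb c3856 b3857 (Nat.zero_le _) (Nat.le_of_ble_eq_true rfl) rfl

theorem c3858 : Block F al 0 987904 926239 :=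
  block_comb c3857 b3858 (Nat.zero_le _) (Nat.le_of_ble_eq_true rfl) rfl

theorem c3859 : Block F al 0 988160 926493 :=
  block_comb c3858 b3859 (Nat.zero_le _) (Nat.le_of_ble_eq_true rfl) rfl

theorem c3860 : Block F al 0 988416 926732 :=
  block_comb c3859 b3860 (Nat.zero_le _) (Nat.le_of_ble_eq_true rfl) rfl

theorem c3861 : Block F al 0 988672 926986 :=
  block_comb c3860 b3861 (Nat.zero_le _) (Nat.le_of_ble_eq_true rfl) rfl

theorem c3862 : Block F al 0 988928 927237 :=
  block_comb c3861 b3862 (Nat.zero_le _) (Nat.le_of_ble_eq_true rfl) rfl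

theorem c3863 : Block F al 0 989184 927493 :=
  block_comb c3862 b3863 (Nat.zero_le _) (Nat.le_of_ble_eq_true rfl) rfl

theorem c3864 : Block F al 0 989440 927746 :=
  block_comb c3863 b3864 (Nat.zero_le _) (Nat.le_of_ble_eq_true rfl) rfl

theorem c3865 : Block F al 0 989696 927999 :=
  block_comb c3864 b3865 (Nat.zero_le _) (Nat.le_of_ble_eq_true rfl) rfl

theorem c3866 : Block F al 0 989952 928251 :=
  block_comb c3865 b3866 (Nat.zero_le _) (Nat.le_of_ble_eq_true rfl) rfl

theorem c3867 : Block F al 0 990208 928498 :=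
  block_comb c3866 b3867 (Nat.zero_le _) (Nat.le_of_ble_eq_true rfl) rfl

theorem c3868 : Block F al 0 990464 928738 :=
  block_comb c3867 b3868 (Nat.zero_le _) (Nat.le_of_ble_eq_true rfl) rfl

theorem c3869 : Block F al 0 990720 928988 :=
  block_comb c3868 b3869 (Nat.zero_le _) (Nat.le_of_ble_eq_true rfl) rfl

theorem c3870 : Block F al 0 990976 929238 :=
  block_comb c3869 b3870 (Nat.zero_le _) (Nat.le_of_ble_eq_true rfl) rfl

theorem c3871 : Block F al 0 991232 929491 :=
  block_comb c3870 b3871 (Nat.zero_le _) (Nat.le_of_ble_eq_true rfl) rfl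

theorem c3872 : Block F al 0 991488 929743 :=
  block_comb c3871 b3872 (Nat.zero_le _) (Nat.le_of_ble_eq_true rfl) rfl

theorem c3873 : Block F al 0 991744 929997 :=
  block_comb c3872 b3873 (Nat.zero_le _) (Nat.le_of_ble_eq_true rfl) rfl

theorem c3874 : Block F al 0 992000 930249 :=
  block_comb c3873 b3874 (Nat.zero_le _) (Nat.le_of_ble_eq_true rfl) rfl

theorem c3875 : Block F al 0 992256 930501 :=
  block_comb c3874 b3875 (Nat.zero_le _) (Nat.le_of_ble_eq_true rfl) rfl

theorem c3876 : Block F al 0 992512 930753 :=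
  block_comb c3875 b3876 (Nat.zero_le _) (Nat.le_of_ble_eq_true rfl) rfl

theorem c3877 : Block F al 0 992768 931005 :=
  block_comb c3876 b3877 (Nat.zero_le _) (Nat.le_of_ble_eq_true rfl) rfl

theorem c3878 : Block F al 0 993024 931250 :=
  block_comb c3877 b3878 (Nat.zero_le _) (Nat.le_of_ble_eq_true rfl) rfl

theorem c3879 : Block F al 0 993280 931504 :=
  block_comb c3878 b3879 (Nat.zero_le _) (Nat.le_of_ble_eq_true rfl) rfl

theorem c3880 : Block F al 0 993536 931760 :=
  block_comb c3879 b3880 (Nat.zero_le _) (Nat.le_of_ble_eq_true rfl) rfl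

theorem c3881 : Block F al 0 993792 932014 :=
  block_comb c3880 b3881 (Nat.zero_le _) (Nat.le_of_ble_eq_true rfl) rfl

theorem c3882 : Block F al 0 994048 932265 :=
  block_comb c3881 b3882 (Nat.zero_le _) (Nat.le_of_ble_eq_true rfl) rfl

theorem c3883 : Block F al 0 994304 932514 :=
  block_comb c3882 b3883 (Nat.zero_le _) (Nat.le_of_ble_eq_true rfl) rfl

theorem c3884 : Block F al 0 994560 932761 :=
  block_comb c3883 b3884 (Nat.zero_le _) (Nat.le_of_ble_eq_true rfl) rfl

theorem c3885 : Block F al 0 994816 933011 :=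
  block_comb c3884 b3885 (Nat.zero_le _) (Nat.le_of_ble_eq_true rfl) rfl

theorem c3886 : Block F al 0 995072 933263 :=
  block_comb c3885 b3886 (Nat.zero_le _) (Nat.le_of_ble_eq_true rfl) rfl

theorem c3887 : Block F al 0 995328 933513 :=
  block_comb c3886 b3887 (Nat.zero_le _) (Nat.le_of_ble_eq_true rfl) rfl

theorem c3888 : Block F al 0 995584 933757 :=
  block_comb c3887 b3888 (Nat.zero_le _) (Nat.le_of_ble_eq_true rfl) rfl

theorem c3889 : Block F al 0 995840 934008 :=
  block_comb c3888 b3889 (Nat.zero_le _) (Nat.le_of_ble_eq_true rfl) rfl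

theorem c3890 : Block F al 0 996096 934248 :=
  block_comb c3889 b3890 (Nat.zero_le _) (Nat.le_of_ble_eq_true rfl) rfl

theorem c3891 : Block F al 0 996352 934496 :=
  block_comb c3890 b3891 (Nat.zero_le _) (Nat.le_of_ble_eq_true rfl) rfl

theorem c3892 : Block F al 0 996608 934748 :=
  block_comb c3891 b3892 (Nat.zero_le _) (Nat.le_of_ble_eq_true rfl) rfl

theorem c3893 : Block F al 0 996864 934999 :=
  block_comb c3892 b3893 (Nat.zero_le _) (Nat.le_of_ble_eq_true rfl) rfl

theorem c3894 : Block F al 0 997120 935246 :=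
  block_comb c3893 b3894 (Nat.zero_le _) (Nat.le_of_ble_eq_true rfl) rfl

theorem c3895 : Block F al 0 997376 935493 :=
  block_comb c3894 b3895 (Nat.zero_le _) (Nat.le_of_ble_eq_true rfl) rfl

theorem c3896 : Block F al 0 997632 935746 :=
  block_comb c3895 b3896 (Nat.zero_le _) (Nat.le_of_ble_eq_true rfl) rfl

theorem c3897 : Block F al 0 997888 935997 :=
  block_comb c3896 b3897 (Nat.zero_le _) (Nat.le_of_ble_eq_true rfl) rfl

theorem c3898 : Block F al 0 998144 936252 :=
  block_comb c3897 b3898 (Nat.zero_le _) (Nat.le_of_ble_eq_true rfl) rfl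

theorem c3899 : Block F al 0 998400 936500 :=
  block_comb c3898 b3899 (Nat.zero_le _) (Nat.le_of_ble_eq_true rfl) rfl

theorem c3900 : Block F al 0 998656 936750 :=
  block_comb c3899 b3900 (Nat.zero_le _) (Nat.le_of_ble_eq_true rfl) rfl

theorem c3901 : Block F al 0 998912 937004 :=
  block_comb c3900 b3901 (Nat.zero_le _) (Nat.le_of_ble_eq_true rfl) rfl

theorem c3902 : Block F al 0 999168 937254 :=
  block_comb c3901 b3902 (Nat.zero_le _) (Nat.le_of_ble_eq_true rfl) rfl

theorem c3903 : Block F al 0 999424 937510 :=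
  block_comb c3902 b3903 (Nat.zero_le _) (Nat.le_of_ble_eq_true rfl) rfl

theorem c3904 : Block F al 0 999680 937758 :=
  block_comb c3903 b3904 (Nat.zero_le _) (Nat.le_of_ble_eq_true rfl) rfl

theorem c3905 : Block F al 0 999936 938010 :=
  block_comb c3904 b3905 (Nat.zero_le _) (Nat.le_of_ble_eq_true rfl) rfl

theorem c3906 : Block F al 0 1000192 938255 :=
  block_comb c3905 b3906 (Nat.zero_le _) (Nat.le_of_ble_eq_true rfl) rfl

theorem c3907 : Block F al 0 1000448 938510 :=
  block_comb c3906 b3907 (Nat.zero_le _) (Nat.le_of_ble_eq_true rfl) rfl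

theorem c3908 : Block F al 0 1000704 938765 :=
  block_comb c3907 b3908 (Nat.zero_le _) (Nat.le_of_ble_eq_true rfl) rfl

theorem c3909 : Block F al 0 1000960 939013 :=
  block_comb c3908 b3909 (Nat.zero_le _) (Nat.le_of_ble_eq_true rfl) rfl

theorem c3910 : Block F al 0 1001216 939253 :=
  block_comb c3909 b3910 (Nat.zero_le _) (Nat.le_of_ble_eq_true rfl) rfl

theorem c3911 : Block F al 0 1001472 939498 :=
  block_comb c3910 b3911 (Nat.zero_le _) (Nat.le_of_ble_eq_true rfl) rfl

theorem c3912 : Block F al 0 1001728 939750 :=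
  block_comb c3911 b3912 (Nat.zero_le _) (Nat.le_of_ble_eq_true rfl) rfl

theorem c3913 : Block F al 0 1001984 939995 :=
  block_comb c3912 b3913 (Nat.zero_le _) (Nat.le_of_ble_eq_true rfl) rfl

theorem c3914 : Block F al 0 1002240 940239 :=
  block_comb c3913 b3914 (Nat.zero_le _) (Nat.le_of_ble_eq_true rfl) rfl

theorem c3915 : Block F al 0 1002496 940473 :=
  block_comb c3914 b3915 (Nat.zero_le _) (Nat.le_of_ble_eq_true rfl) rfl

theorem c3916 : Block F al 0 1002752 940727 :=
  block_comb c3915 b3916 (Nat.zero_le _) (Nat.le_of_ble_eq_true rfl) rfl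

theorem c3917 : Block F al 0 1003008 940981 :=
  block_comb c3916 b3917 (Nat.zero_le _) (Nat.le_of_ble_eq_true rfl) rfl

theorem c3918 : Block F al 0 1003264 941223 :=
  block_comb c3917 b3918 (Nat.zero_le _) (Nat.le_of_ble_eq_true rfl) rfl

theorem c3919 : Block F al 0 1003520 941466 :=
  block_comb c3918 b3919 (Nat.zero_le _) (Nat.le_of_ble_eq_true rfl) rfl

theorem c3920 : Block F al 0 1003776 941708 :=
  block_comb c3919 b3920 (Nat.zero_le _) (Nat.le_of_ble_eq_true rfl) rfl

theorem c3921 : Block F al 0 1004032 941955 :=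
  block_comb c3920 b3921 (Nat.zero_le _) (Nat.le_of_ble_eq_true rfl) rfl

theorem c3922 : Block F al 0 1004288 942199 :=
  block_comb c3921 b3922 (Nat.zero_le _) (Nat.le_of_ble_eq_true rfl) rfl

theorem c3923 : Block F al 0 1004544 942443 :=
  block_comb c3922 b3923 (Nat.zero_le _) (Nat.le_of_ble_eq_true rfl) rfl

theorem c3924 : Block F al 0 1004800 942692 :=
  block_comb c3923 b3924 (Nat.zero_le _) (Nat.le_of_ble_eq_true rfl) rfl

theorem c3925 : Block F al 0 1005056 942941 :=
  block_comb c3924 b3925 (Nat.zero_le _) (Nat.le_of_ble_eq_true rfl) rfl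

theorem c3926 : Block F al 0 1005312 943190 :=
  block_comb c3925 b3926 (Nat.zero_le _) (Nat.le_of_ble_eq_true rfl) rfl

theorem c3927 : Block F al 0 1005568 943429 :=
  block_comb c3926 b3927 (Nat.zero_le _) (Nat.le_of_ble_eq_true rfl) rfl

theorem c3928 : Block F al 0 1005824 943679 :=
  block_comb c3927 b3928 (Nat.zero_le _) (Nat.le_of_ble_eq_true rfl) rfl

theorem c3929 : Block F al 0 1006080 943926 :=
  block_comb c3928 b3929 (Nat.zero_le _) (Nat.le_of_ble_eq_true rfl) rfl

theorem c3930 : Block F al 0 1006336 944172 :=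
  block_comb c3929 b3930 (Nat.zero_le _) (Nat.le_of_ble_eq_true rfl) rfl

theorem c3931 : Block F al 0 1006592 944418 :=
  block_comb c3930 b3931 (Nat.zero_le _) (Nat.le_of_ble_eq_true rfl) rfl

theorem c3932 : Block F al 0 1006848 944667 :=
  block_comb c3931 b3932 (Nat.zero_le _) (Nat.le_of_ble_eq_true rfl) rfl

theorem c3933 : Block F al 0 1007104 944915 :=
  block_comb c3932 b3933 (Nat.zero_le _) (Nat.le_of_ble_eq_true rfl) rfl

theorem c3934 : Block F al 0 1007360 945161 :=
  block_comb c3933 b3934 (Nat.zero_le _) (Nat.le_of_ble_eq_true rfl) rfl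

theorem c3935 : Block F al 0 1007616 945409 :=
  block_comb c3934 b3935 (Nat.zero_le _) (Nat.le_of_ble_eq_true rfl) rfl

theorem c3936 : Block F al 0 1007872 945660 :=
  block_comb c3935 b3936 (Nat.zero_le _) (Nat.le_of_ble_eq_true rfl) rfl

theorem c3937 : Block F al 0 1008128 945912 :=
  block_comb c3936 b3937 (Nat.zero_le _) (Nat.le_of_ble_eq_true rfl) rfl

theorem c3938 : Block F al 0 1008384 946156 :=
  block_comb c3937 b3938 (Nat.zero_le _) (Nat.le_of_ble_eq_true rfl) rfl

theorem c3939 : Block F al 0 1008640 946404 :=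
  block_comb c3938 b3939 (Nat.zero_le _) (Nat.le_of_ble_eq_true rfl) rfl

theorem c3940 : Block F al 0 1008896 946652 :=
  block_comb c3939 b3940 (Nat.zero_le _) (Nat.le_of_ble_eq_true rfl) rfl

theorem c3941 : Block F al 0 1009152 946896 :=
  block_comb c3940 b3941 (Nat.zero_le _) (Nat.le_of_ble_eq_true rfl) rfl

theorem c3942 : Block F al 0 1009408 947144 :=
  block_comb c3941 b3942 (Nat.zero_le _) (Nat.le_of_ble_eq_true rfl) rfl

theorem c3943 : Block F al 0 1009664 947399 :=
  block_comb c3942 b3943 (Nat.zero_le _) (Nat.le_of_ble_eq_true rfl) rfl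

theorem c3944 : Block F al 0 1009920 947648 :=
  block_comb c3943 b3944 (Nat.zero_le _) (Nat.le_of_ble_eq_true rfl) rfl

theorem c3945 : Block F al 0 1010176 947902 :=
  block_comb c3944 b3945 (Nat.zero_le _) (Nat.le_of_ble_eq_true rfl) rfl

theorem c3946 : Block F al 0 1010432 948151 :=
  block_comb c3945 b3946 (Nat.zero_le _) (Nat.le_of_ble_eq_true rfl) rfl

theorem c3947 : Block F al 0 1010688 948397 :=
  block_comb c3946 b3947 (Nat.zero_le _) (Nat.le_of_ble_eq_true rfl) rfl

theorem c3948 : Block F al 0 1010944 948649 :=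
  block_comb c3947 b3948 (Nat.zero_le _) (Nat.le_of_ble_eq_true rfl) rfl

theorem c3949 : Block F al 0 1011200 948896 :=
  block_comb c3948 b3949 (Nat.zero_le _) (Nat.le_of_ble_eq_true rfl) rfl

theorem c3950 : Block F al 0 1011456 949145 :=
  block_comb c3949 b3950 (Nat.zero_le _) (Nat.le_of_ble_eq_true rfl) rfl

theorem c3951 : Block F al 0 1011712 949392 :=
  block_comb c3950 b3951 (Nat.zero_le _) (Nat.le_of_ble_eq_true rfl) rfl

theorem c3952 : Block F al 0 1011968 949638 :=
  block_comb c3951 b3952 (Nat.zero_le _) (Nat.le_of_ble_eq_true rfl) rfl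

theorem c3953 : Block F al 0 1012224 949892 :=
  block_comb c3952 b3953 (Nat.zero_le _) (Nat.le_of_ble_eq_true rfl) rfl

theorem c3954 : Block F al 0 1012480 950146 :=
  block_comb c3953 b3954 (Nat.zero_le _) (Nat.le_of_ble_eq_true rfl) rfl

theorem c3955 : Block F al 0 1012736 950398 :=
  block_comb c3954 b3955 (Nat.zero_le _) (Nat.le_of_ble_eq_true rfl) rfl

theorem c3956 : Block F al 0 1012992 950648 :=
  block_comb c3955 b3956 (Nat.zero_le _) (Nat.le_of_ble_eq_true rfl) rfl

theorem c3957 : Block F al 0 1013248 950904 :=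
  block_comb c3956 b3957 (Nat.zero_le _) (Nat.le_of_ble_eq_true rfl) rfl

theorem c3958 : Block F al 0 1013504 951150 :=
  block_comb c3957 b3958 (Nat.zero_le _) (Nat.le_of_ble_eq_true rfl) rfl

theorem c3959 : Block F al 0 1013760 951399 :=
  block_comb c3958 b3959 (Nat.zero_le _) (Nat.le_of_ble_eq_true rfl) rfl

theorem c3960 : Block F al 0 1014016 951652 :=
  block_comb c3959 b3960 (Nat.zero_le _) (Nat.le_of_ble_eq_true rfl) rfl

theorem c3961 : Block F al 0 1014272 951904 :=
  block_comb c3960 b3961 (Nat.zero_le _) (Nat.le_of_ble_eq_true rfl) rfl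

theorem c3962 : Block F al 0 1014528 952155 :=
  block_comb c3961 b3962 (Nat.zero_le _) (Nat.le_of_ble_eq_true rfl) rfl

theorem c3963 : Block F al 0 1014784 952409 :=
  block_comb c3962 b3963 (Nat.zero_le _) (Nat.le_of_ble_eq_true rfl) rfl

theorem c3964 : Block F al 0 1015040 952660 :=
  block_comb c3963 b3964 (Nat.zero_le _) (Nat.le_of_ble_eq_true rfl) rfl

theorem c3965 : Block F al 0 1015296 952915 :=
  block_comb c3964 b3965 (Nat.zero_le _) (Nat.le_of_ble_eq_true rfl) rfl

theorem c3966 : Block F al 0 1015552 953169 :=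
  block_comb c3965 b3966 (Nat.zero_le _) (Nat.le_of_ble_eq_true rfl) rfl

theorem c3967 : Block F al 0 1015808 953425 :=
  block_comb c3966 b3967 (Nat.zero_le _) (Nat.le_of_ble_eq_true rfl) rfl

theorem c3968 : Block F al 0 1016064 953679 :=
  block_comb c3967 b3968 (Nat.zero_le _) (Nat.le_of_ble_eq_true rfl) rfl

theorem c3969 : Block F al 0 1016320 953926 :=
  block_comb c3968 b3969 (Nat.zero_le _) (Nat.le_of_ble_eq_true rfl) rfl

theorem c3970 : Block F al 0 1016576 954173 :=
  block_comb c3969 b3970 (Nat.zero_le _) (Nat.le_of_ble_eq_true rfl) rfl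

theorem c3971 : Block F al 0 1016832 954424 :=
  block_comb c3970 b3971 (Nat.zero_le _) (Nat.le_of_ble_eq_true rfl) rfl

theorem c3972 : Block F al 0 1017088 954675 :=
  block_comb c3971 b3972 (Nat.zero_le _) (Nat.le_of_ble_eq_true rfl) rfl

theorem c3973 : Block F al 0 1017344 954917 :=
  block_comb c3972 b3973 (Nat.zero_le _) (Nat.le_of_ble_eq_true rfl) rfl

theorem c3974 : Block F al 0 1017600 955167 :=
  block_comb c3973 b3974 (Nat.zero_le _) (Nat.le_of_ble_eq_true rfl) rfl

theorem c3975 : Block F al 0 1017856 955413 :=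
  block_comb c3974 b3975 (Nat.zero_le _) (Nat.le_of_ble_eq_true rfl) rfl

theorem c3976 : Block F al 0 1018112 955655 :=
  block_comb c3975 b3976 (Nat.zero_le _) (Nat.le_of_ble_eq_true rfl) rfl

theorem c3977 : Block F al 0 1018368 955900 :=
  block_comb c3976 b3977 (Nat.zero_le _) (Nat.le_of_ble_eq_true rfl) rfl

theorem c3978 : Block F al 0 1018624 956145 :=
  block_comb c3977 b3978 (Nat.zero_le _) (Nat.le_of_ble_eq_true rfl) rfl

theorem c3979 : Block F al 0 1018880 956400 :=
  block_comb c3978 b3979 (Nat.zero_le _) (Nat.le_of_ble_eq_true rfl) rfl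

theorem c3980 : Block F al 0 1019136 956649 :=
  block_comb c3979 b3980 (Nat.zero_le _) (Nat.le_of_ble_eq_true rfl) rfl

theorem c3981 : Block F al 0 1019392 956900 :=
  block_comb c3980 b3981 (Nat.zero_le _) (Nat.le_of_ble_eq_true rfl) rfl

theorem c3982 : Block F al 0 1019648 957156 :=
  block_comb c3981 b3982 (Nat.zero_le _) (Nat.le_of_ble_eq_true rfl) rfl

theorem c3983 : Block F al 0 1019904 957411 :=
  block_comb c3982 b3983 (Nat.zero_le _) (Nat.le_of_ble_eq_true rfl) rfl

theorem c3984 : Block F al 0 1020160 957662 :=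
  block_comb c3983 b3984 (Nat.zero_le _) (Nat.le_of_ble_eq_true rfl) rfl

theorem c3985 : Block F al 0 1020416 957909 :=
  block_comb c3984 b3985 (Nat.zero_le _) (Nat.le_of_ble_eq_true rfl) rfl

theorem c3986 : Block F al 0 1020672 958160 :=
  block_comb c3985 b3986 (Nat.zero_le _) (Nat.le_of_ble_eq_true rfl) rfl

theorem c3987 : Block F al 0 1020928 958403 :=
  block_comb c3986 b3987 (Nat.zero_le _) (Nat.le_of_ble_eq_true rfl) rfl

theorem c3988 : Block F al 0 1021184 958646 :=
  block_comb c3987 b3988 (Nat.zero_le _) (Nat.le_of_ble_eq_true rfl) rfl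

theorem c3989 : Block F al 0 1021440 958900 :=
  block_comb c3988 b3989 (Nat.zero_le _) (Nat.le_of_ble_eq_true rfl) rfl

theorem c3990 : Block F al 0 1021696 959153 :=
  block_comb c3989 b3990 (Nat.zero_le _) (Nat.le_of_ble_eq_true rfl) rfl

theorem c3991 : Block F al 0 1021952 959409 :=
  block_comb c3990 b3991 (Nat.zero_le _) (Nat.le_of_ble_eq_true rfl) rfl

theorem c3992 : Block F al 0 1022208 959652 :=
  block_comb c3991 b3992 (Nat.zero_le _) (Nat.le_of_ble_eq_true rfl) rfl

theorem c3993 : Block F al 0 1022464 959902 :=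
  block_comb c3992 b3993 (Nat.zero_le _) (Nat.le_of_ble_eq_true rfl) rfl

theorem c3994 : Block F al 0 1022720 960146 :=
  block_comb c3993 b3994 (Nat.zero_le _) (Nat.le_of_ble_eq_true rfl) rfl

theorem c3995 : Block F al 0 1022976 960402 :=
  block_comb c3994 b3995 (Nat.zero_le _) (Nat.le_of_ble_eq_true rfl) rfl

theorem c3996 : Block F al 0 1023232 960643 :=
  block_comb c3995 b3996 (Nat.zero_le _) (Nat.le_of_ble_eq_true rfl) rfl

theorem c3997 : Block F al 0 1023488 960889 :=
  block_comb c3996 b3997 (Nat.zero_le _) (Nat.le_of_ble_eq_true rfl) rfl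

theorem c3998 : Block F al 0 1023744 961136 :=
  block_comb c3997 b3998 (Nat.zero_le _) (Nat.le_of_ble_eq_true rfl) rfl

theorem c3999 : Block F al 0 1024000 961383 :=
  block_comb c3998 b3999 (Nat.zero_le _) (Nat.le_of_ble_eq_true rfl) rfl

theorem c4000 : Block F al 0 1024256 961628 :=
  block_comb c3999 b4000 (Nat.zero_le _) (Nat.le_of_ble_eq_true rfl) rfl

theorem c4001 : Block F al 0 1024512 961883 :=
  block_comb c4000 b4001 (Nat.zero_le _) (Nat.le_of_ble_eq_true rfl) rfl

theorem c4002 : Block F al 0 1024768 962137 :=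
  block_comb c4001 b4002 (Nat.zero_le _) (Nat.le_of_ble_eq_true rfl) rfl

theorem c4003 : Block F al 0 1025024 962387 :=
  block_comb c4002 b4003 (Nat.zero_le _) (Nat.le_of_ble_eq_true rfl) rfl

theorem c4004 : Block F al 0 1025280 962626 :=
  block_comb c4003 b4004 (Nat.zero_le _) (Nat.le_of_ble_eq_true rfl) rfl

theorem c4005 : Block F al 0 1025536 962866 :=
  block_comb c4004 b4005 (Nat.zero_le _) (Nat.le_of_ble_eq_true rfl) rfl

theorem c4006 : Block F al 0 1025792 963117 :=
  block_comb c4005 b4006 (Nat.zero_le _) (Nat.le_of_ble_eq_true rfl) rfl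

theorem c4007 : Block F al 0 1026048 963362 :=
  block_comb c4006 b4007 (Nat.zero_le _) (Nat.le_of_ble_eq_true rfl) rfl

theorem c4008 : Block F al 0 1026304 963614 :=
  block_comb c4007 b4008 (Nat.zero_le _) (Nat.le_of_ble_eq_true rfl) rfl

theorem c4009 : Block F al 0 1026560 963869 :=
  block_comb c4008 b4009 (Nat.zero_le _) (Nat.le_of_ble_eq_true rfl) rfl

theorem c4010 : Block F al 0 1026816 964120 :=
  block_comb c4009 b4010 (Nat.zero_le _) (Nat.le_of_ble_eq_true rfl) rfl

theorem c4011 : Block F al 0 1027072 964370 :=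
  block_comb c4010 b4011 (Nat.zero_le _) (Nat.le_of_ble_eq_true rfl) rfl

theorem c4012 : Block F al 0 1027328 964619 :=
  block_comb c4011 b4012 (Nat.zero_le _) (Nat.le_of_ble_eq_true rfl) rfl

theorem c4013 : Block F al 0 1027584 964873 :=
  block_comb c4012 b4013 (Nat.zero_le _) (Nat.le_of_ble_eq_true rfl) rfl

theorem c4014 : Block F al 0 1027840 965121 :=
  block_comb c4013 b4014 (Nat.zero_le _) (Nat.le_of_ble_eq_true rfl) rfl

theorem c4015 : Block F al 0 1028096 965369 :=
  block_comb c4014 b4015 (Nat.zero_le _) (Nat.le_of_ble_eq_true rfl) rfl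

theorem c4016 : Block F al 0 1028352 965618 :=
  block_comb c4015 b4016 (Nat.zero_le _) (Nat.le_of_ble_eq_true rfl) rfl

theorem c4017 : Block F al 0 1028608 965869 :=
  block_comb c4016 b4017 (Nat.zero_le _) (Nat.le_of_ble_eq_true rfl) rfl

theorem c4018 : Block F al 0 1028864 966096 :=
  block_comb c4017 b4018 (Nat.zero_le _) (Nat.le_of_ble_eq_true rfl) rfl

theorem c4019 : Block F al 0 1029120 966341 :=
  block_comb c4018 b4019 (Nat.zero_le _) (Nat.le_of_ble_eq_true rfl) rfl

theorem c4020 : Block F al 0 1029376 966587 :=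
  block_comb c4019 b4020 (Nat.zero_le _) (Nat.le_of_ble_eq_true rfl) rfl

theorem c4021 : Block F al 0 1029632 966835 :=
  block_comb c4020 b4021 (Nat.zero_le _) (Nat.le_of_ble_eq_true rfl) rfl

theorem c4022 : Block F al 0 1029888 967085 :=
  block_comb c4021 b4022 (Nat.zero_le _) (Nat.le_of_ble_eq_true rfl) rfl

theorem c4023 : Block F al 0 1030144 967339 :=
  block_comb c4022 b4023 (Nat.zero_le _) (Nat.le_of_ble_eq_true rfl) rfl

theorem c4024 : Block F al 0 1030400 967592 :=
  block_comb c4023 b4024 (Nat.zero_le _) (Nat.le_of_ble_eq_true rfl) rfl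

theorem c4025 : Block F al 0 1030656 967834 :=
  block_comb c4024 b4025 (Nat.zero_le _) (Nat.le_of_ble_eq_true rfl) rfl

theorem c4026 : Block F al 0 1030912 968082 :=
  block_comb c4025 b4026 (Nat.zero_le _) (Nat.le_of_ble_eq_true rfl) rfl

theorem c4027 : Block F al 0 1031168 968332 :=
  block_comb c4026 b4027 (Nat.zero_le _) (Nat.le_of_ble_eq_true rfl) rfl

theorem c4028 : Block F al 0 1031424 968583 :=
  block_comb c4027 b4028 (Nat.zero_le _) (Nat.le_of_ble_eq_true rfl) rfl

theorem c4029 : Block F al 0 1031680 968820 :=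
  block_comb c4028 b4029 (Nat.zero_le _) (Nat.le_of_ble_eq_true rfl) rfl

theorem c4030 : Block F al 0 1031936 969068 :=
  block_comb c4029 b4030 (Nat.zero_le _) (Nat.le_of_ble_eq_true rfl) rfl

theorem c4031 : Block F al 0 1032192 969310 :=
  block_comb c4030 b4031 (Nat.zero_le _) (Nat.le_of_ble_eq_true rfl) rfl

theorem c4032 : Block F al 0 1032448 969562 :=
  block_comb c4031 b4032 (Nat.zero_le _) (Nat.le_of_ble_eq_true rfl) rfl

theorem c4033 : Block F al 0 1032704 969812 :=
  block_comb c4032 b4033 (Nat.zero_le _) (Nat.le_of_ble_eq_true rfl) rfl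

theorem c4034 : Block F al 0 1032960 970058 :=
  block_comb c4033 b4034 (Nat.zero_le _) (Nat.le_of_ble_eq_true rfl) rfl

theorem c4035 : Block F al 0 1033216 970304 :=
  block_comb c4034 b4035 (Nat.zero_le _) (Nat.le_of_ble_eq_true rfl) rfl

theorem c4036 : Block F al 0 1033472 970559 :=
  block_comb c4035 b4036 (Nat.zero_le _) (Nat.le_of_ble_eq_true rfl) rfl

theorem c4037 : Block F al 0 1033728 970810 :=
  block_comb c4036 b4037 (Nat.zero_le _) (Nat.le_of_ble_eq_true rfl) rfl

theorem c4038 : Block F al 0 1033984 971061 :=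
  block_comb c4037 b4038 (Nat.zero_le _) (Nat.le_of_ble_eq_true rfl) rfl

theorem c4039 : Block F al 0 1034240 971314 :=
  block_comb c4038 b4039 (Nat.zero_le _) (Nat.le_of_ble_eq_true rfl) rfl

theorem c4040 : Block F al 0 1034496 971567 :=
  block_comb c4039 b4040 (Nat.zero_le _) (Nat.le_of_ble_eq_true rfl) rfl

theorem c4041 : Block F al 0 1034752 971823 :=
  block_comb c4040 b4041 (Nat.zero_le _) (Nat.le_of_ble_eq_true rfl) rfl

theorem c4042 : Block F al 0 1035008 972075 :=
  block_comb c4041 b4042 (Nat.zero_le _) (Nat.le_of_ble_eq_true rfl) rfl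

theorem c4043 : Block F al 0 1035264 972324 :=
  block_comb c4042 b4043 (Nat.zero_le _) (Nat.le_of_ble_eq_true rfl) rfl

theorem c4044 : Block F al 0 1035520 972576 :=
  block_comb c4043 b4044 (Nat.zero_le _) (Nat.le_of_ble_eq_true rfl) rfl

theorem c4045 : Block F al 0 1035776 972831 :=
  block_comb c4044 b4045 (Nat.zero_le _) (Nat.le_of_ble_eq_true rfl) rfl

theorem c4046 : Block F al 0 1036032 973086 :=
  block_comb c4045 b4046 (Nat.zero_le _) (Nat.le_of_ble_eq_true rfl) rfl

theorem c4047 : Block F al 0 1036288 973338 :=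
  block_comb c4046 b4047 (Nat.zero_le _) (Nat.le_of_ble_eq_true rfl) rfl

theorem c4048 : Block F al 0 1036544 973589 :=
  block_comb c4047 b4048 (Nat.zero_le _) (Nat.le_of_ble_eq_true rfl) rfl

theorem c4049 : Block F al 0 1036800 973837 :=
  block_comb c4048 b4049 (Nat.zero_le _) (Nat.le_of_ble_eq_true rfl) rfl

theorem c4050 : Block F al 0 1037056 974083 :=
  block_comb c4049 b4050 (Nat.zero_le _) (Nat.le_of_ble_eq_true rfl) rfl

theorem c4051 : Block F al 0 1037312 974333 :=
  block_comb c4050 b4051 (Nat.zero_le _) (Nat.le_of_ble_eq_true rfl) rfl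

theorem c4052 : Block F al 0 1037568 974584 :=
  block_comb c4051 b4052 (Nat.zero_le _) (Nat.le_of_ble_eq_true rfl) rfl

theorem c4053 : Block F al 0 1037824 974830 :=
  block_comb c4052 b4053 (Nat.zero_le _) (Nat.le_of_ble_eq_true rfl) rfl

theorem c4054 : Block F al 0 1038080 975078 :=
  block_comb c4053 b4054 (Nat.zero_le _) (Nat.le_of_ble_eq_true rfl) rfl

theorem c4055 : Block F al 0 1038336 975326 :=
  block_comb c4054 b4055 (Nat.zero_le _) (Nat.le_of_ble_eq_true rfl) rfl

theorem c4056 : Block F al 0 1038592 975571 :=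
  block_comb c4055 b4056 (Nat.zero_le _) (Nat.le_of_ble_eq_true rfl) rfl

theorem c4057 : Block F al 0 1038848 975824 :=
  block_comb c4056 b4057 (Nat.zero_le _) (Nat.le_of_ble_eq_true rfl) rfl

theorem c4058 : Block F al 0 1039104 976071 :=
  block_comb c4057 b4058 (Nat.zero_le _) (Nat.le_of_ble_eq_true rfl) rfl

theorem c4059 : Block F al 0 1039360 976315 :=
  block_comb c4058 b4059 (Nat.zero_le _) (Nat.le_of_ble_eq_true rfl) rfl

theorem c4060 : Block F al 0 1039616 976566 :=
  block_comb c4059 b4060 (Nat.zero_le _) (Nat.le_of_ble_eq_true rfl) rfl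

theorem c4061 : Block F al 0 1039872 976811 :=
  block_comb c4060 b4061 (Nat.zero_le _) (Nat.le_of_ble_eq_true rfl) rfl

theorem c4062 : Block F al 0 1040128 977049 :=
  block_comb c4061 b4062 (Nat.zero_le _) (Nat.le_of_ble_eq_true rfl) rfl

theorem c4063 : Block F al 0 1040384 977300 :=
  block_comb c4062 b4063 (Nat.zero_le _) (Nat.le_of_ble_eq_true rfl) rfl

theorem c4064 : Block F al 0 1040640 977549 :=
  block_comb c4063 b4064 (Nat.zero_le _) (Nat.le_of_ble_eq_true rfl) rfl

theorem c4065 : Block F al 0 1040896 977791 :=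
  block_comb c4064 b4065 (Nat.zero_le _) (Nat.le_of_ble_eq_true rfl) rfl

theorem c4066 : Block F al 0 1041152 978034 :=
  block_comb c4065 b4066 (Nat.zero_le _) (Nat.le_of_ble_eq_true rfl) rfl

theorem c4067 : Block F al 0 1041408 978274 :=
  block_comb c4066 b4067 (Nat.zero_le _) (Nat.le_of_ble_eq_true rfl) rfl

theorem c4068 : Block F al 0 1041664 978519 :=
  block_comb c4067 b4068 (Nat.zero_le _) (Nat.le_of_ble_eq_true rfl) rfl

theorem c4069 : Block F al 0 1041920 978772 :=
  block_comb c4068 b4069 (Nat.zero_le _) (Nat.le_of_ble_eq_true rfl) rfl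

theorem c4070 : Block F al 0 1042176 979012 :=
  block_comb c4069 b4070 (Nat.zero_le _) (Nat.le_of_ble_eq_true rfl) rfl

theorem c4071 : Block F al 0 1042432 979257 :=
  block_comb c4070 b4071 (Nat.zero_le _) (Nat.le_of_ble_eq_true rfl) rfl

theorem c4072 : Block F al 0 1042688 979502 :=
  block_comb c4071 b4072 (Nat.zero_le _) (Nat.le_of_ble_eq_true rfl) rfl

theorem c4073 : Block F al 0 1042944 979757 :=
  block_comb c4072 b4073 (Nat.zero_le _) (Nat.le_of_ble_eq_true rfl) rfl

theorem c4074 : Block F al 0 1043200 980009 :=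
  block_comb c4073 b4074 (Nat.zero_le _) (Nat.le_of_ble_eq_true rfl) rfl

theorem c4075 : Block F al 0 1043456 980264 :=
  block_comb c4074 b4075 (Nat.zero_le _) (Nat.le_of_ble_eq_true rfl) rfl

theorem c4076 : Block F al 0 1043712 980516 :=
  block_comb c4075 b4076 (Nat.zero_le _) (Nat.le_of_ble_eq_true rfl) rfl

theorem c4077 : Block F al 0 1043968 980768 :=
  block_comb c4076 b4077 (Nat.zero_le _) (Nat.le_of_ble_eq_true rfl) rfl

theorem c4078 : Block F al 0 1044224 981024 :=
  block_comb c4077 b4078 (Nat.zero_le _) (Nat.le_of_ble_eq_true rfl) rfl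

theorem c4079 : Block F al 0 1044480 981277 :=
  block_comb c4078 b4079 (Nat.zero_le _) (Nat.le_of_ble_eq_true rfl) rfl

theorem c4080 : Block F al 0 1044736 981531 :=
  block_comb c4079 b4080 (Nat.zero_le _) (Nat.le_of_ble_eq_true rfl) rfl

theorem c4081 : Block F al 0 1044992 981785 :=
  block_comb c4080 b4081 (Nat.zero_le _) (Nat.le_of_ble_eq_true rfl) rfl

theorem c4082 : Block F al 0 1045248 982026 :=
  block_comb c4081 b4082 (Nat.zero_le _) (Nat.le_of_ble_eq_true rfl) rfl

theorem c4083 : Block F al 0 1045504 982278 :=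
  block_comb c4082 b4083 (Nat.zero_le _) (Nat.le_of_ble_eq_true rfl) rfl

theorem c4084 : Block F al 0 1045760 982532 :=
  block_comb c4083 b4084 (Nat.zero_le _) (Nat.le_of_ble_eq_true rfl) rfl

theorem c4085 : Block F al 0 1046016 982781 :=
  block_comb c4084 b4085 (Nat.zero_le _) (Nat.le_of_ble_eq_true rfl) rfl

theorem c4086 : Block F al 0 1046272 983032 :=
  block_comb c4085 b4086 (Nat.zero_le _) (Nat.le_of_ble_eq_true rfl) rfl

theorem c4087 : Block F al 0 1046528 983276 :=
  block_comb c4086 b4087 (Nat.zero_le _) (Nat.le_of_ble_eq_true rfl) rfl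

theorem c4088 : Block F al 0 1046784 983523 :=
  block_comb c4087 b4088 (Nat.zero_le _) (Nat.le_of_ble_eq_true rfl) rfl

theorem c4089 : Block F al 0 1047040 983770 :=
  block_comb c4088 b4089 (Nat.zero_le _) (Nat.le_of_ble_eq_true rfl) rfl

theorem c4090 : Block F al 0 1047296 984015 :=
  block_comb c4089 b4090 (Nat.zero_le _) (Nat.le_of_ble_eq_true rfl) rfl

theorem c4091 : Block F al 0 1047552 984265 :=
  block_comb c4090 b4091 (Nat.zero_le _) (Nat.le_of_ble_eq_true rfl) rfl

theorem c4092 : Block F al 0 1047808 984510 :=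
  block_comb c4091 b4092 (Nat.zero_le _) (Nat.le_of_ble_eq_true rfl) rfl

theorem c4093 : Block F al 0 1048064 984758 :=
  block_comb c4092 b4093 (Nat.zero_le _) (Nat.le_of_ble_eq_true rfl) rfl

theorem c4094 : Block F al 0 1048320 985013 :=
  block_comb c4093 b4094 (Nat.zero_le _) (Nat.le_of_ble_eq_true rfl) rfl

theorem c4095 : Block F al 0 1048576 985253 :=
  block_comb c4094 b4095 (Nat.zero_le _) (Nat.le_of_ble_eq_true rfl) rfl

theorem c4096 : Block F al 0 1048832 985499 :=
  block_comb c4095 b4096 (Nat.zero_le _) (Nat.le_of_ble_eq_true rfl) rfl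

theorem c4097 : Block F al 0 1049088 985741 :=
  block_comb c4096 b4097 (Nat.zero_le _) (Nat.le_of_ble_eq_true rfl) rfl

theorem c4098 : Block F al 0 1049344 985975 :=
  block_comb c4097 b4098 (Nat.zero_le _) (Nat.le_of_ble_eq_true rfl) rfl

theorem c4099 : Block F al 0 1049600 986214 :=
  block_comb c4098 b4099 (Nat.zero_le _) (Nat.le_of_ble_eq_true rfl) rfl

theorem c4100 : Block F al 0 1049856 986458 :=
  block_comb c4099 b4100 (Nat.zero_le _) (Nat.le_of_ble_eq_true rfl) rfl

theorem c4101 : Block F al 0 1050112 986704 :=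
  block_comb c4100 b4101 (Nat.zero_le _) (Nat.le_of_ble_eq_true rfl) rfl

theorem c4102 : Block F al 0 1050368 986938 :=
  block_comb c4101 b4102 (Nat.zero_le _) (Nat.le_of_ble_eq_true rfl) rfl

theorem c4103 : Block F al 0 1050624 987187 :=
  block_comb c4102 b4103 (Nat.zero_le _) (Nat.le_of_ble_eq_true rfl) rfl

theorem c4104 : Block F al 0 1050880 987438 :=
  block_comb c4103 b4104 (Nat.zero_le _) (Nat.le_of_ble_eq_true rfl) rfl

theorem c4105 : Block F al 0 1051136 987691 :=
  block_comb c4104 b4105 (Nat.zero_le _) (Nat.le_of_ble_eq_true rfl) rfl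

theorem c4106 : Block F al 0 1051392 987942 :=
  block_comb c4105 b4106 (Nat.zero_le _) (Nat.le_of_ble_eq_true rfl) rfl

theorem c4107 : Block F al 0 1051648 988183 :=
  block_comb c4106 b4107 (Nat.zero_le _) (Nat.le_of_ble_eq_true rfl) rfl

theorem c4108 : Block F al 0 1051904 988424 :=
  block_comb c4107 b4108 (Nat.zero_le _) (Nat.le_of_ble_eq_true rfl) rfl

theorem c4109 : Block F al 0 1052160 988661 :=
  block_comb c4108 b4109 (Nat.zero_le _) (Nat.le_of_ble_eq_true rfl) rfl

theorem c4110 : Block F al 0 1052416 988908 :=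
  block_comb c4109 b4110 (Nat.zero_le _) (Nat.le_of_ble_eq_true rfl) rfl

theorem c4111 : Block F al 0 1052672 989153 :=
  block_comb c4110 b4111 (Nat.zero_le _) (Nat.le_of_ble_eq_true rfl) rfl

theorem c4112 : Block F al 0 1052928 989401 :=
  block_comb c4111 b4112 (Nat.zero_le _) (Nat.le_of_ble_eq_true rfl) rfl

theorem c4113 : Block F al 0 1053184 989648 :=
  block_comb c4112 b4113 (Nat.zero_le _) (Nat.le_of_ble_eq_true rfl) rfl

theorem c4114 : Block F al 0 1053440 989903 :=
  block_comb c4113 b4114 (Nat.zero_le _) (Nat.le_of_ble_eq_true rfl) rfl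

theorem c4115 : Block F al 0 1053696 990157 :=
  block_comb c4114 b4115 (Nat.zero_le _) (Nat.le_of_ble_eq_true rfl) rfl

theorem c4116 : Block F al 0 1053952 990413 :=
  block_comb c4115 b4116 (Nat.zero_le _) (Nat.le_of_ble_eq_true rfl) rfl

theorem c4117 : Block F al 0 1054208 990666 :=
  block_comb c4116 b4117 (Nat.zero_le _) (Nat.le_of_ble_eq_true rfl) rfl

theorem c4118 : Block F al 0 1054464 990907 :=
  block_comb c4117 b4118 (Nat.zero_le _) (Nat.le_of_ble_eq_true rfl) rfl

theorem c4119 : Block F al 0 1054720 991158 :=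
  block_comb c4118 b4119 (Nat.zero_le _) (Nat.le_of_ble_eq_true rfl) rfl

theorem c4120 : Block F al 0 1054976 991414 :=
  block_comb c4119 b4120 (Nat.zero_le _) (Nat.le_of_ble_eq_true rfl) rfl

theorem c4121 : Block F al 0 1055232 991655 :=
  block_comb c4120 b4121 (Nat.zero_le _) (Nat.le_of_ble_eq_true rfl) rfl

theorem c4122 : Block F al 0 1055488 991908 :=
  block_comb c4121 b4122 (Nat.zero_le _) (Nat.le_of_ble_eq_true rfl) rfl

theorem c4123 : Block F al 0 1055744 992157 :=
  block_comb c4122 b4123 (Nat.zero_le _) (Nat.le_of_ble_eq_true rfl) rfl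

theorem c4124 : Block F al 0 1056000 992403 :=
  block_comb c4123 b4124 (Nat.zero_le _) (Nat.le_of_ble_eq_true rfl) rfl

theorem c4125 : Block F al 0 1056256 992658 :=
  block_comb c4124 b4125 (Nat.zero_le _) (Nat.le_of_ble_eq_true rfl) rfl

theorem c4126 : Block F al 0 1056512 992912 :=
  block_comb c4125 b4126 (Nat.zero_le _) (Nat.le_of_ble_eq_true rfl) rfl

theorem c4127 : Block F al 0 1056768 993160 :=
  block_comb c4126 b4127 (Nat.zero_le _) (Nat.le_of_ble_eq_true rfl) rfl

theorem c4128 : Block F al 0 1057024 993408 :=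
  block_comb c4127 b4128 (Nat.zero_le _) (Nat.le_of_ble_eq_true rfl) rfl

theorem c4129 : Block F al 0 1057280 993656 :=
  block_comb c4128 b4129 (Nat.zero_le _) (Nat.le_of_ble_eq_true rfl) rfl

theorem c4130 : Block F al 0 1057536 993911 :=
  block_comb c4129 b4130 (Nat.zero_le _) (Nat.le_of_ble_eq_true rfl) rfl

theorem c4131 : Block F al 0 1057792 994165 :=
  block_comb c4130 b4131 (Nat.zero_le _) (Nat.le_of_ble_eq_true rfl) rfl

theorem c4132 : Block F al 0 1058048 994412 :=
  block_comb c4131 b4132 (Nat.zero_le _) (Nat.le_of_ble_eq_true rfl) rfl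

theorem c4133 : Block F al 0 1058304 994667 :=
  block_comb c4132 b4133 (Nat.zero_le _) (Nat.le_of_ble_eq_true rfl) rfl

theorem c4134 : Block F al 0 1058560 994919 :=
  block_comb c4133 b4134 (Nat.zero_le _) (Nat.le_of_ble_eq_true rfl) rfl

theorem c4135 : Block F al 0 1058816 995168 :=
  block_comb c4134 b4135 (Nat.zero_le _) (Nat.le_of_ble_eq_true rfl) rfl

theorem c4136 : Block F al 0 1059072 995420 :=
  block_comb c4135 b4136 (Nat.zero_le _) (Nat.le_of_ble_eq_true rfl) rfl

theorem c4137 : Block F al 0 1059328 995666 :=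
  block_comb c4136 b4137 (Nat.zero_le _) (Nat.le_of_ble_eq_true rfl) rfl

theorem c4138 : Block F al 0 1059584 995913 :=
  block_comb c4137 b4138 (Nat.zero_le _) (Nat.le_of_ble_eq_true rfl) rfl

theorem c4139 : Block F al 0 1059840 996169 :=
  block_comb c4138 b4139 (Nat.zero_le _) (Nat.le_of_ble_eq_true rfl) rfl

theorem c4140 : Block F al 0 1060096 996418 :=
  block_comb c4139 b4140 (Nat.zero_le _) (Nat.le_of_ble_eq_true rfl) rfl

theorem c4141 : Block F al 0 1060352 996669 :=
  block_comb c4140 b4141 (Nat.zero_le _) (Nat.le_of_ble_eq_true rfl) rfl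

theorem c4142 : Block F al 0 1060608 996922 :=
  block_comb c4141 b4142 (Nat.zero_le _) (Nat.le_of_ble_eq_true rfl) rfl

theorem c4143 : Block F al 0 1060864 997175 :=
  block_comb c4142 b4143 (Nat.zero_le _) (Nat.le_of_ble_eq_true rfl) rfl

theorem c4144 : Block F al 0 1061120 997416 :=
  block_comb c4143 b4144 (Nat.zero_le _) (Nat.le_of_ble_eq_true rfl) rfl

theorem c4145 : Block F al 0 1061376 997665 :=
  block_comb c4144 b4145 (Nat.zero_le _) (Nat.le_of_ble_eq_true rfl) rfl

theorem c4146 : Block F al 0 1061632 997910 :=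
  block_comb c4145 b4146 (Nat.zero_le _) (Nat.le_of_ble_eq_true rfl) rfl

theorem c4147 : Block F al 0 1061888 998159 :=
  block_comb c4146 b4147 (Nat.zero_le _) (Nat.le_of_ble_eq_true rfl) rfl

theorem c4148 : Block F al 0 1062144 998413 :=
  block_comb c4147 b4148 (Nat.zero_le _) (Nat.le_of_ble_eq_true rfl) rfl

theorem c4149 : Block F al 0 1062400 998666 :=
  block_comb c4148 b4149 (Nat.zero_le _) (Nat.le_of_ble_eq_true rfl) rfl

theorem c4150 : Block F al 0 1062656 998921 :=
  block_comb c4149 b4150 (Nat.zero_le _) (Nat.le_of_ble_eq_true rfl) rfl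

theorem c4151 : Block F al 0 1062912 999173 :=
  block_comb c4150 b4151 (Nat.zero_le _) (Nat.le_of_ble_eq_true rfl) rfl

theorem c4152 : Block F al 0 1063168 999424 :=
  block_comb c4151 b4152 (Nat.zero_le _) (Nat.le_of_ble_eq_true rfl) rfl

theorem c4153 : Block F al 0 1063424 999671 :=
  block_comb c4152 b4153 (Nat.zero_le _) (Nat.le_of_ble_eq_true rfl) rfl

theorem c4154 : Block F al 0 1063680 999924 :=
  block_comb c4153 b4154 (Nat.zero_le _) (Nat.le_of_ble_eq_true rfl) rfl

theorem c4155 : Block F al 0 1063936 1000174 :=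
  block_comb c4154 b4155 (Nat.zero_le _) (Nat.le_of_ble_eq_true rfl) rfl

theorem c4156 : Block F al 0 1064192 1000420 :=
  block_comb c4155 b4156 (Nat.zero_le _) (Nat.le_of_ble_eq_true rfl) rfl

theorem c4157 : Block F al 0 1064448 1000668 :=
  block_comb c4156 b4157 (Nat.zero_le _) (Nat.le_of_ble_eq_true rfl) rfl

theorem c4158 : Block F al 0 1064704 1000918 :=
  block_comb c4157 b4158 (Nat.zero_le _) (Nat.le_of_ble_eq_true rfl) rfl

theorem c4159 : Block F al 0 1064960 1001162 :=
  block_comb c4158 b4159 (Nat.zero_le _) (Nat.le_of_ble_eq_true rfl) rfl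

theorem c4160 : Block F al 0 1065216 1001412 :=
  block_comb c4159 b4160 (Nat.zero_le _) (Nat.le_of_ble_eq_true rfl) rfl

theorem c4161 : Block F al 0 1065472 1001667 :=
  block_comb c4160 b4161 (Nat.zero_le _) (Nat.le_of_ble_eq_true rfl) rfl

theorem c4162 : Block F al 0 1065728 1001917 :=
  block_comb c4161 b4162 (Nat.zero_le _) (Nat.le_of_ble_eq_true rfl) rfl

theorem c4163 : Block F al 0 1065984 1002170 :=
  block_comb c4162 b4163 (Nat.zero_le _) (Nat.le_of_ble_eq_true rfl) rfl

theorem c4164 : Block F al 0 1066240 1002422 :=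
  block_comb c4163 b4164 (Nat.zero_le _) (Nat.le_of_ble_eq_true rfl) rfl

theorem c4165 : Block F al 0 1066496 1002672 :=
  block_comb c4164 b4165 (Nat.zero_le _) (Nat.le_of_ble_eq_true rfl) rfl

theorem c4166 : Block F al 0 1066752 1002926 :=
  block_comb c4165 b4166 (Nat.zero_le _) (Nat.le_of_ble_eq_true rfl) rfl

theorem c4167 : Block F al 0 1067008 1003171 :=
  block_comb c4166 b4167 (Nat.zero_le _) (Nat.le_of_ble_eq_true rfl) rfl

theorem c4168 : Block F al 0 1067264 1003422 :=
  block_comb c4167 b4168 (Nat.zero_le _) (Nat.le_of_ble_eq_true rfl) rfl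

theorem c4169 : Block F al 0 1067520 1003674 :=
  block_comb c4168 b4169 (Nat.zero_le _) (Nat.le_of_ble_eq_true rfl) rfl

theorem c4170 : Block F al 0 1067776 1003924 :=
  block_comb c4169 b4170 (Nat.zero_le _) (Nat.le_of_ble_eq_true rfl) rfl

theorem c4171 : Block F al 0 1068032 1004180 :=
  block_comb c4170 b4171 (Nat.zero_le _) (Nat.le_of_ble_eq_true rfl) rfl

theorem c4172 : Block F al 0 1068288 1004435 :=
  block_comb c4171 b4172 (Nat.zero_le _) (Nat.le_of_ble_eq_true rfl) rfl

theorem c4173 : Block F al 0 1068544 1004688 :=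
  block_comb c4172 b4173 (Nat.zero_le _) (Nat.le_of_ble_eq_true rfl) rfl

theorem c4174 : Block F al 0 1068800 1004944 :=
  block_comb c4173 b4174 (Nat.zero_le _) (Nat.le_of_ble_eq_true rfl) rfl

theorem c4175 : Block F al 0 1069056 1005199 :=
  block_comb c4174 b4175 (Nat.zero_le _) (Nat.le_of_ble_eq_true rfl) rfl

theorem c4176 : Block F al 0 1069312 1005446 :=
  block_comb c4175 b4176 (Nat.zero_le _) (Nat.le_of_ble_eq_true rfl) rfl

theorem c4177 : Block F al 0 1069568 1005683 :=
  block_comb c4176 b4177 (Nat.zero_le _) (Nat.le_of_ble_eq_true rfl) rfl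

theorem c4178 : Block F al 0 1069824 1005933 :=
  block_comb c4177 b4178 (Nat.zero_le _) (Nat.le_of_ble_eq_true rfl) rfl

theorem c4179 : Block F al 0 1070080 1006183 :=
  block_comb c4178 b4179 (Nat.zero_le _) (Nat.le_of_ble_eq_true rfl) rfl

theorem c4180 : Block F al 0 1070336 1006433 :=
  block_comb c4179 b4180 (Nat.zero_le _) (Nat.le_of_ble_eq_true rfl) rfl

theorem c4181 : Block F al 0 1070592 1006688 :=
  block_comb c4180 b4181 (Nat.zero_le _) (Nat.le_of_ble_eq_true rfl) rfl

theorem c4182 : Block F al 0 1070848 1006937 :=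
  block_comb c4181 b4182 (Nat.zero_le _) (Nat.le_of_ble_eq_true rfl) rfl

theorem c4183 : Block F al 0 1071104 1007192 :=
  block_comb c4182 b4183 (Nat.zero_le _) (Nat.le_of_ble_eq_true rfl) rfl

theorem c4184 : Block F al 0 1071360 1007448 :=
  block_comb c4183 b4184 (Nat.zero_le _) (Nat.le_of_ble_eq_true rfl) rfl

theorem c4185 : Block F al 0 1071616 1007695 :=
  block_comb c4184 b4185 (Nat.zero_le _) (Nat.le_of_ble_eq_true rfl) rfl

theorem c4186 : Block F al 0 1071872 1007947 :=
  block_comb c4185 b4186 (Nat.zero_le _) (Nat.le_of_ble_eq_true rfl) rfl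

theorem c4187 : Block F al 0 1072128 1008201 :=
  block_comb c4186 b4187 (Nat.zero_le _) (Nat.le_of_ble_eq_true rfl) rfl

theorem c4188 : Block F al 0 1072384 1008446 :=
  block_comb c4187 b4188 (Nat.zero_le _) (Nat.le_of_ble_eq_true rfl) rfl

theorem c4189 : Block F al 0 1072640 1008700 :=
  block_comb c4188 b4189 (Nat.zero_le _) (Nat.le_of_ble_eq_true rfl) rfl

theorem c4190 : Block F al 0 1072896 1008945 :=
  block_comb c4189 b4190 (Nat.zero_le _) (Nat.le_of_ble_eq_true rfl) rfl

theorem c4191 : Block F al 0 1073152 1009190 :=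
  block_comb c4190 b4191 (Nat.zero_le _) (Nat.le_of_ble_eq_true rfl) rfl

theorem c4192 : Block F al 0 1073408 1009441 :=
  block_comb c4191 b4192 (Nat.zero_le _) (Nat.le_of_ble_eq_true rfl) rfl

theorem c4193 : Block F al 0 1073664 1009695 :=
  block_comb c4192 b4193 (Nat.zero_le _) (Nat.le_of_ble_eq_true rfl) rfl

theorem c4194 : Block F al 0 1073920 1009945 :=
  block_comb c4193 b4194 (Nat.zero_le _) (Nat.le_of_ble_eq_true rfl) rfl

theorem c4195 : Block F al 0 1074176 1010193 :=
  block_comb c4194 b4195 (Nat.zero_le _) (Nat.le_of_ble_eq_true rfl) rfl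

theorem c4196 : Block F al 0 1074432 1010441 :=
  block_comb c4195 b4196 (Nat.zero_le _) (Nat.le_of_ble_eq_true rfl) rfl

theorem c4197 : Block F al 0 1074688 1010681 :=
  block_comb c4196 b4197 (Nat.zero_le _) (Nat.le_of_ble_eq_true rfl) rfl

theorem c4198 : Block F al 0 1074944 1010929 :=
  block_comb c4197 b4198 (Nat.zero_le _) (Nat.le_of_ble_eq_true rfl) rfl

theorem c4199 : Block F al 0 1075200 1011179 :=
  block_comb c4198 b4199 (Nat.zero_le _) (Nat.le_of_ble_eq_true rfl) rfl

theorem c4200 : Block F al 0 1075456 1011429 :=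
  block_comb c4199 b4200 (Nat.zero_le _) (Nat.le_of_ble_eq_true rfl) rfl

theorem c4201 : Block F al 0 1075712 1011680 :=
  block_comb c4200 b4201 (Nat.zero_le _) (Nat.le_of_ble_eq_true rfl) rfl

theorem c4202 : Block F al 0 1075968 1011932 :=
  block_comb c4201 b4202 (Nat.zero_le _) (Nat.le_of_ble_eq_true rfl) rfl

theorem c4203 : Block F al 0 1076224 1012178 :=
  block_comb c4202 b4203 (Nat.zero_le _) (Nat.le_of_ble_eq_true rfl) rfl

theorem c4204 : Block F al 0 1076480 1012432 :=
  block_comb c4203 b4204 (Nat.zero_le _) (Nat.le_of_ble_eq_true rfl) rfl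

theorem c4205 : Block F al 0 1076736 1012684 :=
  block_comb c4204 b4205 (Nat.zero_le _) (Nat.le_of_ble_eq_true rfl) rfl

theorem c4206 : Block F al 0 1076992 1012939 :=
  block_comb c4205 b4206 (Nat.zero_le _) (Nat.le_of_ble_eq_true rfl) rfl

theorem c4207 : Block F al 0 1077248 1013189 :=
  block_comb c4206 b4207 (Nat.zero_le _) (Nat.le_of_ble_eq_true rfl) rfl

theorem c4208 : Block F al 0 1077504 1013437 :=
  block_comb c4207 b4208 (Nat.zero_le _) (Nat.le_of_ble_eq_true rfl) rfl

theorem c4209 : Block F al 0 1077760 1013692 :=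
  block_comb c4208 b4209 (Nat.zero_le _) (Nat.le_of_ble_eq_true rfl) rfl

theorem c4210 : Block F al 0 1078016 1013940 :=
  block_comb c4209 b4210 (Nat.zero_le _) (Nat.le_of_ble_eq_true rfl) rfl

theorem c4211 : Block F al 0 1078272 1014189 :=
  block_comb c4210 b4211 (Nat.zero_le _) (Nat.le_of_ble_eq_true rfl) rfl

theorem c4212 : Block F al 0 1078528 1014442 :=
  block_comb c4211 b4212 (Nat.zero_le _) (Nat.le_of_ble_eq_true rfl) rfl

theorem c4213 : Block F al 0 1078784 1014688 :=
  block_comb c4212 b4213 (Nat.zero_le _) (Nat.le_of_ble_eq_true rfl) rfl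

theorem c4214 : Block F al 0 1079040 1014940 :=
  block_comb c4213 b4214 (Nat.zero_le _) (Nat.le_of_ble_eq_true rfl) rfl

theorem c4215 : Block F al 0 1079296 1015180 :=
  block_comb c4214 b4215 (Nat.zero_le _) (Nat.le_of_ble_eq_true rfl) rfl

theorem c4216 : Block F al 0 1079552 1015430 :=
  block_comb c4215 b4216 (Nat.zero_le _) (Nat.le_of_ble_eq_true rfl) rfl

theorem c4217 : Block F al 0 1079808 1015684 :=
  block_comb c4216 b4217 (Nat.zero_le _) (Nat.le_of_ble_eq_true rfl) rfl

theorem c4218 : Block F al 0 1080064 1015929 :=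
  block_comb c4217 b4218 (Nat.zero_le _) (Nat.le_of_ble_eq_true rfl) rfl

theorem c4219 : Block F al 0 1080320 1016178 :=
  block_comb c4218 b4219 (Nat.zero_le _) (Nat.le_of_ble_eq_true rfl) rfl

theorem c4220 : Block F al 0 1080576 1016424 :=
  block_comb c4219 b4220 (Nat.zero_le _) (Nat.le_of_ble_eq_true rfl) rfl

theorem c4221 : Block F al 0 1080832 1016670 :=
  block_comb c4220 b4221 (Nat.zero_le _) (Nat.le_of_ble_eq_true rfl) rfl

theorem c4222 : Block F al 0 1081088 1016922 :=
  block_comb c4221 b4222 (Nat.zero_le _) (Nat.le_of_ble_eq_true rfl) rfl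

theorem c4223 : Block F al 0 1081344 1017164 :=
  block_comb c4222 b4223 (Nat.zero_le _) (Nat.le_of_ble_eq_true rfl) rfl

theorem c4224 : Block F al 0 1081600 1017415 :=
  block_comb c4223 b4224 (Nat.zero_le _) (Nat.le_of_ble_eq_true rfl) rfl

theorem c4225 : Block F al 0 1081856 1017654 :=
  block_comb c4224 b4225 (Nat.zero_le _) (Nat.le_of_ble_eq_true rfl) rfl

theorem c4226 : Block F al 0 1082112 1017898 :=
  block_comb c4225 b4226 (Nat.zero_le _) (Nat.le_of_ble_eq_true rfl) rfl

theorem c4227 : Block F al 0 1082368 1018151 :=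
  block_comb c4226 b4227 (Nat.zero_le _) (Nat.le_of_ble_eq_true rfl) rfl

theorem c4228 : Block F al 0 1082624 1018406 :=
  block_comb c4227 b4228 (Nat.zero_le _) (Nat.le_of_ble_eq_true rfl) rfl

theorem c4229 : Block F al 0 1082880 1018659 :=
  block_comb c4228 b4229 (Nat.zero_le _) (Nat.le_of_ble_eq_true rfl) rfl

theorem c4230 : Block F al 0 1083136 1018902 :=
  block_comb c4229 b4230 (Nat.zero_le _) (Nat.le_of_ble_eq_true rfl) rfl

theorem c4231 : Block F al 0 1083392 1019157 :=
  block_comb c4230 b4231 (Nat.zero_le _) (Nat.le_of_ble_eq_true rfl) rfl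

theorem c4232 : Block F al 0 1083648 1019412 :=
  block_comb c4231 b4232 (Nat.zero_le _) (Nat.le_of_ble_eq_true rfl) rfl

theorem c4233 : Block F al 0 1083904 1019666 :=
  block_comb c4232 b4233 (Nat.zero_le _) (Nat.le_of_ble_eq_true rfl) rfl

theorem c4234 : Block F al 0 1084160 1019903 :=
  block_comb c4233 b4234 (Nat.zero_le _) (Nat.le_of_ble_eq_true rfl) rfl

theorem c4235 : Block F al 0 1084416 1020155 :=
  block_comb c4234 b4235 (Nat.zero_le _) (Nat.le_of_ble_eq_true rfl) rfl

theorem c4236 : Block F al 0 1084672 1020406 :=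
  block_comb c4235 b4236 (Nat.zero_le _) (Nat.le_of_ble_eq_true rfl) rfl

theorem c4237 : Block F al 0 1084928 1020659 :=
  block_comb c4236 b4237 (Nat.zero_le _) (Nat.le_of_ble_eq_true rfl) rfl

theorem c4238 : Block F al 0 1085184 1020912 :=
  block_comb c4237 b4238 (Nat.zero_le _) (Nat.le_of_ble_eq_true rfl) rfl

theorem c4239 : Block F al 0 1085440 1021146 :=
  block_comb c4238 b4239 (Nat.zero_le _) (Nat.le_of_ble_eq_true rfl) rfl

theorem c4240 : Block F al 0 1085696 1021395 :=
  block_comb c4239 b4240 (Nat.zero_le _) (Nat.le_of_ble_eq_true rfl) rfl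

theorem c4241 : Block F al 0 1085952 1021646 :=
  block_comb c4240 b4241 (Nat.zero_le _) (Nat.le_of_ble_eq_true rfl) rfl

theorem c4242 : Block F al 0 1086208 1021891 :=
  block_comb c4241 b4242 (Nat.zero_le _) (Nat.le_of_ble_eq_true rfl) rfl

theorem c4243 : Block F al 0 1086464 1022146 :=
  block_comb c4242 b4243 (Nat.zero_le _) (Nat.le_of_ble_eq_true rfl) rfl

theorem c4244 : Block F al 0 1086720 1022398 :=
  block_comb c4243 b4244 (Nat.zero_le _) (Nat.le_of_ble_eq_true rfl) rfl

theorem c4245 : Block F al 0 1086976 1022652 :=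
  block_comb c4244 b4245 (Nat.zero_le _) (Nat.le_of_ble_eq_true rfl) rfl

theorem c4246 : Block F al 0 1087232 1022899 :=
  block_comb c4245 b4246 (Nat.zero_le _) (Nat.le_of_ble_eq_true rfl) rfl

theorem c4247 : Block F al 0 1087488 1023146 :=
  block_comb c4246 b4247 (Nat.zero_le _) (Nat.le_of_ble_eq_true rfl) rfl

theorem c4248 : Block F al 0 1087744 1023387 :=
  block_comb c4247 b4248 (Nat.zero_le _) (Nat.le_of_ble_eq_true rfl) rfl

theorem c4249 : Block F al 0 1088000 1023641 :=
  block_comb c4248 b4249 (Nat.zero_le _) (Nat.le_of_ble_eq_true rfl) rfl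

theorem c4250 : Block F al 0 1088256 1023892 :=
  block_comb c4249 b4250 (Nat.zero_le _) (Nat.le_of_ble_eq_true rfl) rfl

theorem c4251 : Block F al 0 1088512 1024137 :=
  block_comb c4250 b4251 (Nat.zero_le _) (Nat.le_of_ble_eq_true rfl) rfl

theorem c4252 : Block F al 0 1088768 1024393 :=
  block_comb c4251 b4252 (Nat.zero_le _) (Nat.le_of_ble_eq_true rfl) rfl

theorem c4253 : Block F al 0 1089024 1024647 :=
  block_comb c4252 b4253 (Nat.zero_le _) (Nat.le_of_ble_eq_true rfl) rfl

theorem c4254 : Block F al 0 1089280 1024900 :=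
  block_comb c4253 b4254 (Nat.zero_le _) (Nat.le_of_ble_eq_true rfl) rfl

theorem c4255 : Block F al 0 1089536 1025149 :=
  block_comb c4254 b4255 (Nat.zero_le _) (Nat.le_of_ble_eq_true rfl) rfl

theorem c4256 : Block F al 0 1089792 1025404 :=
  block_comb c4255 b4256 (Nat.zero_le _) (Nat.le_of_ble_eq_true rfl) rfl

theorem c4257 : Block F al 0 1090048 1025652 :=
  block_comb c4256 b4257 (Nat.zero_le _) (Nat.le_of_ble_eq_true rfl) rfl

theorem c4258 : Block F al 0 1090304 1025907 :=
  block_comb c4257 b4258 (Nat.zero_le _) (Nat.le_of_ble_eq_true rfl) rfl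

theorem c4259 : Block F al 0 1090560 1026157 :=
  block_comb c4258 b4259 (Nat.zero_le _) (Nat.le_of_ble_eq_true rfl) rfl

theorem c4260 : Block F al 0 1090816 1026407 :=
  block_comb c4259 b4260 (Nat.zero_le _) (Nat.le_of_ble_eq_true rfl) rfl

theorem c4261 : Block F al 0 1091072 1026649 :=
  block_comb c4260 b4261 (Nat.zero_le _) (Nat.le_of_ble_eq_true rfl) rfl

theorem c4262 : Block F al 0 1091328 1026896 :=
  block_comb c4261 b4262 (Nat.zero_le _) (Nat.le_of_ble_eq_true rfl) rfl

theorem c4263 : Block F al 0 1091584 1027145 :=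
  block_comb c4262 b4263 (Nat.zero_le _) (Nat.le_of_ble_eq_true rfl) rfl

theorem c4264 : Block F al 0 1091840 1027397 :=
  block_comb c4263 b4264 (Nat.zero_le _) (Nat.le_of_ble_eq_true rfl) rfl

theorem c4265 : Block F al 0 1092096 1027647 :=
  block_comb c4264 b4265 (Nat.zero_le _) (Nat.le_of_ble_eq_true rfl) rfl

theorem c4266 : Block F al 0 1092352 1027899 :=
  block_comb c4265 b4266 (Nat.zero_le _) (Nat.le_of_ble_eq_true rfl) rfl

theorem c4267 : Block F al 0 1092608 1028152 :=
  block_comb c4266 b4267 (Nat.zero_le _) (Nat.le_of_ble_eq_true rfl) rfl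

theorem c4268 : Block F al 0 1092864 1028394 :=
  block_comb c4267 b4268 (Nat.zero_le _) (Nat.le_of_ble_eq_true rfl) rfl

theorem c4269 : Block F al 0 1093120 1028646 :=
  block_comb c4268 b4269 (Nat.zero_le _) (Nat.le_of_ble_eq_true rfl) rfl

theorem c4270 : Block F al 0 1093376 1028891 :=
  block_comb c4269 b4270 (Nat.zero_le _) (Nat.le_of_ble_eq_true rfl) rfl

theorem c4271 : Block F al 0 1093632 1029141 :=
  block_comb c4270 b4271 (Nat.zero_le _) (Nat.le_of_ble_eq_true rfl) rfl

theorem c4272 : Block F al 0 1093888 1029391 :=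
  block_comb c4271 b4272 (Nat.zero_le _) (Nat.le_of_ble_eq_true rfl) rfl

theorem c4273 : Block F al 0 1094144 1029641 :=
  block_comb c4272 b4273 (Nat.zero_le _) (Nat.le_of_ble_eq_true rfl) rfl

theorem c4274 : Block F al 0 1094400 1029893 :=
  block_comb c4273 b4274 (Nat.zero_le _) (Nat.le_of_ble_eq_true rfl) rfl

theorem c4275 : Block F al 0 1094656 1030144 :=
  block_comb c4274 b4275 (Nat.zero_le _) (Nat.le_of_ble_eq_true rfl) rfl

theorem c4276 : Block F al 0 1094912 1030394 :=
  block_comb c4275 b4276 (Nat.zero_le _) (Nat.le_of_ble_eq_true rfl) rfl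

theorem c4277 : Block F al 0 1095168 1030648 :=
  block_comb c4276 b4277 (Nat.zero_le _) (Nat.le_of_ble_eq_true rfl) rfl

theorem c4278 : Block F al 0 1095424 1030904 :=
  block_comb c4277 b4278 (Nat.zero_le _) (Nat.le_of_ble_eq_true rfl) rfl

theorem c4279 : Block F al 0 1095680 1031154 :=
  block_comb c4278 b4279 (Nat.zero_le _) (Nat.le_of_ble_eq_true rfl) rfl

theorem c4280 : Block F al 0 1095936 1031410 :=
  block_comb c4279 b4280 (Nat.zero_le _) (Nat.le_of_ble_eq_true rfl) rfl

theorem c4281 : Block F al 0 1096192 1031656 :=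
  block_comb c4280 b4281 (Nat.zero_le _) (Nat.le_of_ble_eq_true rfl) rfl

theorem c4282 : Block F al 0 1096448 1031905 :=
  block_comb c4281 b4282 (Nat.zero_le _) (Nat.le_of_ble_eq_true rfl) rfl

theorem c4283 : Block F al 0 1096704 1032155 :=
  block_comb c4282 b4283 (Nat.zero_le _) (Nat.le_of_ble_eq_true rfl) rfl

theorem c4284 : Block F al 0 1096960 1032408 :=
  block_comb c4283 b4284 (Nat.zero_le _) (Nat.le_of_ble_eq_true rfl) rfl

theorem c4285 : Block F al 0 1097216 1032661 :=
  block_comb c4284 b4285 (Nat.zero_le _) (Nat.le_of_ble_eq_true rfl) rfl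

theorem c4286 : Block F al 0 1097472 1032913 :=
  block_comb c4285 b4286 (Nat.zero_le _) (Nat.le_of_ble_eq_true rfl) rfl

theorem c4287 : Block F al 0 1097728 1033168 :=
  block_comb c4286 b4287 (Nat.zero_le _) (Nat.le_of_ble_eq_true rfl) rfl

theorem c4288 : Block F al 0 1097984 1033424 :=
  block_comb c4287 b4288 (Nat.zero_le _) (Nat.le_of_ble_eq_true rfl) rfl

theorem c4289 : Block F al 0 1098240 1033674 :=
  block_comb c4288 b4289 (Nat.zero_le _) (Nat.le_of_ble_eq_true rfl) rfl

theorem c4290 : Block F al 0 1098496 1033930 :=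
  block_comb c4289 b4290 (Nat.zero_le _) (Nat.le_of_ble_eq_true rfl) rfl

theorem c4291 : Block F al 0 1098752 1034183 :=
  block_comb c4290 b4291 (Nat.zero_le _) (Nat.le_of_ble_eq_true rfl) rfl

theorem c4292 : Block F al 0 1099008 1034429 :=
  block_comb c4291 b4292 (Nat.zero_le _) (Nat.le_of_ble_eq_true rfl) rfl

theorem c4293 : Block F al 0 1099264 1034678 :=
  block_comb c4292 b4293 (Nat.zero_le _) (Nat.le_of_ble_eq_true rfl) rfl

theorem c4294 : Block F al 0 1099520 1034924 :=
  block_comb c4293 b4294 (Nat.zero_le _) (Nat.le_of_ble_eq_true rfl) rfl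

theorem c4295 : Block F al 0 1099776 1035169 :=
  block_comb c4294 b4295 (Nat.zero_le _) (Nat.le_of_ble_eq_true rfl) rfl

theorem c4296 : Block F al 0 1100032 1035417 :=
  block_comb c4295 b4296 (Nat.zero_le _) (Nat.le_of_ble_eq_true rfl) rfl

theorem c4297 : Block F al 0 1100288 1035668 :=
  block_comb c4296 b4297 (Nat.zero_le _) (Nat.le_of_ble_eq_true rfl) rfl

theorem c4298 : Block F al 0 1100544 1035919 :=
  block_comb c4297 b4298 (Nat.zero_le _) (Nat.le_of_ble_eq_true rfl) rfl

theorem c4299 : Block F al 0 1100800 1036175 :=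
  block_comb c4298 b4299 (Nat.zero_le _) (Nat.le_of_ble_eq_true rfl) rfl

theorem c4300 : Block F al 0 1101056 1036428 :=
  block_comb c4299 b4300 (Nat.zero_le _) (Nat.le_of_ble_eq_true rfl) rfl

theorem c4301 : Block F al 0 1101312 1036680 :=
  block_comb c4300 b4301 (Nat.zero_le _) (Nat.le_of_ble_eq_true rfl) rfl

theorem c4302 : Block F al 0 1101568 1036926 :=
  block_comb c4301 b4302 (Nat.zero_le _) (Nat.le_of_ble_eq_true rfl) rfl

theorem c4303 : Block F al 0 1101824 1037178 :=
  block_comb c4302 b4303 (Nat.zero_le _) (Nat.le_of_ble_eq_true rfl) rfl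

theorem c4304 : Block F al 0 1102080 1037429 :=
  block_comb c4303 b4304 (Nat.zero_le _) (Nat.le_of_ble_eq_true rfl) rfl

theorem c4305 : Block F al 0 1102336 1037679 :=
  block_comb c4304 b4305 (Nat.zero_le _) (Nat.le_of_ble_eq_true rfl) rfl

theorem c4306 : Block F al 0 1102592 1037926 :=
  block_comb c4305 b4306 (Nat.zero_le _) (Nat.le_of_ble_eq_true rfl) rfl

theorem c4307 : Block F al 0 1102848 1038180 :=
  block_comb c4306 b4307 (Nat.zero_le _) (Nat.le_of_ble_eq_true rfl) rfl

theorem c4308 : Block F al 0 1103104 1038428 :=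
  block_comb c4307 b4308 (Nat.zero_le _) (Nat.le_of_ble_eq_true rfl) rfl

theorem c4309 : Block F al 0 1103360 1038684 :=
  block_comb c4308 b4309 (Nat.zero_le _) (Nat.le_of_ble_eq_true rfl) rfl

theorem c4310 : Block F al 0 1103616 1038940 :=
  block_comb c4309 b4310 (Nat.zero_le _) (Nat.le_of_ble_eq_true rfl) rfl

theorem c4311 : Block F al 0 1103872 1039193 :=
  block_comb c4310 b4311 (Nat.zero_le _) (Nat.le_of_ble_eq_true rfl) rfl

theorem c4312 : Block F al 0 1104128 1039444 :=
  block_comb c4311 b4312 (Nat.zero_le _) (Nat.le_of_ble_eq_true rfl) rfl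

theorem c4313 : Block F al 0 1104384 1039688 :=
  block_comb c4312 b4313 (Nat.zero_le _) (Nat.le_of_ble_eq_true rfl) rfl

theorem c4314 : Block F al 0 1104640 1039937 :=
  block_comb c4313 b4314 (Nat.zero_le _) (Nat.le_of_ble_eq_true rfl) rfl

theorem c4315 : Block F al 0 1104896 1040192 :=
  block_comb c4314 b4315 (Nat.zero_le _) (Nat.le_of_ble_eq_true rfl) rfl

theorem c4316 : Block F al 0 1105152 1040445 :=
  block_comb c4315 b4316 (Nat.zero_le _) (Nat.le_of_ble_eq_true rfl) rfl

theorem c4317 : Block F al 0 1105408 1040699 :=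
  block_comb c4316 b4317 (Nat.zero_le _) (Nat.le_of_ble_eq_true rfl) rfl

theorem c4318 : Block F al 0 1105664 1040950 :=
  block_comb c4317 b4318 (Nat.zero_le _) (Nat.le_of_ble_eq_true rfl) rfl

theorem c4319 : Block F al 0 1105920 1041206 :=
  block_comb c4318 b4319 (Nat.zero_le _) (Nat.le_of_ble_eq_true rfl) rfl

theorem c4320 : Block F al 0 1106176 1041462 :=
  block_comb c4319 b4320 (Nat.zero_le _) (Nat.le_of_ble_eq_true rfl) rfl

theorem c4321 : Block F al 0 1106432 1041715 :=
  block_comb c4320 b4321 (Nat.zero_le _) (Nat.le_of_ble_eq_true rfl) rfl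

theorem c4322 : Block F al 0 1106688 1041970 :=
  block_comb c4321 b4322 (Nat.zero_le _) (Nat.le_of_ble_eq_true rfl) rfl

theorem c4323 : Block F al 0 1106944 1042226 :=
  block_comb c4322 b4323 (Nat.zero_le _) (Nat.le_of_ble_eq_true rfl) rfl

theorem c4324 : Block F al 0 1107200 1042479 :=
  block_comb c4323 b4324 (Nat.zero_le _) (Nat.le_of_ble_eq_true rfl) rfl

theorem c4325 : Block F al 0 1107456 1042735 :=
  block_comb c4324 b4325 (Nat.zero_le _) (Nat.le_of_ble_eq_true rfl) rfl

theorem c4326 : Block F al 0 1107712 1042985 :=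
  block_comb c4325 b4326 (Nat.zero_le _) (Nat.le_of_ble_eq_true rfl) rfl

theorem c4327 : Block F al 0 1107968 1043241 :=
  block_comb c4326 b4327 (Nat.zero_le _) (Nat.le_of_ble_eq_true rfl) rfl

theorem c4328 : Block F al 0 1108224 1043495 :=
  block_comb c4327 b4328 (Nat.zero_le _) (Nat.le_of_ble_eq_true rfl) rfl

theorem c4329 : Block F al 0 1108480 1043747 :=
  block_comb c4328 b4329 (Nat.zero_le _) (Nat.le_of_ble_eq_true rfl) rfl

theorem c4330 : Block F al 0 1108736 1044001 :=
  block_comb c4329 b4330 (Nat.zero_le _) (Nat.le_of_ble_eq_true rfl) rfl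

theorem c4331 : Block F al 0 1108992 1044257 :=
  block_comb c4330 b4331 (Nat.zero_le _) (Nat.le_of_ble_eq_true rfl) rfl

theorem c4332 : Block F al 0 1109248 1044510 :=
  block_comb c4331 b4332 (Nat.zero_le _) (Nat.le_of_ble_eq_true rfl) rfl

theorem c4333 : Block F al 0 1109504 1044766 :=
  block_comb c4332 b4333 (Nat.zero_le _) (Nat.le_of_ble_eq_true rfl) rfl

theorem c4334 : Block F al 0 1109760 1045020 :=
  block_comb c4333 b4334 (Nat.zero_le _) (Nat.le_of_ble_eq_true rfl) rfl

theorem c4335 : Block F al 0 1110016 1045270 :=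
  block_comb c4334 b4335 (Nat.zero_le _) (Nat.le_of_ble_eq_true rfl) rfl

theorem c4336 : Block F al 0 1110272 1045522 :=
  block_comb c4335 b4336 (Nat.zero_le _) (Nat.le_of_ble_eq_true rfl) rfl

theorem c4337 : Block F al 0 1110528 1045775 :=
  block_comb c4336 b4337 (Nat.zero_le _) (Nat.le_of_ble_eq_true rfl) rfl

theorem c4338 : Block F al 0 1110784 1046028 :=
  block_comb c4337 b4338 (Nat.zero_le _) (Nat.le_of_ble_eq_true rfl) rfl

theorem c4339 : Block F al 0 1111040 1046275 :=
  block_comb c4338 b4339 (Nat.zero_le _) (Nat.le_of_ble_eq_true rfl) rfl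

theorem c4340 : Block F al 0 1111296 1046529 :=
  block_comb c4339 b4340 (Nat.zero_le _) (Nat.le_of_ble_eq_true rfl) rfl

theorem c4341 : Block F al 0 1111552 1046778 :=
  block_comb c4340 b4341 (Nat.zero_le _) (Nat.le_of_ble_eq_true rfl) rfl

theorem c4342 : Block F al 0 1111808 1047029 :=
  block_comb c4341 b4342 (Nat.zero_le _) (Nat.le_of_ble_eq_true rfl) rfl

theorem c4343 : Block F al 0 1112064 1047280 :=
  block_comb c4342 b4343 (Nat.zero_le _) (Nat.le_of_ble_eq_true rfl) rfl

theorem c4344 : Block F al 0 1112320 1047532 :=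
  block_comb c4343 b4344 (Nat.zero_le _) (Nat.le_of_ble_eq_true rfl) rfl

theorem c4345 : Block F al 0 1112576 1047787 :=
  block_comb c4344 b4345 (Nat.zero_le _) (Nat.le_of_ble_eq_true rfl) rfl

theorem c4346 : Block F al 0 1112832 1048039 :=
  block_comb c4345 b4346 (Nat.zero_le _) (Nat.le_of_ble_eq_true rfl) rfl

theorem c4347 : Block F al 0 1113088 1048293 :=
  block_comb c4346 b4347 (Nat.zero_le _) (Nat.le_of_ble_eq_true rfl) rfl

theorem c4348 : Block F al 0 1113344 1048544 :=
  block_comb c4347 b4348 (Nat.zero_le _) (Nat.le_of_ble_eq_true rfl) rfl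

theorem c4349 : Block F al 0 1113600 1048796 :=
  block_comb c4348 b4349 (Nat.zero_le _) (Nat.le_of_ble_eq_true rfl) rfl

theorem c4350 : Block F al 0 1113856 1049050 :=
  block_comb c4349 b4350 (Nat.zero_le _) (Nat.le_of_ble_eq_true rfl) rfl

theorem c4351 : Block F al 0 1114112 1049298 :=
  block_comb c4350 b4351 (Nat.zero_le _) (Nat.le_of_ble_eq_true rfl) rfl

theorem c4352 : Block F al 0 1114368 1049553 :=
  block_comb c4351 b4352 (Nat.zero_le _) (Nat.le_of_ble_eq_true rfl) rfl

theorem c4353 : Block F al 0 1114624 1049806 :=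
  block_comb c4352 b4353 (Nat.zero_le _) (Nat.le_of_ble_eq_true rfl) rfl

theorem c4354 : Block F al 0 1114880 1050061 :=
  block_comb c4353 b4354 (Nat.zero_le _) (Nat.le_of_ble_eq_true rfl) rfl

theorem c4355 : Block F al 0 1115136 1050310 :=
  block_comb c4354 b4355 (Nat.zero_le _) (Nat.le_of_ble_eq_true rfl) rfl

theorem c4356 : Block F al 0 1115392 1050555 :=
  block_comb c4355 b4356 (Nat.zero_le _) (Nat.le_of_ble_eq_true rfl) rfl

theorem c4357 : Block F al 0 1115648 1050807 :=
  block_comb c4356 b4357 (Nat.zero_le _) (Nat.le_of_ble_eq_true rfl) rfl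

theorem c4358 : Block F al 0 1115904 1051061 :=
  block_comb c4357 b4358 (Nat.zero_le _) (Nat.le_of_ble_eq_true rfl) rfl

theorem c4359 : Block F al 0 1116160 1051307 :=
  block_comb c4358 b4359 (Nat.zero_le _) (Nat.le_of_ble_eq_true rfl) rfl

theorem c4360 : Block F al 0 1116416 1051563 :=
  block_comb c4359 b4360 (Nat.zero_le _) (Nat.le_of_ble_eq_true rfl) rfl

theorem c4361 : Block F al 0 1116672 1051819 :=
  block_comb c4360 b4361 (Nat.zero_le _) (Nat.le_of_ble_eq_true rfl) rfl

theorem c4362 : Block F al 0 1116928 1052073 :=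
  block_comb c4361 b4362 (Nat.zero_le _) (Nat.le_of_ble_eq_true rfl) rfl

theorem c4363 : Block F al 0 1117184 1052327 :=
  block_comb c4362 b4363 (Nat.zero_le _) (Nat.le_of_ble_eq_true rfl) rfl

theorem c4364 : Block F al 0 1117440 1052581 :=
  block_comb c4363 b4364 (Nat.zero_le _) (Nat.le_of_ble_eq_true rfl) rfl

theorem c4365 : Block F al 0 1117696 1052834 :=
  block_comb c4364 b4365 (Nat.zero_le _) (Nat.le_of_ble_eq_true rfl) rfl

theorem c4366 : Block F al 0 1117952 1053089 :=
  block_comb c4365 b4366 (Nat.zero_le _) (Nat.le_of_ble_eq_true rfl) rfl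

theorem c4367 : Block F al 0 1118208 1053345 :=
  block_comb c4366 b4367 (Nat.zero_le _) (Nat.le_of_ble_eq_true rfl) rfl

theorem c4368 : Block F al 0 1118464 1053598 :=
  block_comb c4367 b4368 (Nat.zero_le _) (Nat.le_of_ble_eq_true rfl) rfl

theorem c4369 : Block F al 0 1118720 1053843 :=
  block_comb c4368 b4369 (Nat.zero_le _) (Nat.le_of_ble_eq_true rfl) rfl

theorem c4370 : Block F al 0 1118976 1054099 :=
  block_comb c4369 b4370 (Nat.zero_le _) (Nat.le_of_ble_eq_true rfl) rfl

theorem c4371 : Block F al 0 1119232 1054350 :=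
  block_comb c4370 b4371 (Nat.zero_le _) (Nat.le_of_ble_eq_true rfl) rfl

theorem c4372 : Block F al 0 1119488 1054601 :=
  block_comb c4371 b4372 (Nat.zero_le _) (Nat.le_of_ble_eq_true rfl) rfl

theorem c4373 : Block F al 0 1119744 1054853 :=
  block_comb c4372 b4373 (Nat.zero_le _) (Nat.le_of_ble_eq_true rfl) rfl

theorem c4374 : Block F al 0 1120000 1055104 :=
  block_comb c4373 b4374 (Nat.zero_le _) (Nat.le_of_ble_eq_true rfl) rfl

theorem c4375 : Block F al 0 1120256 1055351 :=
  block_comb c4374 b4375 (Nat.zero_le _) (Nat.le_of_ble_eq_true rfl) rfl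

theorem c4376 : Block F al 0 1120512 1055605 :=
  block_comb c4375 b4376 (Nat.zero_le _) (Nat.le_of_ble_eq_true rfl) rfl

theorem c4377 : Block F al 0 1120768 1055856 :=
  block_comb c4376 b4377 (Nat.zero_le _) (Nat.le_of_ble_eq_true rfl) rfl

theorem c4378 : Block F al 0 1121024 1056112 :=
  block_comb c4377 b4378 (Nat.zero_le _) (Nat.le_of_ble_eq_true rfl) rfl

theorem c4379 : Block F al 0 1121280 1056368 :=
  block_comb c4378 b4379 (Nat.zero_le _) (Nat.le_of_ble_eq_true rfl) rfl

theorem c4380 : Block F al 0 1121536 1056623 :=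
  block_comb c4379 b4380 (Nat.zero_le _) (Nat.le_of_ble_eq_true rfl) rfl

theorem c4381 : Block F al 0 1121792 1056872 :=
  block_comb c4380 b4381 (Nat.zero_le _) (Nat.le_of_ble_eq_true rfl) rfl

theorem c4382 : Block F al 0 1122048 1057126 :=
  block_comb c4381 b4382 (Nat.zero_le _) (Nat.le_of_ble_eq_true rfl) rfl

theorem c4383 : Block F al 0 1122304 1057378 :=
  block_comb c4382 b4383 (Nat.zero_le _) (Nat.le_of_ble_eq_true rfl) rfl

theorem c4384 : Block F al 0 1122560 1057628 :=
  block_comb c4383 b4384 (Nat.zero_le _) (Nat.le_of_ble_eq_true rfl) rfl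

theorem c4385 : Block F al 0 1122816 1057884 :=
  block_comb c4384 b4385 (Nat.zero_le _) (Nat.le_of_ble_eq_true rfl) rfl

theorem c4386 : Block F al 0 1123072 1058132 :=
  block_comb c4385 b4386 (Nat.zero_le _) (Nat.le_of_ble_eq_true rfl) rfl

theorem c4387 : Block F al 0 1123328 1058384 :=
  block_comb c4386 b4387 (Nat.zero_le _) (Nat.le_of_ble_eq_true rfl) rfl

theorem c4388 : Block F al 0 1123584 1058635 :=
  block_comb c4387 b4388 (Nat.zero_le _) (Nat.le_of_ble_eq_true rfl) rfl

theorem c4389 : Block F al 0 1123840 1058886 :=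
  block_comb c4388 b4389 (Nat.zero_le _) (Nat.le_of_ble_eq_true rfl) rfl

theorem c4390 : Block F al 0 1124096 1059136 :=
  block_comb c4389 b4390 (Nat.zero_le _) (Nat.le_of_ble_eq_true rfl) rfl

theorem c4391 : Block F al 0 1124352 1059391 :=
  block_comb c4390 b4391 (Nat.zero_le _) (Nat.le_of_ble_eq_true rfl) rfl

theorem c4392 : Block F al 0 1124608 1059647 :=
  block_comb c4391 b4392 (Nat.zero_le _) (Nat.le_of_ble_eq_true rfl) rfl

theorem c4393 : Block F al 0 1124864 1059902 :=
  block_comb c4392 b4393 (Nat.zero_le _) (Nat.le_of_ble_eq_true rfl) rfl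

theorem c4394 : Block F al 0 1125120 1060150 :=
  block_comb c4393 b4394 (Nat.zero_le _) (Nat.le_of_ble_eq_true rfl) rfl

theorem c4395 : Block F al 0 1125376 1060406 :=
  block_comb c4394 b4395 (Nat.zero_le _) (Nat.le_of_ble_eq_true rfl) rfl

theorem c4396 : Block F al 0 1125632 1060660 :=
  block_comb c4395 b4396 (Nat.zero_le _) (Nat.le_of_ble_eq_true rfl) rfl

theorem c4397 : Block F al 0 1125888 1060908 :=
  block_comb c4396 b4397 (Nat.zero_le _) (Nat.le_of_ble_eq_true rfl) rfl

theorem c4398 : Block F al 0 1126144 1061157 :=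
  block_comb c4397 b4398 (Nat.zero_le _) (Nat.le_of_ble_eq_true rfl) rfl

theorem c4399 : Block F al 0 1126400 1061407 :=
  block_comb c4398 b4399 (Nat.zero_le _) (Nat.le_of_ble_eq_true rfl) rfl

theorem c4400 : Block F al 0 1126656 1061662 :=
  block_comb c4399 b4400 (Nat.zero_le _) (Nat.le_of_ble_eq_true rfl) rfl

theorem c4401 : Block F al 0 1126912 1061914 :=
  block_comb c4400 b4401 (Nat.zero_le _) (Nat.le_of_ble_eq_true rfl) rfl

theorem c4402 : Block F al 0 1127168 1062169 :=
  block_comb c4401 b4402 (Nat.zero_le _) (Nat.le_of_ble_eq_true rfl) rfl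

theorem c4403 : Block F al 0 1127424 1062420 :=
  block_comb c4402 b4403 (Nat.zero_le _) (Nat.le_of_ble_eq_true rfl) rfl

theorem c4404 : Block F al 0 1127680 1062662 :=
  block_comb c4403 b4404 (Nat.zero_le _) (Nat.le_of_ble_eq_true rfl) rfl

theorem c4405 : Block F al 0 1127936 1062915 :=
  block_comb c4404 b4405 (Nat.zero_le _) (Nat.le_of_ble_eq_true rfl) rfl

theorem c4406 : Block F al 0 1128192 1063163 :=
  block_comb c4405 b4406 (Nat.zero_le _) (Nat.le_of_ble_eq_true rfl) rfl

theorem c4407 : Block F al 0 1128448 1063418 :=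
  block_comb c4406 b4407 (Nat.zero_le _) (Nat.le_of_ble_eq_true rfl) rfl

theorem c4408 : Block F al 0 1128704 1063662 :=
  block_comb c4407 b4408 (Nat.zero_le _) (Nat.le_of_ble_eq_true rfl) rfl

theorem c4409 : Block F al 0 1128960 1063917 :=
  block_comb c4408 b4409 (Nat.zero_le _) (Nat.le_of_ble_eq_true rfl) rfl

theorem c4410 : Block F al 0 1129216 1064170 :=
  block_comb c4409 b4410 (Nat.zero_le _) (Nat.le_of_ble_eq_true rfl) rfl

theorem c4411 : Block F al 0 1129472 1064417 :=
  block_comb c4410 b4411 (Nat.zero_le _) (Nat.le_of_ble_eq_true rfl) rfl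

theorem c4412 : Block F al 0 1129728 1064667 :=
  block_comb c4411 b4412 (Nat.zero_le _) (Nat.le_of_ble_eq_true rfl) rfl

theorem c4413 : Block F al 0 1129984 1064913 :=
  block_comb c4412 b4413 (Nat.zero_le _) (Nat.le_of_ble_eq_true rfl) rfl

theorem c4414 : Block F al 0 1130240 1065166 :=
  block_comb c4413 b4414 (Nat.zero_le _) (Nat.le_of_ble_eq_true rfl) rfl

theorem c4415 : Block F al 0 1130496 1065415 :=
  block_comb c4414 b4415 (Nat.zero_le _) (Nat.le_of_ble_eq_true rfl) rfl

theorem c4416 : Block F al 0 1130752 1065670 :=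
  block_comb c4415 b4416 (Nat.zero_le _) (Nat.le_of_ble_eq_true rfl) rfl

theorem c4417 : Block F al 0 1131008 1065918 :=
  block_comb c4416 b4417 (Nat.zero_le _) (Nat.le_of_ble_eq_true rfl) rfl

theorem c4418 : Block F al 0 1131264 1066171 :=
  block_comb c4417 b4418 (Nat.zero_le _) (Nat.le_of_ble_eq_true rfl) rfl

theorem c4419 : Block F al 0 1131520 1066427 :=
  block_comb c4418 b4419 (Nat.zero_le _) (Nat.le_of_ble_eq_true rfl) rfl

theorem c4420 : Block F al 0 1131776 1066679 :=
  block_comb c4419 b4420 (Nat.zero_le _) (Nat.le_of_ble_eq_true rfl) rfl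

theorem c4421 : Block F al 0 1132032 1066934 :=
  block_comb c4420 b4421 (Nat.zero_le _) (Nat.le_of_ble_eq_true rfl) rfl

theorem c4422 : Block F al 0 1132288 1067188 :=
  block_comb c4421 b4422 (Nat.zero_le _) (Nat.le_of_ble_eq_true rfl) rfl

theorem c4423 : Block F al 0 1132544 1067433 :=
  block_comb c4422 b4423 (Nat.zero_le _) (Nat.le_of_ble_eq_true rfl) rfl

theorem c4424 : Block F al 0 1132800 1067689 :=
  block_comb c4423 b4424 (Nat.zero_le _) (Nat.le_of_ble_eq_true rfl) rfl

theorem c4425 : Block F al 0 1133056 1067941 :=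
  block_comb c4424 b4425 (Nat.zero_le _) (Nat.le_of_ble_eq_true rfl) rfl

theorem c4426 : Block F al 0 1133312 1068195 :=
  block_comb c4425 b4426 (Nat.zero_le _) (Nat.le_of_ble_eq_true rfl) rfl

theorem c4427 : Block F al 0 1133568 1068448 :=
  block_comb c4426 b4427 (Nat.zero_le _) (Nat.le_of_ble_eq_true rfl) rfl

theorem c4428 : Block F al 0 1133824 1068699 :=
  block_comb c4427 b4428 (Nat.zero_le _) (Nat.le_of_ble_eq_true rfl) rfl

theorem c4429 : Block F al 0 1134080 1068950 :=
  block_comb c4428 b4429 (Nat.zero_le _) (Nat.le_of_ble_eq_true rfl) rfl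

theorem c4430 : Block F al 0 1134336 1069204 :=
  block_comb c4429 b4430 (Nat.zero_le _) (Nat.le_of_ble_eq_true rfl) rfl

theorem c4431 : Block F al 0 1134592 1069450 :=
  block_comb c4430 b4431 (Nat.zero_le _) (Nat.le_of_ble_eq_true rfl) rfl

theorem c4432 : Block F al 0 1134848 1069705 :=
  block_comb c4431 b4432 (Nat.zero_le _) (Nat.le_of_ble_eq_true rfl) rfl

theorem c4433 : Block F al 0 1135104 1069956 :=
  block_comb c4432 b4433 (Nat.zero_le _) (Nat.le_of_ble_eq_true rfl) rfl

theorem c4434 : Block F al 0 1135360 1070202 :=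
  block_comb c4433 b4434 (Nat.zero_le _) (Nat.le_of_ble_eq_true rfl) rfl

theorem c4435 : Block F al 0 1135616 1070453 :=
  block_comb c4434 b4435 (Nat.zero_le _) (Nat.le_of_ble_eq_true rfl) rfl

theorem c4436 : Block F al 0 1135872 1070704 :=
  block_comb c4435 b4436 (Nat.zero_le _) (Nat.le_of_ble_eq_true rfl) rfl

theorem c4437 : Block F al 0 1136128 1070960 :=
  block_comb c4436 b4437 (Nat.zero_le _) (Nat.le_of_ble_eq_true rfl) rfl

theorem c4438 : Block F al 0 1136384 1071207 :=
  block_comb c4437 b4438 (Nat.zero_le _) (Nat.le_of_ble_eq_true rfl) rfl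

theorem c4439 : Block F al 0 1136640 1071455 :=
  block_comb c4438 b4439 (Nat.zero_le _) (Nat.le_of_ble_eq_true rfl) rfl

theorem c4440 : Block F al 0 1136896 1071705 :=
  block_comb c4439 b4440 (Nat.zero_le _) (Nat.le_of_ble_eq_true rfl) rfl

theorem c4441 : Block F al 0 1137152 1071948 :=
  block_comb c4440 b4441 (Nat.zero_le _) (Nat.le_of_ble_eq_true rfl) rfl

theorem c4442 : Block F al 0 1137408 1072197 :=
  block_comb c4441 b4442 (Nat.zero_le _) (Nat.le_of_ble_eq_true rfl) rfl

theorem c4443 : Block F al 0 1137664 1072447 :=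
  block_comb c4442 b4443 (Nat.zero_le _) (Nat.le_of_ble_eq_true rfl) rfl

theorem c4444 : Block F al 0 1137920 1072703 :=
  block_comb c4443 b4444 (Nat.zero_le _) (Nat.le_of_ble_eq_true rfl) rfl

theorem c4445 : Block F al 0 1138176 1072956 :=
  block_comb c4444 b4445 (Nat.zero_le _) (Nat.le_of_ble_eq_true rfl) rfl

theorem c4446 : Block F al 0 1138432 1073204 :=
  block_comb c4445 b4446 (Nat.zero_le _) (Nat.le_of_ble_eq_true rfl) rfl

theorem c4447 : Block F al 0 1138688 1073445 :=
  block_comb c4446 b4447 (Nat.zero_le _) (Nat.le_of_ble_eq_true rfl) rfl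

theorem c4448 : Block F al 0 1138944 1073701 :=
  block_comb c4447 b4448 (Nat.zero_le _) (Nat.le_of_ble_eq_true rfl) rfl

theorem c4449 : Block F al 0 1139200 1073955 :=
  block_comb c4448 b4449 (Nat.zero_le _) (Nat.le_of_ble_eq_true rfl) rfl

theorem c4450 : Block F al 0 1139456 1074207 :=
  block_comb c4449 b4450 (Nat.zero_le _) (Nat.le_of_ble_eq_true rfl) rfl

theorem c4451 : Block F al 0 1139712 1074455 :=
  block_comb c4450 b4451 (Nat.zero_le _) (Nat.le_of_ble_eq_true rfl) rfl

theorem c4452 : Block F al 0 1139968 1074709 :=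
  block_comb c4451 b4452 (Nat.zero_le _) (Nat.le_of_ble_eq_true rfl) rfl

theorem c4453 : Block F al 0 1140224 1074962 :=
  block_comb c4452 b4453 (Nat.zero_le _) (Nat.le_of_ble_eq_true rfl) rfl

theorem c4454 : Block F al 0 1140480 1075216 :=
  block_comb c4453 b4454 (Nat.zero_le _) (Nat.le_of_ble_eq_true rfl) rfl

theorem c4455 : Block F al 0 1140736 1075464 :=
  block_comb c4454 b4455 (Nat.zero_le _) (Nat.le_of_ble_eq_true rfl) rfl

theorem c4456 : Block F al 0 1140992 1075717 :=
  block_comb c4455 b4456 (Nat.zero_le _) (Nat.le_of_ble_eq_true rfl) rfl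

theorem c4457 : Block F al 0 1141248 1075967 :=
  block_comb c4456 b4457 (Nat.zero_le _) (Nat.le_of_ble_eq_true rfl) rfl

theorem c4458 : Block F al 0 1141504 1076221 :=
  block_comb c4457 b4458 (Nat.zero_le _) (Nat.le_of_ble_eq_true rfl) rfl

theorem c4459 : Block F al 0 1141760 1076477 :=
  block_comb c4458 b4459 (Nat.zero_le _) (Nat.le_of_ble_eq_true rfl) rfl

theorem c4460 : Block F al 0 1142016 1076730 :=
  block_comb c4459 b4460 (Nat.zero_le _) (Nat.le_of_ble_eq_true rfl) rfl

theorem c4461 : Block F al 0 1142272 1076986 :=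
  block_comb c4460 b4461 (Nat.zero_le _) (Nat.le_of_ble_eq_true rfl) rfl

theorem c4462 : Block F al 0 1142528 1077235 :=
  block_comb c4461 b4462 (Nat.zero_le _) (Nat.le_of_ble_eq_true rfl) rfl

theorem c4463 : Block F al 0 1142784 1077484 :=
  block_comb c4462 b4463 (Nat.zero_le _) (Nat.le_of_ble_eq_true rfl) rfl

theorem c4464 : Block F al 0 1143040 1077736 :=
  block_comb c4463 b4464 (Nat.zero_le _) (Nat.le_of_ble_eq_true rfl) rfl

theorem c4465 : Block F al 0 1143296 1077987 :=
  block_comb c4464 b4465 (Nat.zero_le _) (Nat.le_of_ble_eq_true rfl) rfl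

theorem c4466 : Block F al 0 1143552 1078238 :=
  block_comb c4465 b4466 (Nat.zero_le _) (Nat.le_of_ble_eq_true rfl) rfl

theorem c4467 : Block F al 0 1143808 1078491 :=
  block_comb c4466 b4467 (Nat.zero_le _) (Nat.le_of_ble_eq_true rfl) rfl

theorem c4468 : Block F al 0 1144064 1078742 :=
  block_comb c4467 b4468 (Nat.zero_le _) (Nat.le_of_ble_eq_true rfl) rfl

theorem c4469 : Block F al 0 1144320 1078996 :=
  block_comb c4468 b4469 (Nat.zero_le _) (Nat.le_of_ble_eq_true rfl) rfl

theorem c4470 : Block F al 0 1144576 1079247 :=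
  block_comb c4469 b4470 (Nat.zero_le _) (Nat.le_of_ble_eq_true rfl) rfl

theorem c4471 : Block F al 0 1144832 1079500 :=
  block_comb c4470 b4471 (Nat.zero_le _) (Nat.le_of_ble_eq_true rfl) rfl

theorem c4472 : Block F al 0 1145088 1079746 :=
  block_comb c4471 b4472 (Nat.zero_le _) (Nat.le_of_ble_eq_true rfl) rfl

theorem c4473 : Block F al 0 1145344 1079995 :=
  block_comb c4472 b4473 (Nat.zero_le _) (Nat.le_of_ble_eq_true rfl) rfl

theorem c4474 : Block F al 0 1145600 1080247 :=
  block_comb c4473 b4474 (Nat.zero_le _) (Nat.le_of_ble_eq_true rfl) rfl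

theorem c4475 : Block F al 0 1145856 1080501 :=
  block_comb c4474 b4475 (Nat.zero_le _) (Nat.le_of_ble_eq_true rfl) rfl

theorem c4476 : Block F al 0 1146112 1080756 :=
  block_comb c4475 b4476 (Nat.zero_le _) (Nat.le_of_ble_eq_true rfl) rfl

theorem c4477 : Block F al 0 1146368 1081012 :=
  block_comb c4476 b4477 (Nat.zero_le _) (Nat.le_of_ble_eq_true rfl) rfl

theorem c4478 : Block F al 0 1146624 1081265 :=
  block_comb c4477 b4478 (Nat.zero_le _) (Nat.le_of_ble_eq_true rfl) rfl

theorem c4479 : Block F al 0 1146880 1081514 :=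
  block_comb c4478 b4479 (Nat.zero_le _) (Nat.le_of_ble_eq_true rfl) rfl

theorem c4480 : Block F al 0 1147136 1081769 :=
  block_comb c4479 b4480 (Nat.zero_le _) (Nat.le_of_ble_eq_true rfl) rfl

theorem c4481 : Block F al 0 1147392 1082025 :=
  block_comb c4480 b4481 (Nat.zero_le _) (Nat.le_of_ble_eq_true rfl) rfl

theorem c4482 : Block F al 0 1147648 1082280 :=
  block_comb c4481 b4482 (Nat.zero_le _) (Nat.le_of_ble_eq_true rfl) rfl

theorem c4483 : Block F al 0 1147904 1082534 :=
  block_comb c4482 b4483 (Nat.zero_le _) (Nat.le_of_ble_eq_true rfl) rfl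

theorem c4484 : Block F al 0 1148160 1082786 :=
  block_comb c4483 b4484 (Nat.zero_le _) (Nat.le_of_ble_eq_true rfl) rfl

theorem c4485 : Block F al 0 1148416 1083039 :=
  block_comb c4484 b4485 (Nat.zero_le _) (Nat.le_of_ble_eq_true rfl) rfl

theorem c4486 : Block F al 0 1148672 1083292 :=
  block_comb c4485 b4486 (Nat.zero_le _) (Nat.le_of_ble_eq_true rfl) rfl

theorem c4487 : Block F al 0 1148928 1083545 :=
  block_comb c4486 b4487 (Nat.zero_le _) (Nat.le_of_ble_eq_true rfl) rfl

theorem c4488 : Block F al 0 1149184 1083800 :=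
  block_comb c4487 b4488 (Nat.zero_le _) (Nat.le_of_ble_eq_true rfl) rfl

theorem c4489 : Block F al 0 1149440 1084054 :=
  block_comb c4488 b4489 (Nat.zero_le _) (Nat.le_of_ble_eq_true rfl) rfl

theorem c4490 : Block F al 0 1149696 1084309 :=
  block_comb c4489 b4490 (Nat.zero_le _) (Nat.le_of_ble_eq_true rfl) rfl

theorem c4491 : Block F al 0 1149952 1084560 :=
  block_comb c4490 b4491 (Nat.zero_le _) (Nat.le_of_ble_eq_true rfl) rfl

theorem c4492 : Block F al 0 1150208 1084813 :=
  block_comb c4491 b4492 (Nat.zero_le _) (Nat.le_of_ble_eq_true rfl) rfl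

theorem c4493 : Block F al 0 1150464 1085062 :=
  block_comb c4492 b4493 (Nat.zero_le _) (Nat.le_of_ble_eq_true rfl) rfl

theorem c4494 : Block F al 0 1150720 1085311 :=
  block_comb c4493 b4494 (Nat.zero_le _) (Nat.le_of_ble_eq_true rfl) rfl

theorem c4495 : Block F al 0 1150976 1085563 :=
  block_comb c4494 b4495 (Nat.zero_le _) (Nat.le_of_ble_eq_true rfl) rfl

theorem c4496 : Block F al 0 1151232 1085809 :=
  block_comb c4495 b4496 (Nat.zero_le _) (Nat.le_of_ble_eq_true rfl) rfl

theorem c4497 : Block F al 0 1151488 1086060 :=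
  block_comb c4496 b4497 (Nat.zero_le _) (Nat.le_of_ble_eq_true rfl) rfl

theorem c4498 : Block F al 0 1151744 1086311 :=
  block_comb c4497 b4498 (Nat.zero_le _) (Nat.le_of_ble_eq_true rfl) rfl

theorem c4499 : Block F al 0 1152000 1086566 :=
  block_comb c4498 b4499 (Nat.zero_le _) (Nat.le_of_ble_eq_true rfl) rfl

theorem c4500 : Block F al 0 1152256 1086822 :=
  block_comb c4499 b4500 (Nat.zero_le _) (Nat.le_of_ble_eq_true rfl) rfl

theorem c4501 : Block F al 0 1152512 1087063 :=
  block_comb c4500 b4501 (Nat.zero_le _) (Nat.le_of_ble_eq_true rfl) rfl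

theorem c4502 : Block F al 0 1152768 1087311 :=
  block_comb c4501 b4502 (Nat.zero_le _) (Nat.le_of_ble_eq_true rfl) rfl

theorem c4503 : Block F al 0 1153024 1087567 :=
  block_comb c4502 b4503 (Nat.zero_le _) (Nat.le_of_ble_eq_true rfl) rfl

theorem c4504 : Block F al 0 1153280 1087822 :=
  block_comb c4503 b4504 (Nat.zero_le _) (Nat.le_of_ble_eq_true rfl) rfl

theorem c4505 : Block F al 0 1153536 1088078 :=
  block_comb c4504 b4505 (Nat.zero_le _) (Nat.le_of_ble_eq_true rfl) rfl

theorem c4506 : Block F al 0 1153792 1088328 :=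
  block_comb c4505 b4506 (Nat.zero_le _) (Nat.le_of_ble_eq_true rfl) rfl

theorem c4507 : Block F al 0 1154048 1088583 :=
  block_comb c4506 b4507 (Nat.zero_le _) (Nat.le_of_ble_eq_true rfl) rfl

theorem c4508 : Block F al 0 1154304 1088833 :=
  block_comb c4507 b4508 (Nat.zero_le _) (Nat.le_of_ble_eq_true rfl) rfl

theorem c4509 : Block F al 0 1154560 1089088 :=
  block_comb c4508 b4509 (Nat.zero_le _) (Nat.le_of_ble_eq_true rfl) rfl

theorem c4510 : Block F al 0 1154816 1089342 :=
  block_comb c4509 b4510 (Nat.zero_le _) (Nat.le_of_ble_eq_true rfl) rfl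

theorem c4511 : Block F al 0 1155072 1089596 :=
  block_comb c4510 b4511 (Nat.zero_le _) (Nat.le_of_ble_eq_true rfl) rfl

theorem c4512 : Block F al 0 1155328 1089848 :=
  block_comb c4511 b4512 (Nat.zero_le _) (Nat.le_of_ble_eq_true rfl) rfl

theorem c4513 : Block F al 0 1155584 1090101 :=
  block_comb c4512 b4513 (Nat.zero_le _) (Nat.le_of_ble_eq_true rfl) rfl

theorem c4514 : Block F al 0 1155840 1090353 :=
  block_comb c4513 b4514 (Nat.zero_le _) (Nat.le_of_ble_eq_true rfl) rfl

theorem c4515 : Block F al 0 1156096 1090608 :=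
  block_comb c4514 b4515 (Nat.zero_le _) (Nat.le_of_ble_eq_true rfl) rfl

theorem c4516 : Block F al 0 1156352 1090858 :=
  block_comb c4515 b4516 (Nat.zero_le _) (Nat.le_of_ble_eq_true rfl) rfl

theorem c4517 : Block F al 0 1156608 1091108 :=
  block_comb c4516 b4517 (Nat.zero_le _) (Nat.le_of_ble_eq_true rfl) rfl

theorem c4518 : Block F al 0 1156864 1091364 :=
  block_comb c4517 b4518 (Nat.zero_le _) (Nat.le_of_ble_eq_true rfl) rfl

theorem c4519 : Block F al 0 1157120 1091613 :=
  block_comb c4518 b4519 (Nat.zero_le _) (Nat.le_of_ble_eq_true rfl) rfl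

theorem c4520 : Block F al 0 1157376 1091867 :=
  block_comb c4519 b4520 (Nat.zero_le _) (Nat.le_of_ble_eq_true rfl) rfl

theorem c4521 : Block F al 0 1157632 1092122 :=
  block_comb c4520 b4521 (Nat.zero_le _) (Nat.le_of_ble_eq_true rfl) rfl

theorem c4522 : Block F al 0 1157888 1092376 :=
  block_comb c4521 b4522 (Nat.zero_le _) (Nat.le_of_ble_eq_true rfl) rfl

theorem c4523 : Block F al 0 1158144 1092626 :=
  block_comb c4522 b4523 (Nat.zero_le _) (Nat.le_of_ble_eq_true rfl) rfl

theorem c4524 : Block F al 0 1158400 1092877 :=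
  block_comb c4523 b4524 (Nat.zero_le _) (Nat.le_of_ble_eq_true rfl) rfl

theorem c4525 : Block F al 0 1158656 1093133 :=
  block_comb c4524 b4525 (Nat.zero_le _) (Nat.le_of_ble_eq_true rfl) rfl

theorem c4526 : Block F al 0 1158912 1093380 :=
  block_comb c4525 b4526 (Nat.zero_le _) (Nat.le_of_ble_eq_true rfl) rfl

theorem c4527 : Block F al 0 1159168 1093632 :=
  block_comb c4526 b4527 (Nat.zero_le _) (Nat.le_of_ble_eq_true rfl) rfl

theorem c4528 : Block F al 0 1159424 1093881 :=
  block_comb c4527 b4528 (Nat.zero_le _) (Nat.le_of_ble_eq_true rfl) rfl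

theorem c4529 : Block F al 0 1159680 1094130 :=
  block_comb c4528 b4529 (Nat.zero_le _) (Nat.le_of_ble_eq_true rfl) rfl

theorem c4530 : Block F al 0 1159936 1094386 :=
  block_comb c4529 b4530 (Nat.zero_le _) (Nat.le_of_ble_eq_true rfl) rfl

theorem c4531 : Block F al 0 1160192 1094641 :=
  block_comb c4530 b4531 (Nat.zero_le _) (Nat.le_of_ble_eq_true rfl) rfl

theorem c4532 : Block F al 0 1160448 1094893 :=
  block_comb c4531 b4532 (Nat.zero_le _) (Nat.le_of_ble_eq_true rfl) rfl

theorem c4533 : Block F al 0 1160704 1095148 :=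
  block_comb c4532 b4533 (Nat.zero_le _) (Nat.le_of_ble_eq_true rfl) rfl

theorem c4534 : Block F al 0 1160960 1095404 :=
  block_comb c4533 b4534 (Nat.zero_le _) (Nat.le_of_ble_eq_true rfl) rfl

theorem c4535 : Block F al 0 1161216 1095659 :=
  block_comb c4534 b4535 (Nat.zero_le _) (Nat.le_of_ble_eq_true rfl) rfl

theorem c4536 : Block F al 0 1161472 1095904 :=
  block_comb c4535 b4536 (Nat.zero_le _) (Nat.le_of_ble_eq_true rfl) rfl

theorem c4537 : Block F al 0 1161728 1096154 :=
  block_comb c4536 b4537 (Nat.zero_le _) (Nat.le_of_ble_eq_true rfl) rfl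

theorem c4538 : Block F al 0 1161984 1096408 :=
  block_comb c4537 b4538 (Nat.zero_le _) (Nat.le_of_ble_eq_true rfl) rfl

theorem c4539 : Block F al 0 1162240 1096660 :=
  block_comb c4538 b4539 (Nat.zero_le _) (Nat.le_of_ble_eq_true rfl) rfl

theorem c4540 : Block F al 0 1162496 1096915 :=
  block_comb c4539 b4540 (Nat.zero_le _) (Nat.le_of_ble_eq_true rfl) rfl

theorem c4541 : Block F al 0 1162752 1097170 :=
  block_comb c4540 b4541 (Nat.zero_le _) (Nat.le_of_ble_eq_true rfl) rfl

theorem c4542 : Block F al 0 1163008 1097424 :=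
  block_comb c4541 b4542 (Nat.zero_le _) (Nat.le_of_ble_eq_true rfl) rfl

theorem c4543 : Block F al 0 1163264 1097671 :=
  block_comb c4542 b4543 (Nat.zero_le _) (Nat.le_of_ble_eq_true rfl) rfl

theorem c4544 : Block F al 0 1163520 1097924 :=
  block_comb c4543 b4544 (Nat.zero_le _) (Nat.le_of_ble_eq_true rfl) rfl

theorem c4545 : Block F al 0 1163776 1098175 :=
  block_comb c4544 b4545 (Nat.zero_le _) (Nat.le_of_ble_eq_true rfl) rfl

theorem c4546 : Block F al 0 1164032 1098429 :=
  block_comb c4545 b4546 (Nat.zero_le _) (Nat.le_of_ble_eq_true rfl) rfl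

theorem c4547 : Block F al 0 1164288 1098685 :=
  block_comb c4546 b4547 (Nat.zero_le _) (Nat.le_of_ble_eq_true rfl) rfl

theorem c4548 : Block F al 0 1164544 1098941 :=
  block_comb c4547 b4548 (Nat.zero_le _) (Nat.le_of_ble_eq_true rfl) rfl

theorem c4549 : Block F al 0 1164800 1099191 :=
  block_comb c4548 b4549 (Nat.zero_le _) (Nat.le_of_ble_eq_true rfl) rfl

theorem c4550 : Block F al 0 1165056 1099445 :=
  block_comb c4549 b4550 (Nat.zero_le _) (Nat.le_of_ble_eq_true rfl) rfl

theorem c4551 : Block F al 0 1165312 1099694 :=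
  block_comb c4550 b4551 (Nat.zero_le _) (Nat.le_of_ble_eq_true rfl) rfl

theorem c4552 : Block F al 0 1165568 1099941 :=
  block_comb c4551 b4552 (Nat.zero_le _) (Nat.le_of_ble_eq_true rfl) rfl

theorem c4553 : Block F al 0 1165824 1100190 :=
  block_comb c4552 b4553 (Nat.zero_le _) (Nat.le_of_ble_eq_true rfl) rfl

theorem c4554 : Block F al 0 1166080 1100441 :=
  block_comb c4553 b4554 (Nat.zero_le _) (Nat.le_of_ble_eq_true rfl) rfl

theorem c4555 : Block F al 0 1166336 1100694 :=
  block_comb c4554 b4555 (Nat.zero_le _) (Nat.le_of_ble_eq_true rfl) rfl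

theorem c4556 : Block F al 0 1166592 1100949 :=
  block_comb c4555 b4556 (Nat.zero_le _) (Nat.le_of_ble_eq_true rfl) rfl

theorem c4557 : Block F al 0 1166848 1101201 :=
  block_comb c4556 b4557 (Nat.zero_le _) (Nat.le_of_ble_eq_true rfl) rfl

theorem c4558 : Block F al 0 1167104 1101457 :=
  block_comb c4557 b4558 (Nat.zero_le _) (Nat.le_of_ble_eq_true rfl) rfl

theorem c4559 : Block F al 0 1167360 1101710 :=
  block_comb c4558 b4559 (Nat.zero_le _) (Nat.le_of_ble_eq_true rfl) rfl

theorem c4560 : Block F al 0 1167616 1101964 :=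
  block_comb c4559 b4560 (Nat.zero_le _) (Nat.le_of_ble_eq_true rfl) rfl

theorem c4561 : Block F al 0 1167872 1102213 :=
  block_comb c4560 b4561 (Nat.zero_le _) (Nat.le_of_ble_eq_true rfl) rfl

theorem c4562 : Block F al 0 1168128 1102468 :=
  block_comb c4561 b4562 (Nat.zero_le _) (Nat.le_of_ble_eq_true rfl) rfl

theorem c4563 : Block F al 0 1168384 1102718 :=
  block_comb c4562 b4563 (Nat.zero_le _) (Nat.le_of_ble_eq_true rfl) rfl

theorem c4564 : Block F al 0 1168640 1102969 :=
  block_comb c4563 b4564 (Nat.zero_le _) (Nat.le_of_ble_eq_true rfl) rfl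

theorem c4565 : Block F al 0 1168896 1103221 :=
  block_comb c4564 b4565 (Nat.zero_le _) (Nat.le_of_ble_eq_true rfl) rfl

theorem c4566 : Block F al 0 1169152 1103475 :=
  block_comb c4565 b4566 (Nat.zero_le _) (Nat.le_of_ble_eq_true rfl) rfl

theorem c4567 : Block F al 0 1169408 1103728 :=
  block_comb c4566 b4567 (Nat.zero_le _) (Nat.le_of_ble_eq_true rfl) rfl

theorem c4568 : Block F al 0 1169664 1103979 :=
  block_comb c4567 b4568 (Nat.zero_le _) (Nat.le_of_ble_eq_true rfl) rfl

theorem c4569 : Block F al 0 1169920 1104232 :=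
  block_comb c4568 b4569 (Nat.zero_le _) (Nat.le_of_ble_eq_true rfl) rfl

theorem c4570 : Block F al 0 1170176 1104486 :=
  block_comb c4569 b4570 (Nat.zero_le _) (Nat.le_of_ble_eq_true rfl) rfl

theorem c4571 : Block F al 0 1170432 1104731 :=
  block_comb c4570 b4571 (Nat.zero_le _) (Nat.le_of_ble_eq_true rfl) rfl

theorem c4572 : Block F al 0 1170688 1104987 :=
  block_comb c4571 b4572 (Nat.zero_le _) (Nat.le_of_ble_eq_true rfl) rfl

theorem c4573 : Block F al 0 1170944 1105243 :=
  block_comb c4572 b4573 (Nat.zero_le _) (Nat.le_of_ble_eq_true rfl) rfl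

theorem c4574 : Block F al 0 1171200 1105499 :=
  block_comb c4573 b4574 (Nat.zero_le _) (Nat.le_of_ble_eq_true rfl) rfl

theorem c4575 : Block F al 0 1171456 1105753 :=
  block_comb c4574 b4575 (Nat.zero_le _) (Nat.le_of_ble_eq_true rfl) rfl

theorem c4576 : Block F al 0 1171712 1106006 :=
  block_comb c4575 b4576 (Nat.zero_le _) (Nat.le_of_ble_eq_true rfl) rfl

theorem c4577 : Block F al 0 1171968 1106262 :=
  block_comb c4576 b4577 (Nat.zero_le _) (Nat.le_of_ble_eq_true rfl) rfl

theorem c4578 : Block F al 0 1172224 1106515 :=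
  block_comb c4577 b4578 (Nat.zero_le _) (Nat.le_of_ble_eq_true rfl) rfl

theorem c4579 : Block F al 0 1172480 1106767 :=
  block_comb c4578 b4579 (Nat.zero_le _) (Nat.le_of_ble_eq_true rfl) rfl

theorem c4580 : Block F al 0 1172736 1107021 :=
  block_comb c4579 b4580 (Nat.zero_le _) (Nat.le_of_ble_eq_true rfl) rfl

theorem c4581 : Block F al 0 1172992 1107276 :=
  block_comb c4580 b4581 (Nat.zero_le _) (Nat.le_of_ble_eq_true rfl) rfl

theorem c4582 : Block F al 0 1173248 1107529 :=
  block_comb c4581 b4582 (Nat.zero_le _) (Nat.le_of_ble_eq_true rfl) rfl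

theorem c4583 : Block F al 0 1173504 1107765 :=
  block_comb c4582 b4583 (Nat.zero_le _) (Nat.le_of_ble_eq_true rfl) rfl

theorem c4584 : Block F al 0 1173760 1108011 :=
  block_comb c4583 b4584 (Nat.zero_le _) (Nat.le_of_ble_eq_true rfl) rfl

theorem c4585 : Block F al 0 1174016 1108267 :=
  block_comb c4584 b4585 (Nat.zero_le _) (Nat.le_of_ble_eq_true rfl) rfl

theorem c4586 : Block F al 0 1174272 1108516 :=
  block_comb c4585 b4586 (Nat.zero_le _) (Nat.le_of_ble_eq_true rfl) rfl

theorem c4587 : Block F al 0 1174528 1108769 :=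
  block_comb c4586 b4587 (Nat.zero_le _) (Nat.le_of_ble_eq_true rfl) rfl

theorem c4588 : Block F al 0 1174784 1109013 :=
  block_comb c4587 b4588 (Nat.zero_le _) (Nat.le_of_ble_eq_true rfl) rfl

theorem c4589 : Block F al 0 1175040 1109266 :=
  block_comb c4588 b4589 (Nat.zero_le _) (Nat.le_of_ble_eq_true rfl) rfl

theorem c4590 : Block F al 0 1175296 1109519 :=
  block_comb c4589 b4590 (Nat.zero_le _) (Nat.le_of_ble_eq_true rfl) rfl

theorem c4591 : Block F al 0 1175552 1109768 :=
  block_comb c4590 b4591 (Nat.zero_le _) (Nat.le_of_ble_eq_true rfl) rfl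

theorem c4592 : Block F al 0 1175808 1110023 :=
  block_comb c4591 b4592 (Nat.zero_le _) (Nat.le_of_ble_eq_true rfl) rfl

theorem c4593 : Block F al 0 1176064 1110274 :=
  block_comb c4592 b4593 (Nat.zero_le _) (Nat.le_of_ble_eq_true rfl) rfl

theorem c4594 : Block F al 0 1176320 1110524 :=
  block_comb c4593 b4594 (Nat.zero_le _) (Nat.le_of_ble_eq_true rfl) rfl

theorem c4595 : Block F al 0 1176576 1110778 :=
  block_comb c4594 b4595 (Nat.zero_le _) (Nat.le_of_ble_eq_true rfl) rfl

theorem c4596 : Block F al 0 1176832 1111030 :=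
  block_comb c4595 b4596 (Nat.zero_le _) (Nat.le_of_ble_eq_true rfl) rfl

theorem c4597 : Block F al 0 1177088 1111283 :=
  block_comb c4596 b4597 (Nat.zero_le _) (Nat.le_of_ble_eq_true rfl) rfl

theorem c4598 : Block F al 0 1177344 1111538 :=
  block_comb c4597 b4598 (Nat.zero_le _) (Nat.le_of_ble_eq_true rfl) rfl

theorem c4599 : Block F al 0 1177600 1111790 :=
  block_comb c4598 b4599 (Nat.zero_le _) (Nat.le_of_ble_eq_true rfl) rfl

theorem c4600 : Block F al 0 1177856 1112041 :=
  block_comb c4599 b4600 (Nat.zero_le _) (Nat.le_of_ble_eq_true rfl) rfl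

theorem c4601 : Block F al 0 1178112 1112291 :=
  block_comb c4600 b4601 (Nat.zero_le _) (Nat.le_of_ble_eq_true rfl) rfl

theorem c4602 : Block F al 0 1178368 1112544 :=
  block_comb c4601 b4602 (Nat.zero_le _) (Nat.le_of_ble_eq_true rfl) rfl

theorem c4603 : Block F al 0 1178624 1112798 :=
  block_comb c4602 b4603 (Nat.zero_le _) (Nat.le_of_ble_eq_true rfl) rfl

theorem c4604 : Block F al 0 1178880 1113053 :=
  block_comb c4603 b4604 (Nat.zero_le _) (Nat.le_of_ble_eq_true rfl) rfl

theorem c4605 : Block F al 0 1179136 1113308 :=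
  block_comb c4604 b4605 (Nat.zero_le _) (Nat.le_of_ble_eq_true rfl) rfl

theorem c4606 : Block F al 0 1179392 1113558 :=
  block_comb c4605 b4606 (Nat.zero_le _) (Nat.le_of_ble_eq_true rfl) rfl

theorem c4607 : Block F al 0 1179648 1113810 :=
  block_comb c4606 b4607 (Nat.zero_le _) (Nat.le_of_ble_eq_true rfl) rfl

theorem c4608 : Block F al 0 1179904 1114062 :=
  block_comb c4607 b4608 (Nat.zero_le _) (Nat.le_of_ble_eq_true rfl) rfl

theorem c4609 : Block F al 0 1180160 1114315 :=
  block_comb c4608 b4609 (Nat.zero_le _) (Nat.le_of_ble_eq_true rfl) rfl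

theorem c4610 : Block F al 0 1180416 1114571 :=
  block_comb c4609 b4610 (Nat.zero_le _) (Nat.le_of_ble_eq_true rfl) rfl

theorem c4611 : Block F al 0 1180672 1114823 :=
  block_comb c4610 b4611 (Nat.zero_le _) (Nat.le_of_ble_eq_true rfl) rfl

theorem c4612 : Block F al 0 1180928 1115075 :=
  block_comb c4611 b4612 (Nat.zero_le _) (Nat.le_of_ble_eq_true rfl) rfl

theorem c4613 : Block F al 0 1181184 1115331 :=
  block_comb c4612 b4613 (Nat.zero_le _) (Nat.le_of_ble_eq_true rfl) rfl

theorem c4614 : Block F al 0 1181440 1115587 :=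
  block_comb c4613 b4614 (Nat.zero_le _) (Nat.le_of_ble_eq_true rfl) rfl

theorem c4615 : Block F al 0 1181696 1115843 :=
  block_comb c4614 b4615 (Nat.zero_le _) (Nat.le_of_ble_eq_true rfl) rfl

theorem c4616 : Block F al 0 1181952 1116097 :=
  block_comb c4615 b4616 (Nat.zero_le _) (Nat.le_of_ble_eq_true rfl) rfl

theorem c4617 : Block F al 0 1182208 1116346 :=
  block_comb c4616 b4617 (Nat.zero_le _) (Nat.le_of_ble_eq_true rfl) rfl

theorem c4618 : Block F al 0 1182464 1116602 :=
  block_comb c4617 b4618 (Nat.zero_le _) (Nat.le_of_ble_eq_true rfl) rfl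

theorem c4619 : Block F al 0 1182720 1116854 :=
  block_comb c4618 b4619 (Nat.zero_le _) (Nat.le_of_ble_eq_true rfl) rfl

theorem c4620 : Block F al 0 1182976 1117105 :=
  block_comb c4619 b4620 (Nat.zero_le _) (Nat.le_of_ble_eq_true rfl) rfl

theorem c4621 : Block F al 0 1183232 1117357 :=
  block_comb c4620 b4621 (Nat.zero_le _) (Nat.le_of_ble_eq_true rfl) rfl

theorem c4622 : Block F al 0 1183488 1117610 :=
  block_comb c4621 b4622 (Nat.zero_le _) (Nat.le_of_ble_eq_true rfl) rfl

theorem c4623 : Block F al 0 1183744 1117863 :=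
  block_comb c4622 b4623 (Nat.zero_le _) (Nat.le_of_ble_eq_true rfl) rfl

theorem c4624 : Block F al 0 1184000 1118118 :=
  block_comb c4623 b4624 (Nat.zero_le _) (Nat.le_of_ble_eq_true rfl) rfl

theorem c4625 : Block F al 0 1184256 1118373 :=
  block_comb c4624 b4625 (Nat.zero_le _) (Nat.le_of_ble_eq_true rfl) rfl

theorem c4626 : Block F al 0 1184512 1118626 :=
  block_comb c4625 b4626 (Nat.zero_le _) (Nat.le_of_ble_eq_true rfl) rfl

theorem c4627 : Block F al 0 1184768 1118879 :=
  block_comb c4626 b4627 (Nat.zero_le _) (Nat.le_of_ble_eq_true rfl) rfl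

theorem c4628 : Block F al 0 1185024 1119135 :=
  block_comb c4627 b4628 (Nat.zero_le _) (Nat.le_of_ble_eq_true rfl) rfl

theorem c4629 : Block F al 0 1185280 1119388 :=
  block_comb c4628 b4629 (Nat.zero_le _) (Nat.le_of_ble_eq_true rfl) rfl

theorem c4630 : Block F al 0 1185536 1119637 :=
  block_comb c4629 b4630 (Nat.zero_le _) (Nat.le_of_ble_eq_true rfl) rfl

theorem c4631 : Block F al 0 1185792 1119893 :=
  block_comb c4630 b4631 (Nat.zero_le _) (Nat.le_of_ble_eq_true rfl) rfl

theorem c4632 : Block F al 0 1186048 1120148 :=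
  block_comb c4631 b4632 (Nat.zero_le _) (Nat.le_of_ble_eq_true rfl) rfl

theorem c4633 : Block F al 0 1186304 1120404 :=
  block_comb c4632 b4633 (Nat.zero_le _) (Nat.le_of_ble_eq_true rfl) rfl

theorem c4634 : Block F al 0 1186560 1120656 :=
  block_comb c4633 b4634 (Nat.zero_le _) (Nat.le_of_ble_eq_true rfl) rfl

theorem c4635 : Block F al 0 1186816 1120910 :=
  block_comb c4634 b4635 (Nat.zero_le _) (Nat.le_of_ble_eq_true rfl) rfl

theorem c4636 : Block F al 0 1187072 1121164 :=
  block_comb c4635 b4636 (Nat.zero_le _) (Nat.le_of_ble_eq_true rfl) rfl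

theorem c4637 : Block F al 0 1187328 1121416 :=
  block_comb c4636 b4637 (Nat.zero_le _) (Nat.le_of_ble_eq_true rfl) rfl

theorem c4638 : Block F al 0 1187584 1121667 :=
  block_comb c4637 b4638 (Nat.zero_le _) (Nat.le_of_ble_eq_true rfl) rfl

theorem c4639 : Block F al 0 1187840 1121917 :=
  block_comb c4638 b4639 (Nat.zero_le _) (Nat.le_of_ble_eq_true rfl) rfl

theorem c4640 : Block F al 0 1188096 1122172 :=
  block_comb c4639 b4640 (Nat.zero_le _) (Nat.le_of_ble_eq_true rfl) rfl

theorem c4641 : Block F al 0 1188352 1122426 :=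
  block_comb c4640 b4641 (Nat.zero_le _) (Nat.le_of_ble_eq_true rfl) rfl

theorem c4642 : Block F al 0 1188608 1122680 :=
  block_comb c4641 b4642 (Nat.zero_le _) (Nat.le_of_ble_eq_true rfl) rfl

theorem c4643 : Block F al 0 1188864 1122923 :=
  block_comb c4642 b4643 (Nat.zero_le _) (Nat.le_of_ble_eq_true rfl) rfl

theorem c4644 : Block F al 0 1189120 1123169 :=
  block_comb c4643 b4644 (Nat.zero_le _) (Nat.le_of_ble_eq_true rfl) rfl

theorem c4645 : Block F al 0 1189376 1123417 :=
  block_comb c4644 b4645 (Nat.zero_le _) (Nat.le_of_ble_eq_true rfl) rfl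

theorem c4646 : Block F al 0 1189632 1123668 :=
  block_comb c4645 b4646 (Nat.zero_le _) (Nat.le_of_ble_eq_true rfl) rfl

theorem c4647 : Block F al 0 1189888 1123924 :=
  block_comb c4646 b4647 (Nat.zero_le _) (Nat.le_of_ble_eq_true rfl) rfl

theorem c4648 : Block F al 0 1190144 1124175 :=
  block_comb c4647 b4648 (Nat.zero_le _) (Nat.le_of_ble_eq_true rfl) rfl

theorem c4649 : Block F al 0 1190400 1124423 :=
  block_comb c4648 b4649 (Nat.zero_le _) (Nat.le_of_ble_eq_true rfl) rfl

theorem c4650 : Block F al 0 1190656 1124667 :=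
  block_comb c4649 b4650 (Nat.zero_le _) (Nat.le_of_ble_eq_true rfl) rfl

theorem c4651 : Block F al 0 1190912 1124917 :=
  block_comb c4650 b4651 (Nat.zero_le _) (Nat.le_of_ble_eq_true rfl) rfl

theorem c4652 : Block F al 0 1191168 1125170 :=
  block_comb c4651 b4652 (Nat.zero_le _) (Nat.le_of_ble_eq_true rfl) rfl

theorem c4653 : Block F al 0 1191424 1125425 :=
  block_comb c4652 b4653 (Nat.zero_le _) (Nat.le_of_ble_eq_true rfl) rfl

theorem c4654 : Block F al 0 1191680 1125677 :=
  block_comb c4653 b4654 (Nat.zero_le _) (Nat.le_of_ble_eq_true rfl) rfl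

theorem c4655 : Block F al 0 1191936 1125925 :=
  block_comb c4654 b4655 (Nat.zero_le _) (Nat.le_of_ble_eq_true rfl) rfl

theorem c4656 : Block F al 0 1192192 1126181 :=
  block_comb c4655 b4656 (Nat.zero_le _) (Nat.le_of_ble_eq_true rfl) rfl

theorem c4657 : Block F al 0 1192448 1126432 :=
  block_comb c4656 b4657 (Nat.zero_le _) (Nat.le_of_ble_eq_true rfl) rfl

theorem c4658 : Block F al 0 1192704 1126679 :=
  block_comb c4657 b4658 (Nat.zero_le _) (Nat.le_of_ble_eq_true rfl) rfl

theorem c4659 : Block F al 0 1192960 1126932 :=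
  block_comb c4658 b4659 (Nat.zero_le _) (Nat.le_of_ble_eq_true rfl) rfl

theorem c4660 : Block F al 0 1193216 1127182 :=
  block_comb c4659 b4660 (Nat.zero_le _) (Nat.le_of_ble_eq_true rfl) rfl

theorem c4661 : Block F al 0 1193472 1127434 :=
  block_comb c4660 b4661 (Nat.zero_le _) (Nat.le_of_ble_eq_true rfl) rfl

theorem c4662 : Block F al 0 1193728 1127689 :=
  block_comb c4661 b4662 (Nat.zero_le _) (Nat.le_of_ble_eq_true rfl) rfl

theorem c4663 : Block F al 0 1193984 1127945 :=
  block_comb c4662 b4663 (Nat.zero_le _) (Nat.le_of_ble_eq_true rfl) rfl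

theorem c4664 : Block F al 0 1194240 1128197 :=
  block_comb c4663 b4664 (Nat.zero_le _) (Nat.le_of_ble_eq_true rfl) rfl

theorem c4665 : Block F al 0 1194496 1128443 :=
  block_comb c4664 b4665 (Nat.zero_le _) (Nat.le_of_ble_eq_true rfl) rfl

theorem c4666 : Block F al 0 1194752 1128699 :=
  block_comb c4665 b4666 (Nat.zero_le _) (Nat.le_of_ble_eq_true rfl) rfl

theorem c4667 : Block F al 0 1195008 1128955 :=
  block_comb c4666 b4667 (Nat.zero_le _) (Nat.le_of_ble_eq_true rfl) rfl

theorem c4668 : Block F al 0 1195264 1129201 :=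
  block_comb c4667 b4668 (Nat.zero_le _) (Nat.le_of_ble_eq_true rfl) rfl

theorem c4669 : Block F al 0 1195520 1129456 :=
  block_comb c4668 b4669 (Nat.zero_le _) (Nat.le_of_ble_eq_true rfl) rfl

theorem c4670 : Block F al 0 1195776 1129712 :=
  block_comb c4669 b4670 (Nat.zero_le _) (Nat.le_of_ble_eq_true rfl) rfl

theorem c4671 : Block F al 0 1196032 1129965 :=
  block_comb c4670 b4671 (Nat.zero_le _) (Nat.le_of_ble_eq_true rfl) rfl

theorem c4672 : Block F al 0 1196288 1130216 :=
  block_comb c4671 b4672 (Nat.zero_le _) (Nat.le_of_ble_eq_true rfl) rfl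

theorem c4673 : Block F al 0 1196544 1130470 :=
  block_comb c4672 b4673 (Nat.zero_le _) (Nat.le_of_ble_eq_true rfl) rfl

theorem c4674 : Block F al 0 1196800 1130720 :=
  block_comb c4673 b4674 (Nat.zero_le _) (Nat.le_of_ble_eq_true rfl) rfl

theorem c4675 : Block F al 0 1197056 1130975 :=
  block_comb c4674 b4675 (Nat.zero_le _) (Nat.le_of_ble_eq_true rfl) rfl

theorem c4676 : Block F al 0 1197312 1131223 :=
  block_comb c4675 b4676 (Nat.zero_le _) (Nat.le_of_ble_eq_true rfl) rfl

theorem c4677 : Block F al 0 1197568 1131479 :=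
  block_comb c4676 b4677 (Nat.zero_le _) (Nat.le_of_ble_eq_true rfl) rfl

theorem c4678 : Block F al 0 1197824 1131733 :=
  block_comb c4677 b4678 (Nat.zero_le _) (Nat.le_of_ble_eq_true rfl) rfl

theorem c4679 : Block F al 0 1198080 1131989 :=
  block_comb c4678 b4679 (Nat.zero_le _) (Nat.le_of_ble_eq_true rfl) rfl

theorem c4680 : Block F al 0 1198336 1132245 :=
  block_comb c4679 b4680 (Nat.zero_le _) (Nat.le_of_ble_eq_true rfl) rfl

theorem c4681 : Block F al 0 1198592 1132500 :=
  block_comb c4680 b4681 (Nat.zero_le _) (Nat.le_of_ble_eq_true rfl) rfl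

theorem c4682 : Block F al 0 1198848 1132754 :=
  block_comb c4681 b4682 (Nat.zero_le _) (Nat.le_of_ble_eq_true rfl) rfl

theorem c4683 : Block F al 0 1199104 1133007 :=
  block_comb c4682 b4683 (Nat.zero_le _) (Nat.le_of_ble_eq_true rfl) rfl

theorem c4684 : Block F al 0 1199360 1133263 :=
  block_comb c4683 b4684 (Nat.zero_le _) (Nat.le_of_ble_eq_true rfl) rfl

theorem c4685 : Block F al 0 1199616 1133519 :=
  block_comb c4684 b4685 (Nat.zero_le _) (Nat.le_of_ble_eq_true rfl) rfl

theorem c4686 : Block F al 0 1199872 1133773 :=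
  block_comb c4685 b4686 (Nat.zero_le _) (Nat.le_of_ble_eq_true rfl) rfl

theorem c4687 : Block F al 0 1200128 1134024 :=
  block_comb c4686 b4687 (Nat.zero_le _) (Nat.le_of_ble_eq_true rfl) rfl

theorem c4688 : Block F al 0 1200384 1134275 :=
  block_comb c4687 b4688 (Nat.zero_le _) (Nat.le_of_ble_eq_true rfl) rfl

theorem c4689 : Block F al 0 1200640 1134529 :=
  block_comb c4688 b4689 (Nat.zero_le _) (Nat.le_of_ble_eq_true rfl) rfl

theorem c4690 : Block F al 0 1200896 1134780 :=
  block_comb c4689 b4690 (Nat.zero_le _) (Nat.le_of_ble_eq_true rfl) rfl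

theorem c4691 : Block F al 0 1201152 1135032 :=
  block_comb c4690 b4691 (Nat.zero_le _) (Nat.le_of_ble_eq_true rfl) rfl

theorem c4692 : Block F al 0 1201408 1135285 :=
  block_comb c4691 b4692 (Nat.zero_le _) (Nat.le_of_ble_eq_true rfl) rfl

theorem c4693 : Block F al 0 1201664 1135541 :=
  block_comb c4692 b4693 (Nat.zero_le _) (Nat.le_of_ble_eq_true rfl) rfl

theorem c4694 : Block F al 0 1201920 1135795 :=
  block_comb c4693 b4694 (Nat.zero_le _) (Nat.le_of_ble_eq_true rfl) rfl

theorem c4695 : Block F al 0 1202176 1136051 :=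
  block_comb c4694 b4695 (Nat.zero_le _) (Nat.le_of_ble_eq_true rfl) rfl

theorem c4696 : Block F al 0 1202432 1136306 :=
  block_comb c4695 b4696 (Nat.zero_le _) (Nat.le_of_ble_eq_true rfl) rfl

theorem c4697 : Block F al 0 1202688 1136561 :=
  block_comb c4696 b4697 (Nat.zero_le _) (Nat.le_of_ble_eq_true rfl) rfl

theorem c4698 : Block F al 0 1202944 1136805 :=
  block_comb c4697 b4698 (Nat.zero_le _) (Nat.le_of_ble_eq_true rfl) rfl

theorem c4699 : Block F al 0 1203200 1137058 :=
  block_comb c4698 b4699 (Nat.zero_le _) (Nat.le_of_ble_eq_true rfl) rfl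

theorem c4700 : Block F al 0 1203456 1137312 :=
  block_comb c4699 b4700 (Nat.zero_le _) (Nat.le_of_ble_eq_true rfl) rfl

theorem c4701 : Block F al 0 1203712 1137568 :=
  block_comb c4700 b4701 (Nat.zero_le _) (Nat.le_of_ble_eq_true rfl) rfl

theorem c4702 : Block F al 0 1203968 1137824 :=
  block_comb c4701 b4702 (Nat.zero_le _) (Nat.le_of_ble_eq_true rfl) rfl

theorem c4703 : Block F al 0 1204224 1138078 :=
  block_comb c4702 b4703 (Nat.zero_le _) (Nat.le_of_ble_eq_true rfl) rfl

theorem c4704 : Block F al 0 1204480 1138332 :=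
  block_comb c4703 b4704 (Nat.zero_le _) (Nat.le_of_ble_eq_true rfl) rfl

theorem c4705 : Block F al 0 1204736 1138584 :=
  block_comb c4704 b4705 (Nat.zero_le _) (Nat.le_of_ble_eq_true rfl) rfl

theorem c4706 : Block F al 0 1204992 1138839 :=
  block_comb c4705 b4706 (Nat.zero_le _) (Nat.le_of_ble_eq_true rfl) rfl

theorem c4707 : Block F al 0 1205248 1139093 :=
  block_comb c4706 b4707 (Nat.zero_le _) (Nat.le_of_ble_eq_true rfl) rfl

theorem c4708 : Block F al 0 1205504 1139348 :=
  block_comb c4707 b4708 (Nat.zero_le _) (Nat.le_of_ble_eq_true rfl) rfl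

theorem c4709 : Block F al 0 1205760 1139602 :=
  block_comb c4708 b4709 (Nat.zero_le _) (Nat.le_of_ble_eq_true rfl) rfl

theorem c4710 : Block F al 0 1206016 1139857 :=
  block_comb c4709 b4710 (Nat.zero_le _) (Nat.le_of_ble_eq_true rfl) rfl

theorem c4711 : Block F al 0 1206272 1140113 :=
  block_comb c4710 b4711 (Nat.zero_le _) (Nat.le_of_ble_eq_true rfl) rfl

theorem c4712 : Block F al 0 1206528 1140365 :=
  block_comb c4711 b4712 (Nat.zero_le _) (Nat.le_of_ble_eq_true rfl) rfl

theorem c4713 : Block F al 0 1206784 1140617 :=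
  block_comb c4712 b4713 (Nat.zero_le _) (Nat.le_of_ble_eq_true rfl) rfl

theorem c4714 : Block F al 0 1207040 1140866 :=
  block_comb c4713 b4714 (Nat.zero_le _) (Nat.le_of_ble_eq_true rfl) rfl

theorem c4715 : Block F al 0 1207296 1141117 :=
  block_comb c4714 b4715 (Nat.zero_le _) (Nat.le_of_ble_eq_true rfl) rfl

theorem c4716 : Block F al 0 1207552 1141373 :=
  block_comb c4715 b4716 (Nat.zero_le _) (Nat.le_of_ble_eq_true rfl) rfl

theorem c4717 : Block F al 0 1207808 1141627 :=
  block_comb c4716 b4717 (Nat.zero_le _) (Nat.le_of_ble_eq_true rfl) rfl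

theorem c4718 : Block F al 0 1208064 1141882 :=
  block_comb c4717 b4718 (Nat.zero_le _) (Nat.le_of_ble_eq_true rfl) rfl

theorem c4719 : Block F al 0 1208320 1142134 :=
  block_comb c4718 b4719 (Nat.zero_le _) (Nat.le_of_ble_eq_true rfl) rfl

theorem c4720 : Block F al 0 1208576 1142386 :=
  block_comb c4719 b4720 (Nat.zero_le _) (Nat.le_of_ble_eq_true rfl) rfl

theorem c4721 : Block F al 0 1208832 1142641 :=
  block_comb c4720 b4721 (Nat.zero_le _) (Nat.le_of_ble_eq_true rfl) rfl

theorem c4722 : Block F al 0 1209088 1142896 :=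
  block_comb c4721 b4722 (Nat.zero_le _) (Nat.le_of_ble_eq_true rfl) rfl

theorem c4723 : Block F al 0 1209344 1143150 :=
  block_comb c4722 b4723 (Nat.zero_le _) (Nat.le_of_ble_eq_true rfl) rfl

theorem c4724 : Block F al 0 1209600 1143404 :=
  block_comb c4723 b4724 (Nat.zero_le _) (Nat.le_of_ble_eq_true rfl) rfl

theorem c4725 : Block F al 0 1209856 1143659 :=
  block_comb c4724 b4725 (Nat.zero_le _) (Nat.le_of_ble_eq_true rfl) rfl

theorem c4726 : Block F al 0 1210112 1143905 :=
  block_comb c4725 b4726 (Nat.zero_le _) (Nat.le_of_ble_eq_true rfl) rfl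

theorem c4727 : Block F al 0 1210368 1144159 :=
  block_comb c4726 b4727 (Nat.zero_le _) (Nat.le_of_ble_eq_true rfl) rfl

theorem c4728 : Block F al 0 1210624 1144412 :=
  block_comb c4727 b4728 (Nat.zero_le _) (Nat.le_of_ble_eq_true rfl) rfl

theorem c4729 : Block F al 0 1210880 1144664 :=
  block_comb c4728 b4729 (Nat.zero_le _) (Nat.le_of_ble_eq_true rfl) rfl

theorem c4730 : Block F al 0 1211136 1144918 :=
  block_comb c4729 b4730 (Nat.zero_le _) (Nat.le_of_ble_eq_true rfl) rfl

theorem c4731 : Block F al 0 1211392 1145173 :=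
  block_comb c4730 b4731 (Nat.zero_le _) (Nat.le_of_ble_eq_true rfl) rfl

theorem c4732 : Block F al 0 1211648 1145420 :=
  block_comb c4731 b4732 (Nat.zero_le _) (Nat.le_of_ble_eq_true rfl) rfl

theorem c4733 : Block F al 0 1211904 1145671 :=
  block_comb c4732 b4733 (Nat.zero_le _) (Nat.le_of_ble_eq_true rfl) rfl

theorem c4734 : Block F al 0 1212160 1145914 :=
  block_comb c4733 b4734 (Nat.zero_le _) (Nat.le_of_ble_eq_true rfl) rfl

theorem c4735 : Block F al 0 1212416 1146169 :=
  block_comb c4734 b4735 (Nat.zero_le _) (Nat.le_of_ble_eq_true rfl) rfl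

theorem c4736 : Block F al 0 1212672 1146423 :=
  block_comb c4735 b4736 (Nat.zero_le _) (Nat.le_of_ble_eq_true rfl) rfl

theorem c4737 : Block F al 0 1212928 1146679 :=
  block_comb c4736 b4737 (Nat.zero_le _) (Nat.le_of_ble_eq_true rfl) rfl

theorem c4738 : Block F al 0 1213184 1146931 :=
  block_comb c4737 b4738 (Nat.zero_le _) (Nat.le_of_ble_eq_true rfl) rfl

theorem c4739 : Block F al 0 1213440 1147186 :=
  block_comb c4738 b4739 (Nat.zero_le _) (Nat.le_of_ble_eq_true rfl) rfl

theorem c4740 : Block F al 0 1213696 1147439 :=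
  block_comb c4739 b4740 (Nat.zero_le _) (Nat.le_of_ble_eq_true rfl) rfl

theorem c4741 : Block F al 0 1213952 1147692 :=
  block_comb c4740 b4741 (Nat.zero_le _) (Nat.le_of_ble_eq_true rfl) rfl

theorem c4742 : Block F al 0 1214208 1147943 :=
  block_comb c4741 b4742 (Nat.zero_le _) (Nat.le_of_ble_eq_true rfl) rfl

theorem c4743 : Block F al 0 1214464 1148197 :=
  block_comb c4742 b4743 (Nat.zero_le _) (Nat.le_of_ble_eq_true rfl) rfl

theorem c4744 : Block F al 0 1214720 1148452 :=
  block_comb c4743 b4744 (Nat.zero_le _) (Nat.le_of_ble_eq_true rfl) rfl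

theorem c4745 : Block F al 0 1214976 1148707 :=
  block_comb c4744 b4745 (Nat.zero_le _) (Nat.le_of_ble_eq_true rfl) rfl

theorem c4746 : Block F al 0 1215232 1148962 :=
  block_comb c4745 b4746 (Nat.zero_le _) (Nat.le_of_ble_eq_true rfl) rfl

theorem c4747 : Block F al 0 1215488 1149216 :=
  block_comb c4746 b4747 (Nat.zero_le _) (Nat.le_of_ble_eq_true rfl) rfl

theorem c4748 : Block F al 0 1215744 1149463 :=
  block_comb c4747 b4748 (Nat.zero_le _) (Nat.le_of_ble_eq_true rfl) rfl

theorem c4749 : Block F al 0 1216000 1149716 :=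
  block_comb c4748 b4749 (Nat.zero_le _) (Nat.le_of_ble_eq_true rfl) rfl

theorem c4750 : Block F al 0 1216256 1149972 :=
  block_comb c4749 b4750 (Nat.zero_le _) (Nat.le_of_ble_eq_true rfl) rfl

theorem c4751 : Block F al 0 1216512 1150227 :=
  block_comb c4750 b4751 (Nat.zero_le _) (Nat.le_of_ble_eq_true rfl) rfl

theorem c4752 : Block F al 0 1216768 1150483 :=
  block_comb c4751 b4752 (Nat.zero_le _) (Nat.le_of_ble_eq_true rfl) rfl

theorem c4753 : Block F al 0 1217024 1150735 :=
  block_comb c4752 b4753 (Nat.zero_le _) (Nat.le_of_ble_eq_true rfl) rfl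

theorem c4754 : Block F al 0 1217280 1150986 :=
  block_comb c4753 b4754 (Nat.zero_le _) (Nat.le_of_ble_eq_true rfl) rfl

theorem c4755 : Block F al 0 1217536 1151239 :=
  block_comb c4754 b4755 (Nat.zero_le _) (Nat.le_of_ble_eq_true rfl) rfl

theorem c4756 : Block F al 0 1217792 1151490 :=
  block_comb c4755 b4756 (Nat.zero_le _) (Nat.le_of_ble_eq_true rfl) rfl

theorem c4757 : Block F al 0 1218048 1151742 :=
  block_comb c4756 b4757 (Nat.zero_le _) (Nat.le_of_ble_eq_true rfl) rfl

theorem c4758 : Block F al 0 1218304 1151994 :=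
  block_comb c4757 b4758 (Nat.zero_le _) (Nat.le_of_ble_eq_true rfl) rfl

theorem c4759 : Block F al 0 1218560 1152246 :=
  block_comb c4758 b4759 (Nat.zero_le _) (Nat.le_of_ble_eq_true rfl) rfl

theorem c4760 : Block F al 0 1218816 1152498 :=
  block_comb c4759 b4760 (Nat.zero_le _) (Nat.le_of_ble_eq_true rfl) rfl

theorem c4761 : Block F al 0 1219072 1152754 :=
  block_comb c4760 b4761 (Nat.zero_le _) (Nat.le_of_ble_eq_true rfl) rfl

theorem c4762 : Block F al 0 1219328 1153008 :=
  block_comb c4761 b4762 (Nat.zero_le _) (Nat.le_of_ble_eq_true rfl) rfl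

theorem c4763 : Block F al 0 1219584 1153257 :=
  block_comb c4762 b4763 (Nat.zero_le _) (Nat.le_of_ble_eq_true rfl) rfl

theorem c4764 : Block F al 0 1219840 1153509 :=
  block_comb c4763 b4764 (Nat.zero_le _) (Nat.le_of_ble_eq_true rfl) rfl

theorem c4765 : Block F al 0 1220096 1153759 :=
  block_comb c4764 b4765 (Nat.zero_le _) (Nat.le_of_ble_eq_true rfl) rfl

theorem c4766 : Block F al 0 1220352 1154013 :=
  block_comb c4765 b4766 (Nat.zero_le _) (Nat.le_of_ble_eq_true rfl) rfl

theorem c4767 : Block F al 0 1220608 1154269 :=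
  block_comb c4766 b4767 (Nat.zero_le _) (Nat.le_of_ble_eq_true rfl) rfl

theorem c4768 : Block F al 0 1220864 1154523 :=
  block_comb c4767 b4768 (Nat.zero_le _) (Nat.le_of_ble_eq_true rfl) rfl

theorem c4769 : Block F al 0 1221120 1154779 :=
  block_comb c4768 b4769 (Nat.zero_le _) (Nat.le_of_ble_eq_true rfl) rfl

theorem c4770 : Block F al 0 1221376 1155031 :=
  block_comb c4769 b4770 (Nat.zero_le _) (Nat.le_of_ble_eq_true rfl) rfl

theorem c4771 : Block F al 0 1221632 1155277 :=
  block_comb c4770 b4771 (Nat.zero_le _) (Nat.le_of_ble_eq_true rfl) rfl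

theorem c4772 : Block F al 0 1221888 1155531 :=
  block_comb c4771 b4772 (Nat.zero_le _) (Nat.le_of_ble_eq_true rfl) rfl

theorem c4773 : Block F al 0 1222144 1155784 :=
  block_comb c4772 b4773 (Nat.zero_le _) (Nat.le_of_ble_eq_true rfl) rfl

theorem c4774 : Block F al 0 1222400 1156040 :=
  block_comb c4773 b4774 (Nat.zero_le _) (Nat.le_of_ble_eq_true rfl) rfl

theorem c4775 : Block F al 0 1222656 1156291 :=
  block_comb c4774 b4775 (Nat.zero_le _) (Nat.le_of_ble_eq_true rfl) rfl

theorem c4776 : Block F al 0 1222912 1156540 :=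
  block_comb c4775 b4776 (Nat.zero_le _) (Nat.le_of_ble_eq_true rfl) rfl

theorem c4777 : Block F al 0 1223168 1156792 :=
  block_comb c4776 b4777 (Nat.zero_le _) (Nat.le_of_ble_eq_true rfl) rfl

theorem c4778 : Block F al 0 1223424 1157041 :=
  block_comb c4777 b4778 (Nat.zero_le _) (Nat.le_of_ble_eq_true rfl) rfl

theorem c4779 : Block F al 0 1223680 1157295 :=
  block_comb c4778 b4779 (Nat.zero_le _) (Nat.le_of_ble_eq_true rfl) rfl

theorem c4780 : Block F al 0 1223936 1157548 :=
  block_comb c4779 b4780 (Nat.zero_le _) (Nat.le_of_ble_eq_true rfl) rfl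

theorem c4781 : Block F al 0 1224192 1157798 :=
  block_comb c4780 b4781 (Nat.zero_le _) (Nat.le_of_ble_eq_true rfl) rfl

theorem c4782 : Block F al 0 1224448 1158054 :=
  block_comb c4781 b4782 (Nat.zero_le _) (Nat.le_of_ble_eq_true rfl) rfl

theorem c4783 : Block F al 0 1224704 1158309 :=
  block_comb c4782 b4783 (Nat.zero_le _) (Nat.le_of_ble_eq_true rfl) rfl

theorem c4784 : Block F al 0 1224960 1158565 :=
  block_comb c4783 b4784 (Nat.zero_le _) (Nat.le_of_ble_eq_true rfl) rfl

theorem c4785 : Block F al 0 1225216 1158820 :=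
  block_comb c4784 b4785 (Nat.zero_le _) (Nat.le_of_ble_eq_true rfl) rfl

theorem c4786 : Block F al 0 1225472 1159076 :=
  block_comb c4785 b4786 (Nat.zero_le _) (Nat.le_of_ble_eq_true rfl) rfl

theorem c4787 : Block F al 0 1225728 1159331 :=
  block_comb c4786 b4787 (Nat.zero_le _) (Nat.le_of_ble_eq_true rfl) rfl

theorem c4788 : Block F al 0 1225984 1159587 :=
  block_comb c4787 b4788 (Nat.zero_le _) (Nat.le_of_ble_eq_true rfl) rfl

theorem c4789 : Block F al 0 1226240 1159841 :=
  block_comb c4788 b4789 (Nat.zero_le _) (Nat.le_of_ble_eq_true rfl) rfl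

theorem c4790 : Block F al 0 1226496 1160097 :=
  block_comb c4789 b4790 (Nat.zero_le _) (Nat.le_of_ble_eq_true rfl) rfl

theorem c4791 : Block F al 0 1226752 1160350 :=
  block_comb c4790 b4791 (Nat.zero_le _) (Nat.le_of_ble_eq_true rfl) rfl

theorem c4792 : Block F al 0 1227008 1160603 :=
  block_comb c4791 b4792 (Nat.zero_le _) (Nat.le_of_ble_eq_true rfl) rfl

theorem c4793 : Block F al 0 1227264 1160859 :=
  block_comb c4792 b4793 (Nat.zero_le _) (Nat.le_of_ble_eq_true rfl) rfl

theorem c4794 : Block F al 0 1227520 1161103 :=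
  block_comb c4793 b4794 (Nat.zero_le _) (Nat.le_of_ble_eq_true rfl) rfl

theorem c4795 : Block F al 0 1227776 1161353 :=
  block_comb c4794 b4795 (Nat.zero_le _) (Nat.le_of_ble_eq_true rfl) rfl

theorem c4796 : Block F al 0 1228032 1161606 :=
  block_comb c4795 b4796 (Nat.zero_le _) (Nat.le_of_ble_eq_true rfl) rfl

theorem c4797 : Block F al 0 1228288 1161857 :=
  block_comb c4796 b4797 (Nat.zero_le _) (Nat.le_of_ble_eq_true rfl) rfl

theorem c4798 : Block F al 0 1228544 1162110 :=
  block_comb c4797 b4798 (Nat.zero_le _) (Nat.le_of_ble_eq_true rfl) rfl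

theorem c4799 : Block F al 0 1228800 1162363 :=
  block_comb c4798 b4799 (Nat.zero_le _) (Nat.le_of_ble_eq_true rfl) rfl

theorem c4800 : Block F al 0 1229056 1162614 :=
  block_comb c4799 b4800 (Nat.zero_le _) (Nat.le_of_ble_eq_true rfl) rfl

theorem c4801 : Block F al 0 1229312 1162868 :=
  block_comb c4800 b4801 (Nat.zero_le _) (Nat.le_of_ble_eq_true rfl) rfl

theorem c4802 : Block F al 0 1229568 1163124 :=
  block_comb c4801 b4802 (Nat.zero_le _) (Nat.le_of_ble_eq_true rfl) rfl

theorem c4803 : Block F al 0 1229824 1163379 :=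
  block_comb c4802 b4803 (Nat.zero_le _) (Nat.le_of_ble_eq_true rfl) rfl

theorem c4804 : Block F al 0 1230080 1163634 :=
  block_comb c4803 b4804 (Nat.zero_le _) (Nat.le_of_ble_eq_true rfl) rfl

theorem c4805 : Block F al 0 1230336 1163887 :=
  block_comb c4804 b4805 (Nat.zero_le _) (Nat.le_of_ble_eq_true rfl) rfl

theorem c4806 : Block F al 0 1230592 1164136 :=
  block_comb c4805 b4806 (Nat.zero_le _) (Nat.le_of_ble_eq_true rfl) rfl

theorem c4807 : Block F al 0 1230848 1164387 :=
  block_comb c4806 b4807 (Nat.zero_le _) (Nat.le_of_ble_eq_true rfl) rfl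

theorem c4808 : Block F al 0 1231104 1164642 :=
  block_comb c4807 b4808 (Nat.zero_le _) (Nat.le_of_ble_eq_true rfl) rfl

theorem c4809 : Block F al 0 1231360 1164895 :=
  block_comb c4808 b4809 (Nat.zero_le _) (Nat.le_of_ble_eq_true rfl) rfl

theorem c4810 : Block F al 0 1231616 1165151 :=
  block_comb c4809 b4810 (Nat.zero_le _) (Nat.le_of_ble_eq_true rfl) rfl

theorem c4811 : Block F al 0 1231872 1165405 :=
  block_comb c4810 b4811 (Nat.zero_le _) (Nat.le_of_ble_eq_true rfl) rfl

theorem c4812 : Block F al 0 1232128 1165659 :=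
  block_comb c4811 b4812 (Nat.zero_le _) (Nat.le_of_ble_eq_true rfl) rfl

theorem c4813 : Block F al 0 1232384 1165914 :=
  block_comb c4812 b4813 (Nat.zero_le _) (Nat.le_of_ble_eq_true rfl) rfl

theorem c4814 : Block F al 0 1232640 1166168 :=
  block_comb c4813 b4814 (Nat.zero_le _) (Nat.le_of_ble_eq_true rfl) rfl

theorem c4815 : Block F al 0 1232896 1166419 :=
  block_comb c4814 b4815 (Nat.zero_le _) (Nat.le_of_ble_eq_true rfl) rfl

theorem c4816 : Block F al 0 1233152 1166675 :=
  block_comb c4815 b4816 (Nat.zero_le _) (Nat.le_of_ble_eq_true rfl) rfl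

theorem c4817 : Block F al 0 1233408 1166931 :=
  block_comb c4816 b4817 (Nat.zero_le _) (Nat.le_of_ble_eq_true rfl) rfl

theorem c4818 : Block F al 0 1233664 1167185 :=
  block_comb c4817 b4818 (Nat.zero_le _) (Nat.le_of_ble_eq_true rfl) rfl

theorem c4819 : Block F al 0 1233920 1167440 :=
  block_comb c4818 b4819 (Nat.zero_le _) (Nat.le_of_ble_eq_true rfl) rfl

theorem c4820 : Block F al 0 1234176 1167694 :=
  block_comb c4819 b4820 (Nat.zero_le _) (Nat.le_of_ble_eq_true rfl) rfl

theorem c4821 : Block F al 0 1234432 1167948 :=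
  block_comb c4820 b4821 (Nat.zero_le _) (Nat.le_of_ble_eq_true rfl) rfl

theorem c4822 : Block F al 0 1234688 1168204 :=
  block_comb c4821 b4822 (Nat.zero_le _) (Nat.le_of_ble_eq_true rfl) rfl

theorem c4823 : Block F al 0 1234944 1168453 :=
  block_comb c4822 b4823 (Nat.zero_le _) (Nat.le_of_ble_eq_true rfl) rfl

theorem c4824 : Block F al 0 1235200 1168706 :=
  block_comb c4823 b4824 (Nat.zero_le _) (Nat.le_of_ble_eq_true rfl) rfl

theorem c4825 : Block F al 0 1235456 1168962 :=
  block_comb c4824 b4825 (Nat.zero_le _) (Nat.le_of_ble_eq_true rfl) rfl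

theorem c4826 : Block F al 0 1235712 1169218 :=
  block_comb c4825 b4826 (Nat.zero_le _) (Nat.le_of_ble_eq_true rfl) rfl

theorem c4827 : Block F al 0 1235968 1169474 :=
  block_comb c4826 b4827 (Nat.zero_le _) (Nat.le_of_ble_eq_true rfl) rfl

theorem c4828 : Block F al 0 1236224 1169726 :=
  block_comb c4827 b4828 (Nat.zero_le _) (Nat.le_of_ble_eq_true rfl) rfl

theorem c4829 : Block F al 0 1236480 1169981 :=
  block_comb c4828 b4829 (Nat.zero_le _) (Nat.le_of_ble_eq_true rfl) rfl

theorem c4830 : Block F al 0 1236736 1170228 :=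
  block_comb c4829 b4830 (Nat.zero_le _) (Nat.le_of_ble_eq_true rfl) rfl

theorem c4831 : Block F al 0 1236992 1170484 :=
  block_comb c4830 b4831 (Nat.zero_le _) (Nat.le_of_ble_eq_true rfl) rfl

theorem c4832 : Block F al 0 1237248 1170740 :=
  block_comb c4831 b4832 (Nat.zero_le _) (Nat.le_of_ble_eq_true rfl) rfl

theorem c4833 : Block F al 0 1237504 1170990 :=
  block_comb c4832 b4833 (Nat.zero_le _) (Nat.le_of_ble_eq_true rfl) rfl

theorem c4834 : Block F al 0 1237760 1171246 :=
  block_comb c4833 b4834 (Nat.zero_le _) (Nat.le_of_ble_eq_true rfl) rfl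

theorem c4835 : Block F al 0 1238016 1171502 :=
  block_comb c4834 b4835 (Nat.zero_le _) (Nat.le_of_ble_eq_true rfl) rfl

theorem c4836 : Block F al 0 1238272 1171755 :=
  block_comb c4835 b4836 (Nat.zero_le _) (Nat.le_of_ble_eq_true rfl) rfl

theorem c4837 : Block F al 0 1238528 1172008 :=
  block_comb c4836 b4837 (Nat.zero_le _) (Nat.le_of_ble_eq_true rfl) rfl

theorem c4838 : Block F al 0 1238784 1172264 :=
  block_comb c4837 b4838 (Nat.zero_le _) (Nat.le_of_ble_eq_true rfl) rfl

theorem c4839 : Block F al 0 1239040 1172520 :=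
  block_comb c4838 b4839 (Nat.zero_le _) (Nat.le_of_ble_eq_true rfl) rfl

theorem c4840 : Block F al 0 1239296 1172776 :=
  block_comb c4839 b4840 (Nat.zero_le _) (Nat.le_of_ble_eq_true rfl) rfl

theorem c4841 : Block F al 0 1239552 1173032 :=
  block_comb c4840 b4841 (Nat.zero_le _) (Nat.le_of_ble_eq_true rfl) rfl

theorem c4842 : Block F al 0 1239808 1173288 :=
  block_comb c4841 b4842 (Nat.zero_le _) (Nat.le_of_ble_eq_true rfl) rfl

theorem c4843 : Block F al 0 1240064 1173544 :=
  block_comb c4842 b4843 (Nat.zero_le _) (Nat.le_of_ble_eq_true rfl) rfl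

theorem c4844 : Block F al 0 1240320 1173795 :=
  block_comb c4843 b4844 (Nat.zero_le _) (Nat.le_of_ble_eq_true rfl) rfl

theorem c4845 : Block F al 0 1240576 1174050 :=
  block_comb c4844 b4845 (Nat.zero_le _) (Nat.le_of_ble_eq_true rfl) rfl

theorem c4846 : Block F al 0 1240832 1174305 :=
  block_comb c4845 b4846 (Nat.zero_le _) (Nat.le_of_ble_eq_true rfl) rfl

theorem c4847 : Block F al 0 1241088 1174559 :=
  block_comb c4846 b4847 (Nat.zero_le _) (Nat.le_of_ble_eq_true rfl) rfl

theorem c4848 : Block F al 0 1241344 1174815 :=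
  block_comb c4847 b4848 (Nat.zero_le _) (Nat.le_of_ble_eq_true rfl) rfl

theorem c4849 : Block F al 0 1241600 1175068 :=
  block_comb c4848 b4849 (Nat.zero_le _) (Nat.le_of_ble_eq_true rfl) rfl

theorem c4850 : Block F al 0 1241856 1175321 :=
  block_comb c4849 b4850 (Nat.zero_le _) (Nat.le_of_ble_eq_true rfl) rfl

theorem c4851 : Block F al 0 1242112 1175574 :=
  block_comb c4850 b4851 (Nat.zero_le _) (Nat.le_of_ble_eq_true rfl) rfl

theorem c4852 : Block F al 0 1242368 1175827 :=
  block_comb c4851 b4852 (Nat.zero_le _) (Nat.le_of_ble_eq_true rfl) rfl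

theorem c4853 : Block F al 0 1242624 1176082 :=
  block_comb c4852 b4853 (Nat.zero_le _) (Nat.le_of_ble_eq_true rfl) rfl

theorem c4854 : Block F al 0 1242880 1176338 :=
  block_comb c4853 b4854 (Nat.zero_le _) (Nat.le_of_ble_eq_true rfl) rfl

theorem c4855 : Block F al 0 1243136 1176594 :=
  block_comb c4854 b4855 (Nat.zero_le _) (Nat.le_of_ble_eq_true rfl) rfl

theorem c4856 : Block F al 0 1243392 1176849 :=
  block_comb c4855 b4856 (Nat.zero_le _) (Nat.le_of_ble_eq_true rfl) rfl

theorem c4857 : Block F al 0 1243648 1177105 :=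
  block_comb c4856 b4857 (Nat.zero_le _) (Nat.le_of_ble_eq_true rfl) rfl

theorem c4858 : Block F al 0 1243904 1177361 :=
  block_comb c4857 b4858 (Nat.zero_le _) (Nat.le_of_ble_eq_true rfl) rfl

theorem c4859 : Block F al 0 1244160 1177617 :=
  block_comb c4858 b4859 (Nat.zero_le _) (Nat.le_of_ble_eq_true rfl) rfl

theorem c4860 : Block F al 0 1244416 1177865 :=
  block_comb c4859 b4860 (Nat.zero_le _) (Nat.le_of_ble_eq_true rfl) rfl

theorem c4861 : Block F al 0 1244672 1178121 :=
  block_comb c4860 b4861 (Nat.zero_le _) (Nat.le_of_ble_eq_true rfl) rfl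

theorem c4862 : Block F al 0 1244928 1178375 :=
  block_comb c4861 b4862 (Nat.zero_le _) (Nat.le_of_ble_eq_true rfl) rfl

theorem c4863 : Block F al 0 1245184 1178628 :=
  block_comb c4862 b4863 (Nat.zero_le _) (Nat.le_of_ble_eq_true rfl) rfl

theorem c4864 : Block F al 0 1245440 1178882 :=
  block_comb c4863 b4864 (Nat.zero_le _) (Nat.le_of_ble_eq_true rfl) rfl

theorem c4865 : Block F al 0 1245696 1179138 :=
  block_comb c4864 b4865 (Nat.zero_le _) (Nat.le_of_ble_eq_true rfl) rfl

theorem c4866 : Block F al 0 1245952 1179390 :=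
  block_comb c4865 b4866 (Nat.zero_le _) (Nat.le_of_ble_eq_true rfl) rfl

theorem c4867 : Block F al 0 1246208 1179644 :=
  block_comb c4866 b4867 (Nat.zero_le _) (Nat.le_of_ble_eq_true rfl) rfl

theorem c4868 : Block F al 0 1246464 1179900 :=
  block_comb c4867 b4868 (Nat.zero_le _) (Nat.le_of_ble_eq_true rfl) rfl

theorem c4869 : Block F al 0 1246720 1180156 :=
  block_comb c4868 b4869 (Nat.zero_le _) (Nat.le_of_ble_eq_true rfl) rfl

theorem c4870 : Block F al 0 1246976 1180412 :=
  block_comb c4869 b4870 (Nat.zero_le _) (Nat.le_of_ble_eq_true rfl) rfl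

theorem c4871 : Block F al 0 1247232 1180662 :=
  block_comb c4870 b4871 (Nat.zero_le _) (Nat.le_of_ble_eq_true rfl) rfl

theorem c4872 : Block F al 0 1247488 1180917 :=
  block_comb c4871 b4872 (Nat.zero_le _) (Nat.le_of_ble_eq_true rfl) rfl

theorem c4873 : Block F al 0 1247744 1181173 :=
  block_comb c4872 b4873 (Nat.zero_le _) (Nat.le_of_ble_eq_true rfl) rfl

theorem c4874 : Block F al 0 1248000 1181429 :=
  block_comb c4873 b4874 (Nat.zero_le _) (Nat.le_of_ble_eq_true rfl) rfl

theorem c4875 : Block F al 0 1248256 1181683 :=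
  block_comb c4874 b4875 (Nat.zero_le _) (Nat.le_of_ble_eq_true rfl) rfl

theorem c4876 : Block F al 0 1248512 1181939 :=
  block_comb c4875 b4876 (Nat.zero_le _) (Nat.le_of_ble_eq_true rfl) rfl

theorem c4877 : Block F al 0 1248768 1182195 :=
  block_comb c4876 b4877 (Nat.zero_le _) (Nat.le_of_ble_eq_true rfl) rfl

theorem c4878 : Block F al 0 1249024 1182451 :=
  block_comb c4877 b4878 (Nat.zero_le _) (Nat.le_of_ble_eq_true rfl) rfl

theorem c4879 : Block F al 0 1249280 1182703 :=
  block_comb c4878 b4879 (Nat.zero_le _) (Nat.le_of_ble_eq_true rfl) rfl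

theorem c4880 : Block F al 0 1249536 1182958 :=
  block_comb c4879 b4880 (Nat.zero_le _) (Nat.le_of_ble_eq_true rfl) rfl

theorem c4881 : Block F al 0 1249792 1183213 :=
  block_comb c4880 b4881 (Nat.zero_le _) (Nat.le_of_ble_eq_true rfl) rfl

theorem c4882 : Block F al 0 1250048 1183468 :=
  block_comb c4881 b4882 (Nat.zero_le _) (Nat.le_of_ble_eq_true rfl) rfl

theorem c4883 : Block F al 0 1250304 1183723 :=
  block_comb c4882 b4883 (Nat.zero_le _) (Nat.le_of_ble_eq_true rfl) rfl

theorem c4884 : Block F al 0 1250560 1183979 :=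
  block_comb c4883 b4884 (Nat.zero_le _) (Nat.le_of_ble_eq_true rfl) rfl

theorem c4885 : Block F al 0 1250816 1184233 :=
  block_comb c4884 b4885 (Nat.zero_le _) (Nat.le_of_ble_eq_true rfl) rfl

theorem c4886 : Block F al 0 1251072 1184488 :=
  block_comb c4885 b4886 (Nat.zero_le _) (Nat.le_of_ble_eq_true rfl) rfl

theorem c4887 : Block F al 0 1251328 1184740 :=
  block_comb c4886 b4887 (Nat.zero_le _) (Nat.le_of_ble_eq_true rfl) rfl

theorem c4888 : Block F al 0 1251584 1184993 :=
  block_comb c4887 b4888 (Nat.zero_le _) (Nat.le_of_ble_eq_true rfl) rfl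

theorem c4889 : Block F al 0 1251840 1185248 :=
  block_comb c4888 b4889 (Nat.zero_le _) (Nat.le_of_ble_eq_true rfl) rfl

theorem c4890 : Block F al 0 1252096 1185503 :=
  block_comb c4889 b4890 (Nat.zero_le _) (Nat.le_of_ble_eq_true rfl) rfl

theorem c4891 : Block F al 0 1252352 1185758 :=
  block_comb c4890 b4891 (Nat.zero_le _) (Nat.le_of_ble_eq_true rfl) rfl

theorem c4892 : Block F al 0 1252608 1186012 :=
  block_comb c4891 b4892 (Nat.zero_le _) (Nat.le_of_ble_eq_true rfl) rfl

theorem c4893 : Block F al 0 1252864 1186263 :=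
  block_comb c4892 b4893 (Nat.zero_le _) (Nat.le_of_ble_eq_true rfl) rfl

theorem c4894 : Block F al 0 1253120 1186518 :=
  block_comb c4893 b4894 (Nat.zero_le _) (Nat.le_of_ble_eq_true rfl) rfl

theorem c4895 : Block F al 0 1253376 1186774 :=
  block_comb c4894 b4895 (Nat.zero_le _) (Nat.le_of_ble_eq_true rfl) rfl

theorem c4896 : Block F al 0 1253632 1187026 :=
  block_comb c4895 b4896 (Nat.zero_le _) (Nat.le_of_ble_eq_true rfl) rfl

theorem c4897 : Block F al 0 1253888 1187280 :=
  block_comb c4896 b4897 (Nat.zero_le _) (Nat.le_of_ble_eq_true rfl) rfl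

theorem c4898 : Block F al 0 1254144 1187529 :=
  block_comb c4897 b4898 (Nat.zero_le _) (Nat.le_of_ble_eq_true rfl) rfl

theorem c4899 : Block F al 0 1254400 1187785 :=
  block_comb c4898 b4899 (Nat.zero_le _) (Nat.le_of_ble_eq_true rfl) rfl

theorem c4900 : Block F al 0 1254656 1188041 :=
  block_comb c4899 b4900 (Nat.zero_le _) (Nat.le_of_ble_eq_true rfl) rfl

theorem c4901 : Block F al 0 1254912 1188293 :=
  block_comb c4900 b4901 (Nat.zero_le _) (Nat.le_of_ble_eq_true rfl) rfl

theorem c4902 : Block F al 0 1255168 1188549 :=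
  block_comb c4901 b4902 (Nat.zero_le _) (Nat.le_of_ble_eq_true rfl) rfl

theorem c4903 : Block F al 0 1255424 1188804 :=
  block_comb c4902 b4903 (Nat.zero_le _) (Nat.le_of_ble_eq_true rfl) rfl

theorem c4904 : Block F al 0 1255680 1189060 :=
  block_comb c4903 b4904 (Nat.zero_le _) (Nat.le_of_ble_eq_true rfl) rfl

theorem c4905 : Block F al 0 1255936 1189309 :=
  block_comb c4904 b4905 (Nat.zero_le _) (Nat.le_of_ble_eq_true rfl) rfl

theorem c4906 : Block F al 0 1256192 1189561 :=
  block_comb c4905 b4906 (Nat.zero_le _) (Nat.le_of_ble_eq_true rfl) rfl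

theorem c4907 : Block F al 0 1256448 1189814 :=
  block_comb c4906 b4907 (Nat.zero_le _) (Nat.le_of_ble_eq_true rfl) rfl

theorem c4908 : Block F al 0 1256704 1190070 :=
  block_comb c4907 b4908 (Nat.zero_le _) (Nat.le_of_ble_eq_true rfl) rfl

theorem c4909 : Block F al 0 1256960 1190325 :=
  block_comb c4908 b4909 (Nat.zero_le _) (Nat.le_of_ble_eq_true rfl) rfl

theorem c4910 : Block F al 0 1257216 1190581 :=
  block_comb c4909 b4910 (Nat.zero_le _) (Nat.le_of_ble_eq_true rfl) rfl

theorem c4911 : Block F al 0 1257472 1190826 :=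
  block_comb c4910 b4911 (Nat.zero_le _) (Nat.le_of_ble_eq_true rfl) rfl

theorem c4912 : Block F al 0 1257728 1191081 :=
  block_comb c4911 b4912 (Nat.zero_le _) (Nat.le_of_ble_eq_true rfl) rfl

theorem c4913 : Block F al 0 1257984 1191336 :=
  block_comb c4912 b4913 (Nat.zero_le _) (Nat.le_of_ble_eq_true rfl) rfl

theorem c4914 : Block F al 0 1258240 1191592 :=
  block_comb c4913 b4914 (Nat.zero_le _) (Nat.le_of_ble_eq_true rfl) rfl

theorem c4915 : Block F al 0 1258496 1191847 :=
  block_comb c4914 b4915 (Nat.zero_le _) (Nat.le_of_ble_eq_true rfl) rfl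

theorem c4916 : Block F al 0 1258752 1192102 :=
  block_comb c4915 b4916 (Nat.zero_le _) (Nat.le_of_ble_eq_true rfl) rfl

theorem c4917 : Block F al 0 1259008 1192357 :=
  block_comb c4916 b4917 (Nat.zero_le _) (Nat.le_of_ble_eq_true rfl) rfl

theorem c4918 : Block F al 0 1259264 1192609 :=
  block_comb c4917 b4918 (Nat.zero_le _) (Nat.le_of_ble_eq_true rfl) rfl

theorem c4919 : Block F al 0 1259520 1192861 :=
  block_comb c4918 b4919 (Nat.zero_le _) (Nat.le_of_ble_eq_true rfl) rfl

theorem c4920 : Block F al 0 1259776 1193117 :=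
  block_comb c4919 b4920 (Nat.zero_le _) (Nat.le_of_ble_eq_true rfl) rfl

theorem c4921 : Block F al 0 1260032 1193372 :=
  block_comb c4920 b4921 (Nat.zero_le _) (Nat.le_of_ble_eq_true rfl) rfl

theorem c4922 : Block F al 0 1260288 1193628 :=
  block_comb c4921 b4922 (Nat.zero_le _) (Nat.le_of_ble_eq_true rfl) rfl

theorem c4923 : Block F al 0 1260544 1193878 :=
  block_comb c4922 b4923 (Nat.zero_le _) (Nat.le_of_ble_eq_true rfl) rfl

theorem c4924 : Block F al 0 1260800 1194133 :=
  block_comb c4923 b4924 (Nat.zero_le _) (Nat.le_of_ble_eq_true rfl) rfl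

theorem c4925 : Block F al 0 1261056 1194386 :=
  block_comb c4924 b4925 (Nat.zero_le _) (Nat.le_of_ble_eq_true rfl) rfl

theorem c4926 : Block F al 0 1261312 1194637 :=
  block_comb c4925 b4926 (Nat.zero_le _) (Nat.le_of_ble_eq_true rfl) rfl

theorem c4927 : Block F al 0 1261568 1194893 :=
  block_comb c4926 b4927 (Nat.zero_le _) (Nat.le_of_ble_eq_true rfl) rfl

theorem c4928 : Block F al 0 1261824 1195145 :=
  block_comb c4927 b4928 (Nat.zero_le _) (Nat.le_of_ble_eq_true rfl) rfl

theorem c4929 : Block F al 0 1262080 1195400 :=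
  block_comb c4928 b4929 (Nat.zero_le _) (Nat.le_of_ble_eq_true rfl) rfl

theorem c4930 : Block F al 0 1262336 1195654 :=
  block_comb c4929 b4930 (Nat.zero_le _) (Nat.le_of_ble_eq_true rfl) rfl

theorem c4931 : Block F al 0 1262592 1195904 :=
  block_comb c4930 b4931 (Nat.zero_le _) (Nat.le_of_ble_eq_true rfl) rfl

theorem c4932 : Block F al 0 1262848 1196160 :=
  block_comb c4931 b4932 (Nat.zero_le _) (Nat.le_of_ble_eq_true rfl) rfl

theorem c4933 : Block F al 0 1263104 1196406 :=
  block_comb c4932 b4933 (Nat.zero_le _) (Nat.le_of_ble_eq_true rfl) rfl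

theorem c4934 : Block F al 0 1263360 1196660 :=
  block_comb c4933 b4934 (Nat.zero_le _) (Nat.le_of_ble_eq_true rfl) rfl

theorem c4935 : Block F al 0 1263616 1196916 :=
  block_comb c4934 b4935 (Nat.zero_le _) (Nat.le_of_ble_eq_true rfl) rfl

theorem c4936 : Block F al 0 1263872 1197172 :=
  block_comb c4935 b4936 (Nat.zero_le _) (Nat.le_of_ble_eq_true rfl) rfl

theorem c4937 : Block F al 0 1264128 1197424 :=
  block_comb c4936 b4937 (Nat.zero_le _) (Nat.le_of_ble_eq_true rfl) rfl

theorem c4938 : Block F al 0 1264384 1197679 :=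
  block_comb c4937 b4938 (Nat.zero_le _) (Nat.le_of_ble_eq_true rfl) rfl

theorem c4939 : Block F al 0 1264640 1197934 :=
  block_comb c4938 b4939 (Nat.zero_le _) (Nat.le_of_ble_eq_true rfl) rfl

theorem c4940 : Block F al 0 1264896 1198188 :=
  block_comb c4939 b4940 (Nat.zero_le _) (Nat.le_of_ble_eq_true rfl) rfl

theorem c4941 : Block F al 0 1265152 1198440 :=
  block_comb c4940 b4941 (Nat.zero_le _) (Nat.le_of_ble_eq_true rfl) rfl

theorem c4942 : Block F al 0 1265408 1198693 :=
  block_comb c4941 b4942 (Nat.zero_le _) (Nat.le_of_ble_eq_true rfl) rfl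

theorem c4943 : Block F al 0 1265664 1198949 :=
  block_comb c4942 b4943 (Nat.zero_le _) (Nat.le_of_ble_eq_true rfl) rfl

theorem c4944 : Block F al 0 1265920 1199204 :=
  block_comb c4943 b4944 (Nat.zero_le _) (Nat.le_of_ble_eq_true rfl) rfl

theorem c4945 : Block F al 0 1266176 1199460 :=
  block_comb c4944 b4945 (Nat.zero_le _) (Nat.le_of_ble_eq_true rfl) rfl

theorem c4946 : Block F al 0 1266432 1199713 :=
  block_comb c4945 b4946 (Nat.zero_le _) (Nat.le_of_ble_eq_true rfl) rfl

theorem c4947 : Block F al 0 1266688 1199969 :=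
  block_comb c4946 b4947 (Nat.zero_le _) (Nat.le_of_ble_eq_true rfl) rfl

theorem c4948 : Block F al 0 1266944 1200223 :=
  block_comb c4947 b4948 (Nat.zero_le _) (Nat.le_of_ble_eq_true rfl) rfl

theorem c4949 : Block F al 0 1267200 1200478 :=
  block_comb c4948 b4949 (Nat.zero_le _) (Nat.le_of_ble_eq_true rfl) rfl

theorem c4950 : Block F al 0 1267456 1200730 :=
  block_comb c4949 b4950 (Nat.zero_le _) (Nat.le_of_ble_eq_true rfl) rfl

theorem c4951 : Block F al 0 1267712 1200979 :=
  block_comb c4950 b4951 (Nat.zero_le _) (Nat.le_of_ble_eq_true rfl) rfl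

theorem c4952 : Block F al 0 1267968 1201234 :=
  block_comb c4951 b4952 (Nat.zero_le _) (Nat.le_of_ble_eq_true rfl) rfl

theorem c4953 : Block F al 0 1268224 1201486 :=
  block_comb c4952 b4953 (Nat.zero_le _) (Nat.le_of_ble_eq_true rfl) rfl

theorem c4954 : Block F al 0 1268480 1201739 :=
  block_comb c4953 b4954 (Nat.zero_le _) (Nat.le_of_ble_eq_true rfl) rfl

theorem c4955 : Block F al 0 1268736 1201995 :=
  block_comb c4954 b4955 (Nat.zero_le _) (Nat.le_of_ble_eq_true rfl) rfl

theorem c4956 : Block F al 0 1268992 1202250 :=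
  block_comb c4955 b4956 (Nat.zero_le _) (Nat.le_of_ble_eq_true rfl) rfl

theorem c4957 : Block F al 0 1269248 1202506 :=
  block_comb c4956 b4957 (Nat.zero_le _) (Nat.le_of_ble_eq_true rfl) rfl

theorem c4958 : Block F al 0 1269504 1202762 :=
  block_comb c4957 b4958 (Nat.zero_le _) (Nat.le_of_ble_eq_true rfl) rfl

theorem c4959 : Block F al 0 1269760 1203016 :=
  block_comb c4958 b4959 (Nat.zero_le _) (Nat.le_of_ble_eq_true rfl) rfl

theorem c4960 : Block F al 0 1270016 1203266 :=
  block_comb c4959 b4960 (Nat.zero_le _) (Nat.le_of_ble_eq_true rfl) rfl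

theorem c4961 : Block F al 0 1270272 1203518 :=
  block_comb c4960 b4961 (Nat.zero_le _) (Nat.le_of_ble_eq_true rfl) rfl

theorem c4962 : Block F al 0 1270528 1203771 :=
  block_comb c4961 b4962 (Nat.zero_le _) (Nat.le_of_ble_eq_true rfl) rfl

theorem c4963 : Block F al 0 1270784 1204027 :=
  block_comb c4962 b4963 (Nat.zero_le _) (Nat.le_of_ble_eq_true rfl) rfl

theorem c4964 : Block F al 0 1271040 1204281 :=
  block_comb c4963 b4964 (Nat.zero_le _) (Nat.le_of_ble_eq_true rfl) rfl

theorem c4965 : Block F al 0 1271296 1204535 :=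
  block_comb c4964 b4965 (Nat.zero_le _) (Nat.le_of_ble_eq_true rfl) rfl

theorem c4966 : Block F al 0 1271552 1204787 :=
  block_comb c4965 b4966 (Nat.zero_le _) (Nat.le_of_ble_eq_true rfl) rfl

theorem c4967 : Block F al 0 1271808 1205043 :=
  block_comb c4966 b4967 (Nat.zero_le _) (Nat.le_of_ble_eq_true rfl) rfl

theorem c4968 : Block F al 0 1272064 1205299 :=
  block_comb c4967 b4968 (Nat.zero_le _) (Nat.le_of_ble_eq_true rfl) rfl

theorem c4969 : Block F al 0 1272320 1205553 :=
  block_comb c4968 b4969 (Nat.zero_le _) (Nat.le_of_ble_eq_true rfl) rfl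

theorem c4970 : Block F al 0 1272576 1205807 :=
  block_comb c4969 b4970 (Nat.zero_le _) (Nat.le_of_ble_eq_true rfl) rfl

theorem c4971 : Block F al 0 1272832 1206061 :=
  block_comb c4970 b4971 (Nat.zero_le _) (Nat.le_of_ble_eq_true rfl) rfl

theorem c4972 : Block F al 0 1273088 1206317 :=
  block_comb c4971 b4972 (Nat.zero_le _) (Nat.le_of_ble_eq_true rfl) rfl

theorem c4973 : Block F al 0 1273344 1206571 :=
  block_comb c4972 b4973 (Nat.zero_le _) (Nat.le_of_ble_eq_true rfl) rfl

theorem c4974 : Block F al 0 1273600 1206818 :=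
  block_comb c4973 b4974 (Nat.zero_le _) (Nat.le_of_ble_eq_true rfl) rfl

theorem c4975 : Block F al 0 1273856 1207064 :=
  block_comb c4974 b4975 (Nat.zero_le _) (Nat.le_of_ble_eq_true rfl) rfl

theorem c4976 : Block F al 0 1274112 1207312 :=
  block_comb c4975 b4976 (Nat.zero_le _) (Nat.le_of_ble_eq_true rfl) rfl

theorem c4977 : Block F al 0 1274368 1207564 :=
  block_comb c4976 b4977 (Nat.zero_le _) (Nat.le_of_ble_eq_true rfl) rfl

theorem c4978 : Block F al 0 1274624 1207820 :=
  block_comb c4977 b4978 (Nat.zero_le _) (Nat.le_of_ble_eq_true rfl) rfl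

theorem c4979 : Block F al 0 1274880 1208073 :=
  block_comb c4978 b4979 (Nat.zero_le _) (Nat.le_of_ble_eq_true rfl) rfl

theorem c4980 : Block F al 0 1275136 1208326 :=
  block_comb c4979 b4980 (Nat.zero_le _) (Nat.le_of_ble_eq_true rfl) rfl

theorem c4981 : Block F al 0 1275392 1208578 :=
  block_comb c4980 b4981 (Nat.zero_le _) (Nat.le_of_ble_eq_true rfl) rfl

theorem c4982 : Block F al 0 1275648 1208830 :=
  block_comb c4981 b4982 (Nat.zero_le _) (Nat.le_of_ble_eq_true rfl) rfl

theorem c4983 : Block F al 0 1275904 1209083 :=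
  block_comb c4982 b4983 (Nat.zero_le _) (Nat.le_of_ble_eq_true rfl) rfl

theorem c4984 : Block F al 0 1276160 1209339 :=
  block_comb c4983 b4984 (Nat.zero_le _) (Nat.le_of_ble_eq_true rfl) rfl

theorem c4985 : Block F al 0 1276416 1209594 :=
  block_comb c4984 b4985 (Nat.zero_le _) (Nat.le_of_ble_eq_true rfl) rfl

theorem c4986 : Block F al 0 1276672 1209850 :=
  block_comb c4985 b4986 (Nat.zero_le _) (Nat.le_of_ble_eq_true rfl) rfl

theorem c4987 : Block F al 0 1276928 1210106 :=
  block_comb c4986 b4987 (Nat.zero_le _) (Nat.le_of_ble_eq_true rfl) rfl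

theorem c4988 : Block F al 0 1277184 1210362 :=
  block_comb c4987 b4988 (Nat.zero_le _) (Nat.le_of_ble_eq_true rfl) rfl

theorem c4989 : Block F al 0 1277440 1210618 :=
  block_comb c4988 b4989 (Nat.zero_le _) (Nat.le_of_ble_eq_true rfl) rfl

theorem c4990 : Block F al 0 1277696 1210874 :=
  block_comb c4989 b4990 (Nat.zero_le _) (Nat.le_of_ble_eq_true rfl) rfl

theorem c4991 : Block F al 0 1277952 1211130 :=
  block_comb c4990 b4991 (Nat.zero_le _) (Nat.le_of_ble_eq_true rfl) rfl

theorem c4992 : Block F al 0 1278208 1211386 :=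
  block_comb c4991 b4992 (Nat.zero_le _) (Nat.le_of_ble_eq_true rfl) rfl

theorem c4993 : Block F al 0 1278464 1211642 :=
  block_comb c4992 b4993 (Nat.zero_le _) (Nat.le_of_ble_eq_true rfl) rfl

theorem c4994 : Block F al 0 1278720 1211896 :=
  block_comb c4993 b4994 (Nat.zero_le _) (Nat.le_of_ble_eq_true rfl) rfl

theorem c4995 : Block F al 0 1278976 1212150 :=
  block_comb c4994 b4995 (Nat.zero_le _) (Nat.le_of_ble_eq_true rfl) rfl

theorem c4996 : Block F al 0 1279232 1212405 :=
  block_comb c4995 b4996 (Nat.zero_le _) (Nat.le_of_ble_eq_true rfl) rfl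

theorem c4997 : Block F al 0 1279488 1212661 :=
  block_comb c4996 b4997 (Nat.zero_le _) (Nat.le_of_ble_eq_true rfl) rfl

theorem c4998 : Block F al 0 1279744 1212917 :=
  block_comb c4997 b4998 (Nat.zero_le _) (Nat.le_of_ble_eq_true rfl) rfl

theorem c4999 : Block F al 0 1280000 1213170 :=
  block_comb c4998 b4999 (Nat.zero_le _) (Nat.le_of_ble_eq_true rfl) rfl

theorem c5000 : Block F al 0 1280256 1213426 :=
  block_comb c4999 b5000 (Nat.zero_le _) (Nat.le_of_ble_eq_true rfl) rfl

theorem c5001 : Block F al 0 1280512 1213682 :=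
  block_comb c5000 b5001 (Nat.zero_le _) (Nat.le_of_ble_eq_true rfl) rfl

theorem c5002 : Block F al 0 1280768 1213934 :=
  block_comb c5001 b5002 (Nat.zero_le _) (Nat.le_of_ble_eq_true rfl) rfl

theorem c5003 : Block F al 0 1281024 1214188 :=
  block_comb c5002 b5003 (Nat.zero_le _) (Nat.le_of_ble_eq_true rfl) rfl

theorem c5004 : Block F al 0 1281280 1214442 :=
  block_comb c5003 b5004 (Nat.zero_le _) (Nat.le_of_ble_eq_true rfl) rfl

theorem c5005 : Block F al 0 1281536 1214694 :=
  block_comb c5004 b5005 (Nat.zero_le _) (Nat.le_of_ble_eq_true rfl) rfl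

theorem c5006 : Block F al 0 1281792 1214950 :=
  block_comb c5005 b5006 (Nat.zero_le _) (Nat.le_of_ble_eq_true rfl) rfl

theorem c5007 : Block F al 0 1282048 1215206 :=
  block_comb c5006 b5007 (Nat.zero_le _) (Nat.le_of_ble_eq_true rfl) rfl

theorem c5008 : Block F al 0 1282304 1215462 :=
  block_comb c5007 b5008 (Nat.zero_le _) (Nat.le_of_ble_eq_true rfl) rfl

theorem c5009 : Block F al 0 1282560 1215712 :=
  block_comb c5008 b5009 (Nat.zero_le _) (Nat.le_of_ble_eq_true rfl) rfl

theorem c5010 : Block F al 0 1282816 1215960 :=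
  block_comb c5009 b5010 (Nat.zero_le _) (Nat.le_of_ble_eq_true rfl) rfl

theorem c5011 : Block F al 0 1283072 1216213 :=
  block_comb c5010 b5011 (Nat.zero_le _) (Nat.le_of_ble_eq_true rfl) rfl

theorem c5012 : Block F al 0 1283328 1216469 :=
  block_comb c5011 b5012 (Nat.zero_le _) (Nat.le_of_ble_eq_true rfl) rfl

theorem c5013 : Block F al 0 1283584 1216725 :=
  block_comb c5012 b5013 (Nat.zero_le _) (Nat.le_of_ble_eq_true rfl) rfl

theorem c5014 : Block F al 0 1283840 1216974 :=
  block_comb c5013 b5014 (Nat.zero_le _) (Nat.le_of_ble_eq_true rfl) rfl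

theorem c5015 : Block F al 0 1284096 1217229 :=
  block_comb c5014 b5015 (Nat.zero_le _) (Nat.le_of_ble_eq_true rfl) rfl

theorem c5016 : Block F al 0 1284352 1217485 :=
  block_comb c5015 b5016 (Nat.zero_le _) (Nat.le_of_ble_eq_true rfl) rfl

theorem c5017 : Block F al 0 1284608 1217741 :=
  block_comb c5016 b5017 (Nat.zero_le _) (Nat.le_of_ble_eq_true rfl) rfl

theorem c5018 : Block F al 0 1284864 1217997 :=
  block_comb c5017 b5018 (Nat.zero_le _) (Nat.le_of_ble_eq_true rfl) rfl

theorem c5019 : Block F al 0 1285120 1218253 :=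
  block_comb c5018 b5019 (Nat.zero_le _) (Nat.le_of_ble_eq_true rfl) rfl

theorem c5020 : Block F al 0 1285376 1218509 :=
  block_comb c5019 b5020 (Nat.zero_le _) (Nat.le_of_ble_eq_true rfl) rfl

theorem c5021 : Block F al 0 1285632 1218764 :=
  block_comb c5020 b5021 (Nat.zero_le _) (Nat.le_of_ble_eq_true rfl) rfl

theorem c5022 : Block F al 0 1285888 1219018 :=
  block_comb c5021 b5022 (Nat.zero_le _) (Nat.le_of_ble_eq_true rfl) rfl

theorem c5023 : Block F al 0 1286144 1219273 :=
  block_comb c5022 b5023 (Nat.zero_le _) (Nat.le_of_ble_eq_true rfl) rfl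

theorem c5024 : Block F al 0 1286400 1219529 :=
  block_comb c5023 b5024 (Nat.zero_le _) (Nat.le_of_ble_eq_true rfl) rfl

theorem c5025 : Block F al 0 1286656 1219784 :=
  block_comb c5024 b5025 (Nat.zero_le _) (Nat.le_of_ble_eq_true rfl) rfl

theorem c5026 : Block F al 0 1286912 1220039 :=
  block_comb c5025 b5026 (Nat.zero_le _) (Nat.le_of_ble_eq_true rfl) rfl

theorem c5027 : Block F al 0 1287168 1220293 :=
  block_comb c5026 b5027 (Nat.zero_le _) (Nat.le_of_ble_eq_true rfl) rfl

theorem c5028 : Block F al 0 1287424 1220546 :=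
  block_comb c5027 b5028 (Nat.zero_le _) (Nat.le_of_ble_eq_true rfl) rfl

theorem c5029 : Block F al 0 1287680 1220802 :=
  block_comb c5028 b5029 (Nat.zero_le _) (Nat.le_of_ble_eq_true rfl) rfl

theorem c5030 : Block F al 0 1287936 1221056 :=
  block_comb c5029 b5030 (Nat.zero_le _) (Nat.le_of_ble_eq_true rfl) rfl

theorem c5031 : Block F al 0 1288192 1221310 :=
  block_comb c5030 b5031 (Nat.zero_le _) (Nat.le_of_ble_eq_true rfl) rfl

theorem c5032 : Block F al 0 1288448 1221563 :=
  block_comb c5031 b5032 (Nat.zero_le _) (Nat.le_of_ble_eq_true rfl) rfl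

theorem c5033 : Block F al 0 1288704 1221818 :=
  block_comb c5032 b5033 (Nat.zero_le _) (Nat.le_of_ble_eq_true rfl) rfl

theorem c5034 : Block F al 0 1288960 1222072 :=
  block_comb c5033 b5034 (Nat.zero_le _) (Nat.le_of_ble_eq_true rfl) rfl

theorem c5035 : Block F al 0 1289216 1222325 :=
  block_comb c5034 b5035 (Nat.zero_le _) (Nat.le_of_ble_eq_true rfl) rfl

theorem c5036 : Block F al 0 1289472 1222580 :=
  block_comb c5035 b5036 (Nat.zero_le _) (Nat.le_of_ble_eq_true rfl) rfl

theorem c5037 : Block F al 0 1289728 1222834 :=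
  block_comb c5036 b5037 (Nat.zero_le _) (Nat.le_of_ble_eq_true rfl) rfl

theorem c5038 : Block F al 0 1289984 1223086 :=
  block_comb c5037 b5038 (Nat.zero_le _) (Nat.le_of_ble_eq_true rfl) rfl

theorem c5039 : Block F al 0 1290240 1223342 :=
  block_comb c5038 b5039 (Nat.zero_le _) (Nat.le_of_ble_eq_true rfl) rfl

theorem c5040 : Block F al 0 1290496 1223596 :=
  block_comb c5039 b5040 (Nat.zero_le _) (Nat.le_of_ble_eq_true rfl) rfl

theorem c5041 : Block F al 0 1290752 1223849 :=
  block_comb c5040 b5041 (Nat.zero_le _) (Nat.le_of_ble_eq_true rfl) rfl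

theorem c5042 : Block F al 0 1291008 1224104 :=
  block_comb c5041 b5042 (Nat.zero_le _) (Nat.le_of_ble_eq_true rfl) rfl

theorem c5043 : Block F al 0 1291264 1224360 :=
  block_comb c5042 b5043 (Nat.zero_le _) (Nat.le_of_ble_eq_true rfl) rfl

theorem c5044 : Block F al 0 1291520 1224615 :=
  block_comb c5043 b5044 (Nat.zero_le _) (Nat.le_of_ble_eq_true rfl) rfl

theorem c5045 : Block F al 0 1291776 1224871 :=
  block_comb c5044 b5045 (Nat.zero_le _) (Nat.le_of_ble_eq_true rfl) rfl

theorem c5046 : Block F al 0 1292032 1225126 :=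
  block_comb c5045 b5046 (Nat.zero_le _) (Nat.le_of_ble_eq_true rfl) rfl

theorem c5047 : Block F al 0 1292288 1225380 :=
  block_comb c5046 b5047 (Nat.zero_le _) (Nat.le_of_ble_eq_true rfl) rfl

theorem c5048 : Block F al 0 1292544 1225634 :=
  block_comb c5047 b5048 (Nat.zero_le _) (Nat.le_of_ble_eq_true rfl) rfl

theorem c5049 : Block F al 0 1292800 1225890 :=
  block_comb c5048 b5049 (Nat.zero_le _) (Nat.le_of_ble_eq_true rfl) rfl

theorem c5050 : Block F al 0 1293056 1226143 :=
  block_comb c5049 b5050 (Nat.zero_le _) (Nat.le_of_ble_eq_true rfl) rfl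

theorem c5051 : Block F al 0 1293312 1226398 :=
  block_comb c5050 b5051 (Nat.zero_le _) (Nat.le_of_ble_eq_true rfl) rfl

theorem c5052 : Block F al 0 1293568 1226651 :=
  block_comb c5051 b5052 (Nat.zero_le _) (Nat.le_of_ble_eq_true rfl) rfl

theorem c5053 : Block F al 0 1293824 1226907 :=
  block_comb c5052 b5053 (Nat.zero_le _) (Nat.le_of_ble_eq_true rfl) rfl

theorem c5054 : Block F al 0 1294080 1227163 :=
  block_comb c5053 b5054 (Nat.zero_le _) (Nat.le_of_ble_eq_true rfl) rfl

theorem c5055 : Block F al 0 1294336 1227419 :=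
  block_comb c5054 b5055 (Nat.zero_le _) (Nat.le_of_ble_eq_true rfl) rfl

theorem c5056 : Block F al 0 1294592 1227673 :=
  block_comb c5055 b5056 (Nat.zero_le _) (Nat.le_of_ble_eq_true rfl) rfl

theorem c5057 : Block F al 0 1294848 1227929 :=
  block_comb c5056 b5057 (Nat.zero_le _) (Nat.le_of_ble_eq_true rfl) rfl

theorem c5058 : Block F al 0 1295104 1228181 :=
  block_comb c5057 b5058 (Nat.zero_le _) (Nat.le_of_ble_eq_true rfl) rfl

theorem c5059 : Block F al 0 1295360 1228436 :=
  block_comb c5058 b5059 (Nat.zero_le _) (Nat.le_of_ble_eq_true rfl) rfl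

theorem c5060 : Block F al 0 1295616 1228691 :=
  block_comb c5059 b5060 (Nat.zero_le _) (Nat.le_of_ble_eq_true rfl) rfl

theorem c5061 : Block F al 0 1295872 1228947 :=
  block_comb c5060 b5061 (Nat.zero_le _) (Nat.le_of_ble_eq_true rfl) rfl

theorem c5062 : Block F al 0 1296128 1229199 :=
  block_comb c5061 b5062 (Nat.zero_le _) (Nat.le_of_ble_eq_true rfl) rfl

theorem c5063 : Block F al 0 1296384 1229455 :=
  block_comb c5062 b5063 (Nat.zero_le _) (Nat.le_of_ble_eq_true rfl) rfl

theorem c5064 : Block F al 0 1296640 1229706 :=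
  block_comb c5063 b5064 (Nat.zero_le _) (Nat.le_of_ble_eq_true rfl) rfl

theorem c5065 : Block F al 0 1296896 1229960 :=
  block_comb c5064 b5065 (Nat.zero_le _) (Nat.le_of_ble_eq_true rfl) rfl

theorem c5066 : Block F al 0 1297152 1230215 :=
  block_comb c5065 b5066 (Nat.zero_le _) (Nat.le_of_ble_eq_true rfl) rfl

theorem c5067 : Block F al 0 1297408 1230470 :=
  block_comb c5066 b5067 (Nat.zero_le _) (Nat.le_of_ble_eq_true rfl) rfl

theorem c5068 : Block F al 0 1297664 1230725 :=
  block_comb c5067 b5068 (Nat.zero_le _) (Nat.le_of_ble_eq_true rfl) rfl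

theorem c5069 : Block F al 0 1297920 1230981 :=
  block_comb c5068 b5069 (Nat.zero_le _) (Nat.le_of_ble_eq_true rfl) rfl

theorem c5070 : Block F al 0 1298176 1231235 :=
  block_comb c5069 b5070 (Nat.zero_le _) (Nat.le_of_ble_eq_true rfl) rfl

theorem c5071 : Block F al 0 1298432 1231491 :=
  block_comb c5070 b5071 (Nat.zero_le _) (Nat.le_of_ble_eq_true rfl) rfl

theorem c5072 : Block F al 0 1298688 1231745 :=
  block_comb c5071 b5072 (Nat.zero_le _) (Nat.le_of_ble_eq_true rfl) rfl

theorem c5073 : Block F al 0 1298944 1232000 :=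
  block_comb c5072 b5073 (Nat.zero_le _) (Nat.le_of_ble_eq_true rfl) rfl

theorem c5074 : Block F al 0 1299200 1232256 :=
  block_comb c5073 b5074 (Nat.zero_le _) (Nat.le_of_ble_eq_true rfl) rfl

theorem c5075 : Block F al 0 1299456 1232510 :=
  block_comb c5074 b5075 (Nat.zero_le _) (Nat.le_of_ble_eq_true rfl) rfl

theorem c5076 : Block F al 0 1299712 1232765 :=
  block_comb c5075 b5076 (Nat.zero_le _) (Nat.le_of_ble_eq_true rfl) rfl

theorem c5077 : Block F al 0 1299968 1233019 :=
  block_comb c5076 b5077 (Nat.zero_le _) (Nat.le_of_ble_eq_true rfl) rfl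

theorem c5078 : Block F al 0 1300224 1233275 :=
  block_comb c5077 b5078 (Nat.zero_le _) (Nat.le_of_ble_eq_true rfl) rfl

theorem c5079 : Block F al 0 1300480 1233529 :=
  block_comb c5078 b5079 (Nat.zero_le _) (Nat.le_of_ble_eq_true rfl) rfl

theorem c5080 : Block F al 0 1300736 1233785 :=
  block_comb c5079 b5080 (Nat.zero_le _) (Nat.le_of_ble_eq_true rfl) rfl

theorem c5081 : Block F al 0 1300992 1234039 :=
  block_comb c5080 b5081 (Nat.zero_le _) (Nat.le_of_ble_eq_true rfl) rfl

theorem c5082 : Block F al 0 1301248 1234286 :=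
  block_comb c5081 b5082 (Nat.zero_le _) (Nat.le_of_ble_eq_true rfl) rfl

theorem c5083 : Block F al 0 1301504 1234542 :=
  block_comb c5082 b5083 (Nat.zero_le _) (Nat.le_of_ble_eq_true rfl) rfl

theorem c5084 : Block F al 0 1301760 1234797 :=
  block_comb c5083 b5084 (Nat.zero_le _) (Nat.le_of_ble_eq_true rfl) rfl

theorem c5085 : Block F al 0 1302016 1235053 :=
  block_comb c5084 b5085 (Nat.zero_le _) (Nat.le_of_ble_eq_true rfl) rfl

theorem c5086 : Block F al 0 1302272 1235309 :=
  block_comb c5085 b5086 (Nat.zero_le _) (Nat.le_of_ble_eq_true rfl) rfl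

theorem c5087 : Block F al 0 1302528 1235565 :=
  block_comb c5086 b5087 (Nat.zero_le _) (Nat.le_of_ble_eq_true rfl) rfl

theorem c5088 : Block F al 0 1302784 1235821 :=
  block_comb c5087 b5088 (Nat.zero_le _) (Nat.le_of_ble_eq_true rfl) rfl

theorem c5089 : Block F al 0 1303040 1236075 :=
  block_comb c5088 b5089 (Nat.zero_le _) (Nat.le_of_ble_eq_true rfl) rfl

theorem c5090 : Block F al 0 1303296 1236329 :=
  block_comb c5089 b5090 (Nat.zero_le _) (Nat.le_of_ble_eq_true rfl) rfl

theorem c5091 : Block F al 0 1303552 1236584 :=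
  block_comb c5090 b5091 (Nat.zero_le _) (Nat.le_of_ble_eq_true rfl) rfl

theorem c5092 : Block F al 0 1303808 1236840 :=
  block_comb c5091 b5092 (Nat.zero_le _) (Nat.le_of_ble_eq_true rfl) rfl

theorem c5093 : Block F al 0 1304064 1237094 :=
  block_comb c5092 b5093 (Nat.zero_le _) (Nat.le_of_ble_eq_true rfl) rfl

theorem c5094 : Block F al 0 1304320 1237350 :=
  block_comb c5093 b5094 (Nat.zero_le _) (Nat.le_of_ble_eq_true rfl) rfl

theorem c5095 : Block F al 0 1304576 1237606 :=
  block_comb c5094 b5095 (Nat.zero_le _) (Nat.le_of_ble_eq_true rfl) rfl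

theorem c5096 : Block F al 0 1304832 1237860 :=
  block_comb c5095 b5096 (Nat.zero_le _) (Nat.le_of_ble_eq_true rfl) rfl

theorem c5097 : Block F al 0 1305088 1238115 :=
  block_comb c5096 b5097 (Nat.zero_le _) (Nat.le_of_ble_eq_true rfl) rfl

theorem c5098 : Block F al 0 1305344 1238371 :=
  block_comb c5097 b5098 (Nat.zero_le _) (Nat.le_of_ble_eq_true rfl) rfl

theorem c5099 : Block F al 0 1305600 1238627 :=
  block_comb c5098 b5099 (Nat.zero_le _) (Nat.le_of_ble_eq_true rfl) rfl

theorem c5100 : Block F al 0 1305856 1238882 :=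
  block_comb c5099 b5100 (Nat.zero_le _) (Nat.le_of_ble_eq_true rfl) rfl

theorem c5101 : Block F al 0 1306112 1239136 :=
  block_comb c5100 b5101 (Nat.zero_le _) (Nat.le_of_ble_eq_true rfl) rfl

theorem c5102 : Block F al 0 1306368 1239387 :=
  block_comb c5101 b5102 (Nat.zero_le _) (Nat.le_of_ble_eq_true rfl) rfl

theorem c5103 : Block F al 0 1306624 1239643 :=
  block_comb c5102 b5103 (Nat.zero_le _) (Nat.le_of_ble_eq_true rfl) rfl

theorem c5104 : Block F al 0 1306880 1239898 :=
  block_comb c5103 b5104 (Nat.zero_le _) (Nat.le_of_ble_eq_true rfl) rfl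

theorem c5105 : Block F al 0 1307136 1240149 :=
  block_comb c5104 b5105 (Nat.zero_le _) (Nat.le_of_ble_eq_true rfl) rfl

theorem c5106 : Block F al 0 1307392 1240405 :=
  block_comb c5105 b5106 (Nat.zero_le _) (Nat.le_of_ble_eq_true rfl) rfl

theorem c5107 : Block F al 0 1307648 1240661 :=
  block_comb c5106 b5107 (Nat.zero_le _) (Nat.le_of_ble_eq_true rfl) rfl

theorem c5108 : Block F al 0 1307904 1240915 :=
  block_comb c5107 b5108 (Nat.zero_le _) (Nat.le_of_ble_eq_true rfl) rfl

theorem c5109 : Block F al 0 1308160 1241171 :=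
  block_comb c5108 b5109 (Nat.zero_le _) (Nat.le_of_ble_eq_true rfl) rfl

theorem c5110 : Block F al 0 1308416 1241427 :=
  block_comb c5109 b5110 (Nat.zero_le _) (Nat.le_of_ble_eq_true rfl) rfl

theorem c5111 : Block F al 0 1308672 1241683 :=
  block_comb c5110 b5111 (Nat.zero_le _) (Nat.le_of_ble_eq_true rfl) rfl

theorem c5112 : Block F al 0 1308928 1241939 :=
  block_comb c5111 b5112 (Nat.zero_le _) (Nat.le_of_ble_eq_true rfl) rfl

theorem c5113 : Block F al 0 1309184 1242191 :=
  block_comb c5112 b5113 (Nat.zero_le _) (Nat.le_of_ble_eq_true rfl) rfl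

theorem c5114 : Block F al 0 1309440 1242447 :=
  block_comb c5113 b5114 (Nat.zero_le _) (Nat.le_of_ble_eq_true rfl) rfl

theorem c5115 : Block F al 0 1309696 1242701 :=
  block_comb c5114 b5115 (Nat.zero_le _) (Nat.le_of_ble_eq_true rfl) rfl

theorem c5116 : Block F al 0 1309952 1242955 :=
  block_comb c5115 b5116 (Nat.zero_le _) (Nat.le_of_ble_eq_true rfl) rfl

theorem c5117 : Block F al 0 1310208 1243211 :=
  block_comb c5116 b5117 (Nat.zero_le _) (Nat.le_of_ble_eq_true rfl) rfl

theorem c5118 : Block F al 0 1310464 1243465 :=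
  block_comb c5117 b5118 (Nat.zero_le _) (Nat.le_of_ble_eq_true rfl) rfl

theorem c5119 : Block F al 0 1310720 1243721 :=
  block_comb c5118 b5119 (Nat.zero_le _) (Nat.le_of_ble_eq_true rfl) rfl

theorem c5120 : Block F al 0 1310976 1243977 :=
  block_comb c5119 b5120 (Nat.zero_le _) (Nat.le_of_ble_eq_true rfl) rfl

theorem c5121 : Block F al 0 1311232 1244233 :=
  block_comb c5120 b5121 (Nat.zero_le _) (Nat.le_of_ble_eq_true rfl) rfl

theorem c5122 : Block F al 0 1311488 1244487 :=
  block_comb c5121 b5122 (Nat.zero_le _) (Nat.le_of_ble_eq_true rfl) rfl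

theorem c5123 : Block F al 0 1311744 1244743 :=
  block_comb c5122 b5123 (Nat.zero_le _) (Nat.le_of_ble_eq_true rfl) rfl

theorem c5124 : Block F al 0 1312000 1244999 :=
  block_comb c5123 b5124 (Nat.zero_le _) (Nat.le_of_ble_eq_true rfl) rfl

theorem c5125 : Block F al 0 1312256 1245255 :=
  block_comb c5124 b5125 (Nat.zero_le _) (Nat.le_of_ble_eq_true rfl) rfl

theorem c5126 : Block F al 0 1312512 1245508 :=
  block_comb c5125 b5126 (Nat.zero_le _) (Nat.le_of_ble_eq_true rfl) rfl

theorem c5127 : Block F al 0 1312768 1245761 :=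
  block_comb c5126 b5127 (Nat.zero_le _) (Nat.le_of_ble_eq_true rfl) rfl

theorem c5128 : Block F al 0 1313024 1246017 :=
  block_comb c5127 b5128 (Nat.zero_le _) (Nat.le_of_ble_eq_true rfl) rfl

theorem c5129 : Block F al 0 1313280 1246273 :=
  block_comb c5128 b5129 (Nat.zero_le _) (Nat.le_of_ble_eq_true rfl) rfl

theorem c5130 : Block F al 0 1313536 1246528 :=
  block_comb c5129 b5130 (Nat.zero_le _) (Nat.le_of_ble_eq_true rfl) rfl

theorem c5131 : Block F al 0 1313792 1246783 :=
  block_comb c5130 b5131 (Nat.zero_le _) (Nat.le_of_ble_eq_true rfl) rfl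

theorem c5132 : Block F al 0 1314048 1247039 :=
  block_comb c5131 b5132 (Nat.zero_le _) (Nat.le_of_ble_eq_true rfl) rfl

theorem c5133 : Block F al 0 1314304 1247294 :=
  block_comb c5132 b5133 (Nat.zero_le _) (Nat.le_of_ble_eq_true rfl) rfl

theorem c5134 : Block F al 0 1314560 1247549 :=
  block_comb c5133 b5134 (Nat.zero_le _) (Nat.le_of_ble_eq_true rfl) rfl

theorem c5135 : Block F al 0 1314816 1247805 :=
  block_comb c5134 b5135 (Nat.zero_le _) (Nat.le_of_ble_eq_true rfl) rfl

theorem c5136 : Block F al 0 1315072 1248055 :=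
  block_comb c5135 b5136 (Nat.zero_le _) (Nat.le_of_ble_eq_true rfl) rfl

theorem c5137 : Block F al 0 1315328 1248309 :=
  block_comb c5136 b5137 (Nat.zero_le _) (Nat.le_of_ble_eq_true rfl) rfl

theorem c5138 : Block F al 0 1315584 1248563 :=
  block_comb c5137 b5138 (Nat.zero_le _) (Nat.le_of_ble_eq_true rfl) rfl

theorem c5139 : Block F al 0 1315840 1248819 :=
  block_comb c5138 b5139 (Nat.zero_le _) (Nat.le_of_ble_eq_true rfl) rfl

theorem c5140 : Block F al 0 1316096 1249075 :=
  block_comb c5139 b5140 (Nat.zero_le _) (Nat.le_of_ble_eq_true rfl) rfl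

theorem c5141 : Block F al 0 1316352 1249331 :=
  block_comb c5140 b5141 (Nat.zero_le _) (Nat.le_of_ble_eq_true rfl) rfl

theorem c5142 : Block F al 0 1316608 1249587 :=
  block_comb c5141 b5142 (Nat.zero_le _) (Nat.le_of_ble_eq_true rfl) rfl

theorem c5143 : Block F al 0 1316864 1249843 :=
  block_comb c5142 b5143 (Nat.zero_le _) (Nat.le_of_ble_eq_true rfl) rfl

theorem c5144 : Block F al 0 1317120 1250098 :=
  block_comb c5143 b5144 (Nat.zero_le _) (Nat.le_of_ble_eq_true rfl) rfl

theorem c5145 : Block F al 0 1317376 1250354 :=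
  block_comb c5144 b5145 (Nat.zero_le _) (Nat.le_of_ble_eq_true rfl) rfl

theorem c5146 : Block F al 0 1317632 1250610 :=
  block_comb c5145 b5146 (Nat.zero_le _) (Nat.le_of_ble_eq_true rfl) rfl

theorem c5147 : Block F al 0 1317888 1250866 :=
  block_comb c5146 b5147 (Nat.zero_le _) (Nat.le_of_ble_eq_true rfl) rfl

theorem c5148 : Block F al 0 1318144 1251122 :=
  block_comb c5147 b5148 (Nat.zero_le _) (Nat.le_of_ble_eq_true rfl) rfl

theorem c5149 : Block F al 0 1318400 1251378 :=
  block_comb c5148 b5149 (Nat.zero_le _) (Nat.le_of_ble_eq_true rfl) rfl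

theorem c5150 : Block F al 0 1318656 1251634 :=
  block_comb c5149 b5150 (Nat.zero_le _) (Nat.le_of_ble_eq_true rfl) rfl

theorem c5151 : Block F al 0 1318912 1251889 :=
  block_comb c5150 b5151 (Nat.zero_le _) (Nat.le_of_ble_eq_true rfl) rfl

theorem c5152 : Block F al 0 1319168 1252145 :=
  block_comb c5151 b5152 (Nat.zero_le _) (Nat.le_of_ble_eq_true rfl) rfl

theorem c5153 : Block F al 0 1319424 1252401 :=
  block_comb c5152 b5153 (Nat.zero_le _) (Nat.le_of_ble_eq_true rfl) rfl

theorem c5154 : Block F al 0 1319680 1252656 :=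
  block_comb c5153 b5154 (Nat.zero_le _) (Nat.le_of_ble_eq_true rfl) rfl

theorem c5155 : Block F al 0 1319936 1252912 :=
  block_comb c5154 b5155 (Nat.zero_le _) (Nat.le_of_ble_eq_true rfl) rfl

theorem c5156 : Block F al 0 1320192 1253168 :=
  block_comb c5155 b5156 (Nat.zero_le _) (Nat.le_of_ble_eq_true rfl) rfl

theorem c5157 : Block F al 0 1320448 1253423 :=
  block_comb c5156 b5157 (Nat.zero_le _) (Nat.le_of_ble_eq_true rfl) rfl

theorem c5158 : Block F al 0 1320704 1253677 :=
  block_comb c5157 b5158 (Nat.zero_le _) (Nat.le_of_ble_eq_true rfl) rfl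

theorem c5159 : Block F al 0 1320960 1253933 :=
  block_comb c5158 b5159 (Nat.zero_le _) (Nat.le_of_ble_eq_true rfl) rfl

theorem c5160 : Block F al 0 1321216 1254185 :=
  block_comb c5159 b5160 (Nat.zero_le _) (Nat.le_of_ble_eq_true rfl) rfl

theorem c5161 : Block F al 0 1321472 1254439 :=
  block_comb c5160 b5161 (Nat.zero_le _) (Nat.le_of_ble_eq_true rfl) rfl

theorem c5162 : Block F al 0 1321728 1254695 :=
  block_comb c5161 b5162 (Nat.zero_le _) (Nat.le_of_ble_eq_true rfl) rfl

theorem c5163 : Block F al 0 1321984 1254951 :=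
  block_comb c5162 b5163 (Nat.zero_le _) (Nat.le_of_ble_eq_true rfl) rfl

theorem c5164 : Block F al 0 1322240 1255203 :=
  block_comb c5163 b5164 (Nat.zero_le _) (Nat.le_of_ble_eq_true rfl) rfl

theorem c5165 : Block F al 0 1322496 1255459 :=
  block_comb c5164 b5165 (Nat.zero_le _) (Nat.le_of_ble_eq_true rfl) rfl

theorem c5166 : Block F al 0 1322752 1255711 :=
  block_comb c5165 b5166 (Nat.zero_le _) (Nat.le_of_ble_eq_true rfl) rfl

theorem c5167 : Block F al 0 1323008 1255967 :=
  block_comb c5166 b5167 (Nat.zero_le _) (Nat.le_of_ble_eq_true rfl) rfl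

theorem c5168 : Block F al 0 1323264 1256222 :=
  block_comb c5167 b5168 (Nat.zero_le _) (Nat.le_of_ble_eq_true rfl) rfl

theorem c5169 : Block F al 0 1323520 1256476 :=
  block_comb c5168 b5169 (Nat.zero_le _) (Nat.le_of_ble_eq_true rfl) rfl

theorem c5170 : Block F al 0 1323776 1256732 :=
  block_comb c5169 b5170 (Nat.zero_le _) (Nat.le_of_ble_eq_true rfl) rfl

theorem c5171 : Block F al 0 1324032 1256987 :=
  block_comb c5170 b5171 (Nat.zero_le _) (Nat.le_of_ble_eq_true rfl) rfl

theorem c5172 : Block F al 0 1324288 1257243 :=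
  block_comb c5171 b5172 (Nat.zero_le _) (Nat.le_of_ble_eq_true rfl) rfl

theorem c5173 : Block F al 0 1324544 1257499 :=
  block_comb c5172 b5173 (Nat.zero_le _) (Nat.le_of_ble_eq_true rfl) rfl

theorem c5174 : Block F al 0 1324800 1257755 :=
  block_comb c5173 b5174 (Nat.zero_le _) (Nat.le_of_ble_eq_true rfl) rfl

theorem c5175 : Block F al 0 1325056 1258011 :=
  block_comb c5174 b5175 (Nat.zero_le _) (Nat.le_of_ble_eq_true rfl) rfl

theorem c5176 : Block F al 0 1325312 1258267 :=
  block_comb c5175 b5176 (Nat.zero_le _) (Nat.le_of_ble_eq_true rfl) rfl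

theorem c5177 : Block F al 0 1325568 1258523 :=
  block_comb c5176 b5177 (Nat.zero_le _) (Nat.le_of_ble_eq_true rfl) rfl

theorem c5178 : Block F al 0 1325824 1258777 :=
  block_comb c5177 b5178 (Nat.zero_le _) (Nat.le_of_ble_eq_true rfl) rfl

theorem c5179 : Block F al 0 1326080 1259033 :=
  block_comb c5178 b5179 (Nat.zero_le _) (Nat.le_of_ble_eq_true rfl) rfl

theorem c5180 : Block F al 0 1326336 1259288 :=
  block_comb c5179 b5180 (Nat.zero_le _) (Nat.le_of_ble_eq_true rfl) rfl

theorem c5181 : Block F al 0 1326592 1259544 :=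
  block_comb c5180 b5181 (Nat.zero_le _) (Nat.le_of_ble_eq_true rfl) rfl

theorem c5182 : Block F al 0 1326848 1259800 :=
  block_comb c5181 b5182 (Nat.zero_le _) (Nat.le_of_ble_eq_true rfl) rfl

theorem c5183 : Block F al 0 1327104 1260056 :=
  block_comb c5182 b5183 (Nat.zero_le _) (Nat.le_of_ble_eq_true rfl) rfl

theorem c5184 : Block F al 0 1327360 1260311 :=
  block_comb c5183 b5184 (Nat.zero_le _) (Nat.le_of_ble_eq_true rfl) rfl

theorem c5185 : Block F al 0 1327616 1260567 :=
  block_comb c5184 b5185 (Nat.zero_le _) (Nat.le_of_ble_eq_true rfl) rfl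

theorem c5186 : Block F al 0 1327872 1260823 :=
  block_comb c5185 b5186 (Nat.zero_le _) (Nat.le_of_ble_eq_true rfl) rfl

theorem c5187 : Block F al 0 1328128 1261077 :=
  block_comb c5186 b5187 (Nat.zero_le _) (Nat.le_of_ble_eq_true rfl) rfl

theorem c5188 : Block F al 0 1328384 1261331 :=
  block_comb c5187 b5188 (Nat.zero_le _) (Nat.le_of_ble_eq_true rfl) rfl

theorem c5189 : Block F al 0 1328640 1261585 :=
  block_comb c5188 b5189 (Nat.zero_le _) (Nat.le_of_ble_eq_true rfl) rfl

theorem c5190 : Block F al 0 1328896 1261839 :=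
  block_comb c5189 b5190 (Nat.zero_le _) (Nat.le_of_ble_eq_true rfl) rfl

theorem c5191 : Block F al 0 1329152 1262094 :=
  block_comb c5190 b5191 (Nat.zero_le _) (Nat.le_of_ble_eq_true rfl) rfl

theorem c5192 : Block F al 0 1329408 1262348 :=
  block_comb c5191 b5192 (Nat.zero_le _) (Nat.le_of_ble_eq_true rfl) rfl

theorem c5193 : Block F al 0 1329664 1262599 :=
  block_comb c5192 b5193 (Nat.zero_le _) (Nat.le_of_ble_eq_true rfl) rfl

theorem c5194 : Block F al 0 1329920 1262850 :=
  block_comb c5193 b5194 (Nat.zero_le _) (Nat.le_of_ble_eq_true rfl) rfl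

theorem c5195 : Block F al 0 1330176 1263104 :=
  block_comb c5194 b5195 (Nat.zero_le _) (Nat.le_of_ble_eq_true rfl) rfl

theorem c5196 : Block F al 0 1330432 1263360 :=
  block_comb c5195 b5196 (Nat.zero_le _) (Nat.le_of_ble_eq_true rfl) rfl

theorem c5197 : Block F al 0 1330688 1263615 :=
  block_comb c5196 b5197 (Nat.zero_le _) (Nat.le_of_ble_eq_true rfl) rfl

theorem c5198 : Block F al 0 1330944 1263871 :=
  block_comb c5197 b5198 (Nat.zero_le _) (Nat.le_of_ble_eq_true rfl) rfl

theorem c5199 : Block F al 0 1331200 1264123 :=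
  block_comb c5198 b5199 (Nat.zero_le _) (Nat.le_of_ble_eq_true rfl) rfl

theorem c5200 : Block F al 0 1331456 1264377 :=
  block_comb c5199 b5200 (Nat.zero_le _) (Nat.le_of_ble_eq_true rfl) rfl

theorem c5201 : Block F al 0 1331712 1264633 :=
  block_comb c5200 b5201 (Nat.zero_le _) (Nat.le_of_ble_eq_true rfl) rfl

theorem c5202 : Block F al 0 1331968 1264888 :=
  block_comb c5201 b5202 (Nat.zero_le _) (Nat.le_of_ble_eq_true rfl) rfl

theorem c5203 : Block F al 0 1332224 1265140 :=
  block_comb c5202 b5203 (Nat.zero_le _) (Nat.le_of_ble_eq_true rfl) rfl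

theorem c5204 : Block F al 0 1332480 1265396 :=
  block_comb c5203 b5204 (Nat.zero_le _) (Nat.le_of_ble_eq_true rfl) rfl

theorem c5205 : Block F al 0 1332736 1265649 :=
  block_comb c5204 b5205 (Nat.zero_le _) (Nat.le_of_ble_eq_true rfl) rfl

theorem c5206 : Block F al 0 1332992 1265901 :=
  block_comb c5205 b5206 (Nat.zero_le _) (Nat.le_of_ble_eq_true rfl) rfl

theorem c5207 : Block F al 0 1333248 1266157 :=
  block_comb c5206 b5207 (Nat.zero_le _) (Nat.le_of_ble_eq_true rfl) rfl

theorem c5208 : Block F al 0 1333504 1266409 :=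
  block_comb c5207 b5208 (Nat.zero_le _) (Nat.le_of_ble_eq_true rfl) rfl

theorem c5209 : Block F al 0 1333760 1266663 :=
  block_comb c5208 b5209 (Nat.zero_le _) (Nat.le_of_ble_eq_true rfl) rfl

theorem c5210 : Block F al 0 1334016 1266919 :=
  block_comb c5209 b5210 (Nat.zero_le _) (Nat.le_of_ble_eq_true rfl) rfl

theorem c5211 : Block F al 0 1334272 1267175 :=
  block_comb c5210 b5211 (Nat.zero_le _) (Nat.le_of_ble_eq_true rfl) rfl

theorem c5212 : Block F al 0 1334528 1267431 :=
  block_comb c5211 b5212 (Nat.zero_le _) (Nat.le_of_ble_eq_true rfl) rfl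

theorem c5213 : Block F al 0 1334784 1267686 :=
  block_comb c5212 b5213 (Nat.zero_le _) (Nat.le_of_ble_eq_true rfl) rfl

theorem c5214 : Block F al 0 1335040 1267942 :=
  block_comb c5213 b5214 (Nat.zero_le _) (Nat.le_of_ble_eq_true rfl) rfl

theorem c5215 : Block F al 0 1335296 1268198 :=
  block_comb c5214 b5215 (Nat.zero_le _) (Nat.le_of_ble_eq_true rfl) rfl

theorem c5216 : Block F al 0 1335552 1268454 :=
  block_comb c5215 b5216 (Nat.zero_le _) (Nat.le_of_ble_eq_true rfl) rfl

theorem c5217 : Block F al 0 1335808 1268710 :=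
  block_comb c5216 b5217 (Nat.zero_le _) (Nat.le_of_ble_eq_true rfl) rfl

theorem c5218 : Block F al 0 1336064 1268966 :=
  block_comb c5217 b5218 (Nat.zero_le _) (Nat.le_of_ble_eq_true rfl) rfl

theorem c5219 : Block F al 0 1336320 1269222 :=
  block_comb c5218 b5219 (Nat.zero_le _) (Nat.le_of_ble_eq_true rfl) rfl

theorem c5220 : Block F al 0 1336576 1269478 :=
  block_comb c5219 b5220 (Nat.zero_le _) (Nat.le_of_ble_eq_true rfl) rfl

theorem c5221 : Block F al 0 1336832 1269734 :=
  block_comb c5220 b5221 (Nat.zero_le _) (Nat.le_of_ble_eq_true rfl) rfl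

theorem c5222 : Block F al 0 1337088 1269988 :=
  block_comb c5221 b5222 (Nat.zero_le _) (Nat.le_of_ble_eq_true rfl) rfl

theorem c5223 : Block F al 0 1337344 1270244 :=
  block_comb c5222 b5223 (Nat.zero_le _) (Nat.le_of_ble_eq_true rfl) rfl

theorem c5224 : Block F al 0 1337600 1270498 :=
  block_comb c5223 b5224 (Nat.zero_le _) (Nat.le_of_ble_eq_true rfl) rfl

theorem c5225 : Block F al 0 1337856 1270754 :=
  block_comb c5224 b5225 (Nat.zero_le _) (Nat.le_of_ble_eq_true rfl) rfl

theorem c5226 : Block F al 0 1338112 1271007 :=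
  block_comb c5225 b5226 (Nat.zero_le _) (Nat.le_of_ble_eq_true rfl) rfl

theorem c5227 : Block F al 0 1338368 1271262 :=
  block_comb c5226 b5227 (Nat.zero_le _) (Nat.le_of_ble_eq_true rfl) rfl

theorem c5228 : Block F al 0 1338624 1271516 :=
  block_comb c5227 b5228 (Nat.zero_le _) (Nat.le_of_ble_eq_true rfl) rfl

theorem c5229 : Block F al 0 1338880 1271771 :=
  block_comb c5228 b5229 (Nat.zero_le _) (Nat.le_of_ble_eq_true rfl) rfl

theorem c5230 : Block F al 0 1339136 1272024 :=
  block_comb c5229 b5230 (Nat.zero_le _) (Nat.le_of_ble_eq_true rfl) rfl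

theorem c5231 : Block F al 0 1339392 1272280 :=
  block_comb c5230 b5231 (Nat.zero_le _) (Nat.le_of_ble_eq_true rfl) rfl

theorem c5232 : Block F al 0 1339648 1272536 :=
  block_comb c5231 b5232 (Nat.zero_le _) (Nat.le_of_ble_eq_true rfl) rfl

theorem c5233 : Block F al 0 1339904 1272792 :=
  block_comb c5232 b5233 (Nat.zero_le _) (Nat.le_of_ble_eq_true rfl) rfl

theorem c5234 : Block F al 0 1340160 1273048 :=
  block_comb c5233 b5234 (Nat.zero_le _) (Nat.le_of_ble_eq_true rfl) rfl

theorem c5235 : Block F al 0 1340416 1273304 :=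
  block_comb c5234 b5235 (Nat.zero_le _) (Nat.le_of_ble_eq_true rfl) rfl

theorem c5236 : Block F al 0 1340672 1273560 :=
  block_comb c5235 b5236 (Nat.zero_le _) (Nat.le_of_ble_eq_true rfl) rfl

theorem c5237 : Block F al 0 1340928 1273814 :=
  block_comb c5236 b5237 (Nat.zero_le _) (Nat.le_of_ble_eq_true rfl) rfl

theorem c5238 : Block F al 0 1341184 1274069 :=
  block_comb c5237 b5238 (Nat.zero_le _) (Nat.le_of_ble_eq_true rfl) rfl

theorem c5239 : Block F al 0 1341440 1274325 :=
  block_comb c5238 b5239 (Nat.zero_le _) (Nat.le_of_ble_eq_true rfl) rfl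

theorem c5240 : Block F al 0 1341696 1274581 :=
  block_comb c5239 b5240 (Nat.zero_le _) (Nat.le_of_ble_eq_true rfl) rfl

theorem c5241 : Block F al 0 1341952 1274837 :=
  block_comb c5240 b5241 (Nat.zero_le _) (Nat.le_of_ble_eq_true rfl) rfl

theorem c5242 : Block F al 0 1342208 1275092 :=
  block_comb c5241 b5242 (Nat.zero_le _) (Nat.le_of_ble_eq_true rfl) rfl

theorem c5243 : Block F al 0 1342464 1275347 :=
  block_comb c5242 b5243 (Nat.zero_le _) (Nat.le_of_ble_eq_true rfl) rfl

theorem c5244 : Block F al 0 1342720 1275603 :=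
  block_comb c5243 b5244 (Nat.zero_le _) (Nat.le_of_ble_eq_true rfl) rfl

theorem c5245 : Block F al 0 1342976 1275858 :=
  block_comb c5244 b5245 (Nat.zero_le _) (Nat.le_of_ble_eq_true rfl) rfl

theorem c5246 : Block F al 0 1343232 1276114 :=
  block_comb c5245 b5246 (Nat.zero_le _) (Nat.le_of_ble_eq_true rfl) rfl

theorem c5247 : Block F al 0 1343488 1276370 :=
  block_comb c5246 b5247 (Nat.zero_le _) (Nat.le_of_ble_eq_true rfl) rfl

theorem c5248 : Block F al 0 1343744 1276625 :=
  block_comb c5247 b5248 (Nat.zero_le _) (Nat.le_of_ble_eq_true rfl) rfl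

theorem c5249 : Block F al 0 1344000 1276881 :=
  block_comb c5248 b5249 (Nat.zero_le _) (Nat.le_of_ble_eq_true rfl) rfl

theorem c5250 : Block F al 0 1344256 1277137 :=
  block_comb c5249 b5250 (Nat.zero_le _) (Nat.le_of_ble_eq_true rfl) rfl

theorem c5251 : Block F al 0 1344512 1277393 :=
  block_comb c5250 b5251 (Nat.zero_le _) (Nat.le_of_ble_eq_true rfl) rfl

theorem c5252 : Block F al 0 1344768 1277649 :=
  block_comb c5251 b5252 (Nat.zero_le _) (Nat.le_of_ble_eq_true rfl) rfl

theorem c5253 : Block F al 0 1345024 1277905 :=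
  block_comb c5252 b5253 (Nat.zero_le _) (Nat.le_of_ble_eq_true rfl) rfl

theorem c5254 : Block F al 0 1345280 1278161 :=
  block_comb c5253 b5254 (Nat.zero_le _) (Nat.le_of_ble_eq_true rfl) rfl

theorem c5255 : Block F al 0 1345536 1278417 :=
  block_comb c5254 b5255 (Nat.zero_le _) (Nat.le_of_ble_eq_true rfl) rfl

theorem c5256 : Block F al 0 1345792 1278671 :=
  block_comb c5255 b5256 (Nat.zero_le _) (Nat.le_of_ble_eq_true rfl) rfl

theorem c5257 : Block F al 0 1346048 1278927 :=
  block_comb c5256 b5257 (Nat.zero_le _) (Nat.le_of_ble_eq_true rfl) rfl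

theorem c5258 : Block F al 0 1346304 1279183 :=
  block_comb c5257 b5258 (Nat.zero_le _) (Nat.le_of_ble_eq_true rfl) rfl

theorem c5259 : Block F al 0 1346560 1279439 :=
  block_comb c5258 b5259 (Nat.zero_le _) (Nat.le_of_ble_eq_true rfl) rfl

theorem c5260 : Block F al 0 1346816 1279695 :=
  block_comb c5259 b5260 (Nat.zero_le _) (Nat.le_of_ble_eq_true rfl) rfl

theorem c5261 : Block F al 0 1347072 1279951 :=
  block_comb c5260 b5261 (Nat.zero_le _) (Nat.le_of_ble_eq_true rfl) rfl

theorem c5262 : Block F al 0 1347328 1280207 :=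
  block_comb c5261 b5262 (Nat.zero_le _) (Nat.le_of_ble_eq_true rfl) rfl

theorem c5263 : Block F al 0 1347584 1280463 :=
  block_comb c5262 b5263 (Nat.zero_le _) (Nat.le_of_ble_eq_true rfl) rfl

theorem c5264 : Block F al 0 1347840 1280717 :=
  block_comb c5263 b5264 (Nat.zero_le _) (Nat.le_of_ble_eq_true rfl) rfl

theorem c5265 : Block F al 0 1348096 1280973 :=
  block_comb c5264 b5265 (Nat.zero_le _) (Nat.le_of_ble_eq_true rfl) rfl

theorem c5266 : Block F al 0 1348352 1281229 :=
  block_comb c5265 b5266 (Nat.zero_le _) (Nat.le_of_ble_eq_true rfl) rfl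

theorem c5267 : Block F al 0 1348608 1281485 :=
  block_comb c5266 b5267 (Nat.zero_le _) (Nat.le_of_ble_eq_true rfl) rfl

theorem c5268 : Block F al 0 1348864 1281741 :=
  block_comb c5267 b5268 (Nat.zero_le _) (Nat.le_of_ble_eq_true rfl) rfl

theorem c5269 : Block F al 0 1349120 1281997 :=
  block_comb c5268 b5269 (Nat.zero_le _) (Nat.le_of_ble_eq_true rfl) rfl

theorem c5270 : Block F al 0 1349376 1282252 :=
  block_comb c5269 b5270 (Nat.zero_le _) (Nat.le_of_ble_eq_true rfl) rfl

theorem c5271 : Block F al 0 1349632 1282508 :=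
  block_comb c5270 b5271 (Nat.zero_le _) (Nat.le_of_ble_eq_true rfl) rfl

theorem c5272 : Block F al 0 1349888 1282762 :=
  block_comb c5271 b5272 (Nat.zero_le _) (Nat.le_of_ble_eq_true rfl) rfl

theorem c5273 : Block F al 0 1350144 1283018 :=
  block_comb c5272 b5273 (Nat.zero_le _) (Nat.le_of_ble_eq_true rfl) rfl

theorem c5274 : Block F al 0 1350400 1283274 :=
  block_comb c5273 b5274 (Nat.zero_le _) (Nat.le_of_ble_eq_true rfl) rfl

theorem c5275 : Block F al 0 1350656 1283530 :=
  block_comb c5274 b5275 (Nat.zero_le _) (Nat.le_of_ble_eq_true rfl) rfl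

theorem c5276 : Block F al 0 1350912 1283786 :=
  block_comb c5275 b5276 (Nat.zero_le _) (Nat.le_of_ble_eq_true rfl) rfl

theorem c5277 : Block F al 0 1351168 1284042 :=
  block_comb c5276 b5277 (Nat.zero_le _) (Nat.le_of_ble_eq_true rfl) rfl

theorem c5278 : Block F al 0 1351424 1284297 :=
  block_comb c5277 b5278 (Nat.zero_le _) (Nat.le_of_ble_eq_true rfl) rfl

theorem c5279 : Block F al 0 1351680 1284553 :=
  block_comb c5278 b5279 (Nat.zero_le _) (Nat.le_of_ble_eq_true rfl) rfl

theorem c5280 : Block F al 0 1351936 1284809 :=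
  block_comb c5279 b5280 (Nat.zero_le _) (Nat.le_of_ble_eq_true rfl) rfl

theorem c5281 : Block F al 0 1352192 1285065 :=
  block_comb c5280 b5281 (Nat.zero_le _) (Nat.le_of_ble_eq_true rfl) rfl

theorem c5282 : Block F al 0 1352448 1285321 :=
  block_comb c5281 b5282 (Nat.zero_le _) (Nat.le_of_ble_eq_true rfl) rfl

theorem c5283 : Block F al 0 1352704 1285572 :=
  block_comb c5282 b5283 (Nat.zero_le _) (Nat.le_of_ble_eq_true rfl) rfl

theorem c5284 : Block F al 0 1352960 1285828 :=
  block_comb c5283 b5284 (Nat.zero_le _) (Nat.le_of_ble_eq_true rfl) rfl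

theorem c5285 : Block F al 0 1353216 1286082 :=
  block_comb c5284 b5285 (Nat.zero_le _) (Nat.le_of_ble_eq_true rfl) rfl

theorem c5286 : Block F al 0 1353472 1286338 :=
  block_comb c5285 b5286 (Nat.zero_le _) (Nat.le_of_ble_eq_true rfl) rfl

theorem c5287 : Block F al 0 1353728 1286594 :=
  block_comb c5286 b5287 (Nat.zero_le _) (Nat.le_of_ble_eq_true rfl) rfl

theorem c5288 : Block F al 0 1353984 1286850 :=
  block_comb c5287 b5288 (Nat.zero_le _) (Nat.le_of_ble_eq_true rfl) rfl

theorem c5289 : Block F al 0 1354240 1287106 :=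
  block_comb c5288 b5289 (Nat.zero_le _) (Nat.le_of_ble_eq_true rfl) rfl

theorem c5290 : Block F al 0 1354496 1287362 :=
  block_comb c5289 b5290 (Nat.zero_le _) (Nat.le_of_ble_eq_true rfl) rfl

theorem c5291 : Block F al 0 1354752 1287618 :=
  block_comb c5290 b5291 (Nat.zero_le _) (Nat.le_of_ble_eq_true rfl) rfl

theorem c5292 : Block F al 0 1355008 1287874 :=
  block_comb c5291 b5292 (Nat.zero_le _) (Nat.le_of_ble_eq_true rfl) rfl

theorem c5293 : Block F al 0 1355264 1288130 :=
  block_comb c5292 b5293 (Nat.zero_le _) (Nat.le_of_ble_eq_true rfl) rfl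

theorem c5294 : Block F al 0 1355520 1288386 :=
  block_comb c5293 b5294 (Nat.zero_le _) (Nat.le_of_ble_eq_true rfl) rfl

theorem c5295 : Block F al 0 1355776 1288642 :=
  block_comb c5294 b5295 (Nat.zero_le _) (Nat.le_of_ble_eq_true rfl) rfl

theorem c5296 : Block F al 0 1356032 1288898 :=
  block_comb c5295 b5296 (Nat.zero_le _) (Nat.le_of_ble_eq_true rfl) rfl

theorem c5297 : Block F al 0 1356288 1289154 :=
  block_comb c5296 b5297 (Nat.zero_le _) (Nat.le_of_ble_eq_true rfl) rfl

theorem c5298 : Block F al 0 1356544 1289409 :=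
  block_comb c5297 b5298 (Nat.zero_le _) (Nat.le_of_ble_eq_true rfl) rfl

theorem c5299 : Block F al 0 1356800 1289665 :=
  block_comb c5298 b5299 (Nat.zero_le _) (Nat.le_of_ble_eq_true rfl) rfl

theorem c5300 : Block F al 0 1357056 1289921 :=
  block_comb c5299 b5300 (Nat.zero_le _) (Nat.le_of_ble_eq_true rfl) rfl

theorem c5301 : Block F al 0 1357312 1290176 :=
  block_comb c5300 b5301 (Nat.zero_le _) (Nat.le_of_ble_eq_true rfl) rfl

theorem c5302 : Block F al 0 1357568 1290431 :=
  block_comb c5301 b5302 (Nat.zero_le _) (Nat.le_of_ble_eq_true rfl) rfl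

theorem c5303 : Block F al 0 1357824 1290687 :=
  block_comb c5302 b5303 (Nat.zero_le _) (Nat.le_of_ble_eq_true rfl) rfl

theorem c5304 : Block F al 0 1358080 1290943 :=
  block_comb c5303 b5304 (Nat.zero_le _) (Nat.le_of_ble_eq_true rfl) rfl

theorem c5305 : Block F al 0 1358336 1291199 :=
  block_comb c5304 b5305 (Nat.zero_le _) (Nat.le_of_ble_eq_true rfl) rfl

theorem c5306 : Block F al 0 1358592 1291454 :=
  block_comb c5305 b5306 (Nat.zero_le _) (Nat.le_of_ble_eq_true rfl) rfl

theorem c5307 : Block F al 0 1358848 1291710 :=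
  block_comb c5306 b5307 (Nat.zero_le _) (Nat.le_of_ble_eq_true rfl) rfl

theorem c5308 : Block F al 0 1359104 1291966 :=
  block_comb c5307 b5308 (Nat.zero_le _) (Nat.le_of_ble_eq_true rfl) rfl

theorem c5309 : Block F al 0 1359360 1292222 :=
  block_comb c5308 b5309 (Nat.zero_le _) (Nat.le_of_ble_eq_true rfl) rfl

theorem c5310 : Block F al 0 1359616 1292475 :=
  block_comb c5309 b5310 (Nat.zero_le _) (Nat.le_of_ble_eq_true rfl) rfl

theorem c5311 : Block F al 0 1359872 1292731 :=
  block_comb c5310 b5311 (Nat.zero_le _) (Nat.le_of_ble_eq_true rfl) rfl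

theorem c5312 : Block F al 0 1360128 1292985 :=
  block_comb c5311 b5312 (Nat.zero_le _) (Nat.le_of_ble_eq_true rfl) rfl

theorem c5313 : Block F al 0 1360384 1293241 :=
  block_comb c5312 b5313 (Nat.zero_le _) (Nat.le_of_ble_eq_true rfl) rfl

theorem c5314 : Block F al 0 1360640 1293497 :=
  block_comb c5313 b5314 (Nat.zero_le _) (Nat.le_of_ble_eq_true rfl) rfl

theorem c5315 : Block F al 0 1360896 1293752 :=
  block_comb c5314 b5315 (Nat.zero_le _) (Nat.le_of_ble_eq_true rfl) rfl

theorem c5316 : Block F al 0 1361152 1294007 :=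
  block_comb c5315 b5316 (Nat.zero_le _) (Nat.le_of_ble_eq_true rfl) rfl

theorem c5317 : Block F al 0 1361408 1294263 :=
  block_comb c5316 b5317 (Nat.zero_le _) (Nat.le_of_ble_eq_true rfl) rfl

theorem c5318 : Block F al 0 1361664 1294519 :=
  block_comb c5317 b5318 (Nat.zero_le _) (Nat.le_of_ble_eq_true rfl) rfl

theorem c5319 : Block F al 0 1361920 1294773 :=
  block_comb c5318 b5319 (Nat.zero_le _) (Nat.le_of_ble_eq_true rfl) rfl

theorem c5320 : Block F al 0 1362176 1295029 :=
  block_comb c5319 b5320 (Nat.zero_le _) (Nat.le_of_ble_eq_true rfl) rfl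

theorem c5321 : Block F al 0 1362432 1295285 :=
  block_comb c5320 b5321 (Nat.zero_le _) (Nat.le_of_ble_eq_true rfl) rfl

theorem c5322 : Block F al 0 1362688 1295541 :=
  block_comb c5321 b5322 (Nat.zero_le _) (Nat.le_of_ble_eq_true rfl) rfl

theorem c5323 : Block F al 0 1362944 1295797 :=
  block_comb c5322 b5323 (Nat.zero_le _) (Nat.le_of_ble_eq_true rfl) rfl

theorem c5324 : Block F al 0 1363200 1296051 :=
  block_comb c5323 b5324 (Nat.zero_le _) (Nat.le_of_ble_eq_true rfl) rfl

theorem c5325 : Block F al 0 1363456 1296307 :=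
  block_comb c5324 b5325 (Nat.zero_le _) (Nat.le_of_ble_eq_true rfl) rfl

theorem c5326 : Block F al 0 1363712 1296563 :=
  block_comb c5325 b5326 (Nat.zero_le _) (Nat.le_of_ble_eq_true rfl) rfl

theorem c5327 : Block F al 0 1363968 1296819 :=
  block_comb c5326 b5327 (Nat.zero_le _) (Nat.le_of_ble_eq_true rfl) rfl

theorem c5328 : Block F al 0 1364224 1297075 :=
  block_comb c5327 b5328 (Nat.zero_le _) (Nat.le_of_ble_eq_true rfl) rfl

theorem c5329 : Block F al 0 1364480 1297331 :=
  block_comb c5328 b5329 (Nat.zero_le _) (Nat.le_of_ble_eq_true rfl) rfl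

theorem c5330 : Block F al 0 1364736 1297585 :=
  block_comb c5329 b5330 (Nat.zero_le _) (Nat.le_of_ble_eq_true rfl) rfl

theorem c5331 : Block F al 0 1364992 1297841 :=
  block_comb c5330 b5331 (Nat.zero_le _) (Nat.le_of_ble_eq_true rfl) rfl

theorem c5332 : Block F al 0 1365248 1298096 :=
  block_comb c5331 b5332 (Nat.zero_le _) (Nat.le_of_ble_eq_true rfl) rfl

theorem c5333 : Block F al 0 1365504 1298352 :=
  block_comb c5332 b5333 (Nat.zero_le _) (Nat.le_of_ble_eq_true rfl) rfl

theorem c5334 : Block F al 0 1365760 1298608 :=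
  block_comb c5333 b5334 (Nat.zero_le _) (Nat.le_of_ble_eq_true rfl) rfl

theorem c5335 : Block F al 0 1366016 1298864 :=
  block_comb c5334 b5335 (Nat.zero_le _) (Nat.le_of_ble_eq_true rfl) rfl

theorem c5336 : Block F al 0 1366272 1299117 :=
  block_comb c5335 b5336 (Nat.zero_le _) (Nat.le_of_ble_eq_true rfl) rfl

theorem c5337 : Block F al 0 1366528 1299373 :=
  block_comb c5336 b5337 (Nat.zero_le _) (Nat.le_of_ble_eq_true rfl) rfl

theorem c5338 : Block F al 0 1366784 1299629 :=
  block_comb c5337 b5338 (Nat.zero_le _) (Nat.le_of_ble_eq_true rfl) rfl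

theorem c5339 : Block F al 0 1367040 1299885 :=
  block_comb c5338 b5339 (Nat.zero_le _) (Nat.le_of_ble_eq_true rfl) rfl

theorem c5340 : Block F al 0 1367296 1300139 :=
  block_comb c5339 b5340 (Nat.zero_le _) (Nat.le_of_ble_eq_true rfl) rfl

theorem c5341 : Block F al 0 1367552 1300391 :=
  block_comb c5340 b5341 (Nat.zero_le _) (Nat.le_of_ble_eq_true rfl) rfl

theorem c5342 : Block F al 0 1367808 1300647 :=
  block_comb c5341 b5342 (Nat.zero_le _) (Nat.le_of_ble_eq_true rfl) rfl

theorem c5343 : Block F al 0 1368064 1300903 :=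
  block_comb c5342 b5343 (Nat.zero_le _) (Nat.le_of_ble_eq_true rfl) rfl

theorem c5344 : Block F al 0 1368320 1301159 :=
  block_comb c5343 b5344 (Nat.zero_le _) (Nat.le_of_ble_eq_true rfl) rfl

theorem c5345 : Block F al 0 1368576 1301415 :=
  block_comb c5344 b5345 (Nat.zero_le _) (Nat.le_of_ble_eq_true rfl) rfl

theorem c5346 : Block F al 0 1368832 1301671 :=
  block_comb c5345 b5346 (Nat.zero_le _) (Nat.le_of_ble_eq_true rfl) rfl

theorem c5347 : Block F al 0 1369088 1301925 :=
  block_comb c5346 b5347 (Nat.zero_le _) (Nat.le_of_ble_eq_true rfl) rfl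

theorem c5348 : Block F al 0 1369344 1302179 :=
  block_comb c5347 b5348 (Nat.zero_le _) (Nat.le_of_ble_eq_true rfl) rfl

theorem c5349 : Block F al 0 1369600 1302434 :=
  block_comb c5348 b5349 (Nat.zero_le _) (Nat.le_of_ble_eq_true rfl) rfl

theorem c5350 : Block F al 0 1369856 1302690 :=
  block_comb c5349 b5350 (Nat.zero_le _) (Nat.le_of_ble_eq_true rfl) rfl

theorem c5351 : Block F al 0 1370112 1302946 :=
  block_comb c5350 b5351 (Nat.zero_le _) (Nat.le_of_ble_eq_true rfl) rfl

theorem c5352 : Block F al 0 1370368 1303202 :=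
  block_comb c5351 b5352 (Nat.zero_le _) (Nat.le_of_ble_eq_true rfl) rfl

theorem c5353 : Block F al 0 1370624 1303458 :=
  block_comb c5352 b5353 (Nat.zero_le _) (Nat.le_of_ble_eq_true rfl) rfl

theorem c5354 : Block F al 0 1370880 1303714 :=
  block_comb c5353 b5354 (Nat.zero_le _) (Nat.le_of_ble_eq_true rfl) rfl

theorem c5355 : Block F al 0 1371136 1303970 :=
  block_comb c5354 b5355 (Nat.zero_le _) (Nat.le_of_ble_eq_true rfl) rfl

theorem c5356 : Block F al 0 1371392 1304226 :=
  block_comb c5355 b5356 (Nat.zero_le _) (Nat.le_of_ble_eq_true rfl) rfl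

theorem c5357 : Block F al 0 1371648 1304482 :=
  block_comb c5356 b5357 (Nat.zero_le _) (Nat.le_of_ble_eq_true rfl) rfl

theorem c5358 : Block F al 0 1371904 1304738 :=
  block_comb c5357 b5358 (Nat.zero_le _) (Nat.le_of_ble_eq_true rfl) rfl

theorem c5359 : Block F al 0 1372160 1304994 :=
  block_comb c5358 b5359 (Nat.zero_le _) (Nat.le_of_ble_eq_true rfl) rfl

theorem c5360 : Block F al 0 1372416 1305250 :=
  block_comb c5359 b5360 (Nat.zero_le _) (Nat.le_of_ble_eq_true rfl) rfl

theorem c5361 : Block F al 0 1372672 1305506 :=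
  block_comb c5360 b5361 (Nat.zero_le _) (Nat.le_of_ble_eq_true rfl) rfl

theorem c5362 : Block F al 0 1372928 1305762 :=
  block_comb c5361 b5362 (Nat.zero_le _) (Nat.le_of_ble_eq_true rfl) rfl

theorem c5363 : Block F al 0 1373184 1306018 :=
  block_comb c5362 b5363 (Nat.zero_le _) (Nat.le_of_ble_eq_true rfl) rfl

theorem c5364 : Block F al 0 1373440 1306274 :=
  block_comb c5363 b5364 (Nat.zero_le _) (Nat.le_of_ble_eq_true rfl) rfl

theorem c5365 : Block F al 0 1373696 1306530 :=
  block_comb c5364 b5365 (Nat.zero_le _) (Nat.le_of_ble_eq_true rfl) rfl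

theorem c5366 : Block F al 0 1373952 1306786 :=
  block_comb c5365 b5366 (Nat.zero_le _) (Nat.le_of_ble_eq_true rfl) rfl

theorem c5367 : Block F al 0 1374208 1307042 :=
  block_comb c5366 b5367 (Nat.zero_le _) (Nat.le_of_ble_eq_true rfl) rfl

theorem c5368 : Block F al 0 1374464 1307298 :=
  block_comb c5367 b5368 (Nat.zero_le _) (Nat.le_of_ble_eq_true rfl) rfl

theorem c5369 : Block F al 0 1374720 1307554 :=
  block_comb c5368 b5369 (Nat.zero_le _) (Nat.le_of_ble_eq_true rfl) rfl

theorem c5370 : Block F al 0 1374976 1307810 :=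
  block_comb c5369 b5370 (Nat.zero_le _) (Nat.le_of_ble_eq_true rfl) rfl

theorem c5371 : Block F al 0 1375232 1308066 :=
  block_comb c5370 b5371 (Nat.zero_le _) (Nat.le_of_ble_eq_true rfl) rfl

theorem c5372 : Block F al 0 1375488 1308322 :=
  block_comb c5371 b5372 (Nat.zero_le _) (Nat.le_of_ble_eq_true rfl) rfl

theorem c5373 : Block F al 0 1375744 1308575 :=
  block_comb c5372 b5373 (Nat.zero_le _) (Nat.le_of_ble_eq_true rfl) rfl

theorem c5374 : Block F al 0 1376000 1308831 :=
  block_comb c5373 b5374 (Nat.zero_le _) (Nat.le_of_ble_eq_true rfl) rfl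

theorem c5375 : Block F al 0 1376256 1309087 :=
  block_comb c5374 b5375 (Nat.zero_le _) (Nat.le_of_ble_eq_true rfl) rfl

theorem c5376 : Block F al 0 1376512 1309343 :=
  block_comb c5375 b5376 (Nat.zero_le _) (Nat.le_of_ble_eq_true rfl) rfl

theorem c5377 : Block F al 0 1376768 1309597 :=
  block_comb c5376 b5377 (Nat.zero_le _) (Nat.le_of_ble_eq_true rfl) rfl

theorem c5378 : Block F al 0 1377024 1309853 :=
  block_comb c5377 b5378 (Nat.zero_le _) (Nat.le_of_ble_eq_true rfl) rfl

theorem c5379 : Block F al 0 1377280 1310109 :=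
  block_comb c5378 b5379 (Nat.zero_le _) (Nat.le_of_ble_eq_true rfl) rfl

theorem c5380 : Block F al 0 1377536 1310365 :=
  block_comb c5379 b5380 (Nat.zero_le _) (Nat.le_of_ble_eq_true rfl) rfl

theorem c5381 : Block F al 0 1377792 1310619 :=
  block_comb c5380 b5381 (Nat.zero_le _) (Nat.le_of_ble_eq_true rfl) rfl

theorem c5382 : Block F al 0 1378048 1310875 :=
  block_comb c5381 b5382 (Nat.zero_le _) (Nat.le_of_ble_eq_true rfl) rfl

theorem c5383 : Block F al 0 1378304 1311131 :=
  block_comb c5382 b5383 (Nat.zero_le _) (Nat.le_of_ble_eq_true rfl) rfl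

theorem c5384 : Block F al 0 1378560 1311385 :=
  block_comb c5383 b5384 (Nat.zero_le _) (Nat.le_of_ble_eq_true rfl) rfl

theorem c5385 : Block F al 0 1378816 1311640 :=
  block_comb c5384 b5385 (Nat.zero_le _) (Nat.le_of_ble_eq_true rfl) rfl

theorem c5386 : Block F al 0 1379072 1311896 :=
  block_comb c5385 b5386 (Nat.zero_le _) (Nat.le_of_ble_eq_true rfl) rfl

theorem c5387 : Block F al 0 1379328 1312150 :=
  block_comb c5386 b5387 (Nat.zero_le _) (Nat.le_of_ble_eq_true rfl) rfl

theorem c5388 : Block F al 0 1379584 1312406 :=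
  block_comb c5387 b5388 (Nat.zero_le _) (Nat.le_of_ble_eq_true rfl) rfl

theorem c5389 : Block F al 0 1379840 1312662 :=
  block_comb c5388 b5389 (Nat.zero_le _) (Nat.le_of_ble_eq_true rfl) rfl

theorem c5390 : Block F al 0 1380096 1312918 :=
  block_comb c5389 b5390 (Nat.zero_le _) (Nat.le_of_ble_eq_true rfl) rfl

theorem c5391 : Block F al 0 1380352 1313172 :=
  block_comb c5390 b5391 (Nat.zero_le _) (Nat.le_of_ble_eq_true rfl) rfl

theorem c5392 : Block F al 0 1380608 1313427 :=
  block_comb c5391 b5392 (Nat.zero_le _) (Nat.le_of_ble_eq_true rfl) rfl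

theorem c5393 : Block F al 0 1380864 1313682 :=
  block_comb c5392 b5393 (Nat.zero_le _) (Nat.le_of_ble_eq_true rfl) rfl

theorem c5394 : Block F al 0 1381120 1313937 :=
  block_comb c5393 b5394 (Nat.zero_le _) (Nat.le_of_ble_eq_true rfl) rfl

theorem c5395 : Block F al 0 1381376 1314192 :=
  block_comb c5394 b5395 (Nat.zero_le _) (Nat.le_of_ble_eq_true rfl) rfl

theorem c5396 : Block F al 0 1381632 1314447 :=
  block_comb c5395 b5396 (Nat.zero_le _) (Nat.le_of_ble_eq_true rfl) rfl

theorem c5397 : Block F al 0 1381888 1314702 :=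
  block_comb c5396 b5397 (Nat.zero_le _) (Nat.le_of_ble_eq_true rfl) rfl

theorem c5398 : Block F al 0 1382144 1314956 :=
  block_comb c5397 b5398 (Nat.zero_le _) (Nat.le_of_ble_eq_true rfl) rfl

theorem c5399 : Block F al 0 1382400 1315210 :=
  block_comb c5398 b5399 (Nat.zero_le _) (Nat.le_of_ble_eq_true rfl) rfl

theorem c5400 : Block F al 0 1382656 1315464 :=
  block_comb c5399 b5400 (Nat.zero_le _) (Nat.le_of_ble_eq_true rfl) rfl

theorem c5401 : Block F al 0 1382912 1315720 :=
  block_comb c5400 b5401 (Nat.zero_le _) (Nat.le_of_ble_eq_true rfl) rfl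

theorem c5402 : Block F al 0 1383168 1315976 :=
  block_comb c5401 b5402 (Nat.zero_le _) (Nat.le_of_ble_eq_true rfl) rfl

theorem c5403 : Block F al 0 1383424 1316232 :=
  block_comb c5402 b5403 (Nat.zero_le _) (Nat.le_of_ble_eq_true rfl) rfl

theorem c5404 : Block F al 0 1383680 1316486 :=
  block_comb c5403 b5404 (Nat.zero_le _) (Nat.le_of_ble_eq_true rfl) rfl

theorem c5405 : Block F al 0 1383936 1316739 :=
  block_comb c5404 b5405 (Nat.zero_le _) (Nat.le_of_ble_eq_true rfl) rfl

theorem c5406 : Block F al 0 1384192 1316995 :=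
  block_comb c5405 b5406 (Nat.zero_le _) (Nat.le_of_ble_eq_true rfl) rfl

theorem c5407 : Block F al 0 1384448 1317249 :=
  block_comb c5406 b5407 (Nat.zero_le _) (Nat.le_of_ble_eq_true rfl) rfl

theorem c5408 : Block F al 0 1384704 1317505 :=
  block_comb c5407 b5408 (Nat.zero_le _) (Nat.le_of_ble_eq_true rfl) rfl

theorem c5409 : Block F al 0 1384960 1317761 :=
  block_comb c5408 b5409 (Nat.zero_le _) (Nat.le_of_ble_eq_true rfl) rfl

theorem c5410 : Block F al 0 1385216 1318015 :=
  block_comb c5409 b5410 (Nat.zero_le _) (Nat.le_of_ble_eq_true rfl) rfl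

theorem c5411 : Block F al 0 1385472 1318271 :=
  block_comb c5410 b5411 (Nat.zero_le _) (Nat.le_of_ble_eq_true rfl) rfl

theorem c5412 : Block F al 0 1385728 1318527 :=
  block_comb c5411 b5412 (Nat.zero_le _) (Nat.le_of_ble_eq_true rfl) rfl

theorem c5413 : Block F al 0 1385984 1318782 :=
  block_comb c5412 b5413 (Nat.zero_le _) (Nat.le_of_ble_eq_true rfl) rfl

theorem c5414 : Block F al 0 1386240 1319038 :=
  block_comb c5413 b5414 (Nat.zero_le _) (Nat.le_of_ble_eq_true rfl) rfl

theorem c5415 : Block F al 0 1386496 1319294 :=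
  block_comb c5414 b5415 (Nat.zero_le _) (Nat.le_of_ble_eq_true rfl) rfl

theorem c5416 : Block F al 0 1386752 1319550 :=
  block_comb c5415 b5416 (Nat.zero_le _) (Nat.le_of_ble_eq_true rfl) rfl

theorem c5417 : Block F al 0 1387008 1319806 :=
  block_comb c5416 b5417 (Nat.zero_le _) (Nat.le_of_ble_eq_true rfl) rfl

theorem c5418 : Block F al 0 1387264 1320062 :=
  block_comb c5417 b5418 (Nat.zero_le _) (Nat.le_of_ble_eq_true rfl) rfl

theorem c5419 : Block F al 0 1387520 1320318 :=
  block_comb c5418 b5419 (Nat.zero_le _) (Nat.le_of_ble_eq_true rfl) rfl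

theorem c5420 : Block F al 0 1387776 1320574 :=
  block_comb c5419 b5420 (Nat.zero_le _) (Nat.le_of_ble_eq_true rfl) rfl

theorem c5421 : Block F al 0 1388032 1320829 :=
  block_comb c5420 b5421 (Nat.zero_le _) (Nat.le_of_ble_eq_true rfl) rfl

theorem c5422 : Block F al 0 1388288 1321085 :=
  block_comb c5421 b5422 (Nat.zero_le _) (Nat.le_of_ble_eq_true rfl) rfl

theorem c5423 : Block F al 0 1388544 1321339 :=
  block_comb c5422 b5423 (Nat.zero_le _) (Nat.le_of_ble_eq_true rfl) rfl

theorem c5424 : Block F al 0 1388800 1321594 :=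
  block_comb c5423 b5424 (Nat.zero_le _) (Nat.le_of_ble_eq_true rfl) rfl

theorem c5425 : Block F al 0 1389056 1321850 :=
  block_comb c5424 b5425 (Nat.zero_le _) (Nat.le_of_ble_eq_true rfl) rfl

theorem c5426 : Block F al 0 1389312 1322106 :=
  block_comb c5425 b5426 (Nat.zero_le _) (Nat.le_of_ble_eq_true rfl) rfl

theorem c5427 : Block F al 0 1389568 1322362 :=
  block_comb c5426 b5427 (Nat.zero_le _) (Nat.le_of_ble_eq_true rfl) rfl

theorem c5428 : Block F al 0 1389824 1322618 :=
  block_comb c5427 b5428 (Nat.zero_le _) (Nat.le_of_ble_eq_true rfl) rfl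

theorem c5429 : Block F al 0 1390080 1322874 :=
  block_comb c5428 b5429 (Nat.zero_le _) (Nat.le_of_ble_eq_true rfl) rfl

theorem c5430 : Block F al 0 1390336 1323130 :=
  block_comb c5429 b5430 (Nat.zero_le _) (Nat.le_of_ble_eq_true rfl) rfl

theorem c5431 : Block F al 0 1390592 1323386 :=
  block_comb c5430 b5431 (Nat.zero_le _) (Nat.le_of_ble_eq_true rfl) rfl

theorem c5432 : Block F al 0 1390848 1323641 :=
  block_comb c5431 b5432 (Nat.zero_le _) (Nat.le_of_ble_eq_true rfl) rfl

theorem c5433 : Block F al 0 1391104 1323897 :=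
  block_comb c5432 b5433 (Nat.zero_le _) (Nat.le_of_ble_eq_true rfl) rfl

theorem c5434 : Block F al 0 1391360 1324153 :=
  block_comb c5433 b5434 (Nat.zero_le _) (Nat.le_of_ble_eq_true rfl) rfl

theorem c5435 : Block F al 0 1391616 1324409 :=
  block_comb c5434 b5435 (Nat.zero_le _) (Nat.le_of_ble_eq_true rfl) rfl

theorem c5436 : Block F al 0 1391872 1324664 :=
  block_comb c5435 b5436 (Nat.zero_le _) (Nat.le_of_ble_eq_true rfl) rfl

theorem c5437 : Block F al 0 1392128 1324920 :=
  block_comb c5436 b5437 (Nat.zero_le _) (Nat.le_of_ble_eq_true rfl) rfl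

theorem c5438 : Block F al 0 1392384 1325174 :=
  block_comb c5437 b5438 (Nat.zero_le _) (Nat.le_of_ble_eq_true rfl) rfl

theorem c5439 : Block F al 0 1392640 1325430 :=
  block_comb c5438 b5439 (Nat.zero_le _) (Nat.le_of_ble_eq_true rfl) rfl

theorem c5440 : Block F al 0 1392896 1325686 :=
  block_comb c5439 b5440 (Nat.zero_le _) (Nat.le_of_ble_eq_true rfl) rfl

theorem c5441 : Block F al 0 1393152 1325940 :=
  block_comb c5440 b5441 (Nat.zero_le _) (Nat.le_of_ble_eq_true rfl) rfl

theorem c5442 : Block F al 0 1393408 1326196 :=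
  block_comb c5441 b5442 (Nat.zero_le _) (Nat.le_of_ble_eq_true rfl) rfl

theorem c5443 : Block F al 0 1393664 1326452 :=
  block_comb c5442 b5443 (Nat.zero_le _) (Nat.le_of_ble_eq_true rfl) rfl

theorem c5444 : Block F al 0 1393920 1326708 :=
  block_comb c5443 b5444 (Nat.zero_le _) (Nat.le_of_ble_eq_true rfl) rfl

theorem c5445 : Block F al 0 1394176 1326964 :=
  block_comb c5444 b5445 (Nat.zero_le _) (Nat.le_of_ble_eq_true rfl) rfl

theorem c5446 : Block F al 0 1394432 1327220 :=
  block_comb c5445 b5446 (Nat.zero_le _) (Nat.le_of_ble_eq_true rfl) rfl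

theorem c5447 : Block F al 0 1394688 1327476 :=
  block_comb c5446 b5447 (Nat.zero_le _) (Nat.le_of_ble_eq_true rfl) rfl

theorem c5448 : Block F al 0 1394944 1327732 :=
  block_comb c5447 b5448 (Nat.zero_le _) (Nat.le_of_ble_eq_true rfl) rfl

theorem c5449 : Block F al 0 1395200 1327988 :=
  block_comb c5448 b5449 (Nat.zero_le _) (Nat.le_of_ble_eq_true rfl) rfl

theorem c5450 : Block F al 0 1395456 1328244 :=
  block_comb c5449 b5450 (Nat.zero_le _) (Nat.le_of_ble_eq_true rfl) rfl

theorem c5451 : Block F al 0 1395712 1328497 :=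
  block_comb c5450 b5451 (Nat.zero_le _) (Nat.le_of_ble_eq_true rfl) rfl

theorem c5452 : Block F al 0 1395968 1328750 :=
  block_comb c5451 b5452 (Nat.zero_le _) (Nat.le_of_ble_eq_true rfl) rfl

theorem c5453 : Block F al 0 1396224 1329006 :=
  block_comb c5452 b5453 (Nat.zero_le _) (Nat.le_of_ble_eq_true rfl) rfl

theorem c5454 : Block F al 0 1396480 1329260 :=
  block_comb c5453 b5454 (Nat.zero_le _) (Nat.le_of_ble_eq_true rfl) rfl

theorem c5455 : Block F al 0 1396736 1329512 :=
  block_comb c5454 b5455 (Nat.zero_le _) (Nat.le_of_ble_eq_true rfl) rfl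

theorem c5456 : Block F al 0 1396992 1329768 :=
  block_comb c5455 b5456 (Nat.zero_le _) (Nat.le_of_ble_eq_true rfl) rfl

theorem c5457 : Block F al 0 1397248 1330024 :=
  block_comb c5456 b5457 (Nat.zero_le _) (Nat.le_of_ble_eq_true rfl) rfl

theorem c5458 : Block F al 0 1397504 1330277 :=
  block_comb c5457 b5458 (Nat.zero_le _) (Nat.le_of_ble_eq_true rfl) rfl

theorem c5459 : Block F al 0 1397760 1330533 :=
  block_comb c5458 b5459 (Nat.zero_le _) (Nat.le_of_ble_eq_true rfl) rfl

theorem c5460 : Block F al 0 1398016 1330788 :=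
  block_comb c5459 b5460 (Nat.zero_le _) (Nat.le_of_ble_eq_true rfl) rfl

theorem c5461 : Block F al 0 1398272 1331044 :=
  block_comb c5460 b5461 (Nat.zero_le _) (Nat.le_of_ble_eq_true rfl) rfl

theorem c5462 : Block F al 0 1398528 1331300 :=
  block_comb c5461 b5462 (Nat.zero_le _) (Nat.le_of_ble_eq_true rfl) rfl

theorem c5463 : Block F al 0 1398784 1331552 :=
  block_comb c5462 b5463 (Nat.zero_le _) (Nat.le_of_ble_eq_true rfl) rfl

theorem c5464 : Block F al 0 1399040 1331808 :=
  block_comb c5463 b5464 (Nat.zero_le _) (Nat.le_of_ble_eq_true rfl) rfl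

theorem c5465 : Block F al 0 1399296 1332064 :=
  block_comb c5464 b5465 (Nat.zero_le _) (Nat.le_of_ble_eq_true rfl) rfl

theorem c5466 : Block F al 0 1399552 1332320 :=
  block_comb c5465 b5466 (Nat.zero_le _) (Nat.le_of_ble_eq_true rfl) rfl

theorem c5467 : Block F al 0 1399808 1332576 :=
  block_comb c5466 b5467 (Nat.zero_le _) (Nat.le_of_ble_eq_true rfl) rfl

theorem c5468 : Block F al 0 1400064 1332831 :=
  block_comb c5467 b5468 (Nat.zero_le _) (Nat.le_of_ble_eq_true rfl) rfl

theorem c5469 : Block F al 0 1400320 1333087 :=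
  block_comb c5468 b5469 (Nat.zero_le _) (Nat.le_of_ble_eq_true rfl) rfl

theorem c5470 : Block F al 0 1400576 1333339 :=
  block_comb c5469 b5470 (Nat.zero_le _) (Nat.le_of_ble_eq_true rfl) rfl

theorem c5471 : Block F al 0 1400832 1333595 :=
  block_comb c5470 b5471 (Nat.zero_le _) (Nat.le_of_ble_eq_true rfl) rfl

theorem c5472 : Block F al 0 1401088 1333851 :=
  block_comb c5471 b5472 (Nat.zero_le _) (Nat.le_of_ble_eq_true rfl) rfl

theorem c5473 : Block F al 0 1401344 1334107 :=
  block_comb c5472 b5473 (Nat.zero_le _) (Nat.le_of_ble_eq_true rfl) rfl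

theorem c5474 : Block F al 0 1401600 1334363 :=
  block_comb c5473 b5474 (Nat.zero_le _) (Nat.le_of_ble_eq_true rfl) rfl

theorem c5475 : Block F al 0 1401856 1334619 :=
  block_comb c5474 b5475 (Nat.zero_le _) (Nat.le_of_ble_eq_true rfl) rfl

theorem c5476 : Block F al 0 1402112 1334875 :=
  block_comb c5475 b5476 (Nat.zero_le _) (Nat.le_of_ble_eq_true rfl) rfl

theorem c5477 : Block F al 0 1402368 1335131 :=
  block_comb c5476 b5477 (Nat.zero_le _) (Nat.le_of_ble_eq_true rfl) rfl

theorem c5478 : Block F al 0 1402624 1335387 :=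
  block_comb c5477 b5478 (Nat.zero_le _) (Nat.le_of_ble_eq_true rfl) rfl

theorem c5479 : Block F al 0 1402880 1335640 :=
  block_comb c5478 b5479 (Nat.zero_le _) (Nat.le_of_ble_eq_true rfl) rfl

theorem c5480 : Block F al 0 1403136 1335896 :=
  block_comb c5479 b5480 (Nat.zero_le _) (Nat.le_of_ble_eq_true rfl) rfl

theorem c5481 : Block F al 0 1403392 1336152 :=
  block_comb c5480 b5481 (Nat.zero_le _) (Nat.le_of_ble_eq_true rfl) rfl

theorem c5482 : Block F al 0 1403648 1336408 :=
  block_comb c5481 b5482 (Nat.zero_le _) (Nat.le_of_ble_eq_true rfl) rfl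

theorem c5483 : Block F al 0 1403904 1336664 :=
  block_comb c5482 b5483 (Nat.zero_le _) (Nat.le_of_ble_eq_true rfl) rfl

theorem c5484 : Block F al 0 1404160 1336918 :=
  block_comb c5483 b5484 (Nat.zero_le _) (Nat.le_of_ble_eq_true rfl) rfl

theorem c5485 : Block F al 0 1404416 1337174 :=
  block_comb c5484 b5485 (Nat.zero_le _) (Nat.le_of_ble_eq_true rfl) rfl

theorem c5486 : Block F al 0 1404672 1337430 :=
  block_comb c5485 b5486 (Nat.zero_le _) (Nat.le_of_ble_eq_true rfl) rfl

theorem c5487 : Block F al 0 1404928 1337686 :=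
  block_comb c5486 b5487 (Nat.zero_le _) (Nat.le_of_ble_eq_true rfl) rfl

theorem c5488 : Block F al 0 1405184 1337942 :=
  block_comb c5487 b5488 (Nat.zero_le _) (Nat.le_of_ble_eq_true rfl) rfl

theorem c5489 : Block F al 0 1405440 1338198 :=
  block_comb c5488 b5489 (Nat.zero_le _) (Nat.le_of_ble_eq_true rfl) rfl

theorem c5490 : Block F al 0 1405696 1338454 :=
  block_comb c5489 b5490 (Nat.zero_le _) (Nat.le_of_ble_eq_true rfl) rfl

theorem c5491 : Block F al 0 1405952 1338710 :=
  block_comb c5490 b5491 (Nat.zero_le _) (Nat.le_of_ble_eq_true rfl) rfl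

theorem c5492 : Block F al 0 1406208 1338966 :=
  block_comb c5491 b5492 (Nat.zero_le _) (Nat.le_of_ble_eq_true rfl) rfl

theorem c5493 : Block F al 0 1406464 1339222 :=
  block_comb c5492 b5493 (Nat.zero_le _) (Nat.le_of_ble_eq_true rfl) rfl

theorem c5494 : Block F al 0 1406720 1339478 :=
  block_comb c5493 b5494 (Nat.zero_le _) (Nat.le_of_ble_eq_true rfl) rfl

theorem c5495 : Block F al 0 1406976 1339734 :=
  block_comb c5494 b5495 (Nat.zero_le _) (Nat.le_of_ble_eq_true rfl) rfl

theorem c5496 : Block F al 0 1407232 1339990 :=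
  block_comb c5495 b5496 (Nat.zero_le _) (Nat.le_of_ble_eq_true rfl) rfl

theorem c5497 : Block F al 0 1407488 1340246 :=
  block_comb c5496 b5497 (Nat.zero_le _) (Nat.le_of_ble_eq_true rfl) rfl

theorem c5498 : Block F al 0 1407744 1340502 :=
  block_comb c5497 b5498 (Nat.zero_le _) (Nat.le_of_ble_eq_true rfl) rfl

theorem c5499 : Block F al 0 1408000 1340758 :=
  block_comb c5498 b5499 (Nat.zero_le _) (Nat.le_of_ble_eq_true rfl) rfl

theorem c5500 : Block F al 0 1408256 1341014 :=
  block_comb c5499 b5500 (Nat.zero_le _) (Nat.le_of_ble_eq_true rfl) rfl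

theorem c5501 : Block F al 0 1408512 1341270 :=
  block_comb c5500 b5501 (Nat.zero_le _) (Nat.le_of_ble_eq_true rfl) rfl

theorem c5502 : Block F al 0 1408768 1341526 :=
  block_comb c5501 b5502 (Nat.zero_le _) (Nat.le_of_ble_eq_true rfl) rfl

theorem c5503 : Block F al 0 1409024 1341782 :=
  block_comb c5502 b5503 (Nat.zero_le _) (Nat.le_of_ble_eq_true rfl) rfl

theorem c5504 : Block F al 0 1409280 1342038 :=
  block_comb c5503 b5504 (Nat.zero_le _) (Nat.le_of_ble_eq_true rfl) rfl

theorem c5505 : Block F al 0 1409536 1342294 :=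
  block_comb c5504 b5505 (Nat.zero_le _) (Nat.le_of_ble_eq_true rfl) rfl

theorem c5506 : Block F al 0 1409792 1342550 :=
  block_comb c5505 b5506 (Nat.zero_le _) (Nat.le_of_ble_eq_true rfl) rfl

theorem c5507 : Block F al 0 1410048 1342806 :=
  block_comb c5506 b5507 (Nat.zero_le _) (Nat.le_of_ble_eq_true rfl) rfl

theorem c5508 : Block F al 0 1410304 1343060 :=
  block_comb c5507 b5508 (Nat.zero_le _) (Nat.le_of_ble_eq_true rfl) rfl

theorem c5509 : Block F al 0 1410560 1343316 :=
  block_comb c5508 b5509 (Nat.zero_le _) (Nat.le_of_ble_eq_true rfl) rfl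

theorem c5510 : Block F al 0 1410816 1343572 :=
  block_comb c5509 b5510 (Nat.zero_le _) (Nat.le_of_ble_eq_true rfl) rfl

theorem c5511 : Block F al 0 1411072 1343828 :=
  block_comb c5510 b5511 (Nat.zero_le _) (Nat.le_of_ble_eq_true rfl) rfl

theorem c5512 : Block F al 0 1411328 1344084 :=
  block_comb c5511 b5512 (Nat.zero_le _) (Nat.le_of_ble_eq_true rfl) rfl

theorem c5513 : Block F al 0 1411584 1344339 :=
  block_comb c5512 b5513 (Nat.zero_le _) (Nat.le_of_ble_eq_true rfl) rfl

theorem c5514 : Block F al 0 1411840 1344595 :=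
  block_comb c5513 b5514 (Nat.zero_le _) (Nat.le_of_ble_eq_true rfl) rfl

theorem c5515 : Block F al 0 1412096 1344851 :=
  block_comb c5514 b5515 (Nat.zero_le _) (Nat.le_of_ble_eq_true rfl) rfl

theorem c5516 : Block F al 0 1412352 1345107 :=
  block_comb c5515 b5516 (Nat.zero_le _) (Nat.le_of_ble_eq_true rfl) rfl

theorem c5517 : Block F al 0 1412608 1345361 :=
  block_comb c5516 b5517 (Nat.zero_le _) (Nat.le_of_ble_eq_true rfl) rfl

theorem c5518 : Block F al 0 1412864 1345617 :=
  block_comb c5517 b5518 (Nat.zero_le _) (Nat.le_of_ble_eq_true rfl) rfl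

theorem c5519 : Block F al 0 1413120 1345873 :=
  block_comb c5518 b5519 (Nat.zero_le _) (Nat.le_of_ble_eq_true rfl) rfl

theorem c5520 : Block F al 0 1413376 1346129 :=
  block_comb c5519 b5520 (Nat.zero_le _) (Nat.le_of_ble_eq_true rfl) rfl

theorem c5521 : Block F al 0 1413632 1346385 :=
  block_comb c5520 b5521 (Nat.zero_le _) (Nat.le_of_ble_eq_true rfl) rfl

theorem c5522 : Block F al 0 1413888 1346641 :=
  block_comb c5521 b5522 (Nat.zero_le _) (Nat.le_of_ble_eq_true rfl) rfl

theorem c5523 : Block F al 0 1414144 1346897 :=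
  block_comb c5522 b5523 (Nat.zero_le _) (Nat.le_of_ble_eq_true rfl) rfl

theorem c5524 : Block F al 0 1414400 1347153 :=
  block_comb c5523 b5524 (Nat.zero_le _) (Nat.le_of_ble_eq_true rfl) rfl

theorem c5525 : Block F al 0 1414656 1347409 :=
  block_comb c5524 b5525 (Nat.zero_le _) (Nat.le_of_ble_eq_true rfl) rfl

theorem c5526 : Block F al 0 1414912 1347665 :=
  block_comb c5525 b5526 (Nat.zero_le _) (Nat.le_of_ble_eq_true rfl) rfl

theorem c5527 : Block F al 0 1415168 1347920 :=
  block_comb c5526 b5527 (Nat.zero_le _) (Nat.le_of_ble_eq_true rfl) rfl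

theorem c5528 : Block F al 0 1415424 1348175 :=
  block_comb c5527 b5528 (Nat.zero_le _) (Nat.le_of_ble_eq_true rfl) rfl

theorem c5529 : Block F al 0 1415680 1348430 :=
  block_comb c5528 b5529 (Nat.zero_le _) (Nat.le_of_ble_eq_true rfl) rfl

theorem c5530 : Block F al 0 1415936 1348686 :=
  block_comb c5529 b5530 (Nat.zero_le _) (Nat.le_of_ble_eq_true rfl) rfl

theorem c5531 : Block F al 0 1416192 1348940 :=
  block_comb c5530 b5531 (Nat.zero_le _) (Nat.le_of_ble_eq_true rfl) rfl

theorem c5532 : Block F al 0 1416448 1349196 :=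
  block_comb c5531 b5532 (Nat.zero_le _) (Nat.le_of_ble_eq_true rfl) rfl

theorem c5533 : Block F al 0 1416704 1349452 :=
  block_comb c5532 b5533 (Nat.zero_le _) (Nat.le_of_ble_eq_true rfl) rfl

theorem c5534 : Block F al 0 1416960 1349708 :=
  block_comb c5533 b5534 (Nat.zero_le _) (Nat.le_of_ble_eq_true rfl) rfl

theorem c5535 : Block F al 0 1417216 1349964 :=
  block_comb c5534 b5535 (Nat.zero_le _) (Nat.le_of_ble_eq_true rfl) rfl

theorem c5536 : Block F al 0 1417472 1350220 :=
  block_comb c5535 b5536 (Nat.zero_le _) (Nat.le_of_ble_eq_true rfl) rfl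

theorem c5537 : Block F al 0 1417728 1350476 :=
  block_comb c5536 b5537 (Nat.zero_le _) (Nat.le_of_ble_eq_true rfl) rfl

theorem c5538 : Block F al 0 1417984 1350732 :=
  block_comb c5537 b5538 (Nat.zero_le _) (Nat.le_of_ble_eq_true rfl) rfl

theorem c5539 : Block F al 0 1418240 1350988 :=
  block_comb c5538 b5539 (Nat.zero_le _) (Nat.le_of_ble_eq_true rfl) rfl

theorem c5540 : Block F al 0 1418496 1351244 :=
  block_comb c5539 b5540 (Nat.zero_le _) (Nat.le_of_ble_eq_true rfl) rfl

theorem c5541 : Block F al 0 1418752 1351500 :=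
  block_comb c5540 b5541 (Nat.zero_le _) (Nat.le_of_ble_eq_true rfl) rfl

theorem c5542 : Block F al 0 1419008 1351756 :=
  block_comb c5541 b5542 (Nat.zero_le _) (Nat.le_of_ble_eq_true rfl) rfl

theorem c5543 : Block F al 0 1419264 1352012 :=
  block_comb c5542 b5543 (Nat.zero_le _) (Nat.le_of_ble_eq_true rfl) rfl

theorem c5544 : Block F al 0 1419520 1352268 :=
  block_comb c5543 b5544 (Nat.zero_le _) (Nat.le_of_ble_eq_true rfl) rfl

theorem c5545 : Block F al 0 1419776 1352519 :=
  block_comb c5544 b5545 (Nat.zero_le _) (Nat.le_of_ble_eq_true rfl) rfl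

theorem c5546 : Block F al 0 1420032 1352775 :=
  block_comb c5545 b5546 (Nat.zero_le _) (Nat.le_of_ble_eq_true rfl) rfl

theorem c5547 : Block F al 0 1420288 1353031 :=
  block_comb c5546 b5547 (Nat.zero_le _) (Nat.le_of_ble_eq_true rfl) rfl

theorem c5548 : Block F al 0 1420544 1353287 :=
  block_comb c5547 b5548 (Nat.zero_le _) (Nat.le_of_ble_eq_true rfl) rfl

theorem c5549 : Block F al 0 1420800 1353542 :=
  block_comb c5548 b5549 (Nat.zero_le _) (Nat.le_of_ble_eq_true rfl) rfl

theorem c5550 : Block F al 0 1421056 1353798 :=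
  block_comb c5549 b5550 (Nat.zero_le _) (Nat.le_of_ble_eq_true rfl) rfl

theorem c5551 : Block F al 0 1421312 1354054 :=
  block_comb c5550 b5551 (Nat.zero_le _) (Nat.le_of_ble_eq_true rfl) rfl

theorem c5552 : Block F al 0 1421568 1354310 :=
  block_comb c5551 b5552 (Nat.zero_le _) (Nat.le_of_ble_eq_true rfl) rfl

theorem c5553 : Block F al 0 1421824 1354566 :=
  block_comb c5552 b5553 (Nat.zero_le _) (Nat.le_of_ble_eq_true rfl) rfl

theorem c5554 : Block F al 0 1422080 1354820 :=
  block_comb c5553 b5554 (Nat.zero_le _) (Nat.le_of_ble_eq_true rfl) rfl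

theorem c5555 : Block F al 0 1422336 1355075 :=
  block_comb c5554 b5555 (Nat.zero_le _) (Nat.le_of_ble_eq_true rfl) rfl

theorem c5556 : Block F al 0 1422592 1355331 :=
  block_comb c5555 b5556 (Nat.zero_le _) (Nat.le_of_ble_eq_true rfl) rfl

theorem c5557 : Block F al 0 1422848 1355587 :=
  block_comb c5556 b5557 (Nat.zero_le _) (Nat.le_of_ble_eq_true rfl) rfl

theorem c5558 : Block F al 0 1423104 1355843 :=
  block_comb c5557 b5558 (Nat.zero_le _) (Nat.le_of_ble_eq_true rfl) rfl

theorem c5559 : Block F al 0 1423360 1356099 :=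
  block_comb c5558 b5559 (Nat.zero_le _) (Nat.le_of_ble_eq_true rfl) rfl

theorem c5560 : Block F al 0 1423616 1356355 :=
  block_comb c5559 b5560 (Nat.zero_le _) (Nat.le_of_ble_eq_true rfl) rfl

theorem c5561 : Block F al 0 1423872 1356611 :=
  block_comb c5560 b5561 (Nat.zero_le _) (Nat.le_of_ble_eq_true rfl) rfl

theorem c5562 : Block F al 0 1424128 1356867 :=
  block_comb c5561 b5562 (Nat.zero_le _) (Nat.le_of_ble_eq_true rfl) rfl

theorem c5563 : Block F al 0 1424384 1357123 :=
  block_comb c5562 b5563 (Nat.zero_le _) (Nat.le_of_ble_eq_true rfl) rfl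

theorem c5564 : Block F al 0 1424640 1357379 :=
  block_comb c5563 b5564 (Nat.zero_le _) (Nat.le_of_ble_eq_true rfl) rfl

theorem c5565 : Block F al 0 1424896 1357635 :=
  block_comb c5564 b5565 (Nat.zero_le _) (Nat.le_of_ble_eq_true rfl) rfl

theorem c5566 : Block F al 0 1425152 1357891 :=
  block_comb c5565 b5566 (Nat.zero_le _) (Nat.le_of_ble_eq_true rfl) rfl

theorem c5567 : Block F al 0 1425408 1358145 :=
  block_comb c5566 b5567 (Nat.zero_le _) (Nat.le_of_ble_eq_true rfl) rfl

theorem c5568 : Block F al 0 1425664 1358401 :=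
  block_comb c5567 b5568 (Nat.zero_le _) (Nat.le_of_ble_eq_true rfl) rfl

theorem c5569 : Block F al 0 1425920 1358657 :=
  block_comb c5568 b5569 (Nat.zero_le _) (Nat.le_of_ble_eq_true rfl) rfl

theorem c5570 : Block F al 0 1426176 1358913 :=
  block_comb c5569 b5570 (Nat.zero_le _) (Nat.le_of_ble_eq_true rfl) rfl

theorem c5571 : Block F al 0 1426432 1359169 :=
  block_comb c5570 b5571 (Nat.zero_le _) (Nat.le_of_ble_eq_true rfl) rfl

theorem c5572 : Block F al 0 1426688 1359425 :=
  block_comb c5571 b5572 (Nat.zero_le _) (Nat.le_of_ble_eq_true rfl) rfl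

theorem c5573 : Block F al 0 1426944 1359681 :=
  block_comb c5572 b5573 (Nat.zero_le _) (Nat.le_of_ble_eq_true rfl) rfl

theorem c5574 : Block F al 0 1427200 1359935 :=
  block_comb c5573 b5574 (Nat.zero_le _) (Nat.le_of_ble_eq_true rfl) rfl

theorem c5575 : Block F al 0 1427456 1360191 :=
  block_comb c5574 b5575 (Nat.zero_le _) (Nat.le_of_ble_eq_true rfl) rfl

theorem c5576 : Block F al 0 1427712 1360447 :=
  block_comb c5575 b5576 (Nat.zero_le _) (Nat.le_of_ble_eq_true rfl) rfl

theorem c5577 : Block F al 0 1427968 1360702 :=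
  block_comb c5576 b5577 (Nat.zero_le _) (Nat.le_of_ble_eq_true rfl) rfl

theorem c5578 : Block F al 0 1428224 1360956 :=
  block_comb c5577 b5578 (Nat.zero_le _) (Nat.le_of_ble_eq_true rfl) rfl

theorem c5579 : Block F al 0 1428480 1361211 :=
  block_comb c5578 b5579 (Nat.zero_le _) (Nat.le_of_ble_eq_true rfl) rfl

theorem c5580 : Block F al 0 1428736 1361466 :=
  block_comb c5579 b5580 (Nat.zero_le _) (Nat.le_of_ble_eq_true rfl) rfl

theorem c5581 : Block F al 0 1428992 1361722 :=
  block_comb c5580 b5581 (Nat.zero_le _) (Nat.le_of_ble_eq_true rfl) rfl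

theorem c5582 : Block F al 0 1429248 1361976 :=
  block_comb c5581 b5582 (Nat.zero_le _) (Nat.le_of_ble_eq_true rfl) rfl

theorem c5583 : Block F al 0 1429504 1362232 :=
  block_comb c5582 b5583 (Nat.zero_le _) (Nat.le_of_ble_eq_true rfl) rfl

theorem c5584 : Block F al 0 1429760 1362488 :=
  block_comb c5583 b5584 (Nat.zero_le _) (Nat.le_of_ble_eq_true rfl) rfl

theorem c5585 : Block F al 0 1430016 1362744 :=
  block_comb c5584 b5585 (Nat.zero_le _) (Nat.le_of_ble_eq_true rfl) rfl

theorem c5586 : Block F al 0 1430272 1363000 :=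
  block_comb c5585 b5586 (Nat.zero_le _) (Nat.le_of_ble_eq_true rfl) rfl

theorem c5587 : Block F al 0 1430528 1363256 :=
  block_comb c5586 b5587 (Nat.zero_le _) (Nat.le_of_ble_eq_true rfl) rfl

theorem c5588 : Block F al 0 1430784 1363511 :=
  block_comb c5587 b5588 (Nat.zero_le _) (Nat.le_of_ble_eq_true rfl) rfl

theorem c5589 : Block F al 0 1431040 1363766 :=
  block_comb c5588 b5589 (Nat.zero_le _) (Nat.le_of_ble_eq_true rfl) rfl

theorem c5590 : Block F al 0 1431296 1364019 :=
  block_comb c5589 b5590 (Nat.zero_le _) (Nat.le_of_ble_eq_true rfl) rfl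

theorem c5591 : Block F al 0 1431552 1364274 :=
  block_comb c5590 b5591 (Nat.zero_le _) (Nat.le_of_ble_eq_true rfl) rfl

theorem c5592 : Block F al 0 1431808 1364529 :=
  block_comb c5591 b5592 (Nat.zero_le _) (Nat.le_of_ble_eq_true rfl) rfl

theorem c5593 : Block F al 0 1432064 1364785 :=
  block_comb c5592 b5593 (Nat.zero_le _) (Nat.le_of_ble_eq_true rfl) rfl

theorem c5594 : Block F al 0 1432320 1365041 :=
  block_comb c5593 b5594 (Nat.zero_le _) (Nat.le_of_ble_eq_true rfl) rfl

theorem c5595 : Block F al 0 1432576 1365296 :=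
  block_comb c5594 b5595 (Nat.zero_le _) (Nat.le_of_ble_eq_true rfl) rfl

theorem c5596 : Block F al 0 1432832 1365552 :=
  block_comb c5595 b5596 (Nat.zero_le _) (Nat.le_of_ble_eq_true rfl) rfl

theorem c5597 : Block F al 0 1433088 1365808 :=
  block_comb c5596 b5597 (Nat.zero_le _) (Nat.le_of_ble_eq_true rfl) rfl

theorem c5598 : Block F al 0 1433344 1366064 :=
  block_comb c5597 b5598 (Nat.zero_le _) (Nat.le_of_ble_eq_true rfl) rfl

theorem c5599 : Block F al 0 1433600 1366320 :=
  block_comb c5598 b5599 (Nat.zero_le _) (Nat.le_of_ble_eq_true rfl) rfl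

theorem c5600 : Block F al 0 1433856 1366576 :=
  block_comb c5599 b5600 (Nat.zero_le _) (Nat.le_of_ble_eq_true rfl) rfl

theorem c5601 : Block F al 0 1434112 1366832 :=
  block_comb c5600 b5601 (Nat.zero_le _) (Nat.le_of_ble_eq_true rfl) rfl

theorem c5602 : Block F al 0 1434368 1367087 :=
  block_comb c5601 b5602 (Nat.zero_le _) (Nat.le_of_ble_eq_true rfl) rfl

theorem c5603 : Block F al 0 1434624 1367343 :=
  block_comb c5602 b5603 (Nat.zero_le _) (Nat.le_of_ble_eq_true rfl) rfl

theorem c5604 : Block F al 0 1434880 1367599 :=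
  block_comb c5603 b5604 (Nat.zero_le _) (Nat.le_of_ble_eq_true rfl) rfl

theorem c5605 : Block F al 0 1435136 1367855 :=
  block_comb c5604 b5605 (Nat.zero_le _) (Nat.le_of_ble_eq_true rfl) rfl

theorem c5606 : Block F al 0 1435392 1368111 :=
  block_comb c5605 b5606 (Nat.zero_le _) (Nat.le_of_ble_eq_true rfl) rfl

theorem c5607 : Block F al 0 1435648 1368367 :=
  block_comb c5606 b5607 (Nat.zero_le _) (Nat.le_of_ble_eq_true rfl) rfl

theorem c5608 : Block F al 0 1435904 1368623 :=
  block_comb c5607 b5608 (Nat.zero_le _) (Nat.le_of_ble_eq_true rfl) rfl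

theorem c5609 : Block F al 0 1436160 1368879 :=
  block_comb c5608 b5609 (Nat.zero_le _) (Nat.le_of_ble_eq_true rfl) rfl

theorem c5610 : Block F al 0 1436416 1369135 :=
  block_comb c5609 b5610 (Nat.zero_le _) (Nat.le_of_ble_eq_true rfl) rfl

theorem c5611 : Block F al 0 1436672 1369391 :=
  block_comb c5610 b5611 (Nat.zero_le _) (Nat.le_of_ble_eq_true rfl) rfl

theorem c5612 : Block F al 0 1436928 1369646 :=
  block_comb c5611 b5612 (Nat.zero_le _) (Nat.le_of_ble_eq_true rfl) rfl

theorem c5613 : Block F al 0 1437184 1369902 :=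
  block_comb c5612 b5613 (Nat.zero_le _) (Nat.le_of_ble_eq_true rfl) rfl

theorem c5614 : Block F al 0 1437440 1370157 :=
  block_comb c5613 b5614 (Nat.zero_le _) (Nat.le_of_ble_eq_true rfl) rfl

theorem c5615 : Block F al 0 1437696 1370413 :=
  block_comb c5614 b5615 (Nat.zero_le _) (Nat.le_of_ble_eq_true rfl) rfl

theorem c5616 : Block F al 0 1437952 1370669 :=
  block_comb c5615 b5616 (Nat.zero_le _) (Nat.le_of_ble_eq_true rfl) rfl

theorem c5617 : Block F al 0 1438208 1370925 :=
  block_comb c5616 b5617 (Nat.zero_le _) (Nat.le_of_ble_eq_true rfl) rfl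

theorem c5618 : Block F al 0 1438464 1371181 :=
  block_comb c5617 b5618 (Nat.zero_le _) (Nat.le_of_ble_eq_true rfl) rfl

theorem c5619 : Block F al 0 1438720 1371437 :=
  block_comb c5618 b5619 (Nat.zero_le _) (Nat.le_of_ble_eq_true rfl) rfl

theorem c5620 : Block F al 0 1438976 1371693 :=
  block_comb c5619 b5620 (Nat.zero_le _) (Nat.le_of_ble_eq_true rfl) rfl

theorem c5621 : Block F al 0 1439232 1371949 :=
  block_comb c5620 b5621 (Nat.zero_le _) (Nat.le_of_ble_eq_true rfl) rfl

theorem c5622 : Block F al 0 1439488 1372205 :=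
  block_comb c5621 b5622 (Nat.zero_le _) (Nat.le_of_ble_eq_true rfl) rfl

theorem c5623 : Block F al 0 1439744 1372461 :=
  block_comb c5622 b5623 (Nat.zero_le _) (Nat.le_of_ble_eq_true rfl) rfl

theorem c5624 : Block F al 0 1440000 1372717 :=
  block_comb c5623 b5624 (Nat.zero_le _) (Nat.le_of_ble_eq_true rfl) rfl

theorem c5625 : Block F al 0 1440256 1372973 :=
  block_comb c5624 b5625 (Nat.zero_le _) (Nat.le_of_ble_eq_true rfl) rfl

theorem c5626 : Block F al 0 1440512 1373229 :=
  block_comb c5625 b5626 (Nat.zero_le _) (Nat.le_of_ble_eq_true rfl) rfl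

theorem c5627 : Block F al 0 1440768 1373485 :=
  block_comb c5626 b5627 (Nat.zero_le _) (Nat.le_of_ble_eq_true rfl) rfl

theorem c5628 : Block F al 0 1441024 1373741 :=
  block_comb c5627 b5628 (Nat.zero_le _) (Nat.le_of_ble_eq_true rfl) rfl

theorem c5629 : Block F al 0 1441280 1373997 :=
  block_comb c5628 b5629 (Nat.zero_le _) (Nat.le_of_ble_eq_true rfl) rfl

theorem c5630 : Block F al 0 1441536 1374253 :=
  block_comb c5629 b5630 (Nat.zero_le _) (Nat.le_of_ble_eq_true rfl) rfl

theorem c5631 : Block F al 0 1441792 1374509 :=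
  block_comb c5630 b5631 (Nat.zero_le _) (Nat.le_of_ble_eq_true rfl) rfl

theorem c5632 : Block F al 0 1442048 1374765 :=
  block_comb c5631 b5632 (Nat.zero_le _) (Nat.le_of_ble_eq_true rfl) rfl

theorem c5633 : Block F al 0 1442304 1375019 :=
  block_comb c5632 b5633 (Nat.zero_le _) (Nat.le_of_ble_eq_true rfl) rfl

theorem c5634 : Block F al 0 1442560 1375275 :=
  block_comb c5633 b5634 (Nat.zero_le _) (Nat.le_of_ble_eq_true rfl) rfl

theorem c5635 : Block F al 0 1442816 1375531 :=
  block_comb c5634 b5635 (Nat.zero_le _) (Nat.le_of_ble_eq_true rfl) rfl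

theorem c5636 : Block F al 0 1443072 1375787 :=
  block_comb c5635 b5636 (Nat.zero_le _) (Nat.le_of_ble_eq_true rfl) rfl

theorem c5637 : Block F al 0 1443328 1376042 :=
  block_comb c5636 b5637 (Nat.zero_le _) (Nat.le_of_ble_eq_true rfl) rfl

theorem c5638 : Block F al 0 1443584 1376297 :=
  block_comb c5637 b5638 (Nat.zero_le _) (Nat.le_of_ble_eq_true rfl) rfl

theorem c5639 : Block F al 0 1443840 1376553 :=
  block_comb c5638 b5639 (Nat.zero_le _) (Nat.le_of_ble_eq_true rfl) rfl

theorem c5640 : Block F al 0 1444096 1376809 :=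
  block_comb c5639 b5640 (Nat.zero_le _) (Nat.le_of_ble_eq_true rfl) rfl

theorem c5641 : Block F al 0 1444352 1377065 :=
  block_comb c5640 b5641 (Nat.zero_le _) (Nat.le_of_ble_eq_true rfl) rfl

theorem c5642 : Block F al 0 1444608 1377321 :=
  block_comb c5641 b5642 (Nat.zero_le _) (Nat.le_of_ble_eq_true rfl) rfl

theorem c5643 : Block F al 0 1444864 1377577 :=
  block_comb c5642 b5643 (Nat.zero_le _) (Nat.le_of_ble_eq_true rfl) rfl

theorem c5644 : Block F al 0 1445120 1377833 :=
  block_comb c5643 b5644 (Nat.zero_le _) (Nat.le_of_ble_eq_true rfl) rfl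

theorem c5645 : Block F al 0 1445376 1378089 :=
  block_comb c5644 b5645 (Nat.zero_le _) (Nat.le_of_ble_eq_true rfl) rfl

theorem c5646 : Block F al 0 1445632 1378345 :=
  block_comb c5645 b5646 (Nat.zero_le _) (Nat.le_of_ble_eq_true rfl) rfl

theorem c5647 : Block F al 0 1445888 1378601 :=
  block_comb c5646 b5647 (Nat.zero_le _) (Nat.le_of_ble_eq_true rfl) rfl

theorem c5648 : Block F al 0 1446144 1378856 :=
  block_comb c5647 b5648 (Nat.zero_le _) (Nat.le_of_ble_eq_true rfl) rfl

theorem c5649 : Block F al 0 1446400 1379110 :=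
  block_comb c5648 b5649 (Nat.zero_le _) (Nat.le_of_ble_eq_true rfl) rfl

theorem c5650 : Block F al 0 1446656 1379366 :=
  block_comb c5649 b5650 (Nat.zero_le _) (Nat.le_of_ble_eq_true rfl) rfl

theorem c5651 : Block F al 0 1446912 1379622 :=
  block_comb c5650 b5651 (Nat.zero_le _) (Nat.le_of_ble_eq_true rfl) rfl

theorem c5652 : Block F al 0 1447168 1379878 :=
  block_comb c5651 b5652 (Nat.zero_le _) (Nat.le_of_ble_eq_true rfl) rfl

theorem c5653 : Block F al 0 1447424 1380133 :=
  block_comb c5652 b5653 (Nat.zero_le _) (Nat.le_of_ble_eq_true rfl) rfl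

theorem c5654 : Block F al 0 1447680 1380389 :=
  block_comb c5653 b5654 (Nat.zero_le _) (Nat.le_of_ble_eq_true rfl) rfl

theorem c5655 : Block F al 0 1447936 1380645 :=
  block_comb c5654 b5655 (Nat.zero_le _) (Nat.le_of_ble_eq_true rfl) rfl

theorem c5656 : Block F al 0 1448192 1380901 :=
  block_comb c5655 b5656 (Nat.zero_le _) (Nat.le_of_ble_eq_true rfl) rfl

theorem c5657 : Block F al 0 1448448 1381157 :=
  block_comb c5656 b5657 (Nat.zero_le _) (Nat.le_of_ble_eq_true rfl) rfl

theorem c5658 : Block F al 0 1448704 1381412 :=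
  block_comb c5657 b5658 (Nat.zero_le _) (Nat.le_of_ble_eq_true rfl) rfl

theorem c5659 : Block F al 0 1448960 1381668 :=
  block_comb c5658 b5659 (Nat.zero_le _) (Nat.le_of_ble_eq_true rfl) rfl

theorem c5660 : Block F al 0 1449216 1381923 :=
  block_comb c5659 b5660 (Nat.zero_le _) (Nat.le_of_ble_eq_true rfl) rfl

theorem c5661 : Block F al 0 1449472 1382179 :=
  block_comb c5660 b5661 (Nat.zero_le _) (Nat.le_of_ble_eq_true rfl) rfl

theorem c5662 : Block F al 0 1449728 1382435 :=
  block_comb c5661 b5662 (Nat.zero_le _) (Nat.le_of_ble_eq_true rfl) rfl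

theorem c5663 : Block F al 0 1449984 1382691 :=
  block_comb c5662 b5663 (Nat.zero_le _) (Nat.le_of_ble_eq_true rfl) rfl

theorem c5664 : Block F al 0 1450240 1382947 :=
  block_comb c5663 b5664 (Nat.zero_le _) (Nat.le_of_ble_eq_true rfl) rfl

theorem c5665 : Block F al 0 1450496 1383201 :=
  block_comb c5664 b5665 (Nat.zero_le _) (Nat.le_of_ble_eq_true rfl) rfl

theorem c5666 : Block F al 0 1450752 1383457 :=
  block_comb c5665 b5666 (Nat.zero_le _) (Nat.le_of_ble_eq_true rfl) rfl

theorem c5667 : Block F al 0 1451008 1383713 :=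
  block_comb c5666 b5667 (Nat.zero_le _) (Nat.le_of_ble_eq_true rfl) rfl

theorem c5668 : Block F al 0 1451264 1383969 :=
  block_comb c5667 b5668 (Nat.zero_le _) (Nat.le_of_ble_eq_true rfl) rfl

theorem c5669 : Block F al 0 1451520 1384224 :=
  block_comb c5668 b5669 (Nat.zero_le _) (Nat.le_of_ble_eq_true rfl) rfl

theorem c5670 : Block F al 0 1451776 1384480 :=
  block_comb c5669 b5670 (Nat.zero_le _) (Nat.le_of_ble_eq_true rfl) rfl

theorem c5671 : Block F al 0 1452032 1384735 :=
  block_comb c5670 b5671 (Nat.zero_le _) (Nat.le_of_ble_eq_true rfl) rfl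

theorem c5672 : Block F al 0 1452288 1384989 :=
  block_comb c5671 b5672 (Nat.zero_le _) (Nat.le_of_ble_eq_true rfl) rfl

theorem c5673 : Block F al 0 1452544 1385243 :=
  block_comb c5672 b5673 (Nat.zero_le _) (Nat.le_of_ble_eq_true rfl) rfl

theorem c5674 : Block F al 0 1452800 1385499 :=
  block_comb c5673 b5674 (Nat.zero_le _) (Nat.le_of_ble_eq_true rfl) rfl

theorem c5675 : Block F al 0 1453056 1385755 :=
  block_comb c5674 b5675 (Nat.zero_le _) (Nat.le_of_ble_eq_true rfl) rfl

theorem c5676 : Block F al 0 1453312 1386011 :=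
  block_comb c5675 b5676 (Nat.zero_le _) (Nat.le_of_ble_eq_true rfl) rfl

theorem c5677 : Block F al 0 1453568 1386267 :=
  block_comb c5676 b5677 (Nat.zero_le _) (Nat.le_of_ble_eq_true rfl) rfl

theorem c5678 : Block F al 0 1453824 1386523 :=
  block_comb c5677 b5678 (Nat.zero_le _) (Nat.le_of_ble_eq_true rfl) rfl

theorem c5679 : Block F al 0 1454080 1386779 :=
  block_comb c5678 b5679 (Nat.zero_le _) (Nat.le_of_ble_eq_true rfl) rfl

theorem c5680 : Block F al 0 1454336 1387035 :=
  block_comb c5679 b5680 (Nat.zero_le _) (Nat.le_of_ble_eq_true rfl) rfl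

theorem c5681 : Block F al 0 1454592 1387290 :=
  block_comb c5680 b5681 (Nat.zero_le _) (Nat.le_of_ble_eq_true rfl) rfl

theorem c5682 : Block F al 0 1454848 1387546 :=
  block_comb c5681 b5682 (Nat.zero_le _) (Nat.le_of_ble_eq_true rfl) rfl

theorem c5683 : Block F al 0 1455104 1387801 :=
  block_comb c5682 b5683 (Nat.zero_le _) (Nat.le_of_ble_eq_true rfl) rfl

theorem c5684 : Block F al 0 1455360 1388057 :=
  block_comb c5683 b5684 (Nat.zero_le _) (Nat.le_of_ble_eq_true rfl) rfl

theorem c5685 : Block F al 0 1455616 1388313 :=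
  block_comb c5684 b5685 (Nat.zero_le _) (Nat.le_of_ble_eq_true rfl) rfl

theorem c5686 : Block F al 0 1455872 1388569 :=
  block_comb c5685 b5686 (Nat.zero_le _) (Nat.le_of_ble_eq_true rfl) rfl

theorem c5687 : Block F al 0 1456128 1388825 :=
  block_comb c5686 b5687 (Nat.zero_le _) (Nat.le_of_ble_eq_true rfl) rfl

theorem c5688 : Block F al 0 1456384 1389081 :=
  block_comb c5687 b5688 (Nat.zero_le _) (Nat.le_of_ble_eq_true rfl) rfl

theorem c5689 : Block F al 0 1456640 1389337 :=
  block_comb c5688 b5689 (Nat.zero_le _) (Nat.le_of_ble_eq_true rfl) rfl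

theorem c5690 : Block F al 0 1456896 1389593 :=
  block_comb c5689 b5690 (Nat.zero_le _) (Nat.le_of_ble_eq_true rfl) rfl

theorem c5691 : Block F al 0 1457152 1389849 :=
  block_comb c5690 b5691 (Nat.zero_le _) (Nat.le_of_ble_eq_true rfl) rfl

theorem c5692 : Block F al 0 1457408 1390103 :=
  block_comb c5691 b5692 (Nat.zero_le _) (Nat.le_of_ble_eq_true rfl) rfl

theorem c5693 : Block F al 0 1457664 1390359 :=
  block_comb c5692 b5693 (Nat.zero_le _) (Nat.le_of_ble_eq_true rfl) rfl

theorem c5694 : Block F al 0 1457920 1390615 :=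
  block_comb c5693 b5694 (Nat.zero_le _) (Nat.le_of_ble_eq_true rfl) rfl

theorem c5695 : Block F al 0 1458176 1390867 :=
  block_comb c5694 b5695 (Nat.zero_le _) (Nat.le_of_ble_eq_true rfl) rfl

theorem c5696 : Block F al 0 1458432 1391121 :=
  block_comb c5695 b5696 (Nat.zero_le _) (Nat.le_of_ble_eq_true rfl) rfl

theorem c5697 : Block F al 0 1458688 1391377 :=
  block_comb c5696 b5697 (Nat.zero_le _) (Nat.le_of_ble_eq_true rfl) rfl

theorem c5698 : Block F al 0 1458944 1391633 :=
  block_comb c5697 b5698 (Nat.zero_le _) (Nat.le_of_ble_eq_true rfl) rfl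

theorem c5699 : Block F al 0 1459200 1391889 :=
  block_comb c5698 b5699 (Nat.zero_le _) (Nat.le_of_ble_eq_true rfl) rfl

theorem c5700 : Block F al 0 1459456 1392145 :=
  block_comb c5699 b5700 (Nat.zero_le _) (Nat.le_of_ble_eq_true rfl) rfl

theorem c5701 : Block F al 0 1459712 1392401 :=
  block_comb c5700 b5701 (Nat.zero_le _) (Nat.le_of_ble_eq_true rfl) rfl

theorem c5702 : Block F al 0 1459968 1392657 :=
  block_comb c5701 b5702 (Nat.zero_le _) (Nat.le_of_ble_eq_true rfl) rfl

theorem c5703 : Block F al 0 1460224 1392913 :=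
  block_comb c5702 b5703 (Nat.zero_le _) (Nat.le_of_ble_eq_true rfl) rfl

theorem c5704 : Block F al 0 1460480 1393169 :=
  block_comb c5703 b5704 (Nat.zero_le _) (Nat.le_of_ble_eq_true rfl) rfl

theorem c5705 : Block F al 0 1460736 1393425 :=
  block_comb c5704 b5705 (Nat.zero_le _) (Nat.le_of_ble_eq_true rfl) rfl

theorem c5706 : Block F al 0 1460992 1393677 :=
  block_comb c5705 b5706 (Nat.zero_le _) (Nat.le_of_ble_eq_true rfl) rfl

theorem c5707 : Block F al 0 1461248 1393933 :=
  block_comb c5706 b5707 (Nat.zero_le _) (Nat.le_of_ble_eq_true rfl) rfl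

theorem c5708 : Block F al 0 1461504 1394189 :=
  block_comb c5707 b5708 (Nat.zero_le _) (Nat.le_of_ble_eq_true rfl) rfl

theorem c5709 : Block F al 0 1461760 1394445 :=
  block_comb c5708 b5709 (Nat.zero_le _) (Nat.le_of_ble_eq_true rfl) rfl

theorem c5710 : Block F al 0 1462016 1394701 :=
  block_comb c5709 b5710 (Nat.zero_le _) (Nat.le_of_ble_eq_true rfl) rfl

theorem c5711 : Block F al 0 1462272 1394957 :=
  block_comb c5710 b5711 (Nat.zero_le _) (Nat.le_of_ble_eq_true rfl) rfl

theorem c5712 : Block F al 0 1462528 1395213 :=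
  block_comb c5711 b5712 (Nat.zero_le _) (Nat.le_of_ble_eq_true rfl) rfl

theorem c5713 : Block F al 0 1462784 1395469 :=
  block_comb c5712 b5713 (Nat.zero_le _) (Nat.le_of_ble_eq_true rfl) rfl

theorem c5714 : Block F al 0 1463040 1395722 :=
  block_comb c5713 b5714 (Nat.zero_le _) (Nat.le_of_ble_eq_true rfl) rfl

theorem c5715 : Block F al 0 1463296 1395978 :=
  block_comb c5714 b5715 (Nat.zero_le _) (Nat.le_of_ble_eq_true rfl) rfl

theorem c5716 : Block F al 0 1463552 1396234 :=
  block_comb c5715 b5716 (Nat.zero_le _) (Nat.le_of_ble_eq_true rfl) rfl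

theorem c5717 : Block F al 0 1463808 1396490 :=
  block_comb c5716 b5717 (Nat.zero_le _) (Nat.le_of_ble_eq_true rfl) rfl

theorem c5718 : Block F al 0 1464064 1396746 :=
  block_comb c5717 b5718 (Nat.zero_le _) (Nat.le_of_ble_eq_true rfl) rfl

theorem c5719 : Block F al 0 1464320 1397002 :=
  block_comb c5718 b5719 (Nat.zero_le _) (Nat.le_of_ble_eq_true rfl) rfl

theorem c5720 : Block F al 0 1464576 1397258 :=
  block_comb c5719 b5720 (Nat.zero_le _) (Nat.le_of_ble_eq_true rfl) rfl

theorem c5721 : Block F al 0 1464832 1397514 :=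
  block_comb c5720 b5721 (Nat.zero_le _) (Nat.le_of_ble_eq_true rfl) rfl

theorem c5722 : Block F al 0 1465088 1397768 :=
  block_comb c5721 b5722 (Nat.zero_le _) (Nat.le_of_ble_eq_true rfl) rfl

theorem c5723 : Block F al 0 1465344 1398024 :=
  block_comb c5722 b5723 (Nat.zero_le _) (Nat.le_of_ble_eq_true rfl) rfl

theorem c5724 : Block F al 0 1465600 1398280 :=
  block_comb c5723 b5724 (Nat.zero_le _) (Nat.le_of_ble_eq_true rfl) rfl

theorem c5725 : Block F al 0 1465856 1398536 :=
  block_comb c5724 b5725 (Nat.zero_le _) (Nat.le_of_ble_eq_true rfl) rfl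

theorem c5726 : Block F al 0 1466112 1398792 :=
  block_comb c5725 b5726 (Nat.zero_le _) (Nat.le_of_ble_eq_true rfl) rfl

theorem c5727 : Block F al 0 1466368 1399046 :=
  block_comb c5726 b5727 (Nat.zero_le _) (Nat.le_of_ble_eq_true rfl) rfl

theorem c5728 : Block F al 0 1466624 1399302 :=
  block_comb c5727 b5728 (Nat.zero_le _) (Nat.le_of_ble_eq_true rfl) rfl

theorem c5729 : Block F al 0 1466880 1399556 :=
  block_comb c5728 b5729 (Nat.zero_le _) (Nat.le_of_ble_eq_true rfl) rfl

theorem c5730 : Block F al 0 1467136 1399812 :=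
  block_comb c5729 b5730 (Nat.zero_le _) (Nat.le_of_ble_eq_true rfl) rfl

theorem c5731 : Block F al 0 1467392 1400068 :=
  block_comb c5730 b5731 (Nat.zero_le _) (Nat.le_of_ble_eq_true rfl) rfl

theorem c5732 : Block F al 0 1467648 1400324 :=
  block_comb c5731 b5732 (Nat.zero_le _) (Nat.le_of_ble_eq_true rfl) rfl

theorem c5733 : Block F al 0 1467904 1400580 :=
  block_comb c5732 b5733 (Nat.zero_le _) (Nat.le_of_ble_eq_true rfl) rfl

theorem c5734 : Block F al 0 1468160 1400836 :=
  block_comb c5733 b5734 (Nat.zero_le _) (Nat.le_of_ble_eq_true rfl) rfl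

theorem c5735 : Block F al 0 1468416 1401092 :=
  block_comb c5734 b5735 (Nat.zero_le _) (Nat.le_of_ble_eq_true rfl) rfl

theorem c5736 : Block F al 0 1468672 1401348 :=
  block_comb c5735 b5736 (Nat.zero_le _) (Nat.le_of_ble_eq_true rfl) rfl

theorem c5737 : Block F al 0 1468928 1401604 :=
  block_comb c5736 b5737 (Nat.zero_le _) (Nat.le_of_ble_eq_true rfl) rfl

theorem c5738 : Block F al 0 1469184 1401860 :=
  block_comb c5737 b5738 (Nat.zero_le _) (Nat.le_of_ble_eq_true rfl) rfl

theorem c5739 : Block F al 0 1469440 1402116 :=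
  block_comb c5738 b5739 (Nat.zero_le _) (Nat.le_of_ble_eq_true rfl) rfl

theorem c5740 : Block F al 0 1469696 1402372 :=
  block_comb c5739 b5740 (Nat.zero_le _) (Nat.le_of_ble_eq_true rfl) rfl

theorem c5741 : Block F al 0 1469952 1402628 :=
  block_comb c5740 b5741 (Nat.zero_le _) (Nat.le_of_ble_eq_true rfl) rfl

theorem c5742 : Block F al 0 1470208 1402884 :=
  block_comb c5741 b5742 (Nat.zero_le _) (Nat.le_of_ble_eq_true rfl) rfl

theorem c5743 : Block F al 0 1470464 1403140 :=
  block_comb c5742 b5743 (Nat.zero_le _) (Nat.le_of_ble_eq_true rfl) rfl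

theorem c5744 : Block F al 0 1470720 1403396 :=
  block_comb c5743 b5744 (Nat.zero_le _) (Nat.le_of_ble_eq_true rfl) rfl

theorem c5745 : Block F al 0 1470976 1403652 :=
  block_comb c5744 b5745 (Nat.zero_le _) (Nat.le_of_ble_eq_true rfl) rfl

theorem c5746 : Block F al 0 1471232 1403907 :=
  block_comb c5745 b5746 (Nat.zero_le _) (Nat.le_of_ble_eq_true rfl) rfl

theorem c5747 : Block F al 0 1471488 1404162 :=
  block_comb c5746 b5747 (Nat.zero_le _) (Nat.le_of_ble_eq_true rfl) rfl

theorem c5748 : Block F al 0 1471744 1404418 :=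
  block_comb c5747 b5748 (Nat.zero_le _) (Nat.le_of_ble_eq_true rfl) rfl

theorem c5749 : Block F al 0 1472000 1404674 :=
  block_comb c5748 b5749 (Nat.zero_le _) (Nat.le_of_ble_eq_true rfl) rfl

theorem c5750 : Block F al 0 1472256 1404930 :=
  block_comb c5749 b5750 (Nat.zero_le _) (Nat.le_of_ble_eq_true rfl) rfl

theorem c5751 : Block F al 0 1472512 1405186 :=
  block_comb c5750 b5751 (Nat.zero_le _) (Nat.le_of_ble_eq_true rfl) rfl

theorem c5752 : Block F al 0 1472768 1405442 :=
  block_comb c5751 b5752 (Nat.zero_le _) (Nat.le_of_ble_eq_true rfl) rfl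

theorem c5753 : Block F al 0 1473024 1405698 :=
  block_comb c5752 b5753 (Nat.zero_le _) (Nat.le_of_ble_eq_true rfl) rfl

theorem c5754 : Block F al 0 1473280 1405954 :=
  block_comb c5753 b5754 (Nat.zero_le _) (Nat.le_of_ble_eq_true rfl) rfl

theorem c5755 : Block F al 0 1473536 1406210 :=
  block_comb c5754 b5755 (Nat.zero_le _) (Nat.le_of_ble_eq_true rfl) rfl

theorem c5756 : Block F al 0 1473792 1406466 :=
  block_comb c5755 b5756 (Nat.zero_le _) (Nat.le_of_ble_eq_true rfl) rfl

theorem c5757 : Block F al 0 1474048 1406722 :=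
  block_comb c5756 b5757 (Nat.zero_le _) (Nat.le_of_ble_eq_true rfl) rfl

theorem c5758 : Block F al 0 1474304 1406978 :=
  block_comb c5757 b5758 (Nat.zero_le _) (Nat.le_of_ble_eq_true rfl) rfl

theorem c5759 : Block F al 0 1474560 1407234 :=
  block_comb c5758 b5759 (Nat.zero_le _) (Nat.le_of_ble_eq_true rfl) rfl

theorem c5760 : Block F al 0 1474816 1407490 :=
  block_comb c5759 b5760 (Nat.zero_le _) (Nat.le_of_ble_eq_true rfl) rfl

theorem c5761 : Block F al 0 1475072 1407746 :=
  block_comb c5760 b5761 (Nat.zero_le _) (Nat.le_of_ble_eq_true rfl) rfl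

theorem c5762 : Block F al 0 1475328 1408002 :=
  block_comb c5761 b5762 (Nat.zero_le _) (Nat.le_of_ble_eq_true rfl) rfl

theorem c5763 : Block F al 0 1475584 1408258 :=
  block_comb c5762 b5763 (Nat.zero_le _) (Nat.le_of_ble_eq_true rfl) rfl

theorem c5764 : Block F al 0 1475840 1408514 :=
  block_comb c5763 b5764 (Nat.zero_le _) (Nat.le_of_ble_eq_true rfl) rfl

theorem c5765 : Block F al 0 1476096 1408770 :=
  block_comb c5764 b5765 (Nat.zero_le _) (Nat.le_of_ble_eq_true rfl) rfl

theorem c5766 : Block F al 0 1476352 1409026 :=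
  block_comb c5765 b5766 (Nat.zero_le _) (Nat.le_of_ble_eq_true rfl) rfl

theorem c5767 : Block F al 0 1476608 1409282 :=
  block_comb c5766 b5767 (Nat.zero_le _) (Nat.le_of_ble_eq_true rfl) rfl

theorem c5768 : Block F al 0 1476864 1409538 :=
  block_comb c5767 b5768 (Nat.zero_le _) (Nat.le_of_ble_eq_true rfl) rfl

theorem c5769 : Block F al 0 1477120 1409794 :=
  block_comb c5768 b5769 (Nat.zero_le _) (Nat.le_of_ble_eq_true rfl) rfl

theorem c5770 : Block F al 0 1477376 1410048 :=
  block_comb c5769 b5770 (Nat.zero_le _) (Nat.le_of_ble_eq_true rfl) rfl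

theorem c5771 : Block F al 0 1477632 1410304 :=
  block_comb c5770 b5771 (Nat.zero_le _) (Nat.le_of_ble_eq_true rfl) rfl

theorem c5772 : Block F al 0 1477888 1410560 :=
  block_comb c5771 b5772 (Nat.zero_le _) (Nat.le_of_ble_eq_true rfl) rfl

theorem c5773 : Block F al 0 1478144 1410816 :=
  block_comb c5772 b5773 (Nat.zero_le _) (Nat.le_of_ble_eq_true rfl) rfl

theorem c5774 : Block F al 0 1478400 1411072 :=
  block_comb c5773 b5774 (Nat.zero_le _) (Nat.le_of_ble_eq_true rfl) rfl

theorem c5775 : Block F al 0 1478656 1411328 :=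
  block_comb c5774 b5775 (Nat.zero_le _) (Nat.le_of_ble_eq_true rfl) rfl

theorem c5776 : Block F al 0 1478912 1411584 :=
  block_comb c5775 b5776 (Nat.zero_le _) (Nat.le_of_ble_eq_true rfl) rfl

theorem c5777 : Block F al 0 1479168 1411840 :=
  block_comb c5776 b5777 (Nat.zero_le _) (Nat.le_of_ble_eq_true rfl) rfl

theorem c5778 : Block F al 0 1479424 1412096 :=
  block_comb c5777 b5778 (Nat.zero_le _) (Nat.le_of_ble_eq_true rfl) rfl

theorem c5779 : Block F al 0 1479680 1412352 :=
  block_comb c5778 b5779 (Nat.zero_le _) (Nat.le_of_ble_eq_true rfl) rfl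

theorem c5780 : Block F al 0 1479936 1412608 :=
  block_comb c5779 b5780 (Nat.zero_le _) (Nat.le_of_ble_eq_true rfl) rfl

theorem c5781 : Block F al 0 1480192 1412864 :=
  block_comb c5780 b5781 (Nat.zero_le _) (Nat.le_of_ble_eq_true rfl) rfl

theorem c5782 : Block F al 0 1480448 1413120 :=
  block_comb c5781 b5782 (Nat.zero_le _) (Nat.le_of_ble_eq_true rfl) rfl

theorem c5783 : Block F al 0 1480704 1413376 :=
  block_comb c5782 b5783 (Nat.zero_le _) (Nat.le_of_ble_eq_true rfl) rfl

theorem c5784 : Block F al 0 1480960 1413632 :=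
  block_comb c5783 b5784 (Nat.zero_le _) (Nat.le_of_ble_eq_true rfl) rfl

theorem c5785 : Block F al 0 1481216 1413888 :=
  block_comb c5784 b5785 (Nat.zero_le _) (Nat.le_of_ble_eq_true rfl) rfl

theorem c5786 : Block F al 0 1481472 1414144 :=
  block_comb c5785 b5786 (Nat.zero_le _) (Nat.le_of_ble_eq_true rfl) rfl

theorem c5787 : Block F al 0 1481728 1414400 :=
  block_comb c5786 b5787 (Nat.zero_le _) (Nat.le_of_ble_eq_true rfl) rfl

theorem c5788 : Block F al 0 1481984 1414656 :=
  block_comb c5787 b5788 (Nat.zero_le _) (Nat.le_of_ble_eq_true rfl) rfl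

theorem c5789 : Block F al 0 1482240 1414912 :=
  block_comb c5788 b5789 (Nat.zero_le _) (Nat.le_of_ble_eq_true rfl) rfl

theorem c5790 : Block F al 0 1482496 1415168 :=
  block_comb c5789 b5790 (Nat.zero_le _) (Nat.le_of_ble_eq_true rfl) rfl

theorem c5791 : Block F al 0 1482752 1415424 :=
  block_comb c5790 b5791 (Nat.zero_le _) (Nat.le_of_ble_eq_true rfl) rfl

theorem c5792 : Block F al 0 1483008 1415680 :=
  block_comb c5791 b5792 (Nat.zero_le _) (Nat.le_of_ble_eq_true rfl) rfl

theorem c5793 : Block F al 0 1483264 1415936 :=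
  block_comb c5792 b5793 (Nat.zero_le _) (Nat.le_of_ble_eq_true rfl) rfl

theorem c5794 : Block F al 0 1483520 1416192 :=
  block_comb c5793 b5794 (Nat.zero_le _) (Nat.le_of_ble_eq_true rfl) rfl

theorem c5795 : Block F al 0 1483776 1416447 :=
  block_comb c5794 b5795 (Nat.zero_le _) (Nat.le_of_ble_eq_true rfl) rfl

theorem c5796 : Block F al 0 1484032 1416703 :=
  block_comb c5795 b5796 (Nat.zero_le _) (Nat.le_of_ble_eq_true rfl) rfl

theorem c5797 : Block F al 0 1484288 1416959 :=
  block_comb c5796 b5797 (Nat.zero_le _) (Nat.le_of_ble_eq_true rfl) rfl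

theorem c5798 : Block F al 0 1484544 1417215 :=
  block_comb c5797 b5798 (Nat.zero_le _) (Nat.le_of_ble_eq_true rfl) rfl

theorem c5799 : Block F al 0 1484800 1417471 :=
  block_comb c5798 b5799 (Nat.zero_le _) (Nat.le_of_ble_eq_true rfl) rfl

theorem c5800 : Block F al 0 1485056 1417725 :=
  block_comb c5799 b5800 (Nat.zero_le _) (Nat.le_of_ble_eq_true rfl) rfl

theorem c5801 : Block F al 0 1485312 1417981 :=
  block_comb c5800 b5801 (Nat.zero_le _) (Nat.le_of_ble_eq_true rfl) rfl

theorem c5802 : Block F al 0 1485568 1418237 :=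
  block_comb c5801 b5802 (Nat.zero_le _) (Nat.le_of_ble_eq_true rfl) rfl

theorem c5803 : Block F al 0 1485824 1418493 :=
  block_comb c5802 b5803 (Nat.zero_le _) (Nat.le_of_ble_eq_true rfl) rfl

theorem c5804 : Block F al 0 1486080 1418749 :=
  block_comb c5803 b5804 (Nat.zero_le _) (Nat.le_of_ble_eq_true rfl) rfl

theorem c5805 : Block F al 0 1486336 1419004 :=
  block_comb c5804 b5805 (Nat.zero_le _) (Nat.le_of_ble_eq_true rfl) rfl

theorem c5806 : Block F al 0 1486592 1419260 :=
  block_comb c5805 b5806 (Nat.zero_le _) (Nat.le_of_ble_eq_true rfl) rfl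

theorem c5807 : Block F al 0 1486848 1419516 :=
  block_comb c5806 b5807 (Nat.zero_le _) (Nat.le_of_ble_eq_true rfl) rfl

theorem c5808 : Block F al 0 1487104 1419772 :=
  block_comb c5807 b5808 (Nat.zero_le _) (Nat.le_of_ble_eq_true rfl) rfl

theorem c5809 : Block F al 0 1487360 1420028 :=
  block_comb c5808 b5809 (Nat.zero_le _) (Nat.le_of_ble_eq_true rfl) rfl

theorem c5810 : Block F al 0 1487616 1420284 :=
  block_comb c5809 b5810 (Nat.zero_le _) (Nat.le_of_ble_eq_true rfl) rfl

theorem c5811 : Block F al 0 1487872 1420540 :=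
  block_comb c5810 b5811 (Nat.zero_le _) (Nat.le_of_ble_eq_true rfl) rfl

theorem c5812 : Block F al 0 1488128 1420796 :=
  block_comb c5811 b5812 (Nat.zero_le _) (Nat.le_of_ble_eq_true rfl) rfl

theorem c5813 : Block F al 0 1488384 1421052 :=
  block_comb c5812 b5813 (Nat.zero_le _) (Nat.le_of_ble_eq_true rfl) rfl

theorem c5814 : Block F al 0 1488640 1421308 :=
  block_comb c5813 b5814 (Nat.zero_le _) (Nat.le_of_ble_eq_true rfl) rfl

theorem c5815 : Block F al 0 1488896 1421563 :=
  block_comb c5814 b5815 (Nat.zero_le _) (Nat.le_of_ble_eq_true rfl) rfl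

theorem c5816 : Block F al 0 1489152 1421819 :=
  block_comb c5815 b5816 (Nat.zero_le _) (Nat.le_of_ble_eq_true rfl) rfl

theorem c5817 : Block F al 0 1489408 1422074 :=
  block_comb c5816 b5817 (Nat.zero_le _) (Nat.le_of_ble_eq_true rfl) rfl

theorem c5818 : Block F al 0 1489664 1422330 :=
  block_comb c5817 b5818 (Nat.zero_le _) (Nat.le_of_ble_eq_true rfl) rfl

theorem c5819 : Block F al 0 1489920 1422586 :=
  block_comb c5818 b5819 (Nat.zero_le _) (Nat.le_of_ble_eq_true rfl) rfl

theorem c5820 : Block F al 0 1490176 1422841 :=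
  block_comb c5819 b5820 (Nat.zero_le _) (Nat.le_of_ble_eq_true rfl) rfl

theorem c5821 : Block F al 0 1490432 1423097 :=
  block_comb c5820 b5821 (Nat.zero_le _) (Nat.le_of_ble_eq_true rfl) rfl

theorem c5822 : Block F al 0 1490688 1423353 :=
  block_comb c5821 b5822 (Nat.zero_le _) (Nat.le_of_ble_eq_true rfl) rfl

theorem c5823 : Block F al 0 1490944 1423609 :=
  block_comb c5822 b5823 (Nat.zero_le _) (Nat.le_of_ble_eq_true rfl) rfl

theorem c5824 : Block F al 0 1491200 1423865 :=
  block_comb c5823 b5824 (Nat.zero_le _) (Nat.le_of_ble_eq_true rfl) rfl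

theorem c5825 : Block F al 0 1491456 1424121 :=
  block_comb c5824 b5825 (Nat.zero_le _) (Nat.le_of_ble_eq_true rfl) rfl

theorem c5826 : Block F al 0 1491712 1424377 :=
  block_comb c5825 b5826 (Nat.zero_le _) (Nat.le_of_ble_eq_true rfl) rfl

theorem c5827 : Block F al 0 1491968 1424632 :=
  block_comb c5826 b5827 (Nat.zero_le _) (Nat.le_of_ble_eq_true rfl) rfl

theorem c5828 : Block F al 0 1492224 1424888 :=
  block_comb c5827 b5828 (Nat.zero_le _) (Nat.le_of_ble_eq_true rfl) rfl

theorem c5829 : Block F al 0 1492480 1425144 :=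
  block_comb c5828 b5829 (Nat.zero_le _) (Nat.le_of_ble_eq_true rfl) rfl

theorem c5830 : Block F al 0 1492736 1425400 :=
  block_comb c5829 b5830 (Nat.zero_le _) (Nat.le_of_ble_eq_true rfl) rfl

theorem c5831 : Block F al 0 1492992 1425656 :=
  block_comb c5830 b5831 (Nat.zero_le _) (Nat.le_of_ble_eq_true rfl) rfl

theorem c5832 : Block F al 0 1493248 1425912 :=
  block_comb c5831 b5832 (Nat.zero_le _) (Nat.le_of_ble_eq_true rfl) rfl

theorem c5833 : Block F al 0 1493504 1426168 :=
  block_comb c5832 b5833 (Nat.zero_le _) (Nat.le_of_ble_eq_true rfl) rfl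

theorem c5834 : Block F al 0 1493760 1426424 :=
  block_comb c5833 b5834 (Nat.zero_le _) (Nat.le_of_ble_eq_true rfl) rfl

theorem c5835 : Block F al 0 1494016 1426678 :=
  block_comb c5834 b5835 (Nat.zero_le _) (Nat.le_of_ble_eq_true rfl) rfl

theorem c5836 : Block F al 0 1494272 1426930 :=
  block_comb c5835 b5836 (Nat.zero_le _) (Nat.le_of_ble_eq_true rfl) rfl

theorem c5837 : Block F al 0 1494528 1427184 :=
  block_comb c5836 b5837 (Nat.zero_le _) (Nat.le_of_ble_eq_true rfl) rfl

theorem c5838 : Block F al 0 1494784 1427440 :=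
  block_comb c5837 b5838 (Nat.zero_le _) (Nat.le_of_ble_eq_true rfl) rfl

theorem c5839 : Block F al 0 1495040 1427696 :=
  block_comb c5838 b5839 (Nat.zero_le _) (Nat.le_of_ble_eq_true rfl) rfl

theorem c5840 : Block F al 0 1495296 1427952 :=
  block_comb c5839 b5840 (Nat.zero_le _) (Nat.le_of_ble_eq_true rfl) rfl

theorem c5841 : Block F al 0 1495552 1428208 :=
  block_comb c5840 b5841 (Nat.zero_le _) (Nat.le_of_ble_eq_true rfl) rfl

theorem c5842 : Block F al 0 1495808 1428464 :=
  block_comb c5841 b5842 (Nat.zero_le _) (Nat.le_of_ble_eq_true rfl) rfl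

theorem c5843 : Block F al 0 1496064 1428720 :=
  block_comb c5842 b5843 (Nat.zero_le _) (Nat.le_of_ble_eq_true rfl) rfl

theorem c5844 : Block F al 0 1496320 1428976 :=
  block_comb c5843 b5844 (Nat.zero_le _) (Nat.le_of_ble_eq_true rfl) rfl

theorem c5845 : Block F al 0 1496576 1429232 :=
  block_comb c5844 b5845 (Nat.zero_le _) (Nat.le_of_ble_eq_true rfl) rfl

theorem c5846 : Block F al 0 1496832 1429486 :=
  block_comb c5845 b5846 (Nat.zero_le _) (Nat.le_of_ble_eq_true rfl) rfl

theorem c5847 : Block F al 0 1497088 1429742 :=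
  block_comb c5846 b5847 (Nat.zero_le _) (Nat.le_of_ble_eq_true rfl) rfl

theorem c5848 : Block F al 0 1497344 1429998 :=
  block_comb c5847 b5848 (Nat.zero_le _) (Nat.le_of_ble_eq_true rfl) rfl

theorem c5849 : Block F al 0 1497600 1430254 :=
  block_comb c5848 b5849 (Nat.zero_le _) (Nat.le_of_ble_eq_true rfl) rfl

theorem c5850 : Block F al 0 1497856 1430510 :=
  block_comb c5849 b5850 (Nat.zero_le _) (Nat.le_of_ble_eq_true rfl) rfl

theorem c5851 : Block F al 0 1498112 1430766 :=
  block_comb c5850 b5851 (Nat.zero_le _) (Nat.le_of_ble_eq_true rfl) rfl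

theorem c5852 : Block F al 0 1498368 1431022 :=
  block_comb c5851 b5852 (Nat.zero_le _) (Nat.le_of_ble_eq_true rfl) rfl

theorem c5853 : Block F al 0 1498624 1431278 :=
  block_comb c5852 b5853 (Nat.zero_le _) (Nat.le_of_ble_eq_true rfl) rfl

theorem c5854 : Block F al 0 1498880 1431528 :=
  block_comb c5853 b5854 (Nat.zero_le _) (Nat.le_of_ble_eq_true rfl) rfl

theorem c5855 : Block F al 0 1499136 1431781 :=
  block_comb c5854 b5855 (Nat.zero_le _) (Nat.le_of_ble_eq_true rfl) rfl

theorem c5856 : Block F al 0 1499392 1432037 :=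
  block_comb c5855 b5856 (Nat.zero_le _) (Nat.le_of_ble_eq_true rfl) rfl

theorem c5857 : Block F al 0 1499648 1432290 :=
  block_comb c5856 b5857 (Nat.zero_le _) (Nat.le_of_ble_eq_true rfl) rfl

theorem c5858 : Block F al 0 1499904 1432546 :=
  block_comb c5857 b5858 (Nat.zero_le _) (Nat.le_of_ble_eq_true rfl) rfl

theorem c5859 : Block F al 0 1500160 1432802 :=
  block_comb c5858 b5859 (Nat.zero_le _) (Nat.le_of_ble_eq_true rfl) rfl

theorem c5860 : Block F al 0 1500416 1433058 :=
  block_comb c5859 b5860 (Nat.zero_le _) (Nat.le_of_ble_eq_true rfl) rfl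

theorem c5861 : Block F al 0 1500672 1433314 :=
  block_comb c5860 b5861 (Nat.zero_le _) (Nat.le_of_ble_eq_true rfl) rfl

theorem c5862 : Block F al 0 1500928 1433569 :=
  block_comb c5861 b5862 (Nat.zero_le _) (Nat.le_of_ble_eq_true rfl) rfl

theorem c5863 : Block F al 0 1501184 1433825 :=
  block_comb c5862 b5863 (Nat.zero_le _) (Nat.le_of_ble_eq_true rfl) rfl

theorem c5864 : Block F al 0 1501440 1434081 :=
  block_comb c5863 b5864 (Nat.zero_le _) (Nat.le_of_ble_eq_true rfl) rfl

theorem c5865 : Block F al 0 1501696 1434337 :=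
  block_comb c5864 b5865 (Nat.zero_le _) (Nat.le_of_ble_eq_true rfl) rfl

theorem c5866 : Block F al 0 1501952 1434593 :=
  block_comb c5865 b5866 (Nat.zero_le _) (Nat.le_of_ble_eq_true rfl) rfl

theorem c5867 : Block F al 0 1502208 1434849 :=
  block_comb c5866 b5867 (Nat.zero_le _) (Nat.le_of_ble_eq_true rfl) rfl

theorem c5868 : Block F al 0 1502464 1435105 :=
  block_comb c5867 b5868 (Nat.zero_le _) (Nat.le_of_ble_eq_true rfl) rfl

theorem c5869 : Block F al 0 1502720 1435361 :=
  block_comb c5868 b5869 (Nat.zero_le _) (Nat.le_of_ble_eq_true rfl) rfl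

theorem c5870 : Block F al 0 1502976 1435617 :=
  block_comb c5869 b5870 (Nat.zero_le _) (Nat.le_of_ble_eq_true rfl) rfl

theorem c5871 : Block F al 0 1503232 1435873 :=
  block_comb c5870 b5871 (Nat.zero_le _) (Nat.le_of_ble_eq_true rfl) rfl

theorem c5872 : Block F al 0 1503488 1436129 :=
  block_comb c5871 b5872 (Nat.zero_le _) (Nat.le_of_ble_eq_true rfl) rfl

theorem c5873 : Block F al 0 1503744 1436385 :=
  block_comb c5872 b5873 (Nat.zero_le _) (Nat.le_of_ble_eq_true rfl) rfl

theorem c5874 : Block F al 0 1504000 1436639 :=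
  block_comb c5873 b5874 (Nat.zero_le _) (Nat.le_of_ble_eq_true rfl) rfl

theorem c5875 : Block F al 0 1504256 1436895 :=
  block_comb c5874 b5875 (Nat.zero_le _) (Nat.le_of_ble_eq_true rfl) rfl

theorem c5876 : Block F al 0 1504512 1437151 :=
  block_comb c5875 b5876 (Nat.zero_le _) (Nat.le_of_ble_eq_true rfl) rfl

theorem c5877 : Block F al 0 1504768 1437407 :=
  block_comb c5876 b5877 (Nat.zero_le _) (Nat.le_of_ble_eq_true rfl) rfl

theorem c5878 : Block F al 0 1505024 1437663 :=
  block_comb c5877 b5878 (Nat.zero_le _) (Nat.le_of_ble_eq_true rfl) rfl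

theorem c5879 : Block F al 0 1505280 1437919 :=
  block_comb c5878 b5879 (Nat.zero_le _) (Nat.le_of_ble_eq_true rfl) rfl

theorem c5880 : Block F al 0 1505536 1438175 :=
  block_comb c5879 b5880 (Nat.zero_le _) (Nat.le_of_ble_eq_true rfl) rfl

theorem c5881 : Block F al 0 1505792 1438431 :=
  block_comb c5880 b5881 (Nat.zero_le _) (Nat.le_of_ble_eq_true rfl) rfl

theorem c5882 : Block F al 0 1506048 1438687 :=
  block_comb c5881 b5882 (Nat.zero_le _) (Nat.le_of_ble_eq_true rfl) rfl

theorem c5883 : Block F al 0 1506304 1438943 :=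
  block_comb c5882 b5883 (Nat.zero_le _) (Nat.le_of_ble_eq_true rfl) rfl

theorem c5884 : Block F al 0 1506560 1439199 :=
  block_comb c5883 b5884 (Nat.zero_le _) (Nat.le_of_ble_eq_true rfl) rfl

theorem c5885 : Block F al 0 1506816 1439455 :=
  block_comb c5884 b5885 (Nat.zero_le _) (Nat.le_of_ble_eq_true rfl) rfl

theorem c5886 : Block F al 0 1507072 1439711 :=
  block_comb c5885 b5886 (Nat.zero_le _) (Nat.le_of_ble_eq_true rfl) rfl

theorem c5887 : Block F al 0 1507328 1439967 :=
  block_comb c5886 b5887 (Nat.zero_le _) (Nat.le_of_ble_eq_true rfl) rfl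

theorem c5888 : Block F al 0 1507584 1440223 :=
  block_comb c5887 b5888 (Nat.zero_le _) (Nat.le_of_ble_eq_true rfl) rfl

theorem c5889 : Block F al 0 1507840 1440479 :=
  block_comb c5888 b5889 (Nat.zero_le _) (Nat.le_of_ble_eq_true rfl) rfl

theorem c5890 : Block F al 0 1508096 1440735 :=
  block_comb c5889 b5890 (Nat.zero_le _) (Nat.le_of_ble_eq_true rfl) rfl

theorem c5891 : Block F al 0 1508352 1440991 :=
  block_comb c5890 b5891 (Nat.zero_le _) (Nat.le_of_ble_eq_true rfl) rfl

theorem c5892 : Block F al 0 1508608 1441247 :=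
  block_comb c5891 b5892 (Nat.zero_le _) (Nat.le_of_ble_eq_true rfl) rfl

theorem c5893 : Block F al 0 1508864 1441503 :=
  block_comb c5892 b5893 (Nat.zero_le _) (Nat.le_of_ble_eq_true rfl) rfl

theorem c5894 : Block F al 0 1509120 1441759 :=
  block_comb c5893 b5894 (Nat.zero_le _) (Nat.le_of_ble_eq_true rfl) rfl

theorem c5895 : Block F al 0 1509376 1442015 :=
  block_comb c5894 b5895 (Nat.zero_le _) (Nat.le_of_ble_eq_true rfl) rfl

theorem c5896 : Block F al 0 1509632 1442271 :=
  block_comb c5895 b5896 (Nat.zero_le _) (Nat.le_of_ble_eq_true rfl) rfl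

theorem c5897 : Block F al 0 1509888 1442527 :=
  block_comb c5896 b5897 (Nat.zero_le _) (Nat.le_of_ble_eq_true rfl) rfl

theorem c5898 : Block F al 0 1510144 1442783 :=
  block_comb c5897 b5898 (Nat.zero_le _) (Nat.le_of_ble_eq_true rfl) rfl

theorem c5899 : Block F al 0 1510400 1443038 :=
  block_comb c5898 b5899 (Nat.zero_le _) (Nat.le_of_ble_eq_true rfl) rfl

theorem c5900 : Block F al 0 1510656 1443294 :=
  block_comb c5899 b5900 (Nat.zero_le _) (Nat.le_of_ble_eq_true rfl) rfl

theorem c5901 : Block F al 0 1510912 1443550 :=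
  block_comb c5900 b5901 (Nat.zero_le _) (Nat.le_of_ble_eq_true rfl) rfl

theorem c5902 : Block F al 0 1511168 1443806 :=
  block_comb c5901 b5902 (Nat.zero_le _) (Nat.le_of_ble_eq_true rfl) rfl

theorem c5903 : Block F al 0 1511424 1444062 :=
  block_comb c5902 b5903 (Nat.zero_le _) (Nat.le_of_ble_eq_true rfl) rfl

theorem c5904 : Block F al 0 1511680 1444318 :=
  block_comb c5903 b5904 (Nat.zero_le _) (Nat.le_of_ble_eq_true rfl) rfl

theorem c5905 : Block F al 0 1511936 1444574 :=
  block_comb c5904 b5905 (Nat.zero_le _) (Nat.le_of_ble_eq_true rfl) rfl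

theorem c5906 : Block F al 0 1512192 1444830 :=
  block_comb c5905 b5906 (Nat.zero_le _) (Nat.le_of_ble_eq_true rfl) rfl

theorem c5907 : Block F al 0 1512448 1445086 :=
  block_comb c5906 b5907 (Nat.zero_le _) (Nat.le_of_ble_eq_true rfl) rfl

theorem c5908 : Block F al 0 1512704 1445342 :=
  block_comb c5907 b5908 (Nat.zero_le _) (Nat.le_of_ble_eq_true rfl) rfl

theorem c5909 : Block F al 0 1512960 1445598 :=
  block_comb c5908 b5909 (Nat.zero_le _) (Nat.le_of_ble_eq_true rfl) rfl

theorem c5910 : Block F al 0 1513216 1445854 :=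
  block_comb c5909 b5910 (Nat.zero_le _) (Nat.le_of_ble_eq_true rfl) rfl

theorem c5911 : Block F al 0 1513472 1446110 :=
  block_comb c5910 b5911 (Nat.zero_le _) (Nat.le_of_ble_eq_true rfl) rfl

theorem c5912 : Block F al 0 1513728 1446366 :=
  block_comb c5911 b5912 (Nat.zero_le _) (Nat.le_of_ble_eq_true rfl) rfl

theorem c5913 : Block F al 0 1513984 1446622 :=
  block_comb c5912 b5913 (Nat.zero_le _) (Nat.le_of_ble_eq_true rfl) rfl

theorem c5914 : Block F al 0 1514240 1446878 :=
  block_comb c5913 b5914 (Nat.zero_le _) (Nat.le_of_ble_eq_true rfl) rfl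

theorem c5915 : Block F al 0 1514496 1447134 :=
  block_comb c5914 b5915 (Nat.zero_le _) (Nat.le_of_ble_eq_true rfl) rfl

theorem c5916 : Block F al 0 1514752 1447390 :=
  block_comb c5915 b5916 (Nat.zero_le _) (Nat.le_of_ble_eq_true rfl) rfl

theorem c5917 : Block F al 0 1515008 1447646 :=
  block_comb c5916 b5917 (Nat.zero_le _) (Nat.le_of_ble_eq_true rfl) rfl

theorem c5918 : Block F al 0 1515264 1447902 :=
  block_comb c5917 b5918 (Nat.zero_le _) (Nat.le_of_ble_eq_true rfl) rfl

theorem c5919 : Block F al 0 1515520 1448158 :=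
  block_comb c5918 b5919 (Nat.zero_le _) (Nat.le_of_ble_eq_true rfl) rfl

theorem c5920 : Block F al 0 1515776 1448414 :=
  block_comb c5919 b5920 (Nat.zero_le _) (Nat.le_of_ble_eq_true rfl) rfl

theorem c5921 : Block F al 0 1516032 1448670 :=
  block_comb c5920 b5921 (Nat.zero_le _) (Nat.le_of_ble_eq_true rfl) rfl

theorem c5922 : Block F al 0 1516288 1448926 :=
  block_comb c5921 b5922 (Nat.zero_le _) (Nat.le_of_ble_eq_true rfl) rfl

theorem c5923 : Block F al 0 1516544 1449182 :=
  block_comb c5922 b5923 (Nat.zero_le _) (Nat.le_of_ble_eq_true rfl) rfl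

theorem c5924 : Block F al 0 1516800 1449438 :=
  block_comb c5923 b5924 (Nat.zero_le _) (Nat.le_of_ble_eq_true rfl) rfl

theorem c5925 : Block F al 0 1517056 1449694 :=
  block_comb c5924 b5925 (Nat.zero_le _) (Nat.le_of_ble_eq_true rfl) rfl

theorem c5926 : Block F al 0 1517312 1449950 :=
  block_comb c5925 b5926 (Nat.zero_le _) (Nat.le_of_ble_eq_true rfl) rfl

theorem c5927 : Block F al 0 1517568 1450206 :=
  block_comb c5926 b5927 (Nat.zero_le _) (Nat.le_of_ble_eq_true rfl) rfl

theorem c5928 : Block F al 0 1517824 1450462 :=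
  block_comb c5927 b5928 (Nat.zero_le _) (Nat.le_of_ble_eq_true rfl) rfl

theorem c5929 : Block F al 0 1518080 1450718 :=
  block_comb c5928 b5929 (Nat.zero_le _) (Nat.le_of_ble_eq_true rfl) rfl

theorem c5930 : Block F al 0 1518336 1450974 :=
  block_comb c5929 b5930 (Nat.zero_le _) (Nat.le_of_ble_eq_true rfl) rfl

theorem c5931 : Block F al 0 1518592 1451230 :=
  block_comb c5930 b5931 (Nat.zero_le _) (Nat.le_of_ble_eq_true rfl) rfl

theorem c5932 : Block F al 0 1518848 1451486 :=
  block_comb c5931 b5932 (Nat.zero_le _) (Nat.le_of_ble_eq_true rfl) rfl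

theorem c5933 : Block F al 0 1519104 1451742 :=
  block_comb c5932 b5933 (Nat.zero_le _) (Nat.le_of_ble_eq_true rfl) rfl

theorem c5934 : Block F al 0 1519360 1451998 :=
  block_comb c5933 b5934 (Nat.zero_le _) (Nat.le_of_ble_eq_true rfl) rfl

theorem c5935 : Block F al 0 1519616 1452254 :=
  block_comb c5934 b5935 (Nat.zero_le _) (Nat.le_of_ble_eq_true rfl) rfl

theorem c5936 : Block F al 0 1519872 1452510 :=
  block_comb c5935 b5936 (Nat.zero_le _) (Nat.le_of_ble_eq_true rfl) rfl

theorem c5937 : Block F al 0 1520128 1452766 :=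
  block_comb c5936 b5937 (Nat.zero_le _) (Nat.le_of_ble_eq_true rfl) rfl

theorem c5938 : Block F al 0 1520384 1453022 :=
  block_comb c5937 b5938 (Nat.zero_le _) (Nat.le_of_ble_eq_true rfl) rfl

theorem c5939 : Block F al 0 1520640 1453278 :=
  block_comb c5938 b5939 (Nat.zero_le _) (Nat.le_of_ble_eq_true rfl) rfl

theorem c5940 : Block F al 0 1520896 1453534 :=
  block_comb c5939 b5940 (Nat.zero_le _) (Nat.le_of_ble_eq_true rfl) rfl

theorem c5941 : Block F al 0 1521152 1453790 :=
  block_comb c5940 b5941 (Nat.zero_le _) (Nat.le_of_ble_eq_true rfl) rfl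

theorem c5942 : Block F al 0 1521408 1454046 :=
  block_comb c5941 b5942 (Nat.zero_le _) (Nat.le_of_ble_eq_true rfl) rfl

theorem c5943 : Block F al 0 1521664 1454302 :=
  block_comb c5942 b5943 (Nat.zero_le _) (Nat.le_of_ble_eq_true rfl) rfl

theorem c5944 : Block F al 0 1521920 1454558 :=
  block_comb c5943 b5944 (Nat.zero_le _) (Nat.le_of_ble_eq_true rfl) rfl

theorem c5945 : Block F al 0 1522176 1454814 :=
  block_comb c5944 b5945 (Nat.zero_le _) (Nat.le_of_ble_eq_true rfl) rfl

theorem c5946 : Block F al 0 1522432 1455070 :=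
  block_comb c5945 b5946 (Nat.zero_le _) (Nat.le_of_ble_eq_true rfl) rfl

theorem c5947 : Block F al 0 1522688 1455324 :=
  block_comb c5946 b5947 (Nat.zero_le _) (Nat.le_of_ble_eq_true rfl) rfl

theorem c5948 : Block F al 0 1522944 1455580 :=
  block_comb c5947 b5948 (Nat.zero_le _) (Nat.le_of_ble_eq_true rfl) rfl

theorem c5949 : Block F al 0 1523200 1455836 :=
  block_comb c5948 b5949 (Nat.zero_le _) (Nat.le_of_ble_eq_true rfl) rfl

theorem c5950 : Block F al 0 1523456 1456092 :=
  block_comb c5949 b5950 (Nat.zero_le _) (Nat.le_of_ble_eq_true rfl) rfl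

theorem c5951 : Block F al 0 1523712 1456348 :=
  block_comb c5950 b5951 (Nat.zero_le _) (Nat.le_of_ble_eq_true rfl) rfl

theorem c5952 : Block F al 0 1523968 1456604 :=
  block_comb c5951 b5952 (Nat.zero_le _) (Nat.le_of_ble_eq_true rfl) rfl

theorem c5953 : Block F al 0 1524224 1456860 :=
  block_comb c5952 b5953 (Nat.zero_le _) (Nat.le_of_ble_eq_true rfl) rfl

theorem c5954 : Block F al 0 1524480 1457114 :=
  block_comb c5953 b5954 (Nat.zero_le _) (Nat.le_of_ble_eq_true rfl) rfl

theorem c5955 : Block F al 0 1524736 1457370 :=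
  block_comb c5954 b5955 (Nat.zero_le _) (Nat.le_of_ble_eq_true rfl) rfl

theorem c5956 : Block F al 0 1524992 1457626 :=
  block_comb c5955 b5956 (Nat.zero_le _) (Nat.le_of_ble_eq_true rfl) rfl

theorem c5957 : Block F al 0 1525248 1457882 :=
  block_comb c5956 b5957 (Nat.zero_le _) (Nat.le_of_ble_eq_true rfl) rfl

theorem c5958 : Block F al 0 1525504 1458138 :=
  block_comb c5957 b5958 (Nat.zero_le _) (Nat.le_of_ble_eq_true rfl) rfl

theorem c5959 : Block F al 0 1525760 1458394 :=
  block_comb c5958 b5959 (Nat.zero_le _) (Nat.le_of_ble_eq_true rfl) rfl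

theorem c5960 : Block F al 0 1526016 1458650 :=
  block_comb c5959 b5960 (Nat.zero_le _) (Nat.le_of_ble_eq_true rfl) rfl

theorem c5961 : Block F al 0 1526272 1458906 :=
  block_comb c5960 b5961 (Nat.zero_le _) (Nat.le_of_ble_eq_true rfl) rfl

theorem c5962 : Block F al 0 1526528 1459162 :=
  block_comb c5961 b5962 (Nat.zero_le _) (Nat.le_of_ble_eq_true rfl) rfl

theorem c5963 : Block F al 0 1526784 1459418 :=
  block_comb c5962 b5963 (Nat.zero_le _) (Nat.le_of_ble_eq_true rfl) rfl

theorem c5964 : Block F al 0 1527040 1459674 :=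
  block_comb c5963 b5964 (Nat.zero_le _) (Nat.le_of_ble_eq_true rfl) rfl

theorem c5965 : Block F al 0 1527296 1459930 :=
  block_comb c5964 b5965 (Nat.zero_le _) (Nat.le_of_ble_eq_true rfl) rfl

theorem c5966 : Block F al 0 1527552 1460186 :=
  block_comb c5965 b5966 (Nat.zero_le _) (Nat.le_of_ble_eq_true rfl) rfl

theorem c5967 : Block F al 0 1527808 1460442 :=
  block_comb c5966 b5967 (Nat.zero_le _) (Nat.le_of_ble_eq_true rfl) rfl

theorem c5968 : Block F al 0 1528064 1460697 :=
  block_comb c5967 b5968 (Nat.zero_le _) (Nat.le_of_ble_eq_true rfl) rfl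

theorem c5969 : Block F al 0 1528320 1460953 :=
  block_comb c5968 b5969 (Nat.zero_le _) (Nat.le_of_ble_eq_true rfl) rfl

theorem c5970 : Block F al 0 1528576 1461206 :=
  block_comb c5969 b5970 (Nat.zero_le _) (Nat.le_of_ble_eq_true rfl) rfl

theorem c5971 : Block F al 0 1528832 1461462 :=
  block_comb c5970 b5971 (Nat.zero_le _) (Nat.le_of_ble_eq_true rfl) rfl

theorem c5972 : Block F al 0 1529088 1461716 :=
  block_comb c5971 b5972 (Nat.zero_le _) (Nat.le_of_ble_eq_true rfl) rfl

theorem c5973 : Block F al 0 1529344 1461972 :=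
  block_comb c5972 b5973 (Nat.zero_le _) (Nat.le_of_ble_eq_true rfl) rfl

theorem c5974 : Block F al 0 1529600 1462228 :=
  block_comb c5973 b5974 (Nat.zero_le _) (Nat.le_of_ble_eq_true rfl) rfl

theorem c5975 : Block F al 0 1529856 1462484 :=
  block_comb c5974 b5975 (Nat.zero_le _) (Nat.le_of_ble_eq_true rfl) rfl

theorem c5976 : Block F al 0 1530112 1462740 :=
  block_comb c5975 b5976 (Nat.zero_le _) (Nat.le_of_ble_eq_true rfl) rfl

theorem c5977 : Block F al 0 1530368 1462996 :=
  block_comb c5976 b5977 (Nat.zero_le _) (Nat.le_of_ble_eq_true rfl) rfl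

theorem c5978 : Block F al 0 1530624 1463252 :=
  block_comb c5977 b5978 (Nat.zero_le _) (Nat.le_of_ble_eq_true rfl) rfl

theorem c5979 : Block F al 0 1530880 1463508 :=
  block_comb c5978 b5979 (Nat.zero_le _) (Nat.le_of_ble_eq_true rfl) rfl

theorem c5980 : Block F al 0 1531136 1463764 :=
  block_comb c5979 b5980 (Nat.zero_le _) (Nat.le_of_ble_eq_true rfl) rfl

theorem c5981 : Block F al 0 1531392 1464019 :=
  block_comb c5980 b5981 (Nat.zero_le _) (Nat.le_of_ble_eq_true rfl) rfl

theorem c5982 : Block F al 0 1531648 1464275 :=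
  block_comb c5981 b5982 (Nat.zero_le _) (Nat.le_of_ble_eq_true rfl) rfl

theorem c5983 : Block F al 0 1531904 1464530 :=
  block_comb c5982 b5983 (Nat.zero_le _) (Nat.le_of_ble_eq_true rfl) rfl

theorem c5984 : Block F al 0 1532160 1464786 :=
  block_comb c5983 b5984 (Nat.zero_le _) (Nat.le_of_ble_eq_true rfl) rfl

theorem c5985 : Block F al 0 1532416 1465042 :=
  block_comb c5984 b5985 (Nat.zero_le _) (Nat.le_of_ble_eq_true rfl) rfl

theorem c5986 : Block F al 0 1532672 1465298 :=
  block_comb c5985 b5986 (Nat.zero_le _) (Nat.le_of_ble_eq_true rfl) rfl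

theorem c5987 : Block F al 0 1532928 1465554 :=
  block_comb c5986 b5987 (Nat.zero_le _) (Nat.le_of_ble_eq_true rfl) rfl

theorem c5988 : Block F al 0 1533184 1465810 :=
  block_comb c5987 b5988 (Nat.zero_le _) (Nat.le_of_ble_eq_true rfl) rfl

theorem c5989 : Block F al 0 1533440 1466066 :=
  block_comb c5988 b5989 (Nat.zero_le _) (Nat.le_of_ble_eq_true rfl) rfl

theorem c5990 : Block F al 0 1533696 1466322 :=
  block_comb c5989 b5990 (Nat.zero_le _) (Nat.le_of_ble_eq_true rfl) rfl

theorem c5991 : Block F al 0 1533952 1466578 :=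
  block_comb c5990 b5991 (Nat.zero_le _) (Nat.le_of_ble_eq_true rfl) rfl

theorem c5992 : Block F al 0 1534208 1466834 :=
  block_comb c5991 b5992 (Nat.zero_le _) (Nat.le_of_ble_eq_true rfl) rfl

theorem c5993 : Block F al 0 1534464 1467090 :=
  block_comb c5992 b5993 (Nat.zero_le _) (Nat.le_of_ble_eq_true rfl) rfl

theorem c5994 : Block F al 0 1534720 1467345 :=
  block_comb c5993 b5994 (Nat.zero_le _) (Nat.le_of_ble_eq_true rfl) rfl

theorem c5995 : Block F al 0 1534976 1467601 :=
  block_comb c5994 b5995 (Nat.zero_le _) (Nat.le_of_ble_eq_true rfl) rfl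

theorem c5996 : Block F al 0 1535232 1467857 :=
  block_comb c5995 b5996 (Nat.zero_le _) (Nat.le_of_ble_eq_true rfl) rfl

theorem c5997 : Block F al 0 1535488 1468113 :=
  block_comb c5996 b5997 (Nat.zero_le _) (Nat.le_of_ble_eq_true rfl) rfl

theorem c5998 : Block F al 0 1535744 1468369 :=
  block_comb c5997 b5998 (Nat.zero_le _) (Nat.le_of_ble_eq_true rfl) rfl

theorem c5999 : Block F al 0 1536000 1468625 :=
  block_comb c5998 b5999 (Nat.zero_le _) (Nat.le_of_ble_eq_true rfl) rfl

theorem c6000 : Block F al 0 1536256 1468881 :=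
  block_comb c5999 b6000 (Nat.zero_le _) (Nat.le_of_ble_eq_true rfl) rfl

theorem c6001 : Block F al 0 1536512 1469137 :=
  block_comb c6000 b6001 (Nat.zero_le _) (Nat.le_of_ble_eq_true rfl) rfl

theorem c6002 : Block F al 0 1536768 1469393 :=
  block_comb c6001 b6002 (Nat.zero_le _) (Nat.le_of_ble_eq_true rfl) rfl

theorem c6003 : Block F al 0 1537024 1469649 :=
  block_comb c6002 b6003 (Nat.zero_le _) (Nat.le_of_ble_eq_true rfl) rfl

theorem c6004 : Block F al 0 1537280 1469905 :=
  block_comb c6003 b6004 (Nat.zero_le _) (Nat.le_of_ble_eq_true rfl) rfl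

theorem c6005 : Block F al 0 1537536 1470161 :=
  block_comb c6004 b6005 (Nat.zero_le _) (Nat.le_of_ble_eq_true rfl) rfl

theorem c6006 : Block F al 0 1537792 1470417 :=
  block_comb c6005 b6006 (Nat.zero_le _) (Nat.le_of_ble_eq_true rfl) rfl

theorem c6007 : Block F al 0 1538048 1470673 :=
  block_comb c6006 b6007 (Nat.zero_le _) (Nat.le_of_ble_eq_true rfl) rfl

theorem c6008 : Block F al 0 1538304 1470929 :=
  block_comb c6007 b6008 (Nat.zero_le _) (Nat.le_of_ble_eq_true rfl) rfl

theorem c6009 : Block F al 0 1538560 1471185 :=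
  block_comb c6008 b6009 (Nat.zero_le _) (Nat.le_of_ble_eq_true rfl) rfl

theorem c6010 : Block F al 0 1538816 1471441 :=
  block_comb c6009 b6010 (Nat.zero_le _) (Nat.le_of_ble_eq_true rfl) rfl

theorem c6011 : Block F al 0 1539072 1471697 :=
  block_comb c6010 b6011 (Nat.zero_le _) (Nat.le_of_ble_eq_true rfl) rfl

theorem c6012 : Block F al 0 1539328 1471953 :=
  block_comb c6011 b6012 (Nat.zero_le _) (Nat.le_of_ble_eq_true rfl) rfl

theorem c6013 : Block F al 0 1539584 1472209 :=
  block_comb c6012 b6013 (Nat.zero_le _) (Nat.le_of_ble_eq_true rfl) rfl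

theorem c6014 : Block F al 0 1539840 1472465 :=
  block_comb c6013 b6014 (Nat.zero_le _) (Nat.le_of_ble_eq_true rfl) rfl

theorem c6015 : Block F al 0 1540096 1472721 :=
  block_comb c6014 b6015 (Nat.zero_le _) (Nat.le_of_ble_eq_true rfl) rfl

theorem c6016 : Block F al 0 1540352 1472977 :=
  block_comb c6015 b6016 (Nat.zero_le _) (Nat.le_of_ble_eq_true rfl) rfl

theorem c6017 : Block F al 0 1540608 1473233 :=
  block_comb c6016 b6017 (Nat.zero_le _) (Nat.le_of_ble_eq_true rfl) rfl

theorem c6018 : Block F al 0 1540864 1473489 :=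
  block_comb c6017 b6018 (Nat.zero_le _) (Nat.le_of_ble_eq_true rfl) rfl

theorem c6019 : Block F al 0 1541120 1473745 :=
  block_comb c6018 b6019 (Nat.zero_le _) (Nat.le_of_ble_eq_true rfl) rfl

theorem c6020 : Block F al 0 1541376 1474001 :=
  block_comb c6019 b6020 (Nat.zero_le _) (Nat.le_of_ble_eq_true rfl) rfl

theorem c6021 : Block F al 0 1541632 1474257 :=
  block_comb c6020 b6021 (Nat.zero_le _) (Nat.le_of_ble_eq_true rfl) rfl

theorem c6022 : Block F al 0 1541888 1474513 :=
  block_comb c6021 b6022 (Nat.zero_le _) (Nat.le_of_ble_eq_true rfl) rfl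

theorem c6023 : Block F al 0 1542144 1474769 :=
  block_comb c6022 b6023 (Nat.zero_le _) (Nat.le_of_ble_eq_true rfl) rfl

theorem c6024 : Block F al 0 1542400 1475025 :=
  block_comb c6023 b6024 (Nat.zero_le _) (Nat.le_of_ble_eq_true rfl) rfl

theorem c6025 : Block F al 0 1542656 1475281 :=
  block_comb c6024 b6025 (Nat.zero_le _) (Nat.le_of_ble_eq_true rfl) rfl

theorem c6026 : Block F al 0 1542912 1475537 :=
  block_comb c6025 b6026 (Nat.zero_le _) (Nat.le_of_ble_eq_true rfl) rfl

theorem c6027 : Block F al 0 1543168 1475793 :=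
  block_comb c6026 b6027 (Nat.zero_le _) (Nat.le_of_ble_eq_true rfl) rfl

theorem c6028 : Block F al 0 1543424 1476049 :=
  block_comb c6027 b6028 (Nat.zero_le _) (Nat.le_of_ble_eq_true rfl) rfl

theorem c6029 : Block F al 0 1543680 1476305 :=
  block_comb c6028 b6029 (Nat.zero_le _) (Nat.le_of_ble_eq_true rfl) rfl

theorem c6030 : Block F al 0 1543936 1476561 :=
  block_comb c6029 b6030 (Nat.zero_le _) (Nat.le_of_ble_eq_true rfl) rfl

theorem c6031 : Block F al 0 1544192 1476817 :=
  block_comb c6030 b6031 (Nat.zero_le _) (Nat.le_of_ble_eq_true rfl) rfl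

theorem c6032 : Block F al 0 1544448 1477073 :=
  block_comb c6031 b6032 (Nat.zero_le _) (Nat.le_of_ble_eq_true rfl) rfl

theorem c6033 : Block F al 0 1544704 1477329 :=
  block_comb c6032 b6033 (Nat.zero_le _) (Nat.le_of_ble_eq_true rfl) rfl

theorem c6034 : Block F al 0 1544960 1477583 :=
  block_comb c6033 b6034 (Nat.zero_le _) (Nat.le_of_ble_eq_true rfl) rfl

theorem c6035 : Block F al 0 1545216 1477839 :=
  block_comb c6034 b6035 (Nat.zero_le _) (Nat.le_of_ble_eq_true rfl) rfl

theorem c6036 : Block F al 0 1545472 1478095 :=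
  block_comb c6035 b6036 (Nat.zero_le _) (Nat.le_of_ble_eq_true rfl) rfl

theorem c6037 : Block F al 0 1545728 1478350 :=
  block_comb c6036 b6037 (Nat.zero_le _) (Nat.le_of_ble_eq_true rfl) rfl

theorem c6038 : Block F al 0 1545984 1478606 :=
  block_comb c6037 b6038 (Nat.zero_le _) (Nat.le_of_ble_eq_true rfl) rfl

theorem c6039 : Block F al 0 1546240 1478862 :=
  block_comb c6038 b6039 (Nat.zero_le _) (Nat.le_of_ble_eq_true rfl) rfl

theorem c6040 : Block F al 0 1546496 1479118 :=
  block_comb c6039 b6040 (Nat.zero_le _) (Nat.le_of_ble_eq_true rfl) rfl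

theorem c6041 : Block F al 0 1546752 1479374 :=
  block_comb c6040 b6041 (Nat.zero_le _) (Nat.le_of_ble_eq_true rfl) rfl

theorem c6042 : Block F al 0 1547008 1479630 :=
  block_comb c6041 b6042 (Nat.zero_le _) (Nat.le_of_ble_eq_true rfl) rfl

theorem c6043 : Block F al 0 1547264 1479886 :=
  block_comb c6042 b6043 (Nat.zero_le _) (Nat.le_of_ble_eq_true rfl) rfl

theorem c6044 : Block F al 0 1547520 1480142 :=
  block_comb c6043 b6044 (Nat.zero_le _) (Nat.le_of_ble_eq_true rfl) rfl

theorem c6045 : Block F al 0 1547776 1480398 :=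
  block_comb c6044 b6045 (Nat.zero_le _) (Nat.le_of_ble_eq_true rfl) rfl

theorem c6046 : Block F al 0 1548032 1480654 :=
  block_comb c6045 b6046 (Nat.zero_le _) (Nat.le_of_ble_eq_true rfl) rfl

theorem c6047 : Block F al 0 1548288 1480910 :=
  block_comb c6046 b6047 (Nat.zero_le _) (Nat.le_of_ble_eq_true rfl) rfl

theorem c6048 : Block F al 0 1548544 1481166 :=
  block_comb c6047 b6048 (Nat.zero_le _) (Nat.le_of_ble_eq_true rfl) rfl

theorem c6049 : Block F al 0 1548800 1481422 :=
  block_comb c6048 b6049 (Nat.zero_le _) (Nat.le_of_ble_eq_true rfl) rfl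

theorem c6050 : Block F al 0 1549056 1481678 :=
  block_comb c6049 b6050 (Nat.zero_le _) (Nat.le_of_ble_eq_true rfl) rfl

theorem c6051 : Block F al 0 1549312 1481934 :=
  block_comb c6050 b6051 (Nat.zero_le _) (Nat.le_of_ble_eq_true rfl) rfl

theorem c6052 : Block F al 0 1549568 1482189 :=
  block_comb c6051 b6052 (Nat.zero_le _) (Nat.le_of_ble_eq_true rfl) rfl

theorem c6053 : Block F al 0 1549824 1482445 :=
  block_comb c6052 b6053 (Nat.zero_le _) (Nat.le_of_ble_eq_true rfl) rfl

theorem c6054 : Block F al 0 1550080 1482701 :=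
  block_comb c6053 b6054 (Nat.zero_le _) (Nat.le_of_ble_eq_true rfl) rfl

theorem c6055 : Block F al 0 1550336 1482957 :=
  block_comb c6054 b6055 (Nat.zero_le _) (Nat.le_of_ble_eq_true rfl) rfl

theorem c6056 : Block F al 0 1550592 1483213 :=
  block_comb c6055 b6056 (Nat.zero_le _) (Nat.le_of_ble_eq_true rfl) rfl

theorem c6057 : Block F al 0 1550848 1483469 :=
  block_comb c6056 b6057 (Nat.zero_le _) (Nat.le_of_ble_eq_true rfl) rfl

theorem c6058 : Block F al 0 1551104 1483725 :=
  block_comb c6057 b6058 (Nat.zero_le _) (Nat.le_of_ble_eq_true rfl) rfl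

theorem c6059 : Block F al 0 1551360 1483981 :=
  block_comb c6058 b6059 (Nat.zero_le _) (Nat.le_of_ble_eq_true rfl) rfl

theorem c6060 : Block F al 0 1551616 1484237 :=
  block_comb c6059 b6060 (Nat.zero_le _) (Nat.le_of_ble_eq_true rfl) rfl

theorem c6061 : Block F al 0 1551872 1484493 :=
  block_comb c6060 b6061 (Nat.zero_le _) (Nat.le_of_ble_eq_true rfl) rfl

theorem c6062 : Block F al 0 1552128 1484749 :=
  block_comb c6061 b6062 (Nat.zero_le _) (Nat.le_of_ble_eq_true rfl) rfl

theorem c6063 : Block F al 0 1552384 1485005 :=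
  block_comb c6062 b6063 (Nat.zero_le _) (Nat.le_of_ble_eq_true rfl) rfl

theorem c6064 : Block F al 0 1552640 1485261 :=
  block_comb c6063 b6064 (Nat.zero_le _) (Nat.le_of_ble_eq_true rfl) rfl

theorem c6065 : Block F al 0 1552896 1485517 :=
  block_comb c6064 b6065 (Nat.zero_le _) (Nat.le_of_ble_eq_true rfl) rfl

theorem c6066 : Block F al 0 1553152 1485773 :=
  block_comb c6065 b6066 (Nat.zero_le _) (Nat.le_of_ble_eq_true rfl) rfl

theorem c6067 : Block F al 0 1553408 1486029 :=
  block_comb c6066 b6067 (Nat.zero_le _) (Nat.le_of_ble_eq_true rfl) rfl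

theorem c6068 : Block F al 0 1553664 1486285 :=
  block_comb c6067 b6068 (Nat.zero_le _) (Nat.le_of_ble_eq_true rfl) rfl

theorem c6069 : Block F al 0 1553920 1486540 :=
  block_comb c6068 b6069 (Nat.zero_le _) (Nat.le_of_ble_eq_true rfl) rfl

theorem c6070 : Block F al 0 1554176 1486796 :=
  block_comb c6069 b6070 (Nat.zero_le _) (Nat.le_of_ble_eq_true rfl) rfl

theorem c6071 : Block F al 0 1554432 1487050 :=
  block_comb c6070 b6071 (Nat.zero_le _) (Nat.le_of_ble_eq_true rfl) rfl

theorem c6072 : Block F al 0 1554688 1487306 :=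
  block_comb c6071 b6072 (Nat.zero_le _) (Nat.le_of_ble_eq_true rfl) rfl

theorem c6073 : Block F al 0 1554944 1487562 :=
  block_comb c6072 b6073 (Nat.zero_le _) (Nat.le_of_ble_eq_true rfl) rfl

theorem c6074 : Block F al 0 1555200 1487818 :=
  block_comb c6073 b6074 (Nat.zero_le _) (Nat.le_of_ble_eq_true rfl) rfl

theorem c6075 : Block F al 0 1555456 1488074 :=
  block_comb c6074 b6075 (Nat.zero_le _) (Nat.le_of_ble_eq_true rfl) rfl

theorem c6076 : Block F al 0 1555712 1488330 :=
  block_comb c6075 b6076 (Nat.zero_le _) (Nat.le_of_ble_eq_true rfl) rfl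

theorem c6077 : Block F al 0 1555968 1488586 :=
  block_comb c6076 b6077 (Nat.zero_le _) (Nat.le_of_ble_eq_true rfl) rfl

theorem c6078 : Block F al 0 1556224 1488842 :=
  block_comb c6077 b6078 (Nat.zero_le _) (Nat.le_of_ble_eq_true rfl) rfl

theorem c6079 : Block F al 0 1556480 1489098 :=
  block_comb c6078 b6079 (Nat.zero_le _) (Nat.le_of_ble_eq_true rfl) rfl

theorem c6080 : Block F al 0 1556736 1489354 :=
  block_comb c6079 b6080 (Nat.zero_le _) (Nat.le_of_ble_eq_true rfl) rfl

theorem c6081 : Block F al 0 1556992 1489610 :=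
  block_comb c6080 b6081 (Nat.zero_le _) (Nat.le_of_ble_eq_true rfl) rfl

theorem c6082 : Block F al 0 1557248 1489866 :=
  block_comb c6081 b6082 (Nat.zero_le _) (Nat.le_of_ble_eq_true rfl) rfl

theorem c6083 : Block F al 0 1557504 1490122 :=
  block_comb c6082 b6083 (Nat.zero_le _) (Nat.le_of_ble_eq_true rfl) rfl

theorem c6084 : Block F al 0 1557760 1490378 :=
  block_comb c6083 b6084 (Nat.zero_le _) (Nat.le_of_ble_eq_true rfl) rfl

theorem c6085 : Block F al 0 1558016 1490634 :=
  block_comb c6084 b6085 (Nat.zero_le _) (Nat.le_of_ble_eq_true rfl) rfl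

theorem c6086 : Block F al 0 1558272 1490890 :=
  block_comb c6085 b6086 (Nat.zero_le _) (Nat.le_of_ble_eq_true rfl) rfl

theorem c6087 : Block F al 0 1558528 1491146 :=
  block_comb c6086 b6087 (Nat.zero_le _) (Nat.le_of_ble_eq_true rfl) rfl

theorem c6088 : Block F al 0 1558784 1491402 :=
  block_comb c6087 b6088 (Nat.zero_le _) (Nat.le_of_ble_eq_true rfl) rfl

theorem c6089 : Block F al 0 1559040 1491658 :=
  block_comb c6088 b6089 (Nat.zero_le _) (Nat.le_of_ble_eq_true rfl) rfl

theorem c6090 : Block F al 0 1559296 1491914 :=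
  block_comb c6089 b6090 (Nat.zero_le _) (Nat.le_of_ble_eq_true rfl) rfl

theorem c6091 : Block F al 0 1559552 1492170 :=
  block_comb c6090 b6091 (Nat.zero_le _) (Nat.le_of_ble_eq_true rfl) rfl

theorem c6092 : Block F al 0 1559808 1492426 :=
  block_comb c6091 b6092 (Nat.zero_le _) (Nat.le_of_ble_eq_true rfl) rfl

theorem c6093 : Block F al 0 1560064 1492682 :=
  block_comb c6092 b6093 (Nat.zero_le _) (Nat.le_of_ble_eq_true rfl) rfl

theorem c6094 : Block F al 0 1560320 1492938 :=
  block_comb c6093 b6094 (Nat.zero_le _) (Nat.le_of_ble_eq_true rfl) rfl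

theorem c6095 : Block F al 0 1560576 1493194 :=
  block_comb c6094 b6095 (Nat.zero_le _) (Nat.le_of_ble_eq_true rfl) rfl

theorem c6096 : Block F al 0 1560832 1493450 :=
  block_comb c6095 b6096 (Nat.zero_le _) (Nat.le_of_ble_eq_true rfl) rfl

theorem c6097 : Block F al 0 1561088 1493706 :=
  block_comb c6096 b6097 (Nat.zero_le _) (Nat.le_of_ble_eq_true rfl) rfl

theorem c6098 : Block F al 0 1561344 1493962 :=
  block_comb c6097 b6098 (Nat.zero_le _) (Nat.le_of_ble_eq_true rfl) rfl

theorem c6099 : Block F al 0 1561600 1494217 :=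
  block_comb c6098 b6099 (Nat.zero_le _) (Nat.le_of_ble_eq_true rfl) rfl

theorem c6100 : Block F al 0 1561856 1494473 :=
  block_comb c6099 b6100 (Nat.zero_le _) (Nat.le_of_ble_eq_true rfl) rfl

theorem c6101 : Block F al 0 1562112 1494729 :=
  block_comb c6100 b6101 (Nat.zero_le _) (Nat.le_of_ble_eq_true rfl) rfl

theorem c6102 : Block F al 0 1562368 1494985 :=
  block_comb c6101 b6102 (Nat.zero_le _) (Nat.le_of_ble_eq_true rfl) rfl

theorem c6103 : Block F al 0 1562624 1495241 :=
  block_comb c6102 b6103 (Nat.zero_le _) (Nat.le_of_ble_eq_true rfl) rfl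

theorem c6104 : Block F al 0 1562880 1495497 :=
  block_comb c6103 b6104 (Nat.zero_le _) (Nat.le_of_ble_eq_true rfl) rfl

theorem c6105 : Block F al 0 1563136 1495753 :=
  block_comb c6104 b6105 (Nat.zero_le _) (Nat.le_of_ble_eq_true rfl) rfl

theorem c6106 : Block F al 0 1563392 1496009 :=
  block_comb c6105 b6106 (Nat.zero_le _) (Nat.le_of_ble_eq_true rfl) rfl

theorem c6107 : Block F al 0 1563648 1496265 :=
  block_comb c6106 b6107 (Nat.zero_le _) (Nat.le_of_ble_eq_true rfl) rfl

theorem c6108 : Block F al 0 1563904 1496519 :=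
  block_comb c6107 b6108 (Nat.zero_le _) (Nat.le_of_ble_eq_true rfl) rfl

theorem c6109 : Block F al 0 1564160 1496775 :=
  block_comb c6108 b6109 (Nat.zero_le _) (Nat.le_of_ble_eq_true rfl) rfl

theorem c6110 : Block F al 0 1564416 1497031 :=
  block_comb c6109 b6110 (Nat.zero_le _) (Nat.le_of_ble_eq_true rfl) rfl

theorem c6111 : Block F al 0 1564672 1497287 :=
  block_comb c6110 b6111 (Nat.zero_le _) (Nat.le_of_ble_eq_true rfl) rfl

theorem c6112 : Block F al 0 1564928 1497543 :=
  block_comb c6111 b6112 (Nat.zero_le _) (Nat.le_of_ble_eq_true rfl) rfl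

theorem c6113 : Block F al 0 1565184 1497799 :=
  block_comb c6112 b6113 (Nat.zero_le _) (Nat.le_of_ble_eq_true rfl) rfl

theorem c6114 : Block F al 0 1565440 1498055 :=
  block_comb c6113 b6114 (Nat.zero_le _) (Nat.le_of_ble_eq_true rfl) rfl

theorem c6115 : Block F al 0 1565696 1498311 :=
  block_comb c6114 b6115 (Nat.zero_le _) (Nat.le_of_ble_eq_true rfl) rfl

theorem c6116 : Block F al 0 1565952 1498567 :=
  block_comb c6115 b6116 (Nat.zero_le _) (Nat.le_of_ble_eq_true rfl) rfl

theorem c6117 : Block F al 0 1566208 1498823 :=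
  block_comb c6116 b6117 (Nat.zero_le _) (Nat.le_of_ble_eq_true rfl) rfl

theorem c6118 : Block F al 0 1566464 1499079 :=
  block_comb c6117 b6118 (Nat.zero_le _) (Nat.le_of_ble_eq_true rfl) rfl

theorem c6119 : Block F al 0 1566720 1499334 :=
  block_comb c6118 b6119 (Nat.zero_le _) (Nat.le_of_ble_eq_true rfl) rfl

theorem c6120 : Block F al 0 1566976 1499590 :=
  block_comb c6119 b6120 (Nat.zero_le _) (Nat.le_of_ble_eq_true rfl) rfl

theorem c6121 : Block F al 0 1567232 1499846 :=
  block_comb c6120 b6121 (Nat.zero_le _) (Nat.le_of_ble_eq_true rfl) rfl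

theorem c6122 : Block F al 0 1567488 1500102 :=
  block_comb c6121 b6122 (Nat.zero_le _) (Nat.le_of_ble_eq_true rfl) rfl

theorem c6123 : Block F al 0 1567744 1500358 :=
  block_comb c6122 b6123 (Nat.zero_le _) (Nat.le_of_ble_eq_true rfl) rfl

theorem c6124 : Block F al 0 1568000 1500614 :=
  block_comb c6123 b6124 (Nat.zero_le _) (Nat.le_of_ble_eq_true rfl) rfl

theorem c6125 : Block F al 0 1568256 1500870 :=
  block_comb c6124 b6125 (Nat.zero_le _) (Nat.le_of_ble_eq_true rfl) rfl

theorem c6126 : Block F al 0 1568512 1501126 :=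
  block_comb c6125 b6126 (Nat.zero_le _) (Nat.le_of_ble_eq_true rfl) rfl

theorem c6127 : Block F al 0 1568768 1501382 :=
  block_comb c6126 b6127 (Nat.zero_le _) (Nat.le_of_ble_eq_true rfl) rfl

theorem c6128 : Block F al 0 1569024 1501638 :=
  block_comb c6127 b6128 (Nat.zero_le _) (Nat.le_of_ble_eq_true rfl) rfl

theorem c6129 : Block F al 0 1569280 1501894 :=
  block_comb c6128 b6129 (Nat.zero_le _) (Nat.le_of_ble_eq_true rfl) rfl

theorem c6130 : Block F al 0 1569536 1502150 :=
  block_comb c6129 b6130 (Nat.zero_le _) (Nat.le_of_ble_eq_true rfl) rfl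

theorem c6131 : Block F al 0 1569792 1502406 :=
  block_comb c6130 b6131 (Nat.zero_le _) (Nat.le_of_ble_eq_true rfl) rfl

theorem c6132 : Block F al 0 1570048 1502662 :=
  block_comb c6131 b6132 (Nat.zero_le _) (Nat.le_of_ble_eq_true rfl) rfl

theorem c6133 : Block F al 0 1570304 1502918 :=
  block_comb c6132 b6133 (Nat.zero_le _) (Nat.le_of_ble_eq_true rfl) rfl

theorem c6134 : Block F al 0 1570560 1503174 :=
  block_comb c6133 b6134 (Nat.zero_le _) (Nat.le_of_ble_eq_true rfl) rfl

theorem c6135 : Block F al 0 1570816 1503430 :=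
  block_comb c6134 b6135 (Nat.zero_le _) (Nat.le_of_ble_eq_true rfl) rfl

theorem c6136 : Block F al 0 1571072 1503686 :=
  block_comb c6135 b6136 (Nat.zero_le _) (Nat.le_of_ble_eq_true rfl) rfl

theorem c6137 : Block F al 0 1571328 1503942 :=
  block_comb c6136 b6137 (Nat.zero_le _) (Nat.le_of_ble_eq_true rfl) rfl

theorem c6138 : Block F al 0 1571584 1504198 :=
  block_comb c6137 b6138 (Nat.zero_le _) (Nat.le_of_ble_eq_true rfl) rfl

theorem c6139 : Block F al 0 1571840 1504454 :=
  block_comb c6138 b6139 (Nat.zero_le _) (Nat.le_of_ble_eq_true rfl) rfl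

theorem c6140 : Block F al 0 1572096 1504709 :=
  block_comb c6139 b6140 (Nat.zero_le _) (Nat.le_of_ble_eq_true rfl) rfl

theorem c6141 : Block F al 0 1572352 1504965 :=
  block_comb c6140 b6141 (Nat.zero_le _) (Nat.le_of_ble_eq_true rfl) rfl

theorem c6142 : Block F al 0 1572608 1505221 :=
  block_comb c6141 b6142 (Nat.zero_le _) (Nat.le_of_ble_eq_true rfl) rfl

theorem c6143 : Block F al 0 1572864 1505477 :=
  block_comb c6142 b6143 (Nat.zero_le _) (Nat.le_of_ble_eq_true rfl) rfl

theorem c6144 : Block F al 0 1573120 1505733 :=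
  block_comb c6143 b6144 (Nat.zero_le _) (Nat.le_of_ble_eq_true rfl) rfl

theorem c6145 : Block F al 0 1573376 1505989 :=
  block_comb c6144 b6145 (Nat.zero_le _) (Nat.le_of_ble_eq_true rfl) rfl

theorem c6146 : Block F al 0 1573632 1506245 :=
  block_comb c6145 b6146 (Nat.zero_le _) (Nat.le_of_ble_eq_true rfl) rfl

theorem c6147 : Block F al 0 1573888 1506501 :=
  block_comb c6146 b6147 (Nat.zero_le _) (Nat.le_of_ble_eq_true rfl) rfl

theorem c6148 : Block F al 0 1574144 1506757 :=
  block_comb c6147 b6148 (Nat.zero_le _) (Nat.le_of_ble_eq_true rfl) rfl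

theorem c6149 : Block F al 0 1574400 1507013 :=
  block_comb c6148 b6149 (Nat.zero_le _) (Nat.le_of_ble_eq_true rfl) rfl

theorem c6150 : Block F al 0 1574656 1507269 :=
  block_comb c6149 b6150 (Nat.zero_le _) (Nat.le_of_ble_eq_true rfl) rfl

theorem c6151 : Block F al 0 1574912 1507525 :=
  block_comb c6150 b6151 (Nat.zero_le _) (Nat.le_of_ble_eq_true rfl) rfl

theorem c6152 : Block F al 0 1575168 1507781 :=
  block_comb c6151 b6152 (Nat.zero_le _) (Nat.le_of_ble_eq_true rfl) rfl

theorem c6153 : Block F al 0 1575424 1508037 :=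
  block_comb c6152 b6153 (Nat.zero_le _) (Nat.le_of_ble_eq_true rfl) rfl

theorem c6154 : Block F al 0 1575680 1508293 :=
  block_comb c6153 b6154 (Nat.zero_le _) (Nat.le_of_ble_eq_true rfl) rfl

theorem c6155 : Block F al 0 1575936 1508549 :=
  block_comb c6154 b6155 (Nat.zero_le _) (Nat.le_of_ble_eq_true rfl) rfl

theorem c6156 : Block F al 0 1576192 1508805 :=
  block_comb c6155 b6156 (Nat.zero_le _) (Nat.le_of_ble_eq_true rfl) rfl

theorem c6157 : Block F al 0 1576448 1509061 :=
  block_comb c6156 b6157 (Nat.zero_le _) (Nat.le_of_ble_eq_true rfl) rfl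

theorem c6158 : Block F al 0 1576704 1509317 :=
  block_comb c6157 b6158 (Nat.zero_le _) (Nat.le_of_ble_eq_true rfl) rfl

theorem c6159 : Block F al 0 1576960 1509573 :=
  block_comb c6158 b6159 (Nat.zero_le _) (Nat.le_of_ble_eq_true rfl) rfl

theorem c6160 : Block F al 0 1577216 1509829 :=
  block_comb c6159 b6160 (Nat.zero_le _) (Nat.le_of_ble_eq_true rfl) rfl

theorem c6161 : Block F al 0 1577472 1510085 :=
  block_comb c6160 b6161 (Nat.zero_le _) (Nat.le_of_ble_eq_true rfl) rfl

theorem c6162 : Block F al 0 1577728 1510341 :=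
  block_comb c6161 b6162 (Nat.zero_le _) (Nat.le_of_ble_eq_true rfl) rfl

theorem c6163 : Block F al 0 1577984 1510597 :=
  block_comb c6162 b6163 (Nat.zero_le _) (Nat.le_of_ble_eq_true rfl) rfl

theorem c6164 : Block F al 0 1578240 1510853 :=
  block_comb c6163 b6164 (Nat.zero_le _) (Nat.le_of_ble_eq_true rfl) rfl

theorem c6165 : Block F al 0 1578496 1511109 :=
  block_comb c6164 b6165 (Nat.zero_le _) (Nat.le_of_ble_eq_true rfl) rfl

theorem c6166 : Block F al 0 1578752 1511365 :=
  block_comb c6165 b6166 (Nat.zero_le _) (Nat.le_of_ble_eq_true rfl) rfl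

theorem c6167 : Block F al 0 1579008 1511620 :=
  block_comb c6166 b6167 (Nat.zero_le _) (Nat.le_of_ble_eq_true rfl) rfl

theorem c6168 : Block F al 0 1579264 1511876 :=
  block_comb c6167 b6168 (Nat.zero_le _) (Nat.le_of_ble_eq_true rfl) rfl

theorem c6169 : Block F al 0 1579520 1512132 :=
  block_comb c6168 b6169 (Nat.zero_le _) (Nat.le_of_ble_eq_true rfl) rfl

theorem c6170 : Block F al 0 1579776 1512388 :=
  block_comb c6169 b6170 (Nat.zero_le _) (Nat.le_of_ble_eq_true rfl) rfl

theorem c6171 : Block F al 0 1580032 1512644 :=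
  block_comb c6170 b6171 (Nat.zero_le _) (Nat.le_of_ble_eq_true rfl) rfl

theorem c6172 : Block F al 0 1580288 1512900 :=
  block_comb c6171 b6172 (Nat.zero_le _) (Nat.le_of_ble_eq_true rfl) rfl

theorem c6173 : Block F al 0 1580544 1513156 :=
  block_comb c6172 b6173 (Nat.zero_le _) (Nat.le_of_ble_eq_true rfl) rfl

theorem c6174 : Block F al 0 1580800 1513412 :=
  block_comb c6173 b6174 (Nat.zero_le _) (Nat.le_of_ble_eq_true rfl) rfl

theorem c6175 : Block F al 0 1581056 1513668 :=
  block_comb c6174 b6175 (Nat.zero_le _) (Nat.le_of_ble_eq_true rfl) rfl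

theorem c6176 : Block F al 0 1581312 1513924 :=
  block_comb c6175 b6176 (Nat.zero_le _) (Nat.le_of_ble_eq_true rfl) rfl

theorem c6177 : Block F al 0 1581568 1514180 :=
  block_comb c6176 b6177 (Nat.zero_le _) (Nat.le_of_ble_eq_true rfl) rfl

theorem c6178 : Block F al 0 1581824 1514436 :=
  block_comb c6177 b6178 (Nat.zero_le _) (Nat.le_of_ble_eq_true rfl) rfl

theorem c6179 : Block F al 0 1582080 1514692 :=
  block_comb c6178 b6179 (Nat.zero_le _) (Nat.le_of_ble_eq_true rfl) rfl

theorem c6180 : Block F al 0 1582336 1514948 :=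
  block_comb c6179 b6180 (Nat.zero_le _) (Nat.le_of_ble_eq_true rfl) rfl

theorem c6181 : Block F al 0 1582592 1515204 :=
  block_comb c6180 b6181 (Nat.zero_le _) (Nat.le_of_ble_eq_true rfl) rfl

theorem c6182 : Block F al 0 1582848 1515460 :=
  block_comb c6181 b6182 (Nat.zero_le _) (Nat.le_of_ble_eq_true rfl) rfl

theorem c6183 : Block F al 0 1583104 1515716 :=
  block_comb c6182 b6183 (Nat.zero_le _) (Nat.le_of_ble_eq_true rfl) rfl

theorem c6184 : Block F al 0 1583360 1515972 :=
  block_comb c6183 b6184 (Nat.zero_le _) (Nat.le_of_ble_eq_true rfl) rfl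

theorem c6185 : Block F al 0 1583616 1516228 :=
  block_comb c6184 b6185 (Nat.zero_le _) (Nat.le_of_ble_eq_true rfl) rfl

theorem c6186 : Block F al 0 1583872 1516484 :=
  block_comb c6185 b6186 (Nat.zero_le _) (Nat.le_of_ble_eq_true rfl) rfl

theorem c6187 : Block F al 0 1584128 1516740 :=
  block_comb c6186 b6187 (Nat.zero_le _) (Nat.le_of_ble_eq_true rfl) rfl

theorem c6188 : Block F al 0 1584384 1516996 :=
  block_comb c6187 b6188 (Nat.zero_le _) (Nat.le_of_ble_eq_true rfl) rfl

theorem c6189 : Block F al 0 1584640 1517252 :=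
  block_comb c6188 b6189 (Nat.zero_le _) (Nat.le_of_ble_eq_true rfl) rfl

theorem c6190 : Block F al 0 1584896 1517508 :=
  block_comb c6189 b6190 (Nat.zero_le _) (Nat.le_of_ble_eq_true rfl) rfl

theorem c6191 : Block F al 0 1585152 1517764 :=
  block_comb c6190 b6191 (Nat.zero_le _) (Nat.le_of_ble_eq_true rfl) rfl

theorem c6192 : Block F al 0 1585408 1518020 :=
  block_comb c6191 b6192 (Nat.zero_le _) (Nat.le_of_ble_eq_true rfl) rfl

theorem c6193 : Block F al 0 1585664 1518276 :=
  block_comb c6192 b6193 (Nat.zero_le _) (Nat.le_of_ble_eq_true rfl) rfl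

theorem c6194 : Block F al 0 1585920 1518532 :=
  block_comb c6193 b6194 (Nat.zero_le _) (Nat.le_of_ble_eq_true rfl) rfl

theorem c6195 : Block F al 0 1586176 1518788 :=
  block_comb c6194 b6195 (Nat.zero_le _) (Nat.le_of_ble_eq_true rfl) rfl

theorem c6196 : Block F al 0 1586432 1519044 :=
  block_comb c6195 b6196 (Nat.zero_le _) (Nat.le_of_ble_eq_true rfl) rfl

theorem c6197 : Block F al 0 1586688 1519300 :=
  block_comb c6196 b6197 (Nat.zero_le _) (Nat.le_of_ble_eq_true rfl) rfl

theorem c6198 : Block F al 0 1586944 1519556 :=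
  block_comb c6197 b6198 (Nat.zero_le _) (Nat.le_of_ble_eq_true rfl) rfl

theorem c6199 : Block F al 0 1587200 1519812 :=
  block_comb c6198 b6199 (Nat.zero_le _) (Nat.le_of_ble_eq_true rfl) rfl

theorem c6200 : Block F al 0 1587456 1520068 :=
  block_comb c6199 b6200 (Nat.zero_le _) (Nat.le_of_ble_eq_true rfl) rfl

theorem c6201 : Block F al 0 1587712 1520324 :=
  block_comb c6200 b6201 (Nat.zero_le _) (Nat.le_of_ble_eq_true rfl) rfl

theorem c6202 : Block F al 0 1587968 1520580 :=
  block_comb c6201 b6202 (Nat.zero_le _) (Nat.le_of_ble_eq_true rfl) rfl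

theorem c6203 : Block F al 0 1588224 1520836 :=
  block_comb c6202 b6203 (Nat.zero_le _) (Nat.le_of_ble_eq_true rfl) rfl

theorem c6204 : Block F al 0 1588480 1521092 :=
  block_comb c6203 b6204 (Nat.zero_le _) (Nat.le_of_ble_eq_true rfl) rfl

theorem c6205 : Block F al 0 1588736 1521348 :=
  block_comb c6204 b6205 (Nat.zero_le _) (Nat.le_of_ble_eq_true rfl) rfl

theorem c6206 : Block F al 0 1588992 1521604 :=
  block_comb c6205 b6206 (Nat.zero_le _) (Nat.le_of_ble_eq_true rfl) rfl

theorem c6207 : Block F al 0 1589248 1521860 :=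
  block_comb c6206 b6207 (Nat.zero_le _) (Nat.le_of_ble_eq_true rfl) rfl

theorem c6208 : Block F al 0 1589504 1522116 :=
  block_comb c6207 b6208 (Nat.zero_le _) (Nat.le_of_ble_eq_true rfl) rfl

theorem c6209 : Block F al 0 1589760 1522372 :=
  block_comb c6208 b6209 (Nat.zero_le _) (Nat.le_of_ble_eq_true rfl) rfl

theorem c6210 : Block F al 0 1590016 1522628 :=
  block_comb c6209 b6210 (Nat.zero_le _) (Nat.le_of_ble_eq_true rfl) rfl

theorem c6211 : Block F al 0 1590272 1522884 :=
  block_comb c6210 b6211 (Nat.zero_le _) (Nat.le_of_ble_eq_true rfl) rfl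

theorem c6212 : Block F al 0 1590528 1523140 :=
  block_comb c6211 b6212 (Nat.zero_le _) (Nat.le_of_ble_eq_true rfl) rfl

theorem c6213 : Block F al 0 1590784 1523396 :=
  block_comb c6212 b6213 (Nat.zero_le _) (Nat.le_of_ble_eq_true rfl) rfl

theorem c6214 : Block F al 0 1591040 1523652 :=
  block_comb c6213 b6214 (Nat.zero_le _) (Nat.le_of_ble_eq_true rfl) rfl

theorem c6215 : Block F al 0 1591296 1523908 :=
  block_comb c6214 b6215 (Nat.zero_le _) (Nat.le_of_ble_eq_true rfl) rfl

theorem c6216 : Block F al 0 1591552 1524164 :=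
  block_comb c6215 b6216 (Nat.zero_le _) (Nat.le_of_ble_eq_true rfl) rfl

theorem c6217 : Block F al 0 1591808 1524420 :=
  block_comb c6216 b6217 (Nat.zero_le _) (Nat.le_of_ble_eq_true rfl) rfl

theorem c6218 : Block F al 0 1592064 1524676 :=
  block_comb c6217 b6218 (Nat.zero_le _) (Nat.le_of_ble_eq_true rfl) rfl

theorem c6219 : Block F al 0 1592320 1524932 :=
  block_comb c6218 b6219 (Nat.zero_le _) (Nat.le_of_ble_eq_true rfl) rfl

theorem c6220 : Block F al 0 1592576 1525188 :=
  block_comb c6219 b6220 (Nat.zero_le _) (Nat.le_of_ble_eq_true rfl) rfl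

theorem c6221 : Block F al 0 1592832 1525444 :=
  block_comb c6220 b6221 (Nat.zero_le _) (Nat.le_of_ble_eq_true rfl) rfl

theorem c6222 : Block F al 0 1593088 1525700 :=
  block_comb c6221 b6222 (Nat.zero_le _) (Nat.le_of_ble_eq_true rfl) rfl

theorem c6223 : Block F al 0 1593344 1525956 :=
  block_comb c6222 b6223 (Nat.zero_le _) (Nat.le_of_ble_eq_true rfl) rfl

theorem c6224 : Block F al 0 1593600 1526212 :=
  block_comb c6223 b6224 (Nat.zero_le _) (Nat.le_of_ble_eq_true rfl) rfl

theorem c6225 : Block F al 0 1593856 1526468 :=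
  block_comb c6224 b6225 (Nat.zero_le _) (Nat.le_of_ble_eq_true rfl) rfl

theorem c6226 : Block F al 0 1594112 1526723 :=
  block_comb c6225 b6226 (Nat.zero_le _) (Nat.le_of_ble_eq_true rfl) rfl

theorem c6227 : Block F al 0 1594368 1526979 :=
  block_comb c6226 b6227 (Nat.zero_le _) (Nat.le_of_ble_eq_true rfl) rfl

theorem c6228 : Block F al 0 1594624 1527235 :=
  block_comb c6227 b6228 (Nat.zero_le _) (Nat.le_of_ble_eq_true rfl) rfl

theorem c6229 : Block F al 0 1594880 1527491 :=
  block_comb c6228 b6229 (Nat.zero_le _) (Nat.le_of_ble_eq_true rfl) rfl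

theorem c6230 : Block F al 0 1595136 1527747 :=
  block_comb c6229 b6230 (Nat.zero_le _) (Nat.le_of_ble_eq_true rfl) rfl

theorem c6231 : Block F al 0 1595392 1528003 :=
  block_comb c6230 b6231 (Nat.zero_le _) (Nat.le_of_ble_eq_true rfl) rfl

theorem c6232 : Block F al 0 1595648 1528259 :=
  block_comb c6231 b6232 (Nat.zero_le _) (Nat.le_of_ble_eq_true rfl) rfl

theorem c6233 : Block F al 0 1595904 1528515 :=
  block_comb c6232 b6233 (Nat.zero_le _) (Nat.le_of_ble_eq_true rfl) rfl

theorem c6234 : Block F al 0 1596160 1528771 :=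
  block_comb c6233 b6234 (Nat.zero_le _) (Nat.le_of_ble_eq_true rfl) rfl

theorem c6235 : Block F al 0 1596416 1529027 :=
  block_comb c6234 b6235 (Nat.zero_le _) (Nat.le_of_ble_eq_true rfl) rfl

theorem c6236 : Block F al 0 1596672 1529283 :=
  block_comb c6235 b6236 (Nat.zero_le _) (Nat.le_of_ble_eq_true rfl) rfl

theorem c6237 : Block F al 0 1596928 1529539 :=
  block_comb c6236 b6237 (Nat.zero_le _) (Nat.le_of_ble_eq_true rfl) rfl

theorem c6238 : Block F al 0 1597184 1529795 :=
  block_comb c6237 b6238 (Nat.zero_le _) (Nat.le_of_ble_eq_true rfl) rfl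

theorem c6239 : Block F al 0 1597440 1530049 :=
  block_comb c6238 b6239 (Nat.zero_le _) (Nat.le_of_ble_eq_true rfl) rfl

theorem c6240 : Block F al 0 1597696 1530303 :=
  block_comb c6239 b6240 (Nat.zero_le _) (Nat.le_of_ble_eq_true rfl) rfl

theorem c6241 : Block F al 0 1597952 1530559 :=
  block_comb c6240 b6241 (Nat.zero_le _) (Nat.le_of_ble_eq_true rfl) rfl

theorem c6242 : Block F al 0 1598208 1530815 :=
  block_comb c6241 b6242 (Nat.zero_le _) (Nat.le_of_ble_eq_true rfl) rfl

theorem c6243 : Block F al 0 1598464 1531071 :=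
  block_comb c6242 b6243 (Nat.zero_le _) (Nat.le_of_ble_eq_true rfl) rfl

theorem c6244 : Block F al 0 1598720 1531327 :=
  block_comb c6243 b6244 (Nat.zero_le _) (Nat.le_of_ble_eq_true rfl) rfl

theorem c6245 : Block F al 0 1598976 1531583 :=
  block_comb c6244 b6245 (Nat.zero_le _) (Nat.le_of_ble_eq_true rfl) rfl

theorem c6246 : Block F al 0 1599232 1531839 :=
  block_comb c6245 b6246 (Nat.zero_le _) (Nat.le_of_ble_eq_true rfl) rfl

theorem c6247 : Block F al 0 1599488 1532095 :=
  block_comb c6246 b6247 (Nat.zero_le _) (Nat.le_of_ble_eq_true rfl) rfl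

theorem c6248 : Block F al 0 1599744 1532351 :=
  block_comb c6247 b6248 (Nat.zero_le _) (Nat.le_of_ble_eq_true rfl) rfl

theorem c6249 : Block F al 0 1600000 1532607 :=
  block_comb c6248 b6249 (Nat.zero_le _) (Nat.le_of_ble_eq_true rfl) rfl

theorem c6250 : Block F al 0 1600256 1532863 :=
  block_comb c6249 b6250 (Nat.zero_le _) (Nat.le_of_ble_eq_true rfl) rfl

theorem c6251 : Block F al 0 1600512 1533119 :=
  block_comb c6250 b6251 (Nat.zero_le _) (Nat.le_of_ble_eq_true rfl) rfl

theorem c6252 : Block F al 0 1600768 1533375 :=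
  block_comb c6251 b6252 (Nat.zero_le _) (Nat.le_of_ble_eq_true rfl) rfl

theorem c6253 : Block F al 0 1601024 1533631 :=
  block_comb c6252 b6253 (Nat.zero_le _) (Nat.le_of_ble_eq_true rfl) rfl

theorem c6254 : Block F al 0 1601280 1533887 :=
  block_comb c6253 b6254 (Nat.zero_le _) (Nat.le_of_ble_eq_true rfl) rfl

theorem c6255 : Block F al 0 1601536 1534142 :=
  block_comb c6254 b6255 (Nat.zero_le _) (Nat.le_of_ble_eq_true rfl) rfl

theorem c6256 : Block F al 0 1601792 1534398 :=
  block_comb c6255 b6256 (Nat.zero_le _) (Nat.le_of_ble_eq_true rfl) rfl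

theorem c6257 : Block F al 0 1602048 1534654 :=
  block_comb c6256 b6257 (Nat.zero_le _) (Nat.le_of_ble_eq_true rfl) rfl

theorem c6258 : Block F al 0 1602304 1534910 :=
  block_comb c6257 b6258 (Nat.zero_le _) (Nat.le_of_ble_eq_true rfl) rfl

theorem c6259 : Block F al 0 1602560 1535166 :=
  block_comb c6258 b6259 (Nat.zero_le _) (Nat.le_of_ble_eq_true rfl) rfl

theorem c6260 : Block F al 0 1602816 1535422 :=
  block_comb c6259 b6260 (Nat.zero_le _) (Nat.le_of_ble_eq_true rfl) rfl

theorem c6261 : Block F al 0 1603072 1535678 :=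
  block_comb c6260 b6261 (Nat.zero_le _) (Nat.le_of_ble_eq_true rfl) rfl

theorem c6262 : Block F al 0 1603328 1535934 :=
  block_comb c6261 b6262 (Nat.zero_le _) (Nat.le_of_ble_eq_true rfl) rfl

theorem c6263 : Block F al 0 1603584 1536190 :=
  block_comb c6262 b6263 (Nat.zero_le _) (Nat.le_of_ble_eq_true rfl) rfl

theorem c6264 : Block F al 0 1603840 1536446 :=
  block_comb c6263 b6264 (Nat.zero_le _) (Nat.le_of_ble_eq_true rfl) rfl

theorem c6265 : Block F al 0 1604096 1536700 :=
  block_comb c6264 b6265 (Nat.zero_le _) (Nat.le_of_ble_eq_true rfl) rfl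

theorem c6266 : Block F al 0 1604352 1536956 :=
  block_comb c6265 b6266 (Nat.zero_le _) (Nat.le_of_ble_eq_true rfl) rfl

theorem c6267 : Block F al 0 1604608 1537212 :=
  block_comb c6266 b6267 (Nat.zero_le _) (Nat.le_of_ble_eq_true rfl) rfl

theorem c6268 : Block F al 0 1604864 1537468 :=
  block_comb c6267 b6268 (Nat.zero_le _) (Nat.le_of_ble_eq_true rfl) rfl

theorem c6269 : Block F al 0 1605120 1537724 :=
  block_comb c6268 b6269 (Nat.zero_le _) (Nat.le_of_ble_eq_true rfl) rfl

theorem c6270 : Block F al 0 1605376 1537980 :=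
  block_comb c6269 b6270 (Nat.zero_le _) (Nat.le_of_ble_eq_true rfl) rfl

theorem c6271 : Block F al 0 1605632 1538236 :=
  block_comb c6270 b6271 (Nat.zero_le _) (Nat.le_of_ble_eq_true rfl) rfl

theorem c6272 : Block F al 0 1605888 1538492 :=
  block_comb c6271 b6272 (Nat.zero_le _) (Nat.le_of_ble_eq_true rfl) rfl

theorem c6273 : Block F al 0 1606144 1538748 :=
  block_comb c6272 b6273 (Nat.zero_le _) (Nat.le_of_ble_eq_true rfl) rfl

theorem c6274 : Block F al 0 1606400 1539000 :=
  block_comb c6273 b6274 (Nat.zero_le _) (Nat.le_of_ble_eq_true rfl) rfl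

end Cfsg.Agent.TcData.HN.I1539000
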