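import Mathlib
import Cfsg.Agent.TcData.HN.I1539000.Tab

set_option autoImplicit false
set_option Elab.async false
set_option maxRecDepth 100000
set_option linter.all false

namespace Cfsg.Agent.TcData.HN.I1539000

open Cfsg.Spor Cfsg.Agent.Lib.TcFacts Cfsg.Agent.Lib.TcBits Cfsg.Agent.Lib.TcPres Cfsg.Spor.HN Cfsg.Agent.TcData.HN

theorem b4472 : Block F al 1144832 1145088 246 :=
  block_of_check (k := 8) rfl (by decide +kernel)

theorem b4473 : Block F al 1145088 1145344 249 :=
  block_of_check (k := 8) rfl (by decide +kernel)

theorem b4474 : Block F al 1145344 1145600 252 :=
  block_of_check (k := 8) rfl (by decide +kernel)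

theorem b4475 : Block F al 1145600 1145856 254 :=
  block_of_check (k := 8) rfl (by decide +kernel)

theorem b4476 : Block F al 1145856 1146112 255 :=
  block_of_check (k := 8) rfl (by decide +kernel)

theorem b4477 : Block F al 1146112 1146368 256 :=
  block_of_check (k := 8) rfl (by decide +kernel)

theorem b4478 : Block F al 1146368 1146624 253 :=
  block_of_check (k := 8) rfl (by decide +kernel)

theorem b4479 : Block F al 1146624 1146880 249 :=
  block_of_check (k := 8) rfl (by decide +kernel)

theorem b4480 : Block F al 1146880 1147136 255 :=
  block_of_check (k := 8) rfl (by decide +kernel)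

theorem b4481 : Block F al 1147136 1147392 256 :=
  block_of_check (k := 8) rfl (by decide +kernel)

theorem b4482 : Block F al 1147392 1147648 255 :=
  block_of_check (k := 8) rfl (by decide +kernel)

theorem b4483 : Block F al 1147648 1147904 254 :=
  block_of_check (k := 8) rfl (by decide +kernel)

theorem b4484 : Block F al 1147904 1148160 252 :=
  block_of_check (k := 8) rfl (by decide +kernel)

theorem b4485 : Block F al 1148160 1148416 253 :=
  block_of_check (k := 8) rfl (by decide +kernel)

theorem b4486 : Block F al 1148416 1148672 253 :=
  block_of_check (k := 8) rfl (by decide +kernel)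

theorem b4487 : Block F al 1148672 1148928 253 :=
  block_of_check (k := 8) rfl (by decide +kernel)

theorem b4488 : Block F al 1148928 1149184 255 :=
  block_of_check (k := 8) rfl (by decide +kernel)

theorem b4489 : Block F al 1149184 1149440 254 :=
  block_of_check (k := 8) rfl (by decide +kernel)

theorem b4490 : Block F al 1149440 1149696 255 :=
  block_of_check (k := 8) rfl (by decide +kernel)

theorem b4491 : Block F al 1149696 1149952 251 :=
  block_of_check (k := 8) rfl (by decide +kernel)

theorem b4492 : Block F al 1149952 1150208 253 :=
  block_of_check (k := 8) rfl (by decide +kernel)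

theorem b4493 : Block F al 1150208 1150464 249 :=
  block_of_check (k := 8) rfl (by decide +kernel)

theorem b4494 : Block F al 1150464 1150720 249 :=
  block_of_check (k := 8) rfl (by decide +kernel)

theorem b4495 : Block F al 1150720 1150976 252 :=
  block_of_check (k := 8) rfl (by decide +kernel)

theorem b4496 : Block F al 1150976 1151232 246 :=
  block_of_check (k := 8) rfl (by decide +kernel)

theorem b4497 : Block F al 1151232 1151488 251 :=
  block_of_check (k := 8) rfl (by decide +kernel)

theorem b4498 : Block F al 1151488 1151744 251 :=
  block_of_check (k := 8) rfl (by decide +kernel)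

theorem b4499 : Block F al 1151744 1152000 255 :=
  block_of_check (k := 8) rfl (by decide +kernel)

theorem b4500 : Block F al 1152000 1152256 256 :=
  block_of_check (k := 8) rfl (by decide +kernel)

theorem b4501 : Block F al 1152256 1152512 241 :=
  block_of_check (k := 8) rfl (by decide +kernel)

theorem b4502 : Block F al 1152512 1152768 248 :=
  block_of_check (k := 8) rfl (by decide +kernel)

theorem b4503 : Block F al 1152768 1153024 256 :=
  block_of_check (k := 8) rfl (by decide +kernel)

theorem b4504 : Block F al 1153024 1153280 255 :=
  block_of_check (k := 8) rfl (by decide +kernel)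

end Cfsg.Agent.TcData.HN.I1539000
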