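import Mathlib
import Cfsg.Agent.TcData.HN.I1539000.Tab

set_option autoImplicit false
set_option Elab.async false
set_option maxRecDepth 100000
set_option linter.all false

namespace Cfsg.Agent.TcData.HN.I1539000

open Cfsg.Spor Cfsg.Agent.Lib.TcFacts Cfsg.Agent.Lib.TcBits Cfsg.Agent.Lib.TcPres Cfsg.Spor.HN Cfsg.Agent.TcData.HN

theorem b578 : Block F al 147968 148224 246 :=
  block_of_check (k := 8) rfl (by decide +kernel)

theorem b579 : Block F al 148224 148480 237 :=
  block_of_check (k := 8) rfl (by decide +kernel)

theorem b580 : Block F al 148480 148736 254 :=
  block_of_check (k := 8) rfl (by decide +kernel)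

theorem b581 : Block F al 148736 148992 213 :=
  block_of_check (k := 8) rfl (by decide +kernel)

theorem b582 : Block F al 148992 149248 237 :=
  block_of_check (k := 8) rfl (by decide +kernel)

theorem b583 : Block F al 149248 149504 210 :=
  block_of_check (k := 8) rfl (by decide +kernel)

theorem b584 : Block F al 149504 149760 247 :=
  block_of_check (k := 8) rfl (by decide +kernel)

theorem b585 : Block F al 149760 150016 247 :=
  block_of_check (k := 8) rfl (by decide +kernel)

theorem b586 : Block F al 150016 150272 253 :=
  block_of_check (k := 8) rfl (by decide +kernel)

theorem b587 : Block F al 150272 150528 249 :=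
  block_of_check (k := 8) rfl (by decide +kernel)

theorem b588 : Block F al 150528 150784 244 :=
  block_of_check (k := 8) rfl (by decide +kernel)

theorem b589 : Block F al 150784 151040 246 :=
  block_of_check (k := 8) rfl (by decide +kernel)

theorem b590 : Block F al 151040 151296 251 :=
  block_of_check (k := 8) rfl (by decide +kernel)

theorem b591 : Block F al 151296 151552 254 :=
  block_of_check (k := 8) rfl (by decide +kernel)

theorem b592 : Block F al 151552 151808 237 :=
  block_of_check (k := 8) rfl (by decide +kernel)

theorem b593 : Block F al 151808 152064 241 :=
  block_of_check (k := 8) rfl (by decide +kernel)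

theorem b594 : Block F al 152064 152320 248 :=
  block_of_check (k := 8) rfl (by decide +kernel)

theorem b595 : Block F al 152320 152576 230 :=
  block_of_check (k := 8) rfl (by decide +kernel)

theorem b596 : Block F al 152576 152832 247 :=
  block_of_check (k := 8) rfl (by decide +kernel)

theorem b597 : Block F al 152832 153088 227 :=
  block_of_check (k := 8) rfl (by decide +kernel)

theorem b598 : Block F al 153088 153344 241 :=
  block_of_check (k := 8) rfl (by decide +kernel)

theorem b599 : Block F al 153344 153600 249 :=
  block_of_check (k := 8) rfl (by decide +kernel)

theorem b600 : Block F al 153600 153856 251 :=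
  block_of_check (k := 8) rfl (by decide +kernel)

theorem b601 : Block F al 153856 154112 243 :=
  block_of_check (k := 8) rfl (by decide +kernel)

theorem b602 : Block F al 154112 154368 247 :=
  block_of_check (k := 8) rfl (by decide +kernel)

theorem b603 : Block F al 154368 154624 251 :=
  block_of_check (k := 8) rfl (by decide +kernel)

theorem b604 : Block F al 154624 154880 247 :=
  block_of_check (k := 8) rfl (by decide +kernel)

theorem b605 : Block F al 154880 155136 223 :=
  block_of_check (k := 8) rfl (by decide +kernel)

theorem b606 : Block F al 155136 155392 241 :=
  block_of_check (k := 8) rfl (by decide +kernel)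

theorem b607 : Block F al 155392 155648 254 :=
  block_of_check (k := 8) rfl (by decide +kernel)

theorem b608 : Block F al 155648 155904 234 :=
  block_of_check (k := 8) rfl (by decide +kernel)

theorem b609 : Block F al 155904 156160 237 :=
  block_of_check (k := 8) rfl (by decide +kernel)

theorem b610 : Block F al 156160 156416 245 :=
  block_of_check (k := 8) rfl (by decide +kernel)

theorem b611 : Block F al 156416 156672 234 :=
  block_of_check (k := 8) rfl (by decide +kernel)

theorem b612 : Block F al 156672 156928 231 :=
  block_of_check (k := 8) rfl (by decide +kernel)

theorem b613 : Block F al 156928 157184 234 :=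
  block_of_check (k := 8) rfl (by decide +kernel)

theorem b614 : Block F al 157184 157440 250 :=
  block_of_check (k := 8) rfl (by decide +kernel)

theorem b615 : Block F al 157440 157696 244 :=
  block_of_check (k := 8) rfl (by decide +kernel)

theorem b616 : Block F al 157696 157952 240 :=
  block_of_check (k := 8) rfl (by decide +kernel)

theorem b617 : Block F al 157952 158208 224 :=
  block_of_check (k := 8) rfl (by decide +kernel)

theorem b618 : Block F al 158208 158464 233 :=
  block_of_check (k := 8) rfl (by decide +kernel)

theorem b619 : Block F al 158464 158720 235 :=
  block_of_check (k := 8) rfl (by decide +kernel)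

theorem b620 : Block F al 158720 158976 245 :=
  block_of_check (k := 8) rfl (by decide +kernel)

theorem b621 : Block F al 158976 159232 250 :=
  block_of_check (k := 8) rfl (by decide +kernel)

theorem b622 : Block F al 159232 159488 239 :=
  block_of_check (k := 8) rfl (by decide +kernel)

theorem b623 : Block F al 159488 159744 229 :=
  block_of_check (k := 8) rfl (by decide +kernel)

theorem b624 : Block F al 159744 160000 248 :=
  block_of_check (k := 8) rfl (by decide +kernel)

theorem b625 : Block F al 160000 160256 249 :=
  block_of_check (k := 8) rfl (by decide +kernel)

theorem b626 : Block F al 160256 160512 250 :=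
  block_of_check (k := 8) rfl (by decide +kernel)

end Cfsg.Agent.TcData.HN.I1539000
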