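import Mathlib
import Cfsg.Agent.TcData.HN.I1539000.Tab

set_option autoImplicit false
set_option Elab.async false
set_option maxRecDepth 100000
set_option linter.all false

namespace Cfsg.Agent.TcData.HN.I1539000

open Cfsg.Spor Cfsg.Agent.Lib.TcFacts Cfsg.Agent.Lib.TcBits Cfsg.Agent.Lib.TcPres Cfsg.Spor.HN Cfsg.Agent.TcData.HN

theorem b4861 : Block F al 1244416 1244672 256 :=
  block_of_check (k := 8) rfl (by decide +kernel)

theorem b4862 : Block F al 1244672 1244928 254 :=
  block_of_check (k := 8) rfl (by decide +kernel)

theorem b4863 : Block F al 1244928 1245184 253 :=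
  block_of_check (k := 8) rfl (by decide +kernel)

theorem b4864 : Block F al 1245184 1245440 254 :=
  block_of_check (k := 8) rfl (by decide +kernel)

theorem b4865 : Block F al 1245440 1245696 256 :=
  block_of_check (k := 8) rfl (by decide +kernel)

theorem b4866 : Block F al 1245696 1245952 252 :=
  block_of_check (k := 8) rfl (by decide +kernel)

theorem b4867 : Block F al 1245952 1246208 254 :=
  block_of_check (k := 8) rfl (by decide +kernel)

theorem b4868 : Block F al 1246208 1246464 256 :=
  block_of_check (k := 8) rfl (by decide +kernel)

theorem b4869 : Block F al 1246464 1246720 256 :=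
  block_of_check (k := 8) rfl (by decide +kernel)

theorem b4870 : Block F al 1246720 1246976 256 :=
  block_of_check (k := 8) rfl (by decide +kernel)

theorem b4871 : Block F al 1246976 1247232 250 :=
  block_of_check (k := 8) rfl (by decide +kernel)

theorem b4872 : Block F al 1247232 1247488 255 :=
  block_of_check (k := 8) rfl (by decide +kernel)

theorem b4873 : Block F al 1247488 1247744 256 :=
  block_of_check (k := 8) rfl (by decide +kernel)

theorem b4874 : Block F al 1247744 1248000 256 :=
  block_of_check (k := 8) rfl (by decide +kernel)

theorem b4875 : Block F al 1248000 1248256 254 :=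
  block_of_check (k := 8) rfl (by decide +kernel)

theorem b4876 : Block F al 1248256 1248512 256 :=
  block_of_check (k := 8) rfl (by decide +kernel)

theorem b4877 : Block F al 1248512 1248768 256 :=
  block_of_check (k := 8) rfl (by decide +kernel)

theorem b4878 : Block F al 1248768 1249024 256 :=
  block_of_check (k := 8) rfl (by decide +kernel)

theorem b4879 : Block F al 1249024 1249280 252 :=
  block_of_check (k := 8) rfl (by decide +kernel)

theorem b4880 : Block F al 1249280 1249536 255 :=
  block_of_check (k := 8) rfl (by decide +kernel)

theorem b4881 : Block F al 1249536 1249792 255 :=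
  block_of_check (k := 8) rfl (by decide +kernel)

theorem b4882 : Block F al 1249792 1250048 255 :=
  block_of_check (k := 8) rfl (by decide +kernel)

theorem b4883 : Block F al 1250048 1250304 255 :=
  block_of_check (k := 8) rfl (by decide +kernel)

theorem b4884 : Block F al 1250304 1250560 256 :=
  block_of_check (k := 8) rfl (by decide +kernel)

theorem b4885 : Block F al 1250560 1250816 254 :=
  block_of_check (k := 8) rfl (by decide +kernel)

theorem b4886 : Block F al 1250816 1251072 255 :=
  block_of_check (k := 8) rfl (by decide +kernel)

theorem b4887 : Block F al 1251072 1251328 252 :=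
  block_of_check (k := 8) rfl (by decide +kernel)

theorem b4888 : Block F al 1251328 1251584 253 :=
  block_of_check (k := 8) rfl (by decide +kernel)

theorem b4889 : Block F al 1251584 1251840 255 :=
  block_of_check (k := 8) rfl (by decide +kernel)

theorem b4890 : Block F al 1251840 1252096 255 :=
  block_of_check (k := 8) rfl (by decide +kernel)

end Cfsg.Agent.TcData.HN.I1539000
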