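import Mathlib
import Cfsg.Agent.TcData.HN.I1539000.Tab

set_option autoImplicit false
set_option Elab.async false
set_option maxRecDepth 100000
set_option linter.all false

namespace Cfsg.Agent.TcData.HN.I1539000

open Cfsg.Spor Cfsg.Agent.Lib.TcFacts Cfsg.Agent.Lib.TcBits Cfsg.Agent.Lib.TcPres Cfsg.Spor.HN Cfsg.Agent.TcData.HN

theorem b5227 : Block F al 1338112 1338368 255 :=
  block_of_check (k := 8) rfl (by decide +kernel)

theorem b5228 : Block F al 1338368 1338624 254 :=
  block_of_check (k := 8) rfl (by decide +kernel)

theorem b5229 : Block F al 1338624 1338880 255 :=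
  block_of_check (k := 8) rfl (by decide +kernel)

theorem b5230 : Block F al 1338880 1339136 253 :=
  block_of_check (k := 8) rfl (by decide +kernel)

theorem b5231 : Block F al 1339136 1339392 256 :=
  block_of_check (k := 8) rfl (by decide +kernel)

theorem b5232 : Block F al 1339392 1339648 256 :=
  block_of_check (k := 8) rfl (by decide +kernel)

theorem b5233 : Block F al 1339648 1339904 256 :=
  block_of_check (k := 8) rfl (by decide +kernel)

theorem b5234 : Block F al 1339904 1340160 256 :=
  block_of_check (k := 8) rfl (by decide +kernel)

theorem b5235 : Block F al 1340160 1340416 256 :=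
  block_of_check (k := 8) rfl (by decide +kernel)

theorem b5236 : Block F al 1340416 1340672 256 :=
  block_of_check (k := 8) rfl (by decide +kernel)

theorem b5237 : Block F al 1340672 1340928 254 :=
  block_of_check (k := 8) rfl (by decide +kernel)

theorem b5238 : Block F al 1340928 1341184 255 :=
  block_of_check (k := 8) rfl (by decide +kernel)

theorem b5239 : Block F al 1341184 1341440 256 :=
  block_of_check (k := 8) rfl (by decide +kernel)

theorem b5240 : Block F al 1341440 1341696 256 :=
  block_of_check (k := 8) rfl (by decide +kernel)

theorem b5241 : Block F al 1341696 1341952 256 :=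
  block_of_check (k := 8) rfl (by decide +kernel)

theorem b5242 : Block F al 1341952 1342208 255 :=
  block_of_check (k := 8) rfl (by decide +kernel)

theorem b5243 : Block F al 1342208 1342464 255 :=
  block_of_check (k := 8) rfl (by decide +kernel)

theorem b5244 : Block F al 1342464 1342720 256 :=
  block_of_check (k := 8) rfl (by decide +kernel)

theorem b5245 : Block F al 1342720 1342976 255 :=
  block_of_check (k := 8) rfl (by decide +kernel)

theorem b5246 : Block F al 1342976 1343232 256 :=
  block_of_check (k := 8) rfl (by decide +kernel)

theorem b5247 : Block F al 1343232 1343488 256 :=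
  block_of_check (k := 8) rfl (by decide +kernel)

theorem b5248 : Block F al 1343488 1343744 255 :=
  block_of_check (k := 8) rfl (by decide +kernel)

theorem b5249 : Block F al 1343744 1344000 256 :=
  block_of_check (k := 8) rfl (by decide +kernel)

theorem b5250 : Block F al 1344000 1344256 256 :=
  block_of_check (k := 8) rfl (by decide +kernel)

theorem b5251 : Block F al 1344256 1344512 256 :=
  block_of_check (k := 8) rfl (by decide +kernel)

theorem b5252 : Block F al 1344512 1344768 256 :=
  block_of_check (k := 8) rfl (by decide +kernel)

theorem b5253 : Block F al 1344768 1345024 256 :=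
  block_of_check (k := 8) rfl (by decide +kernel)

theorem b5254 : Block F al 1345024 1345280 256 :=
  block_of_check (k := 8) rfl (by decide +kernel)

theorem b5255 : Block F al 1345280 1345536 256 :=
  block_of_check (k := 8) rfl (by decide +kernel)

end Cfsg.Agent.TcData.HN.I1539000
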