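import Mathlib
import Cfsg.Agent.TcData.HN.I1539000.Tab

set_option autoImplicit false
set_option Elab.async false
set_option maxRecDepth 100000
set_option linter.all false

namespace Cfsg.Agent.TcData.HN.I1539000

open Cfsg.Spor Cfsg.Agent.Lib.TcFacts Cfsg.Agent.Lib.TcBits Cfsg.Agent.Lib.TcPres Cfsg.Spor.HN Cfsg.Agent.TcData.HN

theorem b5571 : Block F al 1426176 1426432 256 :=
  block_of_check (k := 8) rfl (by decide +kernel)

theorem b5572 : Block F al 1426432 1426688 256 :=
  block_of_check (k := 8) rfl (by decide +kernel)

theorem b5573 : Block F al 1426688 1426944 256 :=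
  block_of_check (k := 8) rfl (by decide +kernel)

theorem b5574 : Block F al 1426944 1427200 254 :=
  block_of_check (k := 8) rfl (by decide +kernel)

theorem b5575 : Block F al 1427200 1427456 256 :=
  block_of_check (k := 8) rfl (by decide +kernel)

theorem b5576 : Block F al 1427456 1427712 256 :=
  block_of_check (k := 8) rfl (by decide +kernel)

theorem b5577 : Block F al 1427712 1427968 255 :=
  block_of_check (k := 8) rfl (by decide +kernel)

theorem b5578 : Block F al 1427968 1428224 254 :=
  block_of_check (k := 8) rfl (by decide +kernel)

theorem b5579 : Block F al 1428224 1428480 255 :=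
  block_of_check (k := 8) rfl (by decide +kernel)

theorem b5580 : Block F al 1428480 1428736 255 :=
  block_of_check (k := 8) rfl (by decide +kernel)

theorem b5581 : Block F al 1428736 1428992 256 :=
  block_of_check (k := 8) rfl (by decide +kernel)

theorem b5582 : Block F al 1428992 1429248 254 :=
  block_of_check (k := 8) rfl (by decide +kernel)

theorem b5583 : Block F al 1429248 1429504 256 :=
  block_of_check (k := 8) rfl (by decide +kernel)

theorem b5584 : Block F al 1429504 1429760 256 :=
  block_of_check (k := 8) rfl (by decide +kernel)

theorem b5585 : Block F al 1429760 1430016 256 :=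
  block_of_check (k := 8) rfl (by decide +kernel)

theorem b5586 : Block F al 1430016 1430272 256 :=
  block_of_check (k := 8) rfl (by decide +kernel)

theorem b5587 : Block F al 1430272 1430528 256 :=
  block_of_check (k := 8) rfl (by decide +kernel)

theorem b5588 : Block F al 1430528 1430784 255 :=
  block_of_check (k := 8) rfl (by decide +kernel)

theorem b5589 : Block F al 1430784 1431040 255 :=
  block_of_check (k := 8) rfl (by decide +kernel)

theorem b5590 : Block F al 1431040 1431296 253 :=
  block_of_check (k := 8) rfl (by decide +kernel)

theorem b5591 : Block F al 1431296 1431552 255 :=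
  block_of_check (k := 8) rfl (by decide +kernel)

theorem b5592 : Block F al 1431552 1431808 255 :=
  block_of_check (k := 8) rfl (by decide +kernel)

theorem b5593 : Block F al 1431808 1432064 256 :=
  block_of_check (k := 8) rfl (by decide +kernel)

theorem b5594 : Block F al 1432064 1432320 256 :=
  block_of_check (k := 8) rfl (by decide +kernel)

theorem b5595 : Block F al 1432320 1432576 255 :=
  block_of_check (k := 8) rfl (by decide +kernel)

theorem b5596 : Block F al 1432576 1432832 256 :=
  block_of_check (k := 8) rfl (by decide +kernel)

theorem b5597 : Block F al 1432832 1433088 256 :=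
  block_of_check (k := 8) rfl (by decide +kernel)

theorem b5598 : Block F al 1433088 1433344 256 :=
  block_of_check (k := 8) rfl (by decide +kernel)

end Cfsg.Agent.TcData.HN.I1539000
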