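import Mathlib
import Cfsg.Agent.TcData.HN.I1539000.Tab

set_option autoImplicit false
set_option Elab.async false
set_option maxRecDepth 100000
set_option linter.all false

namespace Cfsg.Agent.TcData.HN.I1539000

open Cfsg.Spor Cfsg.Agent.Lib.TcFacts Cfsg.Agent.Lib.TcBits Cfsg.Agent.Lib.TcPres Cfsg.Spor.HN Cfsg.Agent.TcData.HN

theorem b5892 : Block F al 1508352 1508608 256 :=
  block_of_check (k := 8) rfl (by decide +kernel)

theorem b5893 : Block F al 1508608 1508864 256 :=
  block_of_check (k := 8) rfl (by decide +kernel)

theorem b5894 : Block F al 1508864 1509120 256 :=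
  block_of_check (k := 8) rfl (by decide +kernel)

theorem b5895 : Block F al 1509120 1509376 256 :=
  block_of_check (k := 8) rfl (by decide +kernel)

theorem b5896 : Block F al 1509376 1509632 256 :=
  block_of_check (k := 8) rfl (by decide +kernel)

theorem b5897 : Block F al 1509632 1509888 256 :=
  block_of_check (k := 8) rfl (by decide +kernel)

theorem b5898 : Block F al 1509888 1510144 256 :=
  block_of_check (k := 8) rfl (by decide +kernel)

theorem b5899 : Block F al 1510144 1510400 255 :=
  block_of_check (k := 8) rfl (by decide +kernel)

theorem b5900 : Block F al 1510400 1510656 256 :=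
  block_of_check (k := 8) rfl (by decide +kernel)

theorem b5901 : Block F al 1510656 1510912 256 :=
  block_of_check (k := 8) rfl (by decide +kernel)

theorem b5902 : Block F al 1510912 1511168 256 :=
  block_of_check (k := 8) rfl (by decide +kernel)

theorem b5903 : Block F al 1511168 1511424 256 :=
  block_of_check (k := 8) rfl (by decide +kernel)

theorem b5904 : Block F al 1511424 1511680 256 :=
  block_of_check (k := 8) rfl (by decide +kernel)

theorem b5905 : Block F al 1511680 1511936 256 :=
  block_of_check (k := 8) rfl (by decide +kernel)

theorem b5906 : Block F al 1511936 1512192 256 :=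
  block_of_check (k := 8) rfl (by decide +kernel)

theorem b5907 : Block F al 1512192 1512448 256 :=
  block_of_check (k := 8) rfl (by decide +kernel)

theorem b5908 : Block F al 1512448 1512704 256 :=
  block_of_check (k := 8) rfl (by decide +kernel)

theorem b5909 : Block F al 1512704 1512960 256 :=
  block_of_check (k := 8) rfl (by decide +kernel)

theorem b5910 : Block F al 1512960 1513216 256 :=
  block_of_check (k := 8) rfl (by decide +kernel)

theorem b5911 : Block F al 1513216 1513472 256 :=
  block_of_check (k := 8) rfl (by decide +kernel)

theorem b5912 : Block F al 1513472 1513728 256 :=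
  block_of_check (k := 8) rfl (by decide +kernel)

theorem b5913 : Block F al 1513728 1513984 256 :=
  block_of_check (k := 8) rfl (by decide +kernel)

theorem b5914 : Block F al 1513984 1514240 256 :=
  block_of_check (k := 8) rfl (by decide +kernel)

theorem b5915 : Block F al 1514240 1514496 256 :=
  block_of_check (k := 8) rfl (by decide +kernel)

theorem b5916 : Block F al 1514496 1514752 256 :=
  block_of_check (k := 8) rfl (by decide +kernel)

end Cfsg.Agent.TcData.HN.I1539000
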