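import Mathlib
import Cfsg.Agent.TcData.HN.I1539000.Tab

set_option autoImplicit false
set_option Elab.async false
set_option maxRecDepth 100000
set_option linter.all false

namespace Cfsg.Agent.TcData.HN.I1539000

open Cfsg.Spor Cfsg.Agent.Lib.TcFacts Cfsg.Agent.Lib.TcBits Cfsg.Agent.Lib.TcPres Cfsg.Spor.HN Cfsg.Agent.TcData.HN

theorem b6179 : Block F al 1581824 1582080 256 :=
  block_of_check (k := 8) rfl (by decide +kernel)

theorem b6180 : Block F al 1582080 1582336 256 :=
  block_of_check (k := 8) rfl (by decide +kernel)

theorem b6181 : Block F al 1582336 1582592 256 :=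
  block_of_check (k := 8) rfl (by decide +kernel)

theorem b6182 : Block F al 1582592 1582848 256 :=
  block_of_check (k := 8) rfl (by decide +kernel)

theorem b6183 : Block F al 1582848 1583104 256 :=
  block_of_check (k := 8) rfl (by decide +kernel)

theorem b6184 : Block F al 1583104 1583360 256 :=
  block_of_check (k := 8) rfl (by decide +kernel)

theorem b6185 : Block F al 1583360 1583616 256 :=
  block_of_check (k := 8) rfl (by decide +kernel)

theorem b6186 : Block F al 1583616 1583872 256 :=
  block_of_check (k := 8) rfl (by decide +kernel)

theorem b6187 : Block F al 1583872 1584128 256 :=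
  block_of_check (k := 8) rfl (by decide +kernel)

theorem b6188 : Block F al 1584128 1584384 256 :=
  block_of_check (k := 8) rfl (by decide +kernel)

theorem b6189 : Block F al 1584384 1584640 256 :=
  block_of_check (k := 8) rfl (by decide +kernel)

theorem b6190 : Block F al 1584640 1584896 256 :=
  block_of_check (k := 8) rfl (by decide +kernel)

theorem b6191 : Block F al 1584896 1585152 256 :=
  block_of_check (k := 8) rfl (by decide +kernel)

theorem b6192 : Block F al 1585152 1585408 256 :=
  block_of_check (k := 8) rfl (by decide +kernel)

theorem b6193 : Block F al 1585408 1585664 256 :=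
  block_of_check (k := 8) rfl (by decide +kernel)

theorem b6194 : Block F al 1585664 1585920 256 :=
  block_of_check (k := 8) rfl (by decide +kernel)

theorem b6195 : Block F al 1585920 1586176 256 :=
  block_of_check (k := 8) rfl (by decide +kernel)

theorem b6196 : Block F al 1586176 1586432 256 :=
  block_of_check (k := 8) rfl (by decide +kernel)

theorem b6197 : Block F al 1586432 1586688 256 :=
  block_of_check (k := 8) rfl (by decide +kernel)

theorem b6198 : Block F al 1586688 1586944 256 :=
  block_of_check (k := 8) rfl (by decide +kernel)

theorem b6199 : Block F al 1586944 1587200 256 :=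
  block_of_check (k := 8) rfl (by decide +kernel)

theorem b6200 : Block F al 1587200 1587456 256 :=
  block_of_check (k := 8) rfl (by decide +kernel)

theorem b6201 : Block F al 1587456 1587712 256 :=
  block_of_check (k := 8) rfl (by decide +kernel)

end Cfsg.Agent.TcData.HN.I1539000
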