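import Mathlib
import Cfsg.Agent.TcData.HN.I1539000.Tab

set_option autoImplicit false
set_option Elab.async false
set_option maxRecDepth 100000
set_option linter.all false

namespace Cfsg.Agent.TcData.HN.I1539000

open Cfsg.Spor Cfsg.Agent.Lib.TcFacts Cfsg.Agent.Lib.TcBits Cfsg.Agent.Lib.TcPres Cfsg.Spor.HN Cfsg.Agent.TcData.HN

theorem b1154 : Block F al 295424 295680 247 :=
  block_of_check (k := 8) rfl (by decide +kernel)

theorem b1155 : Block F al 295680 295936 239 :=
  block_of_check (k := 8) rfl (by decide +kernel)

theorem b1156 : Block F al 295936 296192 244 :=
  block_of_check (k := 8) rfl (by decide +kernel)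

theorem b1157 : Block F al 296192 296448 247 :=
  block_of_check (k := 8) rfl (by decide +kernel)

theorem b1158 : Block F al 296448 296704 244 :=
  block_of_check (k := 8) rfl (by decide +kernel)

theorem b1159 : Block F al 296704 296960 254 :=
  block_of_check (k := 8) rfl (by decide +kernel)

theorem b1160 : Block F al 296960 297216 236 :=
  block_of_check (k := 8) rfl (by decide +kernel)

theorem b1161 : Block F al 297216 297472 218 :=
  block_of_check (k := 8) rfl (by decide +kernel)

theorem b1162 : Block F al 297472 297728 241 :=
  block_of_check (k := 8) rfl (by decide +kernel)

theorem b1163 : Block F al 297728 297984 244 :=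
  block_of_check (k := 8) rfl (by decide +kernel)

theorem b1164 : Block F al 297984 298240 227 :=
  block_of_check (k := 8) rfl (by decide +kernel)

theorem b1165 : Block F al 298240 298496 240 :=
  block_of_check (k := 8) rfl (by decide +kernel)

theorem b1166 : Block F al 298496 298752 228 :=
  block_of_check (k := 8) rfl (by decide +kernel)

theorem b1167 : Block F al 298752 299008 246 :=
  block_of_check (k := 8) rfl (by decide +kernel)

theorem b1168 : Block F al 299008 299264 246 :=
  block_of_check (k := 8) rfl (by decide +kernel)

theorem b1169 : Block F al 299264 299520 246 :=
  block_of_check (k := 8) rfl (by decide +kernel)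

theorem b1170 : Block F al 299520 299776 228 :=
  block_of_check (k := 8) rfl (by decide +kernel)

theorem b1171 : Block F al 299776 300032 237 :=
  block_of_check (k := 8) rfl (by decide +kernel)

theorem b1172 : Block F al 300032 300288 239 :=
  block_of_check (k := 8) rfl (by decide +kernel)

theorem b1173 : Block F al 300288 300544 224 :=
  block_of_check (k := 8) rfl (by decide +kernel)

theorem b1174 : Block F al 300544 300800 251 :=
  block_of_check (k := 8) rfl (by decide +kernel)

theorem b1175 : Block F al 300800 301056 237 :=
  block_of_check (k := 8) rfl (by decide +kernel)

theorem b1176 : Block F al 301056 301312 238 :=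
  block_of_check (k := 8) rfl (by decide +kernel)

theorem b1177 : Block F al 301312 301568 235 :=
  block_of_check (k := 8) rfl (by decide +kernel)

theorem b1178 : Block F al 301568 301824 248 :=
  block_of_check (k := 8) rfl (by decide +kernel)

theorem b1179 : Block F al 301824 302080 227 :=
  block_of_check (k := 8) rfl (by decide +kernel)

theorem b1180 : Block F al 302080 302336 237 :=
  block_of_check (k := 8) rfl (by decide +kernel)

theorem b1181 : Block F al 302336 302592 242 :=
  block_of_check (k := 8) rfl (by decide +kernel)

theorem b1182 : Block F al 302592 302848 248 :=
  block_of_check (k := 8) rfl (by decide +kernel)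

theorem b1183 : Block F al 302848 303104 251 :=
  block_of_check (k := 8) rfl (by decide +kernel)

theorem b1184 : Block F al 303104 303360 250 :=
  block_of_check (k := 8) rfl (by decide +kernel)

theorem b1185 : Block F al 303360 303616 243 :=
  block_of_check (k := 8) rfl (by decide +kernel)

theorem b1186 : Block F al 303616 303872 250 :=
  block_of_check (k := 8) rfl (by decide +kernel)

theorem b1187 : Block F al 303872 304128 243 :=
  block_of_check (k := 8) rfl (by decide +kernel)

theorem b1188 : Block F al 304128 304384 252 :=
  block_of_check (k := 8) rfl (by decide +kernel)

theorem b1189 : Block F al 304384 304640 240 :=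
  block_of_check (k := 8) rfl (by decide +kernel)

theorem b1190 : Block F al 304640 304896 249 :=
  block_of_check (k := 8) rfl (by decide +kernel)

theorem b1191 : Block F al 304896 305152 237 :=
  block_of_check (k := 8) rfl (by decide +kernel)

theorem b1192 : Block F al 305152 305408 248 :=
  block_of_check (k := 8) rfl (by decide +kernel)

theorem b1193 : Block F al 305408 305664 242 :=
  block_of_check (k := 8) rfl (by decide +kernel)

theorem b1194 : Block F al 305664 305920 251 :=
  block_of_check (k := 8) rfl (by decide +kernel)

theorem b1195 : Block F al 305920 306176 237 :=
  block_of_check (k := 8) rfl (by decide +kernel)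

theorem b1196 : Block F al 306176 306432 250 :=
  block_of_check (k := 8) rfl (by decide +kernel)

theorem b1197 : Block F al 306432 306688 242 :=
  block_of_check (k := 8) rfl (by decide +kernel)

theorem b1198 : Block F al 306688 306944 243 :=
  block_of_check (k := 8) rfl (by decide +kernel)

theorem b1199 : Block F al 306944 307200 245 :=
  block_of_check (k := 8) rfl (by decide +kernel)

end Cfsg.Agent.TcData.HN.I1539000
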