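import Mathlib
import Cfsg.Agent.TcData.HN.I1539000.Tab

set_option autoImplicit false
set_option Elab.async false
set_option maxRecDepth 100000
set_option linter.all false

namespace Cfsg.Agent.TcData.HN.I1539000

open Cfsg.Spor Cfsg.Agent.Lib.TcFacts Cfsg.Agent.Lib.TcBits Cfsg.Agent.Lib.TcPres Cfsg.Spor.HN Cfsg.Agent.TcData.HN

theorem b1699 : Block F al 434944 435200 250 :=
  block_of_check (k := 8) rfl (by decide +kernel)

theorem b1700 : Block F al 435200 435456 250 :=
  block_of_check (k := 8) rfl (by decide +kernel)

theorem b1701 : Block F al 435456 435712 249 :=
  block_of_check (k := 8) rfl (by decide +kernel)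

theorem b1702 : Block F al 435712 435968 226 :=
  block_of_check (k := 8) rfl (by decide +kernel)

theorem b1703 : Block F al 435968 436224 245 :=
  block_of_check (k := 8) rfl (by decide +kernel)

theorem b1704 : Block F al 436224 436480 245 :=
  block_of_check (k := 8) rfl (by decide +kernel)

theorem b1705 : Block F al 436480 436736 234 :=
  block_of_check (k := 8) rfl (by decide +kernel)

theorem b1706 : Block F al 436736 436992 229 :=
  block_of_check (k := 8) rfl (by decide +kernel)

theorem b1707 : Block F al 436992 437248 249 :=
  block_of_check (k := 8) rfl (by decide +kernel)

theorem b1708 : Block F al 437248 437504 244 :=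
  block_of_check (k := 8) rfl (by decide +kernel)

theorem b1709 : Block F al 437504 437760 249 :=
  block_of_check (k := 8) rfl (by decide +kernel)

theorem b1710 : Block F al 437760 438016 247 :=
  block_of_check (k := 8) rfl (by decide +kernel)

theorem b1711 : Block F al 438016 438272 236 :=
  block_of_check (k := 8) rfl (by decide +kernel)

theorem b1712 : Block F al 438272 438528 231 :=
  block_of_check (k := 8) rfl (by decide +kernel)

theorem b1713 : Block F al 438528 438784 238 :=
  block_of_check (k := 8) rfl (by decide +kernel)

theorem b1714 : Block F al 438784 439040 235 :=
  block_of_check (k := 8) rfl (by decide +kernel)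

theorem b1715 : Block F al 439040 439296 239 :=
  block_of_check (k := 8) rfl (by decide +kernel)

theorem b1716 : Block F al 439296 439552 235 :=
  block_of_check (k := 8) rfl (by decide +kernel)

theorem b1717 : Block F al 439552 439808 246 :=
  block_of_check (k := 8) rfl (by decide +kernel)

theorem b1718 : Block F al 439808 440064 220 :=
  block_of_check (k := 8) rfl (by decide +kernel)

theorem b1719 : Block F al 440064 440320 246 :=
  block_of_check (k := 8) rfl (by decide +kernel)

theorem b1720 : Block F al 440320 440576 230 :=
  block_of_check (k := 8) rfl (by decide +kernel)

theorem b1721 : Block F al 440576 440832 239 :=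
  block_of_check (k := 8) rfl (by decide +kernel)

theorem b1722 : Block F al 440832 441088 232 :=
  block_of_check (k := 8) rfl (by decide +kernel)

theorem b1723 : Block F al 441088 441344 242 :=
  block_of_check (k := 8) rfl (by decide +kernel)

theorem b1724 : Block F al 441344 441600 213 :=
  block_of_check (k := 8) rfl (by decide +kernel)

theorem b1725 : Block F al 441600 441856 243 :=
  block_of_check (k := 8) rfl (by decide +kernel)

theorem b1726 : Block F al 441856 442112 243 :=
  block_of_check (k := 8) rfl (by decide +kernel)

theorem b1727 : Block F al 442112 442368 249 :=
  block_of_check (k := 8) rfl (by decide +kernel)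

theorem b1728 : Block F al 442368 442624 238 :=
  block_of_check (k := 8) rfl (by decide +kernel)

theorem b1729 : Block F al 442624 442880 245 :=
  block_of_check (k := 8) rfl (by decide +kernel)

theorem b1730 : Block F al 442880 443136 248 :=
  block_of_check (k := 8) rfl (by decide +kernel)

theorem b1731 : Block F al 443136 443392 221 :=
  block_of_check (k := 8) rfl (by decide +kernel)

theorem b1732 : Block F al 443392 443648 241 :=
  block_of_check (k := 8) rfl (by decide +kernel)

theorem b1733 : Block F al 443648 443904 236 :=
  block_of_check (k := 8) rfl (by decide +kernel)

theorem b1734 : Block F al 443904 444160 244 :=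
  block_of_check (k := 8) rfl (by decide +kernel)

theorem b1735 : Block F al 444160 444416 240 :=
  block_of_check (k := 8) rfl (by decide +kernel)

theorem b1736 : Block F al 444416 444672 247 :=
  block_of_check (k := 8) rfl (by decide +kernel)

theorem b1737 : Block F al 444672 444928 235 :=
  block_of_check (k := 8) rfl (by decide +kernel)

theorem b1738 : Block F al 444928 445184 233 :=
  block_of_check (k := 8) rfl (by decide +kernel)

theorem b1739 : Block F al 445184 445440 231 :=
  block_of_check (k := 8) rfl (by decide +kernel)

theorem b1740 : Block F al 445440 445696 241 :=
  block_of_check (k := 8) rfl (by decide +kernel)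

theorem b1741 : Block F al 445696 445952 243 :=
  block_of_check (k := 8) rfl (by decide +kernel)

end Cfsg.Agent.TcData.HN.I1539000
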