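import Mathlib
import Cfsg.Agent.TcData.HN.I1539000.Tab

set_option autoImplicit false
set_option Elab.async false
set_option maxRecDepth 100000
set_option linter.all false

namespace Cfsg.Agent.TcData.HN.I1539000

open Cfsg.Spor Cfsg.Agent.Lib.TcFacts Cfsg.Agent.Lib.TcBits Cfsg.Agent.Lib.TcPres Cfsg.Spor.HN Cfsg.Agent.TcData.HN

theorem b2217 : Block F al 567552 567808 243 :=
  block_of_check (k := 8) rfl (by decide +kernel)

theorem b2218 : Block F al 567808 568064 245 :=
  block_of_check (k := 8) rfl (by decide +kernel)

theorem b2219 : Block F al 568064 568320 247 :=
  block_of_check (k := 8) rfl (by decide +kernel)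

theorem b2220 : Block F al 568320 568576 245 :=
  block_of_check (k := 8) rfl (by decide +kernel)

theorem b2221 : Block F al 568576 568832 243 :=
  block_of_check (k := 8) rfl (by decide +kernel)

theorem b2222 : Block F al 568832 569088 245 :=
  block_of_check (k := 8) rfl (by decide +kernel)

theorem b2223 : Block F al 569088 569344 251 :=
  block_of_check (k := 8) rfl (by decide +kernel)

theorem b2224 : Block F al 569344 569600 244 :=
  block_of_check (k := 8) rfl (by decide +kernel)

theorem b2225 : Block F al 569600 569856 253 :=
  block_of_check (k := 8) rfl (by decide +kernel)

theorem b2226 : Block F al 569856 570112 248 :=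
  block_of_check (k := 8) rfl (by decide +kernel)

theorem b2227 : Block F al 570112 570368 255 :=
  block_of_check (k := 8) rfl (by decide +kernel)

theorem b2228 : Block F al 570368 570624 248 :=
  block_of_check (k := 8) rfl (by decide +kernel)

theorem b2229 : Block F al 570624 570880 247 :=
  block_of_check (k := 8) rfl (by decide +kernel)

theorem b2230 : Block F al 570880 571136 229 :=
  block_of_check (k := 8) rfl (by decide +kernel)

theorem b2231 : Block F al 571136 571392 243 :=
  block_of_check (k := 8) rfl (by decide +kernel)

theorem b2232 : Block F al 571392 571648 253 :=
  block_of_check (k := 8) rfl (by decide +kernel)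

theorem b2233 : Block F al 571648 571904 233 :=
  block_of_check (k := 8) rfl (by decide +kernel)

theorem b2234 : Block F al 571904 572160 250 :=
  block_of_check (k := 8) rfl (by decide +kernel)

theorem b2235 : Block F al 572160 572416 239 :=
  block_of_check (k := 8) rfl (by decide +kernel)

theorem b2236 : Block F al 572416 572672 237 :=
  block_of_check (k := 8) rfl (by decide +kernel)

theorem b2237 : Block F al 572672 572928 245 :=
  block_of_check (k := 8) rfl (by decide +kernel)

theorem b2238 : Block F al 572928 573184 239 :=
  block_of_check (k := 8) rfl (by decide +kernel)

theorem b2239 : Block F al 573184 573440 243 :=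
  block_of_check (k := 8) rfl (by decide +kernel)

theorem b2240 : Block F al 573440 573696 225 :=
  block_of_check (k := 8) rfl (by decide +kernel)

theorem b2241 : Block F al 573696 573952 231 :=
  block_of_check (k := 8) rfl (by decide +kernel)

theorem b2242 : Block F al 573952 574208 242 :=
  block_of_check (k := 8) rfl (by decide +kernel)

theorem b2243 : Block F al 574208 574464 231 :=
  block_of_check (k := 8) rfl (by decide +kernel)

theorem b2244 : Block F al 574464 574720 248 :=
  block_of_check (k := 8) rfl (by decide +kernel)

theorem b2245 : Block F al 574720 574976 245 :=
  block_of_check (k := 8) rfl (by decide +kernel)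

theorem b2246 : Block F al 574976 575232 247 :=
  block_of_check (k := 8) rfl (by decide +kernel)

theorem b2247 : Block F al 575232 575488 241 :=
  block_of_check (k := 8) rfl (by decide +kernel)

theorem b2248 : Block F al 575488 575744 237 :=
  block_of_check (k := 8) rfl (by decide +kernel)

theorem b2249 : Block F al 575744 576000 252 :=
  block_of_check (k := 8) rfl (by decide +kernel)

theorem b2250 : Block F al 576000 576256 248 :=
  block_of_check (k := 8) rfl (by decide +kernel)

theorem b2251 : Block F al 576256 576512 254 :=
  block_of_check (k := 8) rfl (by decide +kernel)

theorem b2252 : Block F al 576512 576768 243 :=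
  block_of_check (k := 8) rfl (by decide +kernel)

theorem b2253 : Block F al 576768 577024 240 :=
  block_of_check (k := 8) rfl (by decide +kernel)

theorem b2254 : Block F al 577024 577280 245 :=
  block_of_check (k := 8) rfl (by decide +kernel)

theorem b2255 : Block F al 577280 577536 249 :=
  block_of_check (k := 8) rfl (by decide +kernel)

theorem b2256 : Block F al 577536 577792 250 :=
  block_of_check (k := 8) rfl (by decide +kernel)

theorem b2257 : Block F al 577792 578048 236 :=
  block_of_check (k := 8) rfl (by decide +kernel)

end Cfsg.Agent.TcData.HN.I1539000
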