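import Mathlib
import Cfsg.Agent.TcData.HN.I1539000.Tab

set_option autoImplicit false
set_option Elab.async false
set_option maxRecDepth 100000
set_option linter.all false

namespace Cfsg.Agent.TcData.HN.I1539000

open Cfsg.Spor Cfsg.Agent.Lib.TcFacts Cfsg.Agent.Lib.TcBits Cfsg.Agent.Lib.TcPres Cfsg.Spor.HN Cfsg.Agent.TcData.HN

theorem b2711 : Block F al 694016 694272 239 :=
  block_of_check (k := 8) rfl (by decide +kernel)

theorem b2712 : Block F al 694272 694528 251 :=
  block_of_check (k := 8) rfl (by decide +kernel)

theorem b2713 : Block F al 694528 694784 248 :=
  block_of_check (k := 8) rfl (by decide +kernel)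

theorem b2714 : Block F al 694784 695040 243 :=
  block_of_check (k := 8) rfl (by decide +kernel)

theorem b2715 : Block F al 695040 695296 239 :=
  block_of_check (k := 8) rfl (by decide +kernel)

theorem b2716 : Block F al 695296 695552 250 :=
  block_of_check (k := 8) rfl (by decide +kernel)

theorem b2717 : Block F al 695552 695808 247 :=
  block_of_check (k := 8) rfl (by decide +kernel)

theorem b2718 : Block F al 695808 696064 234 :=
  block_of_check (k := 8) rfl (by decide +kernel)

theorem b2719 : Block F al 696064 696320 225 :=
  block_of_check (k := 8) rfl (by decide +kernel)

theorem b2720 : Block F al 696320 696576 233 :=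
  block_of_check (k := 8) rfl (by decide +kernel)

theorem b2721 : Block F al 696576 696832 248 :=
  block_of_check (k := 8) rfl (by decide +kernel)

theorem b2722 : Block F al 696832 697088 235 :=
  block_of_check (k := 8) rfl (by decide +kernel)

theorem b2723 : Block F al 697088 697344 243 :=
  block_of_check (k := 8) rfl (by decide +kernel)

theorem b2724 : Block F al 697344 697600 247 :=
  block_of_check (k := 8) rfl (by decide +kernel)

theorem b2725 : Block F al 697600 697856 238 :=
  block_of_check (k := 8) rfl (by decide +kernel)

theorem b2726 : Block F al 697856 698112 246 :=
  block_of_check (k := 8) rfl (by decide +kernel)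

theorem b2727 : Block F al 698112 698368 246 :=
  block_of_check (k := 8) rfl (by decide +kernel)

theorem b2728 : Block F al 698368 698624 246 :=
  block_of_check (k := 8) rfl (by decide +kernel)

theorem b2729 : Block F al 698624 698880 246 :=
  block_of_check (k := 8) rfl (by decide +kernel)

theorem b2730 : Block F al 698880 699136 253 :=
  block_of_check (k := 8) rfl (by decide +kernel)

theorem b2731 : Block F al 699136 699392 243 :=
  block_of_check (k := 8) rfl (by decide +kernel)

theorem b2732 : Block F al 699392 699648 241 :=
  block_of_check (k := 8) rfl (by decide +kernel)

theorem b2733 : Block F al 699648 699904 249 :=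
  block_of_check (k := 8) rfl (by decide +kernel)

theorem b2734 : Block F al 699904 700160 247 :=
  block_of_check (k := 8) rfl (by decide +kernel)

theorem b2735 : Block F al 700160 700416 235 :=
  block_of_check (k := 8) rfl (by decide +kernel)

theorem b2736 : Block F al 700416 700672 236 :=
  block_of_check (k := 8) rfl (by decide +kernel)

theorem b2737 : Block F al 700672 700928 238 :=
  block_of_check (k := 8) rfl (by decide +kernel)

theorem b2738 : Block F al 700928 701184 218 :=
  block_of_check (k := 8) rfl (by decide +kernel)

theorem b2739 : Block F al 701184 701440 240 :=
  block_of_check (k := 8) rfl (by decide +kernel)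

theorem b2740 : Block F al 701440 701696 243 :=
  block_of_check (k := 8) rfl (by decide +kernel)

theorem b2741 : Block F al 701696 701952 244 :=
  block_of_check (k := 8) rfl (by decide +kernel)

theorem b2742 : Block F al 701952 702208 223 :=
  block_of_check (k := 8) rfl (by decide +kernel)

theorem b2743 : Block F al 702208 702464 251 :=
  block_of_check (k := 8) rfl (by decide +kernel)

theorem b2744 : Block F al 702464 702720 245 :=
  block_of_check (k := 8) rfl (by decide +kernel)

theorem b2745 : Block F al 702720 702976 249 :=
  block_of_check (k := 8) rfl (by decide +kernel)

theorem b2746 : Block F al 702976 703232 246 :=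
  block_of_check (k := 8) rfl (by decide +kernel)

theorem b2747 : Block F al 703232 703488 251 :=
  block_of_check (k := 8) rfl (by decide +kernel)

theorem b2748 : Block F al 703488 703744 248 :=
  block_of_check (k := 8) rfl (by decide +kernel)

theorem b2749 : Block F al 703744 704000 250 :=
  block_of_check (k := 8) rfl (by decide +kernel)

theorem b2750 : Block F al 704000 704256 242 :=
  block_of_check (k := 8) rfl (by decide +kernel)

theorem b2751 : Block F al 704256 704512 245 :=
  block_of_check (k := 8) rfl (by decide +kernel)

end Cfsg.Agent.TcData.HN.I1539000
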