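import Mathlib
import Cfsg.Agent.TcData.HN.I1539000.Tab

set_option autoImplicit false
set_option Elab.async false
set_option maxRecDepth 100000
set_option linter.all false

namespace Cfsg.Agent.TcData.HN.I1539000

open Cfsg.Spor Cfsg.Agent.Lib.TcFacts Cfsg.Agent.Lib.TcBits Cfsg.Agent.Lib.TcPres Cfsg.Spor.HN Cfsg.Agent.TcData.HN

theorem b3184 : Block F al 815104 815360 248 :=
  block_of_check (k := 8) rfl (by decide +kernel)

theorem b3185 : Block F al 815360 815616 254 :=
  block_of_check (k := 8) rfl (by decide +kernel)

theorem b3186 : Block F al 815616 815872 236 :=
  block_of_check (k := 8) rfl (by decide +kernel)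

theorem b3187 : Block F al 815872 816128 247 :=
  block_of_check (k := 8) rfl (by decide +kernel)

theorem b3188 : Block F al 816128 816384 249 :=
  block_of_check (k := 8) rfl (by decide +kernel)

theorem b3189 : Block F al 816384 816640 254 :=
  block_of_check (k := 8) rfl (by decide +kernel)

theorem b3190 : Block F al 816640 816896 234 :=
  block_of_check (k := 8) rfl (by decide +kernel)

theorem b3191 : Block F al 816896 817152 254 :=
  block_of_check (k := 8) rfl (by decide +kernel)

theorem b3192 : Block F al 817152 817408 249 :=
  block_of_check (k := 8) rfl (by decide +kernel)

theorem b3193 : Block F al 817408 817664 251 :=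
  block_of_check (k := 8) rfl (by decide +kernel)

theorem b3194 : Block F al 817664 817920 252 :=
  block_of_check (k := 8) rfl (by decide +kernel)

theorem b3195 : Block F al 817920 818176 243 :=
  block_of_check (k := 8) rfl (by decide +kernel)

theorem b3196 : Block F al 818176 818432 245 :=
  block_of_check (k := 8) rfl (by decide +kernel)

theorem b3197 : Block F al 818432 818688 253 :=
  block_of_check (k := 8) rfl (by decide +kernel)

theorem b3198 : Block F al 818688 818944 250 :=
  block_of_check (k := 8) rfl (by decide +kernel)

theorem b3199 : Block F al 818944 819200 252 :=
  block_of_check (k := 8) rfl (by decide +kernel)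

theorem b3200 : Block F al 819200 819456 252 :=
  block_of_check (k := 8) rfl (by decide +kernel)

theorem b3201 : Block F al 819456 819712 251 :=
  block_of_check (k := 8) rfl (by decide +kernel)

theorem b3202 : Block F al 819712 819968 244 :=
  block_of_check (k := 8) rfl (by decide +kernel)

theorem b3203 : Block F al 819968 820224 246 :=
  block_of_check (k := 8) rfl (by decide +kernel)

theorem b3204 : Block F al 820224 820480 248 :=
  block_of_check (k := 8) rfl (by decide +kernel)

theorem b3205 : Block F al 820480 820736 251 :=
  block_of_check (k := 8) rfl (by decide +kernel)

theorem b3206 : Block F al 820736 820992 252 :=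
  block_of_check (k := 8) rfl (by decide +kernel)

theorem b3207 : Block F al 820992 821248 251 :=
  block_of_check (k := 8) rfl (by decide +kernel)

theorem b3208 : Block F al 821248 821504 249 :=
  block_of_check (k := 8) rfl (by decide +kernel)

theorem b3209 : Block F al 821504 821760 242 :=
  block_of_check (k := 8) rfl (by decide +kernel)

theorem b3210 : Block F al 821760 822016 250 :=
  block_of_check (k := 8) rfl (by decide +kernel)

theorem b3211 : Block F al 822016 822272 239 :=
  block_of_check (k := 8) rfl (by decide +kernel)

theorem b3212 : Block F al 822272 822528 249 :=
  block_of_check (k := 8) rfl (by decide +kernel)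

theorem b3213 : Block F al 822528 822784 246 :=
  block_of_check (k := 8) rfl (by decide +kernel)

theorem b3214 : Block F al 822784 823040 238 :=
  block_of_check (k := 8) rfl (by decide +kernel)

theorem b3215 : Block F al 823040 823296 244 :=
  block_of_check (k := 8) rfl (by decide +kernel)

theorem b3216 : Block F al 823296 823552 252 :=
  block_of_check (k := 8) rfl (by decide +kernel)

theorem b3217 : Block F al 823552 823808 239 :=
  block_of_check (k := 8) rfl (by decide +kernel)

theorem b3218 : Block F al 823808 824064 242 :=
  block_of_check (k := 8) rfl (by decide +kernel)

theorem b3219 : Block F al 824064 824320 245 :=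
  block_of_check (k := 8) rfl (by decide +kernel)

theorem b3220 : Block F al 824320 824576 248 :=
  block_of_check (k := 8) rfl (by decide +kernel)

end Cfsg.Agent.TcData.HN.I1539000
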