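import Mathlib
import Cfsg.Agent.TcData.HN.I1539000.Tab

set_option autoImplicit false
set_option Elab.async false
set_option maxRecDepth 100000
set_option linter.all false

namespace Cfsg.Agent.TcData.HN.I1539000

open Cfsg.Spor Cfsg.Agent.Lib.TcFacts Cfsg.Agent.Lib.TcBits Cfsg.Agent.Lib.TcPres Cfsg.Spor.HN Cfsg.Agent.TcData.HN

theorem b3631 : Block F al 929536 929792 241 :=
  block_of_check (k := 8) rfl (by decide +kernel)

theorem b3632 : Block F al 929792 930048 236 :=
  block_of_check (k := 8) rfl (by decide +kernel)

theorem b3633 : Block F al 930048 930304 240 :=
  block_of_check (k := 8) rfl (by decide +kernel)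

theorem b3634 : Block F al 930304 930560 221 :=
  block_of_check (k := 8) rfl (by decide +kernel)

theorem b3635 : Block F al 930560 930816 234 :=
  block_of_check (k := 8) rfl (by decide +kernel)

theorem b3636 : Block F al 930816 931072 244 :=
  block_of_check (k := 8) rfl (by decide +kernel)

theorem b3637 : Block F al 931072 931328 250 :=
  block_of_check (k := 8) rfl (by decide +kernel)

theorem b3638 : Block F al 931328 931584 249 :=
  block_of_check (k := 8) rfl (by decide +kernel)

theorem b3639 : Block F al 931584 931840 242 :=
  block_of_check (k := 8) rfl (by decide +kernel)

theorem b3640 : Block F al 931840 932096 253 :=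
  block_of_check (k := 8) rfl (by decide +kernel)

theorem b3641 : Block F al 932096 932352 243 :=
  block_of_check (k := 8) rfl (by decide +kernel)

theorem b3642 : Block F al 932352 932608 253 :=
  block_of_check (k := 8) rfl (by decide +kernel)

theorem b3643 : Block F al 932608 932864 254 :=
  block_of_check (k := 8) rfl (by decide +kernel)

theorem b3644 : Block F al 932864 933120 241 :=
  block_of_check (k := 8) rfl (by decide +kernel)

theorem b3645 : Block F al 933120 933376 256 :=
  block_of_check (k := 8) rfl (by decide +kernel)

theorem b3646 : Block F al 933376 933632 245 :=
  block_of_check (k := 8) rfl (by decide +kernel)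

theorem b3647 : Block F al 933632 933888 235 :=
  block_of_check (k := 8) rfl (by decide +kernel)

theorem b3648 : Block F al 933888 934144 250 :=
  block_of_check (k := 8) rfl (by decide +kernel)

theorem b3649 : Block F al 934144 934400 250 :=
  block_of_check (k := 8) rfl (by decide +kernel)

theorem b3650 : Block F al 934400 934656 248 :=
  block_of_check (k := 8) rfl (by decide +kernel)

theorem b3651 : Block F al 934656 934912 244 :=
  block_of_check (k := 8) rfl (by decide +kernel)

theorem b3652 : Block F al 934912 935168 248 :=
  block_of_check (k := 8) rfl (by decide +kernel)

theorem b3653 : Block F al 935168 935424 248 :=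
  block_of_check (k := 8) rfl (by decide +kernel)

theorem b3654 : Block F al 935424 935680 253 :=
  block_of_check (k := 8) rfl (by decide +kernel)

theorem b3655 : Block F al 935680 935936 249 :=
  block_of_check (k := 8) rfl (by decide +kernel)

theorem b3656 : Block F al 935936 936192 245 :=
  block_of_check (k := 8) rfl (by decide +kernel)

theorem b3657 : Block F al 936192 936448 250 :=
  block_of_check (k := 8) rfl (by decide +kernel)

theorem b3658 : Block F al 936448 936704 251 :=
  block_of_check (k := 8) rfl (by decide +kernel)

theorem b3659 : Block F al 936704 936960 247 :=
  block_of_check (k := 8) rfl (by decide +kernel)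

theorem b3660 : Block F al 936960 937216 247 :=
  block_of_check (k := 8) rfl (by decide +kernel)

theorem b3661 : Block F al 937216 937472 251 :=
  block_of_check (k := 8) rfl (by decide +kernel)

theorem b3662 : Block F al 937472 937728 252 :=
  block_of_check (k := 8) rfl (by decide +kernel)

theorem b3663 : Block F al 937728 937984 256 :=
  block_of_check (k := 8) rfl (by decide +kernel)

theorem b3664 : Block F al 937984 938240 246 :=
  block_of_check (k := 8) rfl (by decide +kernel)

theorem b3665 : Block F al 938240 938496 256 :=
  block_of_check (k := 8) rfl (by decide +kernel)

theorem b3666 : Block F al 938496 938752 253 :=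
  block_of_check (k := 8) rfl (by decide +kernel)

end Cfsg.Agent.TcData.HN.I1539000
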