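import Mathlib
import Cfsg.Agent.TcData.HN.I1539000.Tab

set_option autoImplicit false
set_option Elab.async false
set_option maxRecDepth 100000
set_option linter.all false

namespace Cfsg.Agent.TcData.HN.I1539000

open Cfsg.Spor Cfsg.Agent.Lib.TcFacts Cfsg.Agent.Lib.TcBits Cfsg.Agent.Lib.TcPres Cfsg.Spor.HN Cfsg.Agent.TcData.HN

theorem b4064 : Block F al 1040384 1040640 249 :=
  block_of_check (k := 8) rfl (by decide +kernel)

theorem b4065 : Block F al 1040640 1040896 242 :=
  block_of_check (k := 8) rfl (by decide +kernel)

theorem b4066 : Block F al 1040896 1041152 243 :=
  block_of_check (k := 8) rfl (by decide +kernel)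

theorem b4067 : Block F al 1041152 1041408 240 :=
  block_of_check (k := 8) rfl (by decide +kernel)

theorem b4068 : Block F al 1041408 1041664 245 :=
  block_of_check (k := 8) rfl (by decide +kernel)

theorem b4069 : Block F al 1041664 1041920 253 :=
  block_of_check (k := 8) rfl (by decide +kernel)

theorem b4070 : Block F al 1041920 1042176 240 :=
  block_of_check (k := 8) rfl (by decide +kernel)

theorem b4071 : Block F al 1042176 1042432 245 :=
  block_of_check (k := 8) rfl (by decide +kernel)

theorem b4072 : Block F al 1042432 1042688 245 :=
  block_of_check (k := 8) rfl (by decide +kernel)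

theorem b4073 : Block F al 1042688 1042944 255 :=
  block_of_check (k := 8) rfl (by decide +kernel)

theorem b4074 : Block F al 1042944 1043200 252 :=
  block_of_check (k := 8) rfl (by decide +kernel)

theorem b4075 : Block F al 1043200 1043456 255 :=
  block_of_check (k := 8) rfl (by decide +kernel)

theorem b4076 : Block F al 1043456 1043712 252 :=
  block_of_check (k := 8) rfl (by decide +kernel)

theorem b4077 : Block F al 1043712 1043968 252 :=
  block_of_check (k := 8) rfl (by decide +kernel)

theorem b4078 : Block F al 1043968 1044224 256 :=
  block_of_check (k := 8) rfl (by decide +kernel)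

theorem b4079 : Block F al 1044224 1044480 253 :=
  block_of_check (k := 8) rfl (by decide +kernel)

theorem b4080 : Block F al 1044480 1044736 254 :=
  block_of_check (k := 8) rfl (by decide +kernel)

theorem b4081 : Block F al 1044736 1044992 254 :=
  block_of_check (k := 8) rfl (by decide +kernel)

theorem b4082 : Block F al 1044992 1045248 241 :=
  block_of_check (k := 8) rfl (by decide +kernel)

theorem b4083 : Block F al 1045248 1045504 252 :=
  block_of_check (k := 8) rfl (by decide +kernel)

theorem b4084 : Block F al 1045504 1045760 254 :=
  block_of_check (k := 8) rfl (by decide +kernel)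

theorem b4085 : Block F al 1045760 1046016 249 :=
  block_of_check (k := 8) rfl (by decide +kernel)

theorem b4086 : Block F al 1046016 1046272 251 :=
  block_of_check (k := 8) rfl (by decide +kernel)

theorem b4087 : Block F al 1046272 1046528 244 :=
  block_of_check (k := 8) rfl (by decide +kernel)

theorem b4088 : Block F al 1046528 1046784 247 :=
  block_of_check (k := 8) rfl (by decide +kernel)

theorem b4089 : Block F al 1046784 1047040 247 :=
  block_of_check (k := 8) rfl (by decide +kernel)

theorem b4090 : Block F al 1047040 1047296 245 :=
  block_of_check (k := 8) rfl (by decide +kernel)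

theorem b4091 : Block F al 1047296 1047552 250 :=
  block_of_check (k := 8) rfl (by decide +kernel)

theorem b4092 : Block F al 1047552 1047808 245 :=
  block_of_check (k := 8) rfl (by decide +kernel)

theorem b4093 : Block F al 1047808 1048064 248 :=
  block_of_check (k := 8) rfl (by decide +kernel)

theorem b4094 : Block F al 1048064 1048320 255 :=
  block_of_check (k := 8) rfl (by decide +kernel)

theorem b4095 : Block F al 1048320 1048576 240 :=
  block_of_check (k := 8) rfl (by decide +kernel)

theorem b4096 : Block F al 1048576 1048832 246 :=
  block_of_check (k := 8) rfl (by decide +kernel)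

theorem b4097 : Block F al 1048832 1049088 242 :=
  block_of_check (k := 8) rfl (by decide +kernel)

theorem b4098 : Block F al 1049088 1049344 234 :=
  block_of_check (k := 8) rfl (by decide +kernel)

end Cfsg.Agent.TcData.HN.I1539000
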