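import Mathlib
import Cfsg.Agent.TcData.HN.I1539000.Rep0

set_option autoImplicit false
set_option Elab.async false
set_option maxRecDepth 100000
set_option linter.all false

namespace Cfsg.Agent.TcData.HN.I1539000

open Cfsg.Spor Cfsg.Agent.Lib.TcFacts Cfsg.Agent.Lib.TcBits Cfsg.Agent.Lib.TcPres Cfsg.Spor.HN Cfsg.Agent.TcData.HN

theorem e_0_s0 : chkW (extra.getD 0 1) 0 = true := by decide +kernel

theorem e_0_s1 : chkW (extra.getD 0 1) 1 = true := by decide +kernel

theorem e_0_s2 : chkW (extra.getD 0 1) 2 = true := by decide +kernel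

theorem e_0_s3 : chkW (extra.getD 0 1) 3 = true := by decide +kernel

theorem e_0_s4 : chkW (extra.getD 0 1) 4 = true := by decide +kernel

theorem e_0_s5 : chkW (extra.getD 0 1) 5 = true := by decide +kernel

theorem e_0_s6 : chkW (extra.getD 0 1) 6 = true := by decide +kernel

theorem e_0_s7 : chkW (extra.getD 0 1) 7 = true := by decide +kernel

theorem e_0_s8 : chkW (extra.getD 0 1) 8 = true := by decide +kernel

theorem e_0_s9 : chkW (extra.getD 0 1) 9 = true := by decide +kernel

theorem e_0_s10 : chkW (extra.getD 0 1) 10 = true := by decide +kernel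

theorem e_0_s11 : chkW (extra.getD 0 1) 11 = true := by decide +kernel

theorem e_0_s12 : chkW (extra.getD 0 1) 12 = true := by decide +kernel

theorem e_0_s13 : chkW (extra.getD 0 1) 13 = true := by decide +kernel

theorem e_0_s14 : chkW (extra.getD 0 1) 14 = true := by decide +kernel

theorem e_0_s15 : chkW (extra.getD 0 1) 15 = true := by decide +kernel

theorem e_0_s16 : chkW (extra.getD 0 1) 16 = true := by decide +kernel

theorem e_0_s17 : chkW (extra.getD 0 1) 17 = true := by decide +kernel

theorem e_0_s18 : chkW (extra.getD 0 1) 18 = true := by decide +kernel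

theorem e_0_s19 : chkW (extra.getD 0 1) 19 = true := by decide +kernel

theorem e_0_s20 : chkW (extra.getD 0 1) 20 = true := by decide +kernel

theorem e_0 : ∀ j, j < 21 → chkW (extra.getD 0 1) j = true := by
  intro j hj
  interval_cases j
  exacts [e_0_s0, e_0_s1, e_0_s2, e_0_s3, e_0_s4, e_0_s5, e_0_s6, e_0_s7, e_0_s8, e_0_s9, e_0_s10, e_0_s11, e_0_s12, e_0_s13, e_0_s14, e_0_s15, e_0_s16, e_0_s17, e_0_s18, e_0_s19, e_0_s20]

theorem e_1_s0 : chkW (extra.getD 1 1) 0 = true := by decide +kernel

theorem e_1_s1 : chkW (extra.getD 1 1) 1 = true := by decide +kernel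

theorem e_1_s2 : chkW (extra.getD 1 1) 2 = true := by decide +kernel

theorem e_1_s3 : chkW (extra.getD 1 1) 3 = true := by decide +kernel

theorem e_1_s4 : chkW (extra.getD 1 1) 4 = true := by decide +kernel

theorem e_1_s5 : chkW (extra.getD 1 1) 5 = true := by decide +kernel

theorem e_1_s6 : chkW (extra.getD 1 1) 6 = true := by decide +kernel

theorem e_1_s7 : chkW (extra.getD 1 1) 7 = true := by decide +kernel

theorem e_1_s8 : chkW (extra.getD 1 1) 8 = true := by decide +kernel

theorem e_1_s9 : chkW (extra.getD 1 1) 9 = true := by decide +kernel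

theorem e_1_s10 : chkW (extra.getD 1 1) 10 = true := by decide +kernel

theorem e_1_s11 : chkW (extra.getD 1 1) 11 = true := by decide +kernel

theorem e_1_s12 : chkW (extra.getD 1 1) 12 = true := by decide +kernel

theorem e_1_s13 : chkW (extra.getD 1 1) 13 = true := by decide +kernel

theorem e_1_s14 : chkW (extra.getD 1 1) 14 = true := by decide +kernel

theorem e_1_s15 : chkW (extra.getD 1 1) 15 = true := by decide +kernel

theorem e_1_s16 : chkW (extra.getD 1 1) 16 = true := by decide +kernel

theorem e_1_s17 : chkW (extra.getD 1 1) 17 = true := by decide +kernel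

theorem e_1_s18 : chkW (extra.getD 1 1) 18 = true := by decide +kernel

theorem e_1_s19 : chkW (extra.getD 1 1) 19 = true := by decide +kernel

theorem e_1_s20 : chkW (extra.getD 1 1) 20 = true := by decide +kernel

theorem e_1 : ∀ j, j < 21 → chkW (extra.getD 1 1) j = true := by
  intro j hj
  interval_cases j
  exacts [e_1_s0, e_1_s1, e_1_s2, e_1_s3, e_1_s4, e_1_s5, e_1_s6, e_1_s7, e_1_s8, e_1_s9, e_1_s10, e_1_s11, e_1_s12, e_1_s13, e_1_s14, e_1_s15, e_1_s16, e_1_s17, e_1_s18, e_1_s19, e_1_s20]

theorem e_2_s0 : chkW (extra.getD 2 1) 0 = true := by decide +kernel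

theorem e_2_s1 : chkW (extra.getD 2 1) 1 = true := by decide +kernel

theorem e_2_s2 : chkW (extra.getD 2 1) 2 = true := by decide +kernel

theorem e_2_s3 : chkW (extra.getD 2 1) 3 = true := by decide +kernel

theorem e_2_s4 : chkW (extra.getD 2 1) 4 = true := by decide +kernel

theorem e_2_s5 : chkW (extra.getD 2 1) 5 = true := by decide +kernel

theorem e_2_s6 : chkW (extra.getD 2 1) 6 = true := by decide +kernel

theorem e_2_s7 : chkW (extra.getD 2 1) 7 = true := by decide +kernel

theorem e_2_s8 : chkW (extra.getD 2 1) 8 = true := by decide +kernel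

theorem e_2_s9 : chkW (extra.getD 2 1) 9 = true := by decide +kernel

theorem e_2_s10 : chkW (extra.getD 2 1) 10 = true := by decide +kernel

theorem e_2_s11 : chkW (extra.getD 2 1) 11 = true := by decide +kernel

theorem e_2_s12 : chkW (extra.getD 2 1) 12 = true := by decide +kernel

theorem e_2_s13 : chkW (extra.getD 2 1) 13 = true := by decide +kernel

theorem e_2_s14 : chkW (extra.getD 2 1) 14 = true := by decide +kernel

theorem e_2_s15 : chkW (extra.getD 2 1) 15 = true := by decide +kernel

theorem e_2_s16 : chkW (extra.getD 2 1) 16 = true := by decide +kernel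

theorem e_2_s17 : chkW (extra.getD 2 1) 17 = true := by decide +kernel

theorem e_2_s18 : chkW (extra.getD 2 1) 18 = true := by decide +kernel

theorem e_2_s19 : chkW (extra.getD 2 1) 19 = true := by decide +kernel

theorem e_2_s20 : chkW (extra.getD 2 1) 20 = true := by decide +kernel

theorem e_2 : ∀ j, j < 21 → chkW (extra.getD 2 1) j = true := by
  intro j hj
  interval_cases j
  exacts [e_2_s0, e_2_s1, e_2_s2, e_2_s3, e_2_s4, e_2_s5, e_2_s6, e_2_s7, e_2_s8, e_2_s9, e_2_s10, e_2_s11, e_2_s12, e_2_s13, e_2_s14, e_2_s15, e_2_s16, e_2_s17, e_2_s18, e_2_s19, e_2_s20]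

theorem e_3_s0 : chkW (extra.getD 3 1) 0 = true := by decide +kernel

theorem e_3_s1 : chkW (extra.getD 3 1) 1 = true := by decide +kernel

theorem e_3_s2 : chkW (extra.getD 3 1) 2 = true := by decide +kernel

theorem e_3_s3 : chkW (extra.getD 3 1) 3 = true := by decide +kernel

theorem e_3_s4 : chkW (extra.getD 3 1) 4 = true := by decide +kernel

theorem e_3_s5 : chkW (extra.getD 3 1) 5 = true := by decide +kernel

theorem e_3_s6 : chkW (extra.getD 3 1) 6 = true := by decide +kernel

theorem e_3_s7 : chkW (extra.getD 3 1) 7 = true := by decide +kernel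

theorem e_3_s8 : chkW (extra.getD 3 1) 8 = true := by decide +kernel

theorem e_3_s9 : chkW (extra.getD 3 1) 9 = true := by decide +kernel

theorem e_3_s10 : chkW (extra.getD 3 1) 10 = true := by decide +kernel

theorem e_3_s11 : chkW (extra.getD 3 1) 11 = true := by decide +kernel

theorem e_3_s12 : chkW (extra.getD 3 1) 12 = true := by decide +kernel

theorem e_3_s13 : chkW (extra.getD 3 1) 13 = true := by decide +kernel

theorem e_3_s14 : chkW (extra.getD 3 1) 14 = true := by decide +kernel

theorem e_3_s15 : chkW (extra.getD 3 1) 15 = true := by decide +kernel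

theorem e_3_s16 : chkW (extra.getD 3 1) 16 = true := by decide +kernel

theorem e_3_s17 : chkW (extra.getD 3 1) 17 = true := by decide +kernel

theorem e_3_s18 : chkW (extra.getD 3 1) 18 = true := by decide +kernel

theorem e_3_s19 : chkW (extra.getD 3 1) 19 = true := by decide +kernel

theorem e_3_s20 : chkW (extra.getD 3 1) 20 = true := by decide +kernel

theorem e_3 : ∀ j, j < 21 → chkW (extra.getD 3 1) j = true := by
  intro j hj
  interval_cases j
  exacts [e_3_s0, e_3_s1, e_3_s2, e_3_s3, e_3_s4, e_3_s5, e_3_s6, e_3_s7, e_3_s8, e_3_s9, e_3_s10, e_3_s11, e_3_s12, e_3_s13, e_3_s14, e_3_s15, e_3_s16, e_3_s17, e_3_s18, e_3_s19, e_3_s20]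

theorem e_4_s0 : chkW (extra.getD 4 1) 0 = true := by decide +kernel

theorem e_4_s1 : chkW (extra.getD 4 1) 1 = true := by decide +kernel

theorem e_4_s2 : chkW (extra.getD 4 1) 2 = true := by decide +kernel

theorem e_4_s3 : chkW (extra.getD 4 1) 3 = true := by decide +kernel

theorem e_4_s4 : chkW (extra.getD 4 1) 4 = true := by decide +kernel

theorem e_4_s5 : chkW (extra.getD 4 1) 5 = true := by decide +kernel

theorem e_4_s6 : chkW (extra.getD 4 1) 6 = true := by decide +kernel

theorem e_4_s7 : chkW (extra.getD 4 1) 7 = true := by decide +kernel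

theorem e_4_s8 : chkW (extra.getD 4 1) 8 = true := by decide +kernel

theorem e_4_s9 : chkW (extra.getD 4 1) 9 = true := by decide +kernel

theorem e_4_s10 : chkW (extra.getD 4 1) 10 = true := by decide +kernel

theorem e_4_s11 : chkW (extra.getD 4 1) 11 = true := by decide +kernel

theorem e_4_s12 : chkW (extra.getD 4 1) 12 = true := by decide +kernel

theorem e_4_s13 : chkW (extra.getD 4 1) 13 = true := by decide +kernel

theorem e_4_s14 : chkW (extra.getD 4 1) 14 = true := by decide +kernel

theorem e_4_s15 : chkW (extra.getD 4 1) 15 = true := by decide +kernel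

theorem e_4_s16 : chkW (extra.getD 4 1) 16 = true := by decide +kernel

theorem e_4_s17 : chkW (extra.getD 4 1) 17 = true := by decide +kernel

theorem e_4_s18 : chkW (extra.getD 4 1) 18 = true := by decide +kernel

theorem e_4_s19 : chkW (extra.getD 4 1) 19 = true := by decide +kernel

theorem e_4_s20 : chkW (extra.getD 4 1) 20 = true := by decide +kernel

theorem e_4 : ∀ j, j < 21 → chkW (extra.getD 4 1) j = true := by
  intro j hj
  interval_cases j
  exacts [e_4_s0, e_4_s1, e_4_s2, e_4_s3, e_4_s4, e_4_s5, e_4_s6, e_4_s7, e_4_s8, e_4_s9, e_4_s10, e_4_s11, e_4_s12, e_4_s13, e_4_s14, e_4_s15, e_4_s16, e_4_s17, e_4_s18, e_4_s19, e_4_s20]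

theorem e_5_s0 : chkW (extra.getD 5 1) 0 = true := by decide +kernel

theorem e_5_s1 : chkW (extra.getD 5 1) 1 = true := by decide +kernel

theorem e_5_s2 : chkW (extra.getD 5 1) 2 = true := by decide +kernel

theorem e_5_s3 : chkW (extra.getD 5 1) 3 = true := by decide +kernel

theorem e_5_s4 : chkW (extra.getD 5 1) 4 = true := by decide +kernel

theorem e_5_s5 : chkW (extra.getD 5 1) 5 = true := by decide +kernel

theorem e_5_s6 : chkW (extra.getD 5 1) 6 = true := by decide +kernel

theorem e_5_s7 : chkW (extra.getD 5 1) 7 = true := by decide +kernel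

theorem e_5_s8 : chkW (extra.getD 5 1) 8 = true := by decide +kernel

theorem e_5_s9 : chkW (extra.getD 5 1) 9 = true := by decide +kernel

theorem e_5_s10 : chkW (extra.getD 5 1) 10 = true := by decide +kernel

theorem e_5_s11 : chkW (extra.getD 5 1) 11 = true := by decide +kernel

theorem e_5_s12 : chkW (extra.getD 5 1) 12 = true := by decide +kernel

theorem e_5_s13 : chkW (extra.getD 5 1) 13 = true := by decide +kernel

theorem e_5_s14 : chkW (extra.getD 5 1) 14 = true := by decide +kernel

theorem e_5_s15 : chkW (extra.getD 5 1) 15 = true := by decide +kernel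

theorem e_5_s16 : chkW (extra.getD 5 1) 16 = true := by decide +kernel

theorem e_5_s17 : chkW (extra.getD 5 1) 17 = true := by decide +kernel

theorem e_5_s18 : chkW (extra.getD 5 1) 18 = true := by decide +kernel

theorem e_5_s19 : chkW (extra.getD 5 1) 19 = true := by decide +kernel

theorem e_5_s20 : chkW (extra.getD 5 1) 20 = true := by decide +kernel

theorem e_5 : ∀ j, j < 21 → chkW (extra.getD 5 1) j = true := by
  intro j hj
  interval_cases j
  exacts [e_5_s0, e_5_s1, e_5_s2, e_5_s3, e_5_s4, e_5_s5, e_5_s6, e_5_s7, e_5_s8, e_5_s9, e_5_s10, e_5_s11, e_5_s12, e_5_s13, e_5_s14, e_5_s15, e_5_s16, e_5_s17, e_5_s18, e_5_s19, e_5_s20]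

theorem e_6_s0 : chkW (extra.getD 6 1) 0 = true := by decide +kernel

theorem e_6_s1 : chkW (extra.getD 6 1) 1 = true := by decide +kernel

theorem e_6_s2 : chkW (extra.getD 6 1) 2 = true := by decide +kernel

theorem e_6_s3 : chkW (extra.getD 6 1) 3 = true := by decide +kernel

theorem e_6_s4 : chkW (extra.getD 6 1) 4 = true := by decide +kernel

theorem e_6_s5 : chkW (extra.getD 6 1) 5 = true := by decide +kernel

theorem e_6_s6 : chkW (extra.getD 6 1) 6 = true := by decide +kernel

theorem e_6_s7 : chkW (extra.getD 6 1) 7 = true := by decide +kernel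

theorem e_6_s8 : chkW (extra.getD 6 1) 8 = true := by decide +kernel

theorem e_6_s9 : chkW (extra.getD 6 1) 9 = true := by decide +kernel

theorem e_6_s10 : chkW (extra.getD 6 1) 10 = true := by decide +kernel

theorem e_6_s11 : chkW (extra.getD 6 1) 11 = true := by decide +kernel

theorem e_6_s12 : chkW (extra.getD 6 1) 12 = true := by decide +kernel

theorem e_6_s13 : chkW (extra.getD 6 1) 13 = true := by decide +kernel

theorem e_6_s14 : chkW (extra.getD 6 1) 14 = true := by decide +kernel

theorem e_6_s15 : chkW (extra.getD 6 1) 15 = true := by decide +kernel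

theorem e_6_s16 : chkW (extra.getD 6 1) 16 = true := by decide +kernel

theorem e_6_s17 : chkW (extra.getD 6 1) 17 = true := by decide +kernel

theorem e_6_s18 : chkW (extra.getD 6 1) 18 = true := by decide +kernel

theorem e_6_s19 : chkW (extra.getD 6 1) 19 = true := by decide +kernel

theorem e_6_s20 : chkW (extra.getD 6 1) 20 = true := by decide +kernel

theorem e_6 : ∀ j, j < 21 → chkW (extra.getD 6 1) j = true := by
  intro j hj
  interval_cases j
  exacts [e_6_s0, e_6_s1, e_6_s2, e_6_s3, e_6_s4, e_6_s5, e_6_s6, e_6_s7, e_6_s8, e_6_s9, e_6_s10, e_6_s11, e_6_s12, e_6_s13, e_6_s14, e_6_s15, e_6_s16, e_6_s17, e_6_s18, e_6_s19, e_6_s20]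

theorem e_7_s0 : chkW (extra.getD 7 1) 0 = true := by decide +kernel

theorem e_7_s1 : chkW (extra.getD 7 1) 1 = true := by decide +kernel

theorem e_7_s2 : chkW (extra.getD 7 1) 2 = true := by decide +kernel

theorem e_7_s3 : chkW (extra.getD 7 1) 3 = true := by decide +kernel

theorem e_7_s4 : chkW (extra.getD 7 1) 4 = true := by decide +kernel

theorem e_7_s5 : chkW (extra.getD 7 1) 5 = true := by decide +kernel

theorem e_7_s6 : chkW (extra.getD 7 1) 6 = true := by decide +kernel

theorem e_7_s7 : chkW (extra.getD 7 1) 7 = true := by decide +kernel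

theorem e_7_s8 : chkW (extra.getD 7 1) 8 = true := by decide +kernel

theorem e_7_s9 : chkW (extra.getD 7 1) 9 = true := by decide +kernel

theorem e_7_s10 : chkW (extra.getD 7 1) 10 = true := by decide +kernel

theorem e_7_s11 : chkW (extra.getD 7 1) 11 = true := by decide +kernel

theorem e_7_s12 : chkW (extra.getD 7 1) 12 = true := by decide +kernel

theorem e_7_s13 : chkW (extra.getD 7 1) 13 = true := by decide +kernel

theorem e_7_s14 : chkW (extra.getD 7 1) 14 = true := by decide +kernel

theorem e_7_s15 : chkW (extra.getD 7 1) 15 = true := by decide +kernel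

theorem e_7_s16 : chkW (extra.getD 7 1) 16 = true := by decide +kernel

theorem e_7_s17 : chkW (extra.getD 7 1) 17 = true := by decide +kernel

theorem e_7_s18 : chkW (extra.getD 7 1) 18 = true := by decide +kernel

theorem e_7_s19 : chkW (extra.getD 7 1) 19 = true := by decide +kernel

theorem e_7_s20 : chkW (extra.getD 7 1) 20 = true := by decide +kernel

theorem e_7 : ∀ j, j < 21 → chkW (extra.getD 7 1) j = true := by
  intro j hj
  interval_cases j
  exacts [e_7_s0, e_7_s1, e_7_s2, e_7_s3, e_7_s4, e_7_s5, e_7_s6, e_7_s7, e_7_s8, e_7_s9, e_7_s10, e_7_s11, e_7_s12, e_7_s13, e_7_s14, e_7_s15, e_7_s16, e_7_s17, e_7_s18, e_7_s19, e_7_s20]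

theorem e_8_s0 : chkW (extra.getD 8 1) 0 = true := by decide +kernel

theorem e_8_s1 : chkW (extra.getD 8 1) 1 = true := by decide +kernel

theorem e_8_s2 : chkW (extra.getD 8 1) 2 = true := by decide +kernel

theorem e_8_s3 : chkW (extra.getD 8 1) 3 = true := by decide +kernel

theorem e_8_s4 : chkW (extra.getD 8 1) 4 = true := by decide +kernel

theorem e_8_s5 : chkW (extra.getD 8 1) 5 = true := by decide +kernel

theorem e_8_s6 : chkW (extra.getD 8 1) 6 = true := by decide +kernel

theorem e_8_s7 : chkW (extra.getD 8 1) 7 = true := by decide +kernel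

theorem e_8_s8 : chkW (extra.getD 8 1) 8 = true := by decide +kernel

theorem e_8_s9 : chkW (extra.getD 8 1) 9 = true := by decide +kernel

theorem e_8_s10 : chkW (extra.getD 8 1) 10 = true := by decide +kernel

theorem e_8_s11 : chkW (extra.getD 8 1) 11 = true := by decide +kernel

theorem e_8_s12 : chkW (extra.getD 8 1) 12 = true := by decide +kernel

theorem e_8_s13 : chkW (extra.getD 8 1) 13 = true := by decide +kernel

theorem e_8_s14 : chkW (extra.getD 8 1) 14 = true := by decide +kernel

theorem e_8_s15 : chkW (extra.getD 8 1) 15 = true := by decide +kernel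

theorem e_8_s16 : chkW (extra.getD 8 1) 16 = true := by decide +kernel

theorem e_8_s17 : chkW (extra.getD 8 1) 17 = true := by decide +kernel

theorem e_8_s18 : chkW (extra.getD 8 1) 18 = true := by decide +kernel

theorem e_8_s19 : chkW (extra.getD 8 1) 19 = true := by decide +kernel

theorem e_8_s20 : chkW (extra.getD 8 1) 20 = true := by decide +kernel

theorem e_8 : ∀ j, j < 21 → chkW (extra.getD 8 1) j = true := by
  intro j hj
  interval_cases j
  exacts [e_8_s0, e_8_s1, e_8_s2, e_8_s3, e_8_s4, e_8_s5, e_8_s6, e_8_s7, e_8_s8, e_8_s9, e_8_s10, e_8_s11, e_8_s12, e_8_s13, e_8_s14, e_8_s15, e_8_s16, e_8_s17, e_8_s18, e_8_s19, e_8_s20]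

theorem e_9_s0 : chkW (extra.getD 9 1) 0 = true := by decide +kernel

theorem e_9_s1 : chkW (extra.getD 9 1) 1 = true := by decide +kernel

theorem e_9_s2 : chkW (extra.getD 9 1) 2 = true := by decide +kernel

theorem e_9_s3 : chkW (extra.getD 9 1) 3 = true := by decide +kernel

theorem e_9_s4 : chkW (extra.getD 9 1) 4 = true := by decide +kernel

theorem e_9_s5 : chkW (extra.getD 9 1) 5 = true := by decide +kernel

theorem e_9_s6 : chkW (extra.getD 9 1) 6 = true := by decide +kernel

theorem e_9_s7 : chkW (extra.getD 9 1) 7 = true := by decide +kernel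

theorem e_9_s8 : chkW (extra.getD 9 1) 8 = true := by decide +kernel

theorem e_9_s9 : chkW (extra.getD 9 1) 9 = true := by decide +kernel

theorem e_9_s10 : chkW (extra.getD 9 1) 10 = true := by decide +kernel

theorem e_9_s11 : chkW (extra.getD 9 1) 11 = true := by decide +kernel

theorem e_9_s12 : chkW (extra.getD 9 1) 12 = true := by decide +kernel

theorem e_9_s13 : chkW (extra.getD 9 1) 13 = true := by decide +kernel

theorem e_9_s14 : chkW (extra.getD 9 1) 14 = true := by decide +kernel

theorem e_9_s15 : chkW (extra.getD 9 1) 15 = true := by decide +kernel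

theorem e_9_s16 : chkW (extra.getD 9 1) 16 = true := by decide +kernel

theorem e_9_s17 : chkW (extra.getD 9 1) 17 = true := by decide +kernel

theorem e_9_s18 : chkW (extra.getD 9 1) 18 = true := by decide +kernel

theorem e_9_s19 : chkW (extra.getD 9 1) 19 = true := by decide +kernel

theorem e_9_s20 : chkW (extra.getD 9 1) 20 = true := by decide +kernel

theorem e_9 : ∀ j, j < 21 → chkW (extra.getD 9 1) j = true := by
  intro j hj
  interval_cases j
  exacts [e_9_s0, e_9_s1, e_9_s2, e_9_s3, e_9_s4, e_9_s5, e_9_s6, e_9_s7, e_9_s8, e_9_s9, e_9_s10, e_9_s11, e_9_s12, e_9_s13, e_9_s14, e_9_s15, e_9_s16, e_9_s17, e_9_s18, e_9_s19, e_9_s20]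

theorem e_10_s0 : chkW (extra.getD 10 1) 0 = true := by decide +kernel

theorem e_10_s1 : chkW (extra.getD 10 1) 1 = true := by decide +kernel

theorem e_10_s2 : chkW (extra.getD 10 1) 2 = true := by decide +kernel

theorem e_10_s3 : chkW (extra.getD 10 1) 3 = true := by decide +kernel

theorem e_10_s4 : chkW (extra.getD 10 1) 4 = true := by decide +kernel

theorem e_10_s5 : chkW (extra.getD 10 1) 5 = true := by decide +kernel

theorem e_10_s6 : chkW (extra.getD 10 1) 6 = true := by decide +kernel

theorem e_10_s7 : chkW (extra.getD 10 1) 7 = true := by decide +kernel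

theorem e_10_s8 : chkW (extra.getD 10 1) 8 = true := by decide +kernel

theorem e_10_s9 : chkW (extra.getD 10 1) 9 = true := by decide +kernel

theorem e_10_s10 : chkW (extra.getD 10 1) 10 = true := by decide +kernel

theorem e_10_s11 : chkW (extra.getD 10 1) 11 = true := by decide +kernel

theorem e_10_s12 : chkW (extra.getD 10 1) 12 = true := by decide +kernel

theorem e_10_s13 : chkW (extra.getD 10 1) 13 = true := by decide +kernel

theorem e_10_s14 : chkW (extra.getD 10 1) 14 = true := by decide +kernel

theorem e_10_s15 : chkW (extra.getD 10 1) 15 = true := by decide +kernel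

theorem e_10_s16 : chkW (extra.getD 10 1) 16 = true := by decide +kernel

theorem e_10_s17 : chkW (extra.getD 10 1) 17 = true := by decide +kernel

theorem e_10_s18 : chkW (extra.getD 10 1) 18 = true := by decide +kernel

theorem e_10_s19 : chkW (extra.getD 10 1) 19 = true := by decide +kernel

theorem e_10_s20 : chkW (extra.getD 10 1) 20 = true := by decide +kernel

theorem e_10 : ∀ j, j < 21 → chkW (extra.getD 10 1) j = true := by
  intro j hj
  interval_cases j
  exacts [e_10_s0, e_10_s1, e_10_s2, e_10_s3, e_10_s4, e_10_s5, e_10_s6, e_10_s7, e_10_s8, e_10_s9, e_10_s10, e_10_s11, e_10_s12, e_10_s13, e_10_s14, e_10_s15, e_10_s16, e_10_s17, e_10_s18, e_10_s19, e_10_s20]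

theorem e_11_s0 : chkW (extra.getD 11 1) 0 = true := by decide +kernel

theorem e_11_s1 : chkW (extra.getD 11 1) 1 = true := by decide +kernel

theorem e_11_s2 : chkW (extra.getD 11 1) 2 = true := by decide +kernel

theorem e_11_s3 : chkW (extra.getD 11 1) 3 = true := by decide +kernel

theorem e_11_s4 : chkW (extra.getD 11 1) 4 = true := by decide +kernel

theorem e_11_s5 : chkW (extra.getD 11 1) 5 = true := by decide +kernel

theorem e_11_s6 : chkW (extra.getD 11 1) 6 = true := by decide +kernel

theorem e_11_s7 : chkW (extra.getD 11 1) 7 = true := by decide +kernel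

theorem e_11_s8 : chkW (extra.getD 11 1) 8 = true := by decide +kernel

theorem e_11_s9 : chkW (extra.getD 11 1) 9 = true := by decide +kernel

theorem e_11_s10 : chkW (extra.getD 11 1) 10 = true := by decide +kernel

theorem e_11_s11 : chkW (extra.getD 11 1) 11 = true := by decide +kernel

theorem e_11_s12 : chkW (extra.getD 11 1) 12 = true := by decide +kernel

theorem e_11_s13 : chkW (extra.getD 11 1) 13 = true := by decide +kernel

theorem e_11_s14 : chkW (extra.getD 11 1) 14 = true := by decide +kernel

theorem e_11_s15 : chkW (extra.getD 11 1) 15 = true := by decide +kernel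

theorem e_11_s16 : chkW (extra.getD 11 1) 16 = true := by decide +kernel

theorem e_11_s17 : chkW (extra.getD 11 1) 17 = true := by decide +kernel

theorem e_11_s18 : chkW (extra.getD 11 1) 18 = true := by decide +kernel

theorem e_11_s19 : chkW (extra.getD 11 1) 19 = true := by decide +kernel

theorem e_11_s20 : chkW (extra.getD 11 1) 20 = true := by decide +kernel

theorem e_11 : ∀ j, j < 21 → chkW (extra.getD 11 1) j = true := by
  intro j hj
  interval_cases j
  exacts [e_11_s0, e_11_s1, e_11_s2, e_11_s3, e_11_s4, e_11_s5, e_11_s6, e_11_s7, e_11_s8, e_11_s9, e_11_s10, e_11_s11, e_11_s12, e_11_s13, e_11_s14, e_11_s15, e_11_s16, e_11_s17, e_11_s18, e_11_s19, e_11_s20]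

theorem e_12_s0 : chkW (extra.getD 12 1) 0 = true := by decide +kernel

theorem e_12_s1 : chkW (extra.getD 12 1) 1 = true := by decide +kernel

theorem e_12_s2 : chkW (extra.getD 12 1) 2 = true := by decide +kernel

theorem e_12_s3 : chkW (extra.getD 12 1) 3 = true := by decide +kernel

theorem e_12_s4 : chkW (extra.getD 12 1) 4 = true := by decide +kernel

theorem e_12_s5 : chkW (extra.getD 12 1) 5 = true := by decide +kernel

theorem e_12_s6 : chkW (extra.getD 12 1) 6 = true := by decide +kernel

theorem e_12_s7 : chkW (extra.getD 12 1) 7 = true := by decide +kernel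

theorem e_12_s8 : chkW (extra.getD 12 1) 8 = true := by decide +kernel

theorem e_12_s9 : chkW (extra.getD 12 1) 9 = true := by decide +kernel

theorem e_12_s10 : chkW (extra.getD 12 1) 10 = true := by decide +kernel

theorem e_12_s11 : chkW (extra.getD 12 1) 11 = true := by decide +kernel

theorem e_12_s12 : chkW (extra.getD 12 1) 12 = true := by decide +kernel

theorem e_12_s13 : chkW (extra.getD 12 1) 13 = true := by decide +kernel

theorem e_12_s14 : chkW (extra.getD 12 1) 14 = true := by decide +kernel

theorem e_12_s15 : chkW (extra.getD 12 1) 15 = true := by decide +kernel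

theorem e_12_s16 : chkW (extra.getD 12 1) 16 = true := by decide +kernel

theorem e_12_s17 : chkW (extra.getD 12 1) 17 = true := by decide +kernel

theorem e_12_s18 : chkW (extra.getD 12 1) 18 = true := by decide +kernel

theorem e_12_s19 : chkW (extra.getD 12 1) 19 = true := by decide +kernel

theorem e_12_s20 : chkW (extra.getD 12 1) 20 = true := by decide +kernel

theorem e_12 : ∀ j, j < 21 → chkW (extra.getD 12 1) j = true := by
  intro j hj
  interval_cases j
  exacts [e_12_s0, e_12_s1, e_12_s2, e_12_s3, e_12_s4, e_12_s5, e_12_s6, e_12_s7, e_12_s8, e_12_s9, e_12_s10, e_12_s11, e_12_s12, e_12_s13, e_12_s14, e_12_s15, e_12_s16, e_12_s17, e_12_s18, e_12_s19, e_12_s20]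

theorem e_13_s0 : chkW (extra.getD 13 1) 0 = true := by decide +kernel

theorem e_13_s1 : chkW (extra.getD 13 1) 1 = true := by decide +kernel

theorem e_13_s2 : chkW (extra.getD 13 1) 2 = true := by decide +kernel

theorem e_13_s3 : chkW (extra.getD 13 1) 3 = true := by decide +kernel

theorem e_13_s4 : chkW (extra.getD 13 1) 4 = true := by decide +kernel

theorem e_13_s5 : chkW (extra.getD 13 1) 5 = true := by decide +kernel

theorem e_13_s6 : chkW (extra.getD 13 1) 6 = true := by decide +kernel

theorem e_13_s7 : chkW (extra.getD 13 1) 7 = true := by decide +kernel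

theorem e_13_s8 : chkW (extra.getD 13 1) 8 = true := by decide +kernel

theorem e_13_s9 : chkW (extra.getD 13 1) 9 = true := by decide +kernel

theorem e_13_s10 : chkW (extra.getD 13 1) 10 = true := by decide +kernel

theorem e_13_s11 : chkW (extra.getD 13 1) 11 = true := by decide +kernel

theorem e_13_s12 : chkW (extra.getD 13 1) 12 = true := by decide +kernel

theorem e_13_s13 : chkW (extra.getD 13 1) 13 = true := by decide +kernel

theorem e_13_s14 : chkW (extra.getD 13 1) 14 = true := by decide +kernel

theorem e_13_s15 : chkW (extra.getD 13 1) 15 = true := by decide +kernel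

theorem e_13_s16 : chkW (extra.getD 13 1) 16 = true := by decide +kernel

theorem e_13_s17 : chkW (extra.getD 13 1) 17 = true := by decide +kernel

theorem e_13_s18 : chkW (extra.getD 13 1) 18 = true := by decide +kernel

theorem e_13_s19 : chkW (extra.getD 13 1) 19 = true := by decide +kernel

theorem e_13_s20 : chkW (extra.getD 13 1) 20 = true := by decide +kernel

theorem e_13 : ∀ j, j < 21 → chkW (extra.getD 13 1) j = true := by
  intro j hj
  interval_cases j
  exacts [e_13_s0, e_13_s1, e_13_s2, e_13_s3, e_13_s4, e_13_s5, e_13_s6, e_13_s7, e_13_s8, e_13_s9, e_13_s10, e_13_s11, e_13_s12, e_13_s13, e_13_s14, e_13_s15, e_13_s16, e_13_s17, e_13_s18, e_13_s19, e_13_s20]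

end Cfsg.Agent.TcData.HN.I1539000
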