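import Mathlib
import Cfsg.Agent.TcData.HN.I1539000.Blocks
import Cfsg.Agent.TcData.HNH.Fin

set_option autoImplicit false
set_option Elab.async false
set_option maxRecDepth 100000
set_option linter.all false

namespace Cfsg.Agent.TcData.HN.I1539000

open Cfsg.Spor Cfsg.Agent.Lib.TcFacts Cfsg.Agent.Lib.TcBits Cfsg.Agent.Lib.TcPres Cfsg.Spor.HN Cfsg.Agent.TcData.HN

theorem hRHRR : ∀ r ∈ Cfsg.Agent.TcData.HNH.RR, PresentedGroup.mk RR r = 1 :=
  Cfsg.Agent.Lib.TcLevels.mk_sub (by decide +kernel)

theorem hE : ∀ r ∈ extra2, PresentedGroup.mk RR r = 1 := by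
  intro r hr
  rcases List.mem_append.mp hr with h | h
  · rw [← Cfsg.Agent.Lib.TcAbs.piOf_mk hRHRR, Cfsg.Agent.TcData.HNH.Fin.hshort r h, map_one]
  · exact (QuotientGroup.eq_one_iff r).mpr (Subgroup.subset_normalClosure (Or.inr h))

theorem hrel : ∀ r ∈ relL, PresentedGroup.mk RR r = 1 :=
  Cfsg.Agent.Lib.TcLevels.relAll_nil_spec (PresentedGroup.mk RR) hE

theorem hb : ∀ a, a ≤ 7 → base a = true →
    a < 7 ∧ PresentedGroup.mk RR (gL.getD a 1) ∈ HH := by
  intro a _ h
  have h2 : a ∈ baseL := by simpa [base] using h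
  simp only [baseL, List.mem_cons, List.not_mem_nil, or_false] at h2
  rcases h2 with rfl | rfl | rfl
  exacts [⟨by decide, mem_map_closure (s := FreeGroup.of Gen.x) (by simp)⟩,
      ⟨by decide, mem_map_closure (s := FreeGroup.of Gen.y) (by simp)⟩,
      ⟨by decide, mem_map_closure (s := FreeGroup.of Gen.z) (by simp)⟩]

theorem hmac : ∀ s ∈ macros, PresentedGroup.mk RR s ∈ HH := by
  intro s hs
  simp [macros] at hs

theorem hRels : Rels = relL.map (fun r => encW enc r.toWord) ++
    (macroRels enc 7 macros ++ pairsOf enc gensL) := by decide +kernel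

theorem hw : ∀ k, k < 6848 →
    rotOK Rels 7 (decW 4 15 (50 + 1) (wd k)) (hint k) = true := by
  decide +kernel

theorem h1alive : aliveB ent 7 2097152 1 = true := by decide +kernel

theorem index_le' : HH.index ≠ 0 ∧ HH.index ≤ 1539000 :=
  index_le HH gL macros relL gensL enc (hℓ macros) hL hrel hmac ent pa wd side base
    7 2097151 21 38 1606399 4 15 8 50 131071 6848 2097152 16777216 1539000 hlen
    (by norm_num) hb Rels hRels hint hw (by norm_num) c6274 h1alive

end Cfsg.Agent.TcData.HN.I1539000
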