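import Mathlib
import Cfsg.Agent.TcData.HN.I1539000.Rep
import Cfsg.Agent.TcData.HN.I1539000.Up

set_option autoImplicit false
set_option Elab.async false
set_option maxRecDepth 100000
set_option linter.all false

namespace Cfsg.Agent.TcData.HN.I1539000

open Cfsg.Spor Cfsg.Agent.Lib.TcFacts Cfsg.Agent.Lib.TcBits Cfsg.Agent.Lib.TcPres Cfsg.Spor.HN Cfsg.Agent.TcData.HN

/-- The generators and inverses, in the free group. -/
noncomputable def gensFG : List (FreeGroup Gen) := [x, x⁻¹, y, y⁻¹, z, t, t⁻¹]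

theorem hgrow : grow pr (gensFG.map FreeGroup.toWord) 10 (2 ^ 0) = 2 ^ 1539000 - 1 := by decide +kernel

theorem hs : ∀ i, i < 1539000 → ∃ g, Phi g 0 = i := exists_of_grow hR hv gensFG hgrow

/-- The generators of the subgroup, as a list. -/
noncomputable def SL : List (FreeGroup Gen) := [x, y, z]

theorem hSL {Q : FreeGroup Gen → Prop} (hsl : ∀ s ∈ SL, Q s) : ∀ s ∈ SS, Q s := by
  intro s hs
  simp only [SS, Set.mem_insert_iff, Set.mem_singleton_iff] at hs
  rcases hs with rfl | rfl | rfl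
  exacts [hsl _ (by simp [SL]), hsl _ (by simp [SL]), hsl _ (by simp [SL])]

theorem hfixL : ∀ s ∈ SL, wordApply (sgnProg pr) s.toWord 1 = 1 := by decide +kernel

theorem hfix : ∀ h ∈ HH, Phi h 0 = 0 := fix_of_words hR hv (hSL hfixL)

theorem bij : HH.index = 1539000 ∧ Function.Injective (betaF HH Phi hfix) ∧
    (∀ q, betaF HH Phi hfix q < 1539000) ∧ ∀ i, i < 1539000 → ∃ q, betaF HH Phi hfix q = i :=
  index_eq_and_bij HH hfix index_le'.1 index_le'.2 hs

end Cfsg.Agent.TcData.HN.I1539000
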