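import Mathlib
import Cfsg.Agent.TcData.HN.I1539000.Rep1

set_option autoImplicit false
set_option Elab.async false
set_option maxRecDepth 100000
set_option linter.all false

namespace Cfsg.Agent.TcData.HN.I1539000

open Cfsg.Spor Cfsg.Agent.Lib.TcFacts Cfsg.Agent.Lib.TcBits Cfsg.Agent.Lib.TcPres Cfsg.Agent.Lib.TcChain Cfsg.Spor.HN Cfsg.Agent.TcData.HN

theorem habL_x : ∀ j, j < 21 → progApply (pr .x) (Nat.land (slice 21 j) (2 ^ (2 ^ 21) - 2 ^ 1539000)) =
    Nat.land (slice 21 j) (2 ^ (2 ^ 21) - 2 ^ 1539000) := by decide +kernel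

theorem habL_y : ∀ j, j < 21 → progApply (pr .y) (Nat.land (slice 21 j) (2 ^ (2 ^ 21) - 2 ^ 1539000)) =
    Nat.land (slice 21 j) (2 ^ (2 ^ 21) - 2 ^ 1539000) := by decide +kernel

theorem habL_z : ∀ j, j < 21 → progApply (pr .z) (Nat.land (slice 21 j) (2 ^ (2 ^ 21) - 2 ^ 1539000)) =
    Nat.land (slice 21 j) (2 ^ (2 ^ 21) - 2 ^ 1539000) := by decide +kernel

theorem habL_t : ∀ j, j < 21 → progApply (pr .t) (Nat.land (slice 21 j) (2 ^ (2 ^ 21) - 2 ^ 1539000)) =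
    Nat.land (slice 21 j) (2 ^ (2 ^ 21) - 2 ^ 1539000) := by decide +kernel

theorem habL : ∀ x ∈ gensL, ∀ j, j < 21 → progApply (pr x) (Nat.land (slice 21 j) (2 ^ (2 ^ 21) - 2 ^ 1539000)) =
    Nat.land (slice 21 j) (2 ^ (2 ^ 21) - 2 ^ 1539000) := by
  intro x hx
  simp only [gensL, List.mem_cons, List.not_mem_nil, or_false] at hx
  rcases hx with rfl | rfl | rfl | rfl
  exacts [habL_x, habL_y, habL_z, habL_t]

theorem hab : ∀ x, ∀ i, 1539000 ≤ i → progPerm (pr x) i = i :=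
  fix_above_gen (by norm_num) (by norm_num) hv gensL (by intro x; cases x <;> decide) habL

end Cfsg.Agent.TcData.HN.I1539000
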