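import Mathlib
import Cfsg.Agent.TcData.HN.I1539000.Rep1

set_option autoImplicit false
set_option Elab.async false
set_option maxRecDepth 100000
set_option linter.all false

namespace Cfsg.Agent.TcData.HN.I1539000

open Cfsg.Spor Cfsg.Agent.Lib.TcFacts Cfsg.Agent.Lib.TcBits Cfsg.Agent.Lib.TcPres Cfsg.Spor.HN Cfsg.Agent.TcData.HN

/-- Words of the subgroup, with inverses. -/
noncomputable def rsH : List (FreeGroup Gen) := [x, x⁻¹, y, y⁻¹, z]

theorem hrsH : ∀ r ∈ rsH, PresentedGroup.mk RR r ∈ HH := by
  have hx : PresentedGroup.mk RR x ∈ HH := mem_map_closure (by simp)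
  have hy : PresentedGroup.mk RR y ∈ HH := mem_map_closure (by simp)
  have hz : PresentedGroup.mk RR z ∈ HH := mem_map_closure (by simp)
  intro r hr
  simp only [rsH, List.mem_cons, List.not_mem_nil, or_false] at hr
  rcases hr with rfl | rfl | rfl | rfl | rfl
  · exact hx
  · rw [map_inv]; exact HH.inv_mem hx
  · exact hy
  · rw [map_inv]; exact HH.inv_mem hy
  · exact hz

end Cfsg.Agent.TcData.HN.I1539000
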