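import Mathlib
import Cfsg.Agent.TcData.HN.I1539000.Rep1

set_option autoImplicit false
set_option Elab.async false
set_option maxRecDepth 100000
set_option linter.all false

namespace Cfsg.Agent.TcData.HN.I1539000

open Cfsg.Spor Cfsg.Agent.Lib.TcFacts Cfsg.Agent.Lib.TcBits Cfsg.Agent.Lib.TcPres Cfsg.Spor.HN Cfsg.Agent.TcData.HN

/-- The element of order a power of the prime. -/
noncomputable def xW : FreeGroup Gen := x * y * y * z * y⁻¹ * t

theorem hx0 : wordApply (sgnProg pr) (xW ^ (19 ^ 1)).toWord (slice 21 0) = slice 21 0 := by decide +kernel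

theorem hx1 : wordApply (sgnProg pr) (xW ^ (19 ^ 1)).toWord (slice 21 1) = slice 21 1 := by decide +kernel

theorem hx2 : wordApply (sgnProg pr) (xW ^ (19 ^ 1)).toWord (slice 21 2) = slice 21 2 := by decide +kernel

theorem hx3 : wordApply (sgnProg pr) (xW ^ (19 ^ 1)).toWord (slice 21 3) = slice 21 3 := by decide +kernel

theorem hx4 : wordApply (sgnProg pr) (xW ^ (19 ^ 1)).toWord (slice 21 4) = slice 21 4 := by decide +kernel

theorem hx5 : wordApply (sgnProg pr) (xW ^ (19 ^ 1)).toWord (slice 21 5) = slice 21 5 := by decide +kernel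

theorem hx6 : wordApply (sgnProg pr) (xW ^ (19 ^ 1)).toWord (slice 21 6) = slice 21 6 := by decide +kernel

theorem hx7 : wordApply (sgnProg pr) (xW ^ (19 ^ 1)).toWord (slice 21 7) = slice 21 7 := by decide +kernel

theorem hx8 : wordApply (sgnProg pr) (xW ^ (19 ^ 1)).toWord (slice 21 8) = slice 21 8 := by decide +kernel

theorem hx9 : wordApply (sgnProg pr) (xW ^ (19 ^ 1)).toWord (slice 21 9) = slice 21 9 := by decide +kernel

theorem hx10 : wordApply (sgnProg pr) (xW ^ (19 ^ 1)).toWord (slice 21 10) = slice 21 10 := by decide +kernel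

theorem hx11 : wordApply (sgnProg pr) (xW ^ (19 ^ 1)).toWord (slice 21 11) = slice 21 11 := by decide +kernel

theorem hx12 : wordApply (sgnProg pr) (xW ^ (19 ^ 1)).toWord (slice 21 12) = slice 21 12 := by decide +kernel

theorem hx13 : wordApply (sgnProg pr) (xW ^ (19 ^ 1)).toWord (slice 21 13) = slice 21 13 := by decide +kernel

theorem hx14 : wordApply (sgnProg pr) (xW ^ (19 ^ 1)).toWord (slice 21 14) = slice 21 14 := by decide +kernel

theorem hx15 : wordApply (sgnProg pr) (xW ^ (19 ^ 1)).toWord (slice 21 15) = slice 21 15 := by decide +kernel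

theorem hx16 : wordApply (sgnProg pr) (xW ^ (19 ^ 1)).toWord (slice 21 16) = slice 21 16 := by decide +kernel

theorem hx17 : wordApply (sgnProg pr) (xW ^ (19 ^ 1)).toWord (slice 21 17) = slice 21 17 := by decide +kernel

theorem hx18 : wordApply (sgnProg pr) (xW ^ (19 ^ 1)).toWord (slice 21 18) = slice 21 18 := by decide +kernel

theorem hx19 : wordApply (sgnProg pr) (xW ^ (19 ^ 1)).toWord (slice 21 19) = slice 21 19 := by decide +kernel

theorem hx20 : wordApply (sgnProg pr) (xW ^ (19 ^ 1)).toWord (slice 21 20) = slice 21 20 := by decide +kernel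

theorem hxSl : ∀ j, j < 21 → wordApply (sgnProg pr) (xW ^ (19 ^ 1)).toWord (slice 21 j) = slice 21 j := by
  intro j hj
  interval_cases j
  exacts [hx0, hx1, hx2, hx3, hx4, hx5, hx6, hx7, hx8, hx9, hx10, hx11, hx12, hx13, hx14, hx15, hx16, hx17, hx18, hx19, hx20]

end Cfsg.Agent.TcData.HN.I1539000
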