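import Cfsg.Agent.Lib.TcFacts

set_option autoImplicit false
set_option Elab.async false
set_option maxRecDepth 100000
set_option linter.all false

namespace Cfsg.Agent.TcData.HN.I1539000

open Cfsg.Agent.Lib.TcFacts

/-- A part of a table. -/
noncomputable def PH15 : Tr := (.node (.node (.node (.node (.node (.node (.node (.node (.node (.leaf (nat_lit 0x219b)) (.leaf (nat_lit 0x100507f))) (.node (.leaf (nat_lit 0x21c2)) (.leaf (nat_lit 0x5337)))) (.node (.node (.leaf (nat_lit 0xb1e9)) (.leaf (nat_lit 0x10031c4))) (.node (.leaf (nat_lit 0x1003065)) (.leaf (nat_lit 0x0))))) (.node (.node (.node (.leaf (nat_lit 0x32a1)) (.leaf (nat_lit 0x613b))) (.node (.leaf (nat_lit 0x10011c6)) (.leaf (nat_lit 0xa21a)))) (.node (.node (.leaf (nat_lit 0x3013)) (.leaf (nat_lit 0x100c162))) (.node (.leaf (nat_lit 0x1005065)) (.leaf (nat_lit 0x0)))))) (.node (.node (.node (.node (.leaf (nat_lit 0x30e3)) (.leaf (nat_lit 0x31e3))) (.node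 (.leaf (nat_lit 0x100a0f3)) (.leaf (nat_lit 0x100e15f)))) (.node (.node (.leaf (nat_lit 0x607a)) (.leaf (nat_lit 0x200))) (.node (.leaf (nat_lit 0x100d083)) (.leaf (nat_lit 0x0))))) (.node (.node (.node (.leaf (nat_lit 0xd2b1)) (.leaf (nat_lit 0x1001004))) (.node (.leaf (nat_lit 0x7117)) (.leaf (nat_lit 0x0)))) (.node (.node (.leaf (nat_lit 0x211b)) (.leaf (nat_lit 0xa208))) (.node (.leaf (nat_lit 0x5064)) (.leaf (nat_lit 0x0))))))) (.node (.node (.node (.node (.node (.leaf (nat_lit 0x400f)) (.leaf (nat_lit 0x100e16f))) (.node (.leaf (nat_lit 0x100327f)) (.leaf (nat_lit 0x71d4)))) (.node (.node (.leaf (nat_lit 0x100202e)) (.leaf (nat_lit 0x9126))) (.node (.leaf (nat_lit 0x11b0)) (.leaf (nat_lit 0x0))))) (.node (.node (.node (.leaf (nat_lit 0x60)) (.leaf (nat_lit 0x41ce))) (.node (.leaf (nat_lit 0x1000026)) (.leaf (nat_lit 0x50ed)))) (.node (.node (.leaf (nat_lit 0x10071e0)) (.leaf (nat_lit 0xc08b))) (.node (.leaf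 (nat_lit 0x9217)) (.leaf (nat_lit 0x0)))))) (.node (.node (.node (.node (.leaf (nat_lit 0x502b)) (.leaf (nat_lit 0x100c2a2))) (.node (.leaf (nat_lit 0xc116)) (.leaf (nat_lit 0x10051c0)))) (.node (.node (.leaf (nat_lit 0x100a336)) (.leaf (nat_lit 0x70fb))) (.node (.leaf (nat_lit 0x100c0f3)) (.leaf (nat_lit 0x0))))) (.node (.node (.node (.leaf (nat_lit 0x702a)) (.leaf (nat_lit 0x10000eb))) (.node (.leaf (nat_lit 0x1000110)) (.leaf (nat_lit 0x0)))) (.node (.node (.leaf (nat_lit 0x10060fb)) (.leaf (nat_lit 0xb08f))) (.node (.leaf (nat_lit 0x1006011)) (.leaf (nat_lit 0x0)))))))) (.node (.node (.node (.node (.node (.node (.leaf (nat_lit 0x702e)) (.leaf (nat_lit 0x1068))) (.node (.leaf (nat_lit 0xc0ea)) (.leaf (nat_lit 0xf18b)))) (.node (.node (.leaf (nat_lit 0xb069)) (.leaf (nat_lit 0x401f))) (.node (.leaf (nat_lit 0x100e117)) (.leaf (nat_lit 0x0))))) (.node (.node (.node (.leaf (nat_lit 0x16)) (.leaf (nat_lit 0x100b2f6)))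 (.node (.leaf (nat_lit 0x90e7)) (.leaf (nat_lit 0x1c337)))) (.node (.node (.leaf (nat_lit 0x6069)) (.leaf (nat_lit 0x100a0cf))) (.node (.leaf (nat_lit 0x22af)) (.leaf (nat_lit 0x0)))))) (.node (.node (.node (.node (.leaf (nat_lit 0x1002142)) (.leaf (nat_lit 0x10052af))) (.node (.leaf (nat_lit 0x4200)) (.leaf (nat_lit 0x20a9)))) (.node (.node (.leaf (nat_lit 0x11ed)) (.leaf (nat_lit 0xd115))) (.node (.leaf (nat_lit 0x100906f)) (.leaf (nat_lit 0x0))))) (.node (.node (.node (.leaf (nat_lit 0x1091)) (.leaf (nat_lit 0x10030d2))) (.node (.leaf (nat_lit 0x41d0)) (.leaf (nat_lit 0x0)))) (.node (.node (.leaf (nat_lit 0x7111)) (.leaf (nat_lit 0x81c7))) (.node (.leaf (nat_lit 0x1009214)) (.leaf (nat_lit 0x0))))))) (.node (.node (.node (.node (.node (.leaf (nat_lit 0x21a2)) (.leaf (nat_lit 0x1007028))) (.node (.leaf (nat_lit 0x100a220)) (.leaf (nat_lit 0x26337)))) (.node (.node (.leaf (nat_lit 0x627f)) (.leaf (nat_lit 0xb085)))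 (.node (.leaf (nat_lit 0x1001218)) (.leaf (nat_lit 0x0))))) (.node (.node (.node (.leaf (nat_lit 0x10002b2)) (.leaf (nat_lit 0x100c298))) (.node (.leaf (nat_lit 0x1e337)) (.leaf (nat_lit 0x0)))) (.node (.node (.leaf (nat_lit 0x1000336)) (.leaf (nat_lit 0x40ad))) (.node (.leaf (nat_lit 0x100004b)) (.leaf (nat_lit 0x0)))))) (.node (.node (.node (.node (.leaf (nat_lit 0xb074)) (.leaf (nat_lit 0x603c))) (.node (.leaf (nat_lit 0x41c9)) (.leaf (nat_lit 0x100827e)))) (.node (.node (.leaf (nat_lit 0xb0dd)) (.leaf (nat_lit 0x1006137))) (.node (.leaf (nat_lit 0x100428f)) (.leaf (nat_lit 0x0))))) (.node (.node (.node (.leaf (nat_lit 0x209d)) (.leaf (nat_lit 0x100d0c9))) (.node (.leaf (nat_lit 0x8189)) (.leaf (nat_lit 0x0)))) (.node (.node (.leaf (nat_lit 0x1006013)) (.leaf (nat_lit 0x100513a))) (.node (.leaf (nat_lit 0x92b0)) (.leaf (nat_lit 0x0))))))))) (.node (.node (.node (.node (.node (.node (.node (.leaf (nat_lit 0xd198))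 (.leaf (nat_lit 0x100327b))) (.node (.leaf (nat_lit 0x21b9)) (.leaf (nat_lit 0x9205)))) (.node (.node (.leaf (nat_lit 0x514f)) (.leaf (nat_lit 0x100d0e1))) (.node (.leaf (nat_lit 0x732b)) (.leaf (nat_lit 0x0))))) (.node (.node (.node (.leaf (nat_lit 0x9030)) (.leaf (nat_lit 0x10041b1))) (.node (.leaf (nat_lit 0x10040f6)) (.leaf (nat_lit 0x1004189)))) (.node (.node (.leaf (nat_lit 0xa0e5)) (.leaf (nat_lit 0x7222))) (.node (.leaf (nat_lit 0x6024)) (.leaf (nat_lit 0x0)))))) (.node (.node (.node (.node (.leaf (nat_lit 0x100c0e3)) (.leaf (nat_lit 0x130d))) (.node (.leaf (nat_lit 0x10001af)) (.leaf (nat_lit 0x10010f6)))) (.node (.node (.leaf (nat_lit 0x9207)) (.leaf (nat_lit 0x41de))) (.node (.leaf (nat_lit 0x6111)) (.leaf (nat_lit 0x0))))) (.node (.node (.node (.leaf (nat_lit 0x2071)) (.leaf (nat_lit 0x41f7))) (.node (.leaf (nat_lit 0x1004026)) (.leaf (nat_lit 0x0)))) (.node (.node (.leaf (nat_lit 0x1004067)) (.leaf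 (nat_lit 0x1007229))) (.node (.leaf (nat_lit 0x320d)) (.leaf (nat_lit 0x0))))))) (.node (.node (.node (.node (.node (.leaf (nat_lit 0x2193)) (.leaf (nat_lit 0x701a))) (.node (.leaf (nat_lit 0x1007200)) (.leaf (nat_lit 0x818d)))) (.node (.node (.leaf (nat_lit 0xb10c)) (.leaf (nat_lit 0x246))) (.node (.leaf (nat_lit 0x10012ac)) (.leaf (nat_lit 0x0))))) (.node (.node (.node (.leaf (nat_lit 0x41a8)) (.leaf (nat_lit 0x100906e))) (.node (.leaf (nat_lit 0xa0f4)) (.leaf (nat_lit 0x82d4)))) (.node (.node (.leaf (nat_lit 0x40ff)) (.leaf (nat_lit 0x4161))) (.node (.leaf (nat_lit 0x100a2ac)) (.leaf (nat_lit 0x0)))))) (.node (.node (.node (.node (.leaf (nat_lit 0xa1f0)) (.leaf (nat_lit 0x5267))) (.node (.leaf (nat_lit 0x100305f)) (.leaf (nat_lit 0xd178)))) (.node (.node (.leaf (nat_lit 0x3074)) (.leaf (nat_lit 0x71ca))) (.node (.leaf (nat_lit 0x10041ae)) (.leaf (nat_lit 0x0))))) (.node (.node (.node (.leaf (nat_lit 0x100c0e5))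 (.leaf (nat_lit 0x10012d8))) (.node (.leaf (nat_lit 0x5206)) (.leaf (nat_lit 0x0)))) (.node (.node (.leaf (nat_lit 0x100c110)) (.leaf (nat_lit 0x212))) (.node (.leaf (nat_lit 0xe2f7)) (.leaf (nat_lit 0x0)))))))) (.node (.node (.node (.node (.node (.node (.leaf (nat_lit 0x100a05e)) (.leaf (nat_lit 0x2298))) (.node (.leaf (nat_lit 0x5107)) (.leaf (nat_lit 0xb089)))) (.node (.node (.leaf (nat_lit 0x10040f4)) (.leaf (nat_lit 0x9138))) (.node (.leaf (nat_lit 0x322b)) (.leaf (nat_lit 0x0))))) (.node (.node (.node (.leaf (nat_lit 0x629b)) (.leaf (nat_lit 0xa18b))) (.node (.leaf (nat_lit 0x2292)) (.leaf (nat_lit 0x10011e8)))) (.node (.node (.leaf (nat_lit 0x7014)) (.leaf (nat_lit 0x8187))) (.node (.leaf (nat_lit 0x32a4)) (.leaf (nat_lit 0x0)))))) (.node (.node (.node (.node (.leaf (nat_lit 0xc10c)) (.leaf (nat_lit 0x1003012))) (.node (.leaf (nat_lit 0x92af)) (.leaf (nat_lit 0x604d)))) (.node (.node (.leaf (nat_lit 0x100a20f))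 (.leaf (nat_lit 0xb1e5))) (.node (.leaf (nat_lit 0x10071e8)) (.leaf (nat_lit 0x0))))) (.node (.node (.node (.leaf (nat_lit 0x100033a)) (.leaf (nat_lit 0x1006286))) (.node (.leaf (nat_lit 0x1298)) (.leaf (nat_lit 0x0)))) (.node (.node (.leaf (nat_lit 0xb06d)) (.leaf (nat_lit 0x72af))) (.node (.leaf (nat_lit 0xd0e1)) (.leaf (nat_lit 0x0))))))) (.node (.node (.node (.node (.node (.leaf (nat_lit 0x6009)) (.leaf (nat_lit 0x52a0))) (.node (.leaf (nat_lit 0x10082a1)) (.leaf (nat_lit 0x611b)))) (.node (.node (.leaf (nat_lit 0xb214)) (.leaf (nat_lit 0x516f))) (.node (.leaf (nat_lit 0x228b)) (.leaf (nat_lit 0x0))))) (.node (.node (.node (.leaf (nat_lit 0x101f)) (.leaf (nat_lit 0xb181))) (.node (.leaf (nat_lit 0x100a28e)) (.leaf (nat_lit 0x0)))) (.node (.node (.leaf (nat_lit 0xa077)) (.leaf (nat_lit 0x100c177))) (.node (.leaf (nat_lit 0xa03c)) (.leaf (nat_lit 0x0)))))) (.node (.node (.node (.node (.leaf (nat_lit 0x100a06e))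 (.leaf (nat_lit 0x2021))) (.node (.leaf (nat_lit 0x41ae)) (.leaf (nat_lit 0x7070)))) (.node (.node (.leaf (nat_lit 0x5309)) (.leaf (nat_lit 0x1003042))) (.node (.leaf (nat_lit 0x627e)) (.leaf (nat_lit 0x0))))) (.node (.node (.node (.leaf (nat_lit 0x11ff)) (.leaf (nat_lit 0x9295))) (.node (.leaf (nat_lit 0x1007011)) (.leaf (nat_lit 0x0)))) (.node (.node (.leaf (nat_lit 0x10000e1)) (.leaf (nat_lit 0x10062af))) (.node (.leaf (nat_lit 0x7040)) (.leaf (nat_lit 0x0)))))))))) (.node (.node (.node (.node (.node (.node (.node (.node (.leaf (nat_lit 0x10dd)) (.leaf (nat_lit 0x1009207))) (.node (.leaf (nat_lit 0x1006298)) (.leaf (nat_lit 0xc26e)))) (.node (.node (.leaf (nat_lit 0x6078)) (.leaf (nat_lit 0x60fa))) (.node (.leaf (nat_lit 0x100128e)) (.leaf (nat_lit 0x0))))) (.node (.node (.node (.leaf (nat_lit 0x10198)) (.leaf (nat_lit 0x10041f2))) (.node (.leaf (nat_lit 0x10031fc)) (.leaf (nat_lit 0x8286)))) (.node (.node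 (.leaf (nat_lit 0x2189)) (.leaf (nat_lit 0x10060d1))) (.node (.leaf (nat_lit 0x8037)) (.leaf (nat_lit 0x0)))))) (.node (.node (.node (.node (.leaf (nat_lit 0x1006198)) (.leaf (nat_lit 0x40f0))) (.node (.leaf (nat_lit 0x11a8)) (.leaf (nat_lit 0x3091)))) (.node (.node (.leaf (nat_lit 0x70cf)) (.leaf (nat_lit 0x10050a1))) (.node (.leaf (nat_lit 0x8054)) (.leaf (nat_lit 0x0))))) (.node (.node (.node (.leaf (nat_lit 0x60bb)) (.leaf (nat_lit 0x10071b7))) (.node (.leaf (nat_lit 0xf130)) (.leaf (nat_lit 0x0)))) (.node (.node (.leaf (nat_lit 0x51a1)) (.leaf (nat_lit 0x1000115))) (.node (.leaf (nat_lit 0x100b0ee)) (.leaf (nat_lit 0x0))))))) (.node (.node (.node (.node (.node (.leaf (nat_lit 0x70e3)) (.leaf (nat_lit 0x1000210))) (.node (.leaf (nat_lit 0x81cc)) (.leaf (nat_lit 0x61e3)))) (.node (.node (.leaf (nat_lit 0xa113)) (.leaf (nat_lit 0xe2b4))) (.node (.leaf (nat_lit 0x1009076)) (.leaf (nat_lit 0x0))))) (.node (.node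 (.node (.leaf (nat_lit 0x100219c)) (.leaf (nat_lit 0x100301c))) (.node (.leaf (nat_lit 0x100220a)) (.leaf (nat_lit 0x3233)))) (.node (.node (.leaf (nat_lit 0x21aa)) (.leaf (nat_lit 0x1001221))) (.node (.leaf (nat_lit 0x804c)) (.leaf (nat_lit 0x0)))))) (.node (.node (.node (.node (.leaf (nat_lit 0xd0f6)) (.leaf (nat_lit 0x8058))) (.node (.leaf (nat_lit 0x3299)) (.leaf (nat_lit 0xa1ed)))) (.node (.node (.leaf (nat_lit 0xd29e)) (.leaf (nat_lit 0x61bb))) (.node (.leaf (nat_lit 0x100510f)) (.leaf (nat_lit 0x0))))) (.node (.node (.node (.leaf (nat_lit 0x20d3)) (.leaf (nat_lit 0x100a1eb))) (.node (.leaf (nat_lit 0xa052)) (.leaf (nat_lit 0x0)))) (.node (.node (.leaf (nat_lit 0x1000107)) (.leaf (nat_lit 0x5031))) (.node (.leaf (nat_lit 0x10041ca)) (.leaf (nat_lit 0x0)))))))) (.node (.node (.node (.node (.node (.node (.leaf (nat_lit 0x5004)) (.leaf (nat_lit 0x100d2ed))) (.node (.leaf (nat_lit 0x1004170)) (.leaf (nat_lit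 0x27337)))) (.node (.node (.leaf (nat_lit 0x100b066)) (.leaf (nat_lit 0x10071b4))) (.node (.leaf (nat_lit 0x620a)) (.leaf (nat_lit 0x0))))) (.node (.node (.node (.leaf (nat_lit 0x1001193)) (.leaf (nat_lit 0x11fc))) (.node (.leaf (nat_lit 0x11ad)) (.leaf (nat_lit 0xa176)))) (.node (.node (.leaf (nat_lit 0xb288)) (.leaf (nat_lit 0x70ea))) (.node (.leaf (nat_lit 0x10060e3)) (.leaf (nat_lit 0x0)))))) (.node (.node (.node (.node (.leaf (nat_lit 0x1198)) (.leaf (nat_lit 0x3075))) (.node (.leaf (nat_lit 0x7019)) (.leaf (nat_lit 0x1009040)))) (.node (.node (.leaf (nat_lit 0x400d)) (.leaf (nat_lit 0x1e3))) (.node (.leaf (nat_lit 0x110d)) (.leaf (nat_lit 0x0))))) (.node (.node (.node (.leaf (nat_lit 0x70e8)) (.leaf (nat_lit 0x100502a))) (.node (.leaf (nat_lit 0x10012b5)) (.leaf (nat_lit 0x0)))) (.node (.node (.leaf (nat_lit 0x10011fd)) (.leaf (nat_lit 0x6115))) (.node (.leaf (nat_lit 0x1003103)) (.leaf (nat_lit 0x0)))))))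 (.node (.node (.node (.node (.node (.leaf (nat_lit 0x63)) (.leaf (nat_lit 0x102a199))) (.node (.leaf (nat_lit 0x1001100)) (.leaf (nat_lit 0x100220f)))) (.node (.node (.leaf (nat_lit 0x921a)) (.leaf (nat_lit 0x10050e8))) (.node (.leaf (nat_lit 0x100c0f5)) (.leaf (nat_lit 0x0))))) (.node (.node (.node (.leaf (nat_lit 0x100729a)) (.leaf (nat_lit 0xa0f9))) (.node (.leaf (nat_lit 0x1006104)) (.leaf (nat_lit 0x0)))) (.node (.node (.leaf (nat_lit 0x80cf)) (.leaf (nat_lit 0x102c337))) (.node (.leaf (nat_lit 0x4071)) (.leaf (nat_lit 0x0)))))) (.node (.node (.node (.node (.leaf (nat_lit 0x66)) (.leaf (nat_lit 0x1029199))) (.node (.leaf (nat_lit 0xd100)) (.leaf (nat_lit 0xd2a4)))) (.node (.node (.leaf (nat_lit 0x51c8)) (.leaf (nat_lit 0x10051a9))) (.node (.leaf (nat_lit 0xa27c)) (.leaf (nat_lit 0x0))))) (.node (.node (.node (.leaf (nat_lit 0x607e)) (.leaf (nat_lit 0x100f150))) (.node (.leaf (nat_lit 0x199)) (.leaf (nat_lit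 0x0)))) (.node (.node (.leaf (nat_lit 0xf160)) (.leaf (nat_lit 0x8126))) (.node (.leaf (nat_lit 0x5040)) (.leaf (nat_lit 0x0))))))))) (.node (.node (.node (.node (.node (.node (.node (.leaf (nat_lit 0x119b)) (.leaf (nat_lit 0x2103))) (.node (.leaf (nat_lit 0x100510b)) (.leaf (nat_lit 0x1085)))) (.node (.node (.leaf (nat_lit 0x920d)) (.leaf (nat_lit 0x2101))) (.node (.leaf (nat_lit 0x814d)) (.leaf (nat_lit 0x0))))) (.node (.node (.node (.leaf (nat_lit 0x100906b)) (.leaf (nat_lit 0x4153))) (.node (.leaf (nat_lit 0x1006008)) (.leaf (nat_lit 0x60d3)))) (.node (.node (.leaf (nat_lit 0x100c0e2)) (.leaf (nat_lit 0x1007282))) (.node (.leaf (nat_lit 0x1003284)) (.leaf (nat_lit 0x0)))))) (.node (.node (.node (.node (.leaf (nat_lit 0x4245)) (.leaf (nat_lit 0x10060f2))) (.node (.leaf (nat_lit 0x1002104)) (.leaf (nat_lit 0x8171)))) (.node (.node (.leaf (nat_lit 0x407e)) (.leaf (nat_lit 0x3123))) (.node (.leaf (nat_lit 0xd28b))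 (.leaf (nat_lit 0x0))))) (.node (.node (.node (.leaf (nat_lit 0x4193)) (.leaf (nat_lit 0x1000031))) (.node (.leaf (nat_lit 0x29337)) (.leaf (nat_lit 0x0)))) (.node (.node (.leaf (nat_lit 0x701c)) (.leaf (nat_lit 0xa0bd))) (.node (.leaf (nat_lit 0x3036)) (.leaf (nat_lit 0x0))))))) (.node (.node (.node (.node (.node (.leaf (nat_lit 0x8110)) (.leaf (nat_lit 0x100a0e3))) (.node (.leaf (nat_lit 0x8029)) (.leaf (nat_lit 0x222)))) (.node (.node (.leaf (nat_lit 0x1003002)) (.leaf (nat_lit 0x100e13f))) (.node (.leaf (nat_lit 0x100510a)) (.leaf (nat_lit 0x0))))) (.node (.node (.node (.leaf (nat_lit 0x5027)) (.leaf (nat_lit 0x803e))) (.node (.leaf (nat_lit 0xb116)) (.leaf (nat_lit 0x100c2fd)))) (.node (.node (.leaf (nat_lit 0xb13b)) (.leaf (nat_lit 0xa173))) (.node (.leaf (nat_lit 0x10061a7)) (.leaf (nat_lit 0x0)))))) (.node (.node (.node (.node (.leaf (nat_lit 0x10040fd)) (.leaf (nat_lit 0x1000291))) (.node (.leaf (nat_lit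 0xb044)) (.leaf (nat_lit 0xd181)))) (.node (.node (.leaf (nat_lit 0x1008201)) (.leaf (nat_lit 0x1133))) (.node (.leaf (nat_lit 0x10011a4)) (.leaf (nat_lit 0x0))))) (.node (.node (.node (.leaf (nat_lit 0x1009336)) (.leaf (nat_lit 0x10000c3))) (.node (.leaf (nat_lit 0x120c)) (.leaf (nat_lit 0x0)))) (.node (.node (.leaf (nat_lit 0x11aa)) (.leaf (nat_lit 0x110f))) (.node (.leaf (nat_lit 0x1002071)) (.leaf (nat_lit 0x0)))))))) (.node (.node (.node (.node (.node (.node (.leaf (nat_lit 0x1b0)) (.leaf (nat_lit 0x4336))) (.node (.leaf (nat_lit 0x10070f6)) (.leaf (nat_lit 0x20f8)))) (.node (.node (.leaf (nat_lit 0x1007012)) (.leaf (nat_lit 0xd22b))) (.node (.leaf (nat_lit 0x1002079)) (.leaf (nat_lit 0x0))))) (.node (.node (.node (.leaf (nat_lit 0x1001199)) (.leaf (nat_lit 0x10070dc))) (.node (.leaf (nat_lit 0x8021)) (.leaf (nat_lit 0xa16b)))) (.node (.node (.leaf (nat_lit 0x1000332)) (.leaf (nat_lit 0x21df))) (.node (.leaf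 (nat_lit 0xc0e5)) (.leaf (nat_lit 0x0)))))) (.node (.node (.node (.node (.leaf (nat_lit 0xb1ff)) (.leaf (nat_lit 0x71ec))) (.node (.leaf (nat_lit 0x4040)) (.leaf (nat_lit 0x80f9)))) (.node (.node (.leaf (nat_lit 0x3200)) (.leaf (nat_lit 0x80ed))) (.node (.leaf (nat_lit 0x10030c1)) (.leaf (nat_lit 0x0))))) (.node (.node (.node (.leaf (nat_lit 0x111)) (.leaf (nat_lit 0xf337))) (.node (.leaf (nat_lit 0x100410c)) (.leaf (nat_lit 0x0)))) (.node (.node (.leaf (nat_lit 0x1007082)) (.leaf (nat_lit 0x10042d7))) (.node (.leaf (nat_lit 0x2007)) (.leaf (nat_lit 0x0))))))) (.node (.node (.node (.node (.node (.leaf (nat_lit 0x100f336)) (.leaf (nat_lit 0x6099))) (.node (.leaf (nat_lit 0x5259)) (.leaf (nat_lit 0x40f7)))) (.node (.node (.leaf (nat_lit 0x1001114)) (.leaf (nat_lit 0x1009044))) (.node (.leaf (nat_lit 0x10021ed)) (.leaf (nat_lit 0x0))))) (.node (.node (.node (.leaf (nat_lit 0xd2ab)) (.leaf (nat_lit 0x3199))) (.node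 (.leaf (nat_lit 0x10021e4)) (.leaf (nat_lit 0x0)))) (.node (.node (.leaf (nat_lit 0x70db)) (.leaf (nat_lit 0x100600a))) (.node (.leaf (nat_lit 0x2d337)) (.leaf (nat_lit 0x0)))))) (.node (.node (.node (.node (.leaf (nat_lit 0x100b101)) (.leaf (nat_lit 0x31b5))) (.node (.leaf (nat_lit 0x8281)) (.leaf (nat_lit 0x10081d7)))) (.node (.node (.leaf (nat_lit 0xc294)) (.leaf (nat_lit 0x100604b))) (.node (.leaf (nat_lit 0x1008284)) (.leaf (nat_lit 0x0))))) (.node (.node (.node (.leaf (nat_lit 0xb100)) (.leaf (nat_lit 0x721f))) (.node (.leaf (nat_lit 0xb139)) (.leaf (nat_lit 0x0)))) (.node (.node (.leaf (nat_lit 0x100d0eb)) (.leaf (nat_lit 0x50e0))) (.node (.leaf (nat_lit 0x402f)) (.leaf (nat_lit 0x0)))))))))))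

end Cfsg.Agent.TcData.HN.I1539000
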