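import Cfsg.Agent.Lib.TcFacts

set_option autoImplicit false
set_option Elab.async false
set_option maxRecDepth 100000
set_option linter.all false

namespace Cfsg.Agent.TcData.HN.I1539000

open Cfsg.Agent.Lib.TcFacts

/-- A part of a table. -/
noncomputable def PH6 : Tr := (.node (.node (.node (.node (.node (.node (.node (.node (.node (.leaf (nat_lit 0x319b)) (.leaf (nat_lit 0xa07f))) (.node (.leaf (nat_lit 0xc2af)) (.leaf (nat_lit 0x6270)))) (.node (.node (.leaf (nat_lit 0x100729e)) (.leaf (nat_lit 0x100c10d))) (.node (.leaf (nat_lit 0x20f6)) (.leaf (nat_lit 0x0))))) (.node (.node (.node (.leaf (nat_lit 0x100c0fe)) (.leaf (nat_lit 0x62ca))) (.node (.leaf (nat_lit 0xd7)) (.leaf (nat_lit 0x609a)))) (.node (.node (.leaf (nat_lit 0x100d082)) (.leaf (nat_lit 0x100804b))) (.node (.leaf (nat_lit 0xa28c)) (.leaf (nat_lit 0x0)))))) (.node (.node (.node (.node (.leaf (nat_lit 0x404c)) (.leaf (nat_lit 0x1210))) (.node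 (.leaf (nat_lit 0xa28e)) (.leaf (nat_lit 0xd13b)))) (.node (.node (.leaf (nat_lit 0x2113)) (.leaf (nat_lit 0x10000e9))) (.node (.leaf (nat_lit 0x10062aa)) (.leaf (nat_lit 0x0))))) (.node (.node (.node (.leaf (nat_lit 0x2010)) (.leaf (nat_lit 0x9047))) (.node (.leaf (nat_lit 0x10021b4)) (.leaf (nat_lit 0x0)))) (.node (.node (.leaf (nat_lit 0x500e)) (.leaf (nat_lit 0x310d))) (.node (.leaf (nat_lit 0x1005193)) (.leaf (nat_lit 0x0))))))) (.node (.node (.node (.node (.node (.leaf (nat_lit 0x200c)) (.leaf (nat_lit 0x10070e2))) (.node (.leaf (nat_lit 0x282)) (.leaf (nat_lit 0x50ad)))) (.node (.node (.leaf (nat_lit 0x606e)) (.leaf (nat_lit 0x632b))) (.node (.leaf (nat_lit 0x8055)) (.leaf (nat_lit 0x0))))) (.node (.node (.node (.leaf (nat_lit 0x5255)) (.leaf (nat_lit 0x51a8))) (.node (.leaf (nat_lit 0xe13b)) (.leaf (nat_lit 0x82da)))) (.node (.node (.leaf (nat_lit 0x5277)) (.leaf (nat_lit 0x100702c))) (.node (.leaf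 (nat_lit 0x100902a)) (.leaf (nat_lit 0x0)))))) (.node (.node (.node (.node (.leaf (nat_lit 0x10031a4)) (.leaf (nat_lit 0x4044))) (.node (.leaf (nat_lit 0x100929e)) (.leaf (nat_lit 0x100600d)))) (.node (.node (.leaf (nat_lit 0x710e)) (.leaf (nat_lit 0x627b))) (.node (.leaf (nat_lit 0x1002271)) (.leaf (nat_lit 0x0))))) (.node (.node (.node (.leaf (nat_lit 0xc0dd)) (.leaf (nat_lit 0xdf))) (.node (.leaf (nat_lit 0xb0c7)) (.leaf (nat_lit 0x0)))) (.node (.node (.leaf (nat_lit 0x10070f2)) (.leaf (nat_lit 0x1048))) (.node (.leaf (nat_lit 0xf4)) (.leaf (nat_lit 0x0)))))))) (.node (.node (.node (.node (.node (.node (.leaf (nat_lit 0x1001)) (.leaf (nat_lit 0x805c))) (.node (.leaf (nat_lit 0x1000214)) (.leaf (nat_lit 0xd295)))) (.node (.node (.leaf (nat_lit 0xc2b0)) (.leaf (nat_lit 0x706a))) (.node (.leaf (nat_lit 0x8298)) (.leaf (nat_lit 0x0))))) (.node (.node (.node (.leaf (nat_lit 0x10011d0)) (.leaf (nat_lit 0x10032a4)))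 (.node (.leaf (nat_lit 0x1000043)) (.leaf (nat_lit 0x1d3)))) (.node (.node (.leaf (nat_lit 0x1012198)) (.leaf (nat_lit 0x304b))) (.node (.leaf (nat_lit 0x100b26d)) (.leaf (nat_lit 0x0)))))) (.node (.node (.node (.node (.leaf (nat_lit 0x10010fd)) (.leaf (nat_lit 0xd189))) (.node (.leaf (nat_lit 0x1001285)) (.leaf (nat_lit 0x10020fa)))) (.node (.node (.leaf (nat_lit 0xd0d6)) (.leaf (nat_lit 0x631a))) (.node (.leaf (nat_lit 0x4029)) (.leaf (nat_lit 0x0))))) (.node (.node (.node (.leaf (nat_lit 0x320a)) (.leaf (nat_lit 0x1009049))) (.node (.leaf (nat_lit 0x610a)) (.leaf (nat_lit 0x0)))) (.node (.node (.leaf (nat_lit 0x420a)) (.leaf (nat_lit 0xb078))) (.node (.leaf (nat_lit 0x902e)) (.leaf (nat_lit 0x0))))))) (.node (.node (.node (.node (.node (.leaf (nat_lit 0x4195)) (.leaf (nat_lit 0x10050fb))) (.node (.leaf (nat_lit 0x2280)) (.leaf (nat_lit 0x1007115)))) (.node (.node (.leaf (nat_lit 0x100c138)) (.leaf (nat_lit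 0x100028d))) (.node (.leaf (nat_lit 0xb16d)) (.leaf (nat_lit 0x0))))) (.node (.node (.node (.leaf (nat_lit 0x406c)) (.leaf (nat_lit 0x50b7))) (.node (.leaf (nat_lit 0x10071da)) (.leaf (nat_lit 0x0)))) (.node (.node (.leaf (nat_lit 0x4112)) (.leaf (nat_lit 0x1004041))) (.node (.leaf (nat_lit 0x14a)) (.leaf (nat_lit 0x0)))))) (.node (.node (.node (.node (.leaf (nat_lit 0x70b7)) (.leaf (nat_lit 0x100521b))) (.node (.leaf (nat_lit 0x1f199)) (.leaf (nat_lit 0x5305)))) (.node (.node (.leaf (nat_lit 0x41e2)) (.leaf (nat_lit 0x41dc))) (.node (.leaf (nat_lit 0x8113)) (.leaf (nat_lit 0x0))))) (.node (.node (.node (.leaf (nat_lit 0xd2a0)) (.leaf (nat_lit 0xc0f7))) (.node (.leaf (nat_lit 0x100d27b)) (.leaf (nat_lit 0x0)))) (.node (.node (.leaf (nat_lit 0x1006081)) (.leaf (nat_lit 0xa0cb))) (.node (.leaf (nat_lit 0x20c)) (.leaf (nat_lit 0x0))))))))) (.node (.node (.node (.node (.node (.node (.node (.leaf (nat_lit 0x20fd))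 (.leaf (nat_lit 0x10002b5))) (.node (.leaf (nat_lit 0x11e1)) (.leaf (nat_lit 0x100001c)))) (.node (.node (.leaf (nat_lit 0x6052)) (.leaf (nat_lit 0x200d))) (.node (.leaf (nat_lit 0x1007030)) (.leaf (nat_lit 0x0))))) (.node (.node (.node (.leaf (nat_lit 0x70c7)) (.leaf (nat_lit 0x10061a4))) (.node (.leaf (nat_lit 0x427c)) (.leaf (nat_lit 0x100b0e5)))) (.node (.node (.leaf (nat_lit 0x100a0ee)) (.leaf (nat_lit 0x10002d8))) (.node (.leaf (nat_lit 0x1003099)) (.leaf (nat_lit 0x0)))))) (.node (.node (.node (.node (.leaf (nat_lit 0x10082ad)) (.leaf (nat_lit 0x815d))) (.node (.leaf (nat_lit 0x100d114)) (.leaf (nat_lit 0x60c3)))) (.node (.node (.leaf (nat_lit 0x100721f)) (.leaf (nat_lit 0x1003107))) (.node (.leaf (nat_lit 0x5234)) (.leaf (nat_lit 0x0))))) (.node (.node (.node (.leaf (nat_lit 0x8131)) (.leaf (nat_lit 0x1009046))) (.node (.leaf (nat_lit 0x911b)) (.leaf (nat_lit 0x0)))) (.node (.node (.leaf (nat_lit 0x5273))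 (.leaf (nat_lit 0x302c))) (.node (.leaf (nat_lit 0x7160)) (.leaf (nat_lit 0x0))))))) (.node (.node (.node (.node (.node (.leaf (nat_lit 0xd0e3)) (.leaf (nat_lit 0x1007102))) (.node (.leaf (nat_lit 0x100413a)) (.leaf (nat_lit 0x10082b1)))) (.node (.node (.leaf (nat_lit 0xd2af)) (.leaf (nat_lit 0x11b8))) (.node (.leaf (nat_lit 0x90af)) (.leaf (nat_lit 0x0))))) (.node (.node (.node (.leaf (nat_lit 0x1000081)) (.leaf (nat_lit 0x116))) (.node (.leaf (nat_lit 0x8116)) (.leaf (nat_lit 0x61e4)))) (.node (.node (.leaf (nat_lit 0xf189)) (.leaf (nat_lit 0x100004e))) (.node (.leaf (nat_lit 0x1072)) (.leaf (nat_lit 0x0)))))) (.node (.node (.node (.node (.leaf (nat_lit 0x27e)) (.leaf (nat_lit 0x414f))) (.node (.leaf (nat_lit 0xf336)) (.leaf (nat_lit 0x100c083)))) (.node (.node (.leaf (nat_lit 0x10081fd)) (.leaf (nat_lit 0xc28b))) (.node (.leaf (nat_lit 0x60f3)) (.leaf (nat_lit 0x0))))) (.node (.node (.node (.leaf (nat_lit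 0x100b082)) (.leaf (nat_lit 0x70f9))) (.node (.leaf (nat_lit 0xc298)) (.leaf (nat_lit 0x0)))) (.node (.node (.leaf (nat_lit 0x9014)) (.leaf (nat_lit 0xa127))) (.node (.leaf (nat_lit 0x100721a)) (.leaf (nat_lit 0x0)))))))) (.node (.node (.node (.node (.node (.node (.leaf (nat_lit 0xb1fe)) (.leaf (nat_lit 0x10041c7))) (.node (.leaf (nat_lit 0x1007111)) (.leaf (nat_lit 0x1000045)))) (.node (.node (.leaf (nat_lit 0x300b)) (.leaf (nat_lit 0x311f))) (.node (.leaf (nat_lit 0x1009067)) (.leaf (nat_lit 0x0))))) (.node (.node (.node (.leaf (nat_lit 0x1007103)) (.leaf (nat_lit 0x11ac))) (.node (.leaf (nat_lit 0x10051df)) (.leaf (nat_lit 0x524e)))) (.node (.node (.leaf (nat_lit 0x40e0)) (.leaf (nat_lit 0xc0ab))) (.node (.leaf (nat_lit 0x10012f6)) (.leaf (nat_lit 0x0)))))) (.node (.node (.node (.node (.leaf (nat_lit 0x10012af)) (.leaf (nat_lit 0x10041a4))) (.node (.leaf (nat_lit 0x11a0)) (.leaf (nat_lit 0x30a5)))) (.node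 (.node (.leaf (nat_lit 0x804f)) (.leaf (nat_lit 0x1009284))) (.node (.leaf (nat_lit 0xa073)) (.leaf (nat_lit 0x0))))) (.node (.node (.node (.leaf (nat_lit 0x40)) (.leaf (nat_lit 0x1004036))) (.node (.leaf (nat_lit 0xb20d)) (.leaf (nat_lit 0x0)))) (.node (.node (.leaf (nat_lit 0x510c)) (.leaf (nat_lit 0x1005213))) (.node (.leaf (nat_lit 0x11199)) (.leaf (nat_lit 0x0))))))) (.node (.node (.node (.node (.node (.leaf (nat_lit 0xb198)) (.leaf (nat_lit 0x61d9))) (.node (.leaf (nat_lit 0x20199)) (.leaf (nat_lit 0x100a1dc)))) (.node (.node (.leaf (nat_lit 0x80ab)) (.leaf (nat_lit 0x10e7))) (.node (.leaf (nat_lit 0x1000066)) (.leaf (nat_lit 0x0))))) (.node (.node (.node (.leaf (nat_lit 0x61a9)) (.leaf (nat_lit 0x13198))) (.node (.leaf (nat_lit 0x21ed)) (.leaf (nat_lit 0x0)))) (.node (.node (.leaf (nat_lit 0xb07e)) (.leaf (nat_lit 0x70ba))) (.node (.leaf (nat_lit 0x10001ed)) (.leaf (nat_lit 0x0)))))) (.node (.node (.node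 (.node (.leaf (nat_lit 0x10042af)) (.leaf (nat_lit 0x1003046))) (.node (.leaf (nat_lit 0x100b06d)) (.leaf (nat_lit 0x8177)))) (.node (.node (.leaf (nat_lit 0x31c1)) (.leaf (nat_lit 0x100806f))) (.node (.leaf (nat_lit 0x100d08f)) (.leaf (nat_lit 0x0))))) (.node (.node (.node (.leaf (nat_lit 0xa0dd)) (.leaf (nat_lit 0x100714f))) (.node (.leaf (nat_lit 0xe199)) (.leaf (nat_lit 0x0)))) (.node (.node (.leaf (nat_lit 0x5160)) (.leaf (nat_lit 0xb0c2))) (.node (.leaf (nat_lit 0x1007064)) (.leaf (nat_lit 0x0)))))))))) (.node (.node (.node (.node (.node (.node (.node (.node (.leaf (nat_lit 0x133a)) (.leaf (nat_lit 0x4079))) (.node (.leaf (nat_lit 0x6064)) (.leaf (nat_lit 0x80f1)))) (.node (.node (.leaf (nat_lit 0x10021fd)) (.leaf (nat_lit 0x10022a7))) (.node (.leaf (nat_lit 0xa0b5)) (.leaf (nat_lit 0x0))))) (.node (.node (.node (.leaf (nat_lit 0x31a1)) (.leaf (nat_lit 0x1169))) (.node (.leaf (nat_lit 0x7020)) (.leaf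 (nat_lit 0x158)))) (.node (.node (.leaf (nat_lit 0x100d112)) (.leaf (nat_lit 0x414e))) (.node (.leaf (nat_lit 0xc0f1)) (.leaf (nat_lit 0x0)))))) (.node (.node (.node (.node (.leaf (nat_lit 0x1003008)) (.leaf (nat_lit 0x10072a2))) (.node (.leaf (nat_lit 0x328c)) (.leaf (nat_lit 0x10042a8)))) (.node (.node (.leaf (nat_lit 0x601f)) (.leaf (nat_lit 0xc0bb))) (.node (.leaf (nat_lit 0x6110)) (.leaf (nat_lit 0x0))))) (.node (.node (.node (.leaf (nat_lit 0x600a)) (.leaf (nat_lit 0xa0bb))) (.node (.leaf (nat_lit 0x2044)) (.leaf (nat_lit 0x0)))) (.node (.node (.leaf (nat_lit 0x27)) (.leaf (nat_lit 0x11b4))) (.node (.leaf (nat_lit 0x7043)) (.leaf (nat_lit 0x0))))))) (.node (.node (.node (.node (.node (.leaf (nat_lit 0xd2a2)) (.leaf (nat_lit 0x5029))) (.node (.leaf (nat_lit 0xa04e)) (.leaf (nat_lit 0x100f158)))) (.node (.node (.leaf (nat_lit 0x7110)) (.leaf (nat_lit 0x41ea))) (.node (.leaf (nat_lit 0x91e5)) (.leaf (nat_lit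 0x0))))) (.node (.node (.node (.leaf (nat_lit 0x1004002)) (.leaf (nat_lit 0x1000014))) (.node (.leaf (nat_lit 0xe8)) (.leaf (nat_lit 0xc106)))) (.node (.node (.leaf (nat_lit 0x7113)) (.leaf (nat_lit 0xc160))) (.node (.leaf (nat_lit 0x1000071)) (.leaf (nat_lit 0x0)))))) (.node (.node (.node (.node (.leaf (nat_lit 0x1009070)) (.leaf (nat_lit 0x10051fc))) (.node (.leaf (nat_lit 0xa131)) (.leaf (nat_lit 0xc0c7)))) (.node (.node (.leaf (nat_lit 0x10020fd)) (.leaf (nat_lit 0x91b4))) (.node (.leaf (nat_lit 0x11b5)) (.leaf (nat_lit 0x0))))) (.node (.node (.node (.leaf (nat_lit 0x10080fc)) (.leaf (nat_lit 0x230d))) (.node (.leaf (nat_lit 0x802b)) (.leaf (nat_lit 0x0)))) (.node (.node (.leaf (nat_lit 0x1006063)) (.leaf (nat_lit 0x62d6))) (.node (.leaf (nat_lit 0x31b6)) (.leaf (nat_lit 0x0)))))))) (.node (.node (.node (.node (.node (.node (.leaf (nat_lit 0x21a0)) (.leaf (nat_lit 0x100204a))) (.node (.leaf (nat_lit 0x5116))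 (.leaf (nat_lit 0x7224)))) (.node (.node (.leaf (nat_lit 0x227f)) (.leaf (nat_lit 0x10051ce))) (.node (.leaf (nat_lit 0x10051cb)) (.leaf (nat_lit 0x0))))) (.node (.node (.node (.leaf (nat_lit 0x100d2b2)) (.leaf (nat_lit 0x1007273))) (.node (.leaf (nat_lit 0x61a4)) (.leaf (nat_lit 0x10060f9)))) (.node (.node (.leaf (nat_lit 0x100a0fd)) (.leaf (nat_lit 0x501d))) (.node (.leaf (nat_lit 0x10081ba)) (.leaf (nat_lit 0x0)))))) (.node (.node (.node (.node (.leaf (nat_lit 0x1a7)) (.leaf (nat_lit 0x628a))) (.node (.leaf (nat_lit 0x290)) (.leaf (nat_lit 0x90db)))) (.node (.node (.leaf (nat_lit 0x1003080)) (.leaf (nat_lit 0xa26f))) (.node (.leaf (nat_lit 0xd0d5)) (.leaf (nat_lit 0x0))))) (.node (.node (.node (.leaf (nat_lit 0x100133b)) (.leaf (nat_lit 0xb11b))) (.node (.leaf (nat_lit 0x60d2)) (.leaf (nat_lit 0x0)))) (.node (.node (.leaf (nat_lit 0x32af)) (.leaf (nat_lit 0x90b7))) (.node (.leaf (nat_lit 0xd28d)) (.leaf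 (nat_lit 0x0))))))) (.node (.node (.node (.node (.node (.leaf (nat_lit 0x70d2)) (.leaf (nat_lit 0x9201))) (.node (.leaf (nat_lit 0x402c)) (.leaf (nat_lit 0x100d177)))) (.node (.node (.leaf (nat_lit 0x100804f)) (.leaf (nat_lit 0x811a))) (.node (.leaf (nat_lit 0x8336)) (.leaf (nat_lit 0x0))))) (.node (.node (.node (.leaf (nat_lit 0x1003010)) (.leaf (nat_lit 0xc103))) (.node (.leaf (nat_lit 0x70ef)) (.leaf (nat_lit 0x0)))) (.node (.node (.leaf (nat_lit 0x707d)) (.leaf (nat_lit 0x4089))) (.node (.leaf (nat_lit 0x621a)) (.leaf (nat_lit 0x0)))))) (.node (.node (.node (.node (.leaf (nat_lit 0x292)) (.leaf (nat_lit 0x26199))) (.node (.leaf (nat_lit 0x100c0df)) (.leaf (nat_lit 0x100120c)))) (.node (.node (.leaf (nat_lit 0x610d)) (.leaf (nat_lit 0x70ab))) (.node (.leaf (nat_lit 0x100001d)) (.leaf (nat_lit 0x0))))) (.node (.node (.node (.leaf (nat_lit 0x606c)) (.leaf (nat_lit 0x4064))) (.node (.leaf (nat_lit 0x100a27c))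 (.leaf (nat_lit 0x0)))) (.node (.node (.leaf (nat_lit 0x100b104)) (.leaf (nat_lit 0x81ce))) (.node (.leaf (nat_lit 0x1006214)) (.leaf (nat_lit 0x0))))))))) (.node (.node (.node (.node (.node (.node (.node (.leaf (nat_lit 0x81)) (.leaf (nat_lit 0x10031a5))) (.node (.leaf (nat_lit 0x507c)) (.leaf (nat_lit 0x303f)))) (.node (.node (.leaf (nat_lit 0x1006082)) (.leaf (nat_lit 0x8087))) (.node (.leaf (nat_lit 0xa2d8)) (.leaf (nat_lit 0x0))))) (.node (.node (.node (.leaf (nat_lit 0xb106)) (.leaf (nat_lit 0x1ec))) (.node (.leaf (nat_lit 0x1000170)) (.leaf (nat_lit 0x5101)))) (.node (.node (.leaf (nat_lit 0xd28f)) (.leaf (nat_lit 0x12a1))) (.node (.leaf (nat_lit 0x1000034)) (.leaf (nat_lit 0x0)))))) (.node (.node (.node (.node (.leaf (nat_lit 0x1a8)) (.leaf (nat_lit 0x82b0))) (.node (.leaf (nat_lit 0x10ea)) (.leaf (nat_lit 0x100828a)))) (.node (.node (.leaf (nat_lit 0x1000002)) (.leaf (nat_lit 0x100b28b))) (.node (.leaf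 (nat_lit 0x804a)) (.leaf (nat_lit 0x0))))) (.node (.node (.node (.leaf (nat_lit 0xa081)) (.leaf (nat_lit 0x3165))) (.node (.leaf (nat_lit 0xa1d9)) (.leaf (nat_lit 0x0)))) (.node (.node (.leaf (nat_lit 0xb20a)) (.leaf (nat_lit 0x208))) (.node (.leaf (nat_lit 0x100028c)) (.leaf (nat_lit 0x0))))))) (.node (.node (.node (.node (.node (.leaf (nat_lit 0x40fd)) (.leaf (nat_lit 0x100a06d))) (.node (.leaf (nat_lit 0xa068)) (.leaf (nat_lit 0x720b)))) (.node (.node (.leaf (nat_lit 0x8067)) (.leaf (nat_lit 0x5046))) (.node (.leaf (nat_lit 0x10031b7)) (.leaf (nat_lit 0x0))))) (.node (.node (.node (.leaf (nat_lit 0x1001339)) (.leaf (nat_lit 0x100c185))) (.node (.leaf (nat_lit 0x80bf)) (.leaf (nat_lit 0x115b)))) (.node (.node (.leaf (nat_lit 0x1007336)) (.leaf (nat_lit 0x10021c6))) (.node (.leaf (nat_lit 0x2015)) (.leaf (nat_lit 0x0)))))) (.node (.node (.node (.node (.leaf (nat_lit 0x8198)) (.leaf (nat_lit 0x100e116))) (.node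 (.leaf (nat_lit 0x404a)) (.leaf (nat_lit 0x509b)))) (.node (.node (.leaf (nat_lit 0x100a0fb)) (.leaf (nat_lit 0x100e177))) (.node (.leaf (nat_lit 0x100b0f6)) (.leaf (nat_lit 0x0))))) (.node (.node (.node (.leaf (nat_lit 0x100b20e)) (.leaf (nat_lit 0x90de))) (.node (.leaf (nat_lit 0x1000207)) (.leaf (nat_lit 0x0)))) (.node (.node (.leaf (nat_lit 0x73)) (.leaf (nat_lit 0x100a203))) (.node (.leaf (nat_lit 0x1000205)) (.leaf (nat_lit 0x0)))))))) (.node (.node (.node (.node (.node (.node (.leaf (nat_lit 0x1195)) (.leaf (nat_lit 0x10030fb))) (.node (.leaf (nat_lit 0x704b)) (.leaf (nat_lit 0x6282)))) (.node (.node (.leaf (nat_lit 0x1008112)) (.leaf (nat_lit 0x6262))) (.node (.leaf (nat_lit 0x100c299)) (.leaf (nat_lit 0x0))))) (.node (.node (.node (.leaf (nat_lit 0x11af)) (.leaf (nat_lit 0x22a3))) (.node (.leaf (nat_lit 0x10062ac)) (.leaf (nat_lit 0xa0c5)))) (.node (.node (.leaf (nat_lit 0xb2a2)) (.leaf (nat_lit 0x412f)))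 (.node (.leaf (nat_lit 0x5a)) (.leaf (nat_lit 0x0)))))) (.node (.node (.node (.node (.leaf (nat_lit 0x100c082)) (.leaf (nat_lit 0x80ff))) (.node (.leaf (nat_lit 0x100705f)) (.leaf (nat_lit 0x40ef)))) (.node (.node (.leaf (nat_lit 0xb0e1)) (.leaf (nat_lit 0xc089))) (.node (.leaf (nat_lit 0x100b114)) (.leaf (nat_lit 0x0))))) (.node (.node (.node (.leaf (nat_lit 0x616d)) (.leaf (nat_lit 0x100204c))) (.node (.leaf (nat_lit 0x17199)) (.leaf (nat_lit 0x0)))) (.node (.node (.leaf (nat_lit 0xc110)) (.leaf (nat_lit 0x6090))) (.node (.leaf (nat_lit 0x1003291)) (.leaf (nat_lit 0x0))))))) (.node (.node (.node (.node (.node (.leaf (nat_lit 0x5195)) (.leaf (nat_lit 0x1003070))) (.node (.leaf (nat_lit 0x6b)) (.leaf (nat_lit 0x90a8)))) (.node (.node (.leaf (nat_lit 0x1279)) (.leaf (nat_lit 0x10072ec))) (.node (.leaf (nat_lit 0xf3)) (.leaf (nat_lit 0x0))))) (.node (.node (.node (.leaf (nat_lit 0xb104)) (.leaf (nat_lit 0xe2d8)))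 (.node (.leaf (nat_lit 0x10e4)) (.leaf (nat_lit 0x0)))) (.node (.node (.leaf (nat_lit 0x100b0db)) (.leaf (nat_lit 0x100a086))) (.node (.leaf (nat_lit 0x100d29e)) (.leaf (nat_lit 0x0)))))) (.node (.node (.node (.node (.leaf (nat_lit 0x10040fa)) (.leaf (nat_lit 0xe2b6))) (.node (.leaf (nat_lit 0x1000012)) (.leaf (nat_lit 0xd14f)))) (.node (.node (.leaf (nat_lit 0x9052)) (.leaf (nat_lit 0x5038))) (.node (.leaf (nat_lit 0x61c8)) (.leaf (nat_lit 0x0))))) (.node (.node (.node (.leaf (nat_lit 0x930d)) (.leaf (nat_lit 0x100315f))) (.node (.leaf (nat_lit 0x100227b)) (.leaf (nat_lit 0x0)))) (.node (.node (.leaf (nat_lit 0x1001294)) (.leaf (nat_lit 0x20d6))) (.node (.leaf (nat_lit 0x3099)) (.leaf (nat_lit 0x0)))))))))))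

end Cfsg.Agent.TcData.HN.I1539000
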