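import Cfsg.Agent.Lib.TcFacts

set_option autoImplicit false
set_option Elab.async false
set_option maxRecDepth 100000
set_option linter.all false

namespace Cfsg.Agent.TcData.HN.I1539000

open Cfsg.Agent.Lib.TcFacts

/-- A part of a table. -/
noncomputable def PW12 : Tr := (.node (.node (.node (.node (.node (.node (.node (.node (.node (.leaf (nat_lit 0x66162)) (.leaf (nat_lit 0x532413545253248))) (.node (.leaf (nat_lit 0x3232244535423545)) (.leaf (nat_lit 0x2244452513338)))) (.node (.node (.leaf (nat_lit 0x532245228)) (.leaf (nat_lit 0x52545441133531))) (.node (.leaf (nat_lit 0x53541352413542)) (.leaf (nat_lit 0x0))))) (.node (.node (.node (.leaf (nat_lit 0x45314515354231)) (.leaf (nat_lit 0x24522532))) (.node (.leaf (nat_lit 0x2451315451358)) (.leaf (nat_lit 0x535423145314518)))) (.node (.node (.leaf (nat_lit 0x51153224)) (.leaf (nat_lit 0x14131425324235))) (.node (.leaf (nat_lit 0x14513141325413)) (.leaf (nat_lit 0x0)))))) (.node (.node (.node (.node (.leaf (nat_lit 0x44245313313542)) (.leaf (nat_lit 0x351415315451))) (.node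 (.leaf (nat_lit 0x4135453131144535)) (.leaf (nat_lit 0x452325415351)))) (.node (.node (.leaf (nat_lit 0x51518)) (.leaf (nat_lit 0x24535245324253))) (.node (.leaf (nat_lit 0x5132542532548)) (.leaf (nat_lit 0x0))))) (.node (.node (.node (.leaf (nat_lit 0x23515453141354)) (.leaf (nat_lit 0x513224528))) (.node (.leaf (nat_lit 0x45354135453131148)) (.leaf (nat_lit 0x0)))) (.node (.node (.leaf (nat_lit 0x5145231545138)) (.leaf (nat_lit 0x4411333522548))) (.node (.leaf (nat_lit 0x15423545135423)) (.leaf (nat_lit 0x0))))))) (.node (.node (.node (.node (.node (.leaf (nat_lit 0x52354511535451)) (.leaf (nat_lit 0x425314135241328))) (.node (.leaf (nat_lit 0x324135141324258)) (.leaf (nat_lit 0x13354223544525)))) (.node (.node (.leaf (nat_lit 0x45131313335444242413131333544424241313133354442428)) (.leaf (nat_lit 0x3542235425158))) (.node (.leaf (nat_lit 0x35311454441133)) (.leaf (nat_lit 0x0))))) (.node (.node (.node (.leaf (nat_lit 0x14135452531453)) (.leaf (nat_lit 0x41135311458))) (.node (.leaf (nat_lit 0x2354532453544113)) (.leaf (nat_lit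 0x52413242532423)))) (.node (.node (.leaf (nat_lit 0x411353311445)) (.leaf (nat_lit 0x5354242233545324))) (.node (.leaf (nat_lit 0x5332244532248)) (.leaf (nat_lit 0x0)))))) (.node (.node (.node (.node (.leaf (nat_lit 0x23245153141314)) (.leaf (nat_lit 0x4511535444113335))) (.node (.leaf (nat_lit 0x314525354131458)) (.leaf (nat_lit 0x1544223325)))) (.node (.node (.leaf (nat_lit 0x14235425354135)) (.leaf (nat_lit 0x14525354131453))) (.node (.leaf (nat_lit 0x14453114533525)) (.leaf (nat_lit 0x0))))) (.node (.node (.node (.leaf (nat_lit 0x23154131451314)) (.leaf (nat_lit 0x53114545311453))) (.node (.leaf (nat_lit 0x315415352415)) (.leaf (nat_lit 0x0)))) (.node (.node (.leaf (nat_lit 0x413514135415358)) (.leaf (nat_lit 0x513524523254))) (.node (.leaf (nat_lit 0x5322453152548)) (.leaf (nat_lit 0x0)))))))) (.node (.node (.node (.node (.node (.node (.leaf (nat_lit 0x413141314132)) (.leaf (nat_lit 0x33311444118))) (.node (.leaf (nat_lit 0x324513142315428)) (.leaf (nat_lit 0x51533531145442)))) (.node (.node (.leaf (nat_lit 0x511535411354))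 (.leaf (nat_lit 0x33351154441525))) (.node (.leaf (nat_lit 0x1535115425)) (.leaf (nat_lit 0x0))))) (.node (.node (.node (.leaf (nat_lit 0x444242444242444242444242)) (.leaf (nat_lit 0x245352453242538))) (.node (.leaf (nat_lit 0x441133531145)) (.leaf (nat_lit 0x1153544411333545)))) (.node (.node (.leaf (nat_lit 0x42424423115413313135)) (.leaf (nat_lit 0x5115354441133354))) (.node (.leaf (nat_lit 0x351423541535428)) (.leaf (nat_lit 0x0)))))) (.node (.node (.node (.node (.leaf (nat_lit 0x111453541354538)) (.leaf (nat_lit 0x4535423545318))) (.node (.leaf (nat_lit 0x13242531413524)) (.leaf (nat_lit 0x144522533525)))) (.node (.node (.leaf (nat_lit 0x4535451535453222)) (.leaf (nat_lit 0x5333224441528))) (.node (.leaf (nat_lit 0x13242314515314)) (.leaf (nat_lit 0x0))))) (.node (.node (.node (.leaf (nat_lit 0x4535413545313114)) (.leaf (nat_lit 0x113545152354))) (.node (.leaf (nat_lit 0x424532332354248)) (.leaf (nat_lit 0x0)))) (.node (.node (.leaf (nat_lit 0x3311414535413545)) (.leaf (nat_lit 0x54152535441133))) (.node (.leaf (nat_lit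 0x141314253141358)) (.leaf (nat_lit 0x0))))))) (.node (.node (.node (.node (.node (.leaf (nat_lit 0x514513154153)) (.leaf (nat_lit 0x45131413254131))) (.node (.leaf (nat_lit 0x2545311453158)) (.leaf (nat_lit 0x511533515244)))) (.node (.node (.leaf (nat_lit 0x33224422)) (.leaf (nat_lit 0x542351545314138))) (.node (.leaf (nat_lit 0x5442233511)) (.leaf (nat_lit 0x0))))) (.node (.node (.node (.leaf (nat_lit 0x54135423145351)) (.leaf (nat_lit 0x245324253245358))) (.node (.leaf (nat_lit 0x35425354235141)) (.leaf (nat_lit 0x0)))) (.node (.node (.leaf (nat_lit 0x52314232541314)) (.leaf (nat_lit 0x253524253154))) (.node (.leaf (nat_lit 0x524531145351)) (.leaf (nat_lit 0x0)))))) (.node (.node (.node (.node (.leaf (nat_lit 0x31423154232451)) (.leaf (nat_lit 0x5454113535451153))) (.node (.leaf (nat_lit 0x413545311145358)) (.leaf (nat_lit 0x3544411333545115)))) (.node (.node (.leaf (nat_lit 0x45115322)) (.leaf (nat_lit 0x23545324535442238))) (.node (.leaf (nat_lit 0x5251442233)) (.leaf (nat_lit 0x0))))) (.node (.node (.node (.leaf (nat_lit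 0x131333131333131333131333)) (.leaf (nat_lit 0x5452352452318))) (.node (.leaf (nat_lit 0x4513524153518)) (.leaf (nat_lit 0x0)))) (.node (.node (.leaf (nat_lit 0x54113152)) (.leaf (nat_lit 0x3531145453251545))) (.node (.leaf (nat_lit 0x1145353511545453)) (.leaf (nat_lit 0x0))))))))) (.node (.node (.node (.node (.node (.node (.node (.leaf (nat_lit 0x54135453515453)) (.leaf (nat_lit 0x4541135322))) (.node (.leaf (nat_lit 0x5424113354532453)) (.leaf (nat_lit 0x23254131452314)))) (.node (.node (.leaf (nat_lit 0x541113545314538)) (.leaf (nat_lit 0x513542315423548))) (.node (.leaf (nat_lit 0x423514132425318)) (.leaf (nat_lit 0x0))))) (.node (.node (.node (.leaf (nat_lit 0x452354531545358)) (.leaf (nat_lit 0x3154523514518))) (.node (.leaf (nat_lit 0x51354231542354)) (.leaf (nat_lit 0x23254235452354)))) (.node (.node (.leaf (nat_lit 0x35241314253142)) (.leaf (nat_lit 0x41314523142325))) (.node (.leaf (nat_lit 0x451354231542358)) (.leaf (nat_lit 0x0)))))) (.node (.node (.node (.node (.leaf (nat_lit 0x241314253241358)) (.leaf (nat_lit 0x3541113545352545)))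 (.node (.leaf (nat_lit 0x53242351413241)) (.leaf (nat_lit 0x5154545322453532)))) (.node (.node (.leaf (nat_lit 0x5352425325418)) (.leaf (nat_lit 0x5444242425313133354442424231313335444242423131333))) (.node (.leaf (nat_lit 0x113335115444)) (.leaf (nat_lit 0x0))))) (.node (.node (.node (.leaf (nat_lit 0x14232542314513)) (.leaf (nat_lit 0x114535251453))) (.node (.leaf (nat_lit 0x453514531425328)) (.leaf (nat_lit 0x0)))) (.node (.node (.leaf (nat_lit 0x354152535451158)) (.leaf (nat_lit 0x2535333224445415))) (.node (.leaf (nat_lit 0x5411353114)) (.leaf (nat_lit 0x0))))))) (.node (.node (.node (.node (.node (.leaf (nat_lit 0x44113311)) (.leaf (nat_lit 0x242325413145138))) (.node (.leaf (nat_lit 0x452351425352)) (.leaf (nat_lit 0x4231313335444242423131333544424242531313335444242)))) (.node (.node (.leaf (nat_lit 0x35451354231542)) (.leaf (nat_lit 0x13241351542314))) (.node (.leaf (nat_lit 0x45324535424113358)) (.leaf (nat_lit 0x0))))) (.node (.node (.node (.leaf (nat_lit 0x5242532541538)) (.leaf (nat_lit 0x114422338))) (.node (.leaf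 (nat_lit 0x332244454223538)) (.leaf (nat_lit 0x4454531145353311)))) (.node (.node (.leaf (nat_lit 0x4442424513131333544424241313133354442424131313335)) (.leaf (nat_lit 0x245351453142538))) (.node (.leaf (nat_lit 0x545422353522)) (.leaf (nat_lit 0x0)))))) (.node (.node (.node (.node (.leaf (nat_lit 0x32423154231451)) (.leaf (nat_lit 0x54532224535423))) (.node (.leaf (nat_lit 0x54442424231313335444242425313133354442424231313338)) (.leaf (nat_lit 0x453224535225)))) (.node (.node (.leaf (nat_lit 0x233135424414538)) (.leaf (nat_lit 0x413242532423528))) (.node (.leaf (nat_lit 0x253154513154)) (.leaf (nat_lit 0x0))))) (.node (.node (.node (.leaf (nat_lit 0x241352413142538)) (.leaf (nat_lit 0x14253241352413))) (.node (.leaf (nat_lit 0x3351154445411353)) (.leaf (nat_lit 0x0)))) (.node (.node (.leaf (nat_lit 0x14231451532413)) (.leaf (nat_lit 0x1453544113354531))) (.node (.leaf (nat_lit 0x22453542354532)) (.leaf (nat_lit 0x0)))))))) (.node (.node (.node (.node (.node (.node (.leaf (nat_lit 0x25413145131413)) (.leaf (nat_lit 0x545325154535118)))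 (.node (.leaf (nat_lit 0x1533114451)) (.leaf (nat_lit 0x523254253154)))) (.node (.node (.leaf (nat_lit 0x532451314532548)) (.leaf (nat_lit 0x45115332248))) (.node (.leaf (nat_lit 0x453254532451318)) (.leaf (nat_lit 0x0))))) (.node (.node (.node (.leaf (nat_lit 0x33135424424531)) (.leaf (nat_lit 0x5351452351418))) (.node (.leaf (nat_lit 0x1411335453145354)) (.leaf (nat_lit 0x3135453145354411)))) (.node (.node (.leaf (nat_lit 0x4532453541358)) (.leaf (nat_lit 0x231541531545))) (.node (.leaf (nat_lit 0x5145235141538)) (.leaf (nat_lit 0x0)))))) (.node (.node (.node (.node (.leaf (nat_lit 0x45135423254135)) (.leaf (nat_lit 0x35453245354525))) (.node (.leaf (nat_lit 0x545135453254538)) (.leaf (nat_lit 0x23254132451314)))) (.node (.node (.leaf (nat_lit 0x3142354231458)) (.leaf (nat_lit 0x31453541411335458))) (.node (.leaf (nat_lit 0x4531145354411335)) (.leaf (nat_lit 0x0))))) (.node (.node (.node (.leaf (nat_lit 0x3545314535414113)) (.leaf (nat_lit 0x2513545411353545))) (.node (.leaf (nat_lit 0x35453514535425)) (.leaf (nat_lit 0x0))))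 (.node (.node (.leaf (nat_lit 0x422352518)) (.leaf (nat_lit 0x23142325423245))) (.node (.leaf (nat_lit 0x2424131313335444242451313133354442424131313335444)) (.leaf (nat_lit 0x0))))))) (.node (.node (.node (.node (.node (.leaf (nat_lit 0x33235414414532)) (.leaf (nat_lit 0x2423542324538))) (.node (.leaf (nat_lit 0x3224533114458)) (.leaf (nat_lit 0x541314535154238)))) (.node (.node (.leaf (nat_lit 0x2332244515)) (.leaf (nat_lit 0x2515354113548))) (.node (.leaf (nat_lit 0x254523514153)) (.leaf (nat_lit 0x0))))) (.node (.node (.node (.leaf (nat_lit 0x53245351453142)) (.leaf (nat_lit 0x451324532545318))) (.node (.leaf (nat_lit 0x5245232545138)) (.leaf (nat_lit 0x0)))) (.node (.node (.leaf (nat_lit 0x442352241331313542428)) (.leaf (nat_lit 0x32244535322454538))) (.node (.leaf (nat_lit 0x4251535225)) (.leaf (nat_lit 0x0)))))) (.node (.node (.node (.node (.leaf (nat_lit 0x511531148)) (.leaf (nat_lit 0x3524253254528))) (.node (.leaf (nat_lit 0x5245225351)) (.leaf (nat_lit 0x35452253545152)))) (.node (.node (.leaf (nat_lit 0x351451315415))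 (.leaf (nat_lit 0x35454113535411))) (.node (.leaf (nat_lit 0x452513118)) (.leaf (nat_lit 0x0))))) (.node (.node (.node (.leaf (nat_lit 0x42532453514531)) (.leaf (nat_lit 0x353114544411338))) (.node (.leaf (nat_lit 0x41532423514132)) (.leaf (nat_lit 0x0)))) (.node (.node (.leaf (nat_lit 0x424414532331358)) (.leaf (nat_lit 0x535413145324518))) (.node (.leaf (nat_lit 0x5352254152)) (.leaf (nat_lit 0x0)))))))))) (.node (.node (.node (.node (.node (.node (.node (.node (.leaf (nat_lit 0x131141)) (.leaf (nat_lit 0x4523524253518))) (.node (.leaf (nat_lit 0x314513142315418)) (.leaf (nat_lit 0x41525351158)))) (.node (.node (.leaf (nat_lit 0x5115331144)) (.leaf (nat_lit 0x235414414532338))) (.node (.leaf (nat_lit 0x5331144531148)) (.leaf (nat_lit 0x0))))) (.node (.node (.node (.leaf (nat_lit 0x53145131453154)) (.leaf (nat_lit 0x44535115453311))) (.node (.leaf (nat_lit 0x32453154532451)) (.leaf (nat_lit 0x4113535452513545)))) (.node (.node (.leaf (nat_lit 0x52545331144531)) (.leaf (nat_lit 0x4535413545313224))) (.node (.leaf (nat_lit 0x5444113335451153))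 (.leaf (nat_lit 0x0)))))) (.node (.node (.node (.node (.leaf (nat_lit 0x24232541314513)) (.leaf (nat_lit 0x32453515413541))) (.node (.leaf (nat_lit 0x453145131453158)) (.leaf (nat_lit 0x14253242351413)))) (.node (.node (.leaf (nat_lit 0x452325425315)) (.leaf (nat_lit 0x352254541135))) (.node (.leaf (nat_lit 0x453242531453518)) (.leaf (nat_lit 0x0))))) (.node (.node (.node (.leaf (nat_lit 0x3114541135)) (.leaf (nat_lit 0x351425352452))) (.node (.leaf (nat_lit 0x2544113315)) (.leaf (nat_lit 0x0)))) (.node (.node (.leaf (nat_lit 0x144113318)) (.leaf (nat_lit 0x35451153545152))) (.node (.leaf (nat_lit 0x2351415351458)) (.leaf (nat_lit 0x0))))))) (.node (.node (.node (.node (.node (.leaf (nat_lit 0x42315413145131)) (.leaf (nat_lit 0x452314532545318))) (.node (.leaf (nat_lit 0x333531145444118)) (.leaf (nat_lit 0x251453522545358)))) (.node (.node (.leaf (nat_lit 0x31145311458)) (.leaf (nat_lit 0x115445251335))) (.node (.leaf (nat_lit 0x5354531114535452)) (.leaf (nat_lit 0x0))))) (.node (.node (.node (.leaf (nat_lit 0x3131333544424242313133354442424231313335444242425))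 (.leaf (nat_lit 0x133131354242442352248))) (.node (.leaf (nat_lit 0x53545351453542)) (.leaf (nat_lit 0x2533544113354415)))) (.node (.node (.leaf (nat_lit 0x45131423254132)) (.leaf (nat_lit 0x535413145314528))) (.node (.leaf (nat_lit 0x541532545232)) (.leaf (nat_lit 0x0)))))) (.node (.node (.node (.node (.leaf (nat_lit 0x514513154523)) (.leaf (nat_lit 0x145131541535))) (.node (.leaf (nat_lit 0x14531413545253)) (.leaf (nat_lit 0x25154411338)))) (.node (.node (.leaf (nat_lit 0x4113354531453541)) (.leaf (nat_lit 0x545324535413))) (.node (.leaf (nat_lit 0x532245331144)) (.leaf (nat_lit 0x0))))) (.node (.node (.node (.leaf (nat_lit 0x413241532423518)) (.leaf (nat_lit 0x4251533353114544))) (.node (.leaf (nat_lit 0x351524531145)) (.leaf (nat_lit 0x0)))) (.node (.node (.leaf (nat_lit 0x42535453514535)) (.leaf (nat_lit 0x4152535225))) (.node (.leaf (nat_lit 0x13525453141354)) (.leaf (nat_lit 0x0)))))))) (.node (.node (.node (.node (.node (.node (.leaf (nat_lit 0x54113522)) (.leaf (nat_lit 0x13254232451314))) (.node (.leaf (nat_lit 0x52351154518))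 (.leaf (nat_lit 0x325415315451)))) (.node (.node (.leaf (nat_lit 0x54153541351413)) (.leaf (nat_lit 0x42325423545235))) (.node (.leaf (nat_lit 0x2254152535)) (.leaf (nat_lit 0x0))))) (.node (.node (.node (.leaf (nat_lit 0x45354222354532)) (.leaf (nat_lit 0x52531413242324))) (.node (.leaf (nat_lit 0x4232423242318)) (.leaf (nat_lit 0x131542531545)))) (.node (.node (.leaf (nat_lit 0x453545135453258)) (.leaf (nat_lit 0x224453114533))) (.node (.leaf (nat_lit 0x35411135453525458)) (.leaf (nat_lit 0x0)))))) (.node (.node (.node (.node (.leaf (nat_lit 0x3545324535441132)) (.leaf (nat_lit 0x15314235142324))) (.node (.leaf (nat_lit 0x51423241532413)) (.leaf (nat_lit 0x2331525442)))) (.node (.node (.leaf (nat_lit 0x31451532413142)) (.leaf (nat_lit 0x5453525453541113))) (.node (.leaf (nat_lit 0x4235423245328)) (.leaf (nat_lit 0x0))))) (.node (.node (.node (.leaf (nat_lit 0x3335444242413131333544424241313133354442424513131)) (.leaf (nat_lit 0x1442444144244414424448))) (.node (.leaf (nat_lit 0x535152453114)) (.leaf (nat_lit 0x0)))) (.node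 (.node (.leaf (nat_lit 0x1145411353)) (.leaf (nat_lit 0x13323541442453))) (.node (.leaf (nat_lit 0x31542324513142)) (.leaf (nat_lit 0x0))))))) (.node (.node (.node (.node (.node (.leaf (nat_lit 0x266168)) (.leaf (nat_lit 0x513154153254))) (.node (.leaf (nat_lit 0x5451153251)) (.leaf (nat_lit 0x541135352514)))) (.node (.node (.leaf (nat_lit 0x51311452)) (.leaf (nat_lit 0x245315453245138))) (.node (.leaf (nat_lit 0x154133131354242442318)) (.leaf (nat_lit 0x0))))) (.node (.node (.node (.leaf (nat_lit 0x354532545354518)) (.leaf (nat_lit 0x54135142354253))) (.node (.leaf (nat_lit 0x41325413145131)) (.leaf (nat_lit 0x0)))) (.node (.node (.leaf (nat_lit 0x2413141314138)) (.leaf (nat_lit 0x541535145232))) (.node (.leaf (nat_lit 0x114445251333)) (.leaf (nat_lit 0x0)))))) (.node (.node (.node (.node (.leaf (nat_lit 0x45354235453232248)) (.leaf (nat_lit 0x35452535453111458))) (.node (.leaf (nat_lit 0x35423515453242)) (.leaf (nat_lit 0x1145422353)))) (.node (.node (.leaf (nat_lit 0x314131423242)) (.leaf (nat_lit 0x11354223548))) (.node (.leaf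 (nat_lit 0x31425324535145)) (.leaf (nat_lit 0x0))))) (.node (.node (.node (.leaf (nat_lit 0x514135415354138)) (.leaf (nat_lit 0x2254535311454535))) (.node (.leaf (nat_lit 0x23354411335442)) (.leaf (nat_lit 0x0)))) (.node (.node (.leaf (nat_lit 0x314235423145)) (.leaf (nat_lit 0x1445442233533525))) (.node (.leaf (nat_lit 0x2324231413148)) (.leaf (nat_lit 0x0))))))))) (.node (.node (.node (.node (.node (.node (.node (.leaf (nat_lit 0x41133114)) (.leaf (nat_lit 0x54531311445354138))) (.node (.leaf (nat_lit 0x32354144245313)) (.leaf (nat_lit 0x153351154425)))) (.node (.node (.leaf (nat_lit 0x727718)) (.leaf (nat_lit 0x3335322454442515))) (.node (.leaf (nat_lit 0x23545135413254)) (.leaf (nat_lit 0x0))))) (.node (.node (.node (.leaf (nat_lit 0x541324532413)) (.leaf (nat_lit 0x542235452513))) (.node (.leaf (nat_lit 0x35442232354532458)) (.leaf (nat_lit 0x5132542535148)))) (.node (.node (.leaf (nat_lit 0x33545152354422)) (.leaf (nat_lit 0x235142324153148))) (.node (.leaf (nat_lit 0x542535145132)) (.leaf (nat_lit 0x0)))))) (.node (.node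 (.node (.node (.leaf (nat_lit 0x5352514511)) (.leaf (nat_lit 0x422351158))) (.node (.leaf (nat_lit 0x44113331148)) (.leaf (nat_lit 0x245331144532)))) (.node (.node (.leaf (nat_lit 0x3351524422)) (.leaf (nat_lit 0x5411354533114453))) (.node (.leaf (nat_lit 0x253242352413248)) (.leaf (nat_lit 0x0))))) (.node (.node (.node (.leaf (nat_lit 0x532545354513548)) (.leaf (nat_lit 0x53544113354531148))) (.node (.leaf (nat_lit 0x35141314253141)) (.leaf (nat_lit 0x0)))) (.node (.node (.leaf (nat_lit 0x322411)) (.leaf (nat_lit 0x354542235354228))) (.node (.leaf (nat_lit 0x411353525145)) (.leaf (nat_lit 0x0))))))) (.node (.node (.node (.node (.node (.leaf (nat_lit 0x32244113)) (.leaf (nat_lit 0x52253322448))) (.node (.leaf (nat_lit 0x542354523542328)) (.leaf (nat_lit 0x33354223544411)))) (.node (.node (.leaf (nat_lit 0x535452253542518)) (.leaf (nat_lit 0x11532245))) (.node (.leaf (nat_lit 0x423145132423158)) (.leaf (nat_lit 0x0))))) (.node (.node (.node (.leaf (nat_lit 0x52422351)) (.leaf (nat_lit 0x354515235411))) (.node (.leaf (nat_lit 0x251335115445))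 (.leaf (nat_lit 0x11445352254533)))) (.node (.node (.leaf (nat_lit 0x145315254531)) (.leaf (nat_lit 0x142324135154138))) (.node (.leaf (nat_lit 0x5453245354138)) (.leaf (nat_lit 0x0)))))) (.node (.node (.node (.node (.leaf (nat_lit 0x545135423154238)) (.leaf (nat_lit 0x315423245131428))) (.node (.leaf (nat_lit 0x114533114453)) (.leaf (nat_lit 0x13335444242423131333544424242531313335444242423138)))) (.node (.node (.leaf (nat_lit 0x5222518)) (.leaf (nat_lit 0x113353114544))) (.node (.leaf (nat_lit 0x4535351524545311)) (.leaf (nat_lit 0x0))))) (.node (.node (.node (.leaf (nat_lit 0x531114535413548)) (.leaf (nat_lit 0x413524135425358))) (.node (.leaf (nat_lit 0x4131313335444242451313133354442424131313335444242)) (.leaf (nat_lit 0x0)))) (.node (.node (.leaf (nat_lit 0x351415351452)) (.leaf (nat_lit 0x15423145132423))) (.node (.leaf (nat_lit 0x4541135311)) (.leaf (nat_lit 0x0)))))))) (.node (.node (.node (.node (.node (.node (.leaf (nat_lit 0x51154113)) (.leaf (nat_lit 0x4442233352258))) (.node (.leaf (nat_lit 0x535422235453248)) (.leaf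 (nat_lit 0x1145353311445453)))) (.node (.node (.leaf (nat_lit 0x54251535451153)) (.leaf (nat_lit 0x145232545235))) (.node (.leaf (nat_lit 0x531545324513248)) (.leaf (nat_lit 0x0))))) (.node (.node (.node (.leaf (nat_lit 0x141324131413)) (.leaf (nat_lit 0x41324513242315))) (.node (.leaf (nat_lit 0x315254118)) (.leaf (nat_lit 0x35441133545322458)))) (.node (.node (.leaf (nat_lit 0x153524513514)) (.leaf (nat_lit 0x4253154513158))) (.node (.leaf (nat_lit 0x25322415)) (.leaf (nat_lit 0x0)))))) (.node (.node (.node (.node (.leaf (nat_lit 0x23542441453133)) (.leaf (nat_lit 0x515333114442))) (.node (.leaf (nat_lit 0x25413245131423)) (.leaf (nat_lit 0x413542535423518)))) (.node (.node (.leaf (nat_lit 0x141325413245238)) (.leaf (nat_lit 0x1423141314138))) (.node (.leaf (nat_lit 0x53222453542354)) (.leaf (nat_lit 0x0))))) (.node (.node (.node (.leaf (nat_lit 0x15311425)) (.leaf (nat_lit 0x514132425324138))) (.node (.leaf (nat_lit 0x35413524135425)) (.leaf (nat_lit 0x0)))) (.node (.node (.leaf (nat_lit 0x24513145325453)) (.leaf (nat_lit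 0x13245231413254))) (.node (.leaf (nat_lit 0x114545115353)) (.leaf (nat_lit 0x0))))))) (.node (.node (.node (.node (.node (.leaf (nat_lit 0x424532331354148)) (.leaf (nat_lit 0x11444541135333))) (.node (.leaf (nat_lit 0x51335422354452)) (.leaf (nat_lit 0x513154253524)))) (.node (.node (.leaf (nat_lit 0x3545332244535422)) (.leaf (nat_lit 0x51333522544452))) (.node (.leaf (nat_lit 0x114542515353)) (.leaf (nat_lit 0x0))))) (.node (.node (.node (.leaf (nat_lit 0x14535425354535)) (.leaf (nat_lit 0x5141532545238))) (.node (.leaf (nat_lit 0x52533224418)) (.leaf (nat_lit 0x0)))) (.node (.node (.leaf (nat_lit 0x45324135452532)) (.leaf (nat_lit 0x5153542235428))) (.node (.leaf (nat_lit 0x5353511545453114)) (.leaf (nat_lit 0x0)))))) (.node (.node (.node (.node (.leaf (nat_lit 0x425354535145358)) (.leaf (nat_lit 0x3311445251))) (.node (.leaf (nat_lit 0x41324153242351)) (.leaf (nat_lit 0x4153254513158)))) (.node (.node (.leaf (nat_lit 0x24531425314535)) (.leaf (nat_lit 0x44223331148))) (.node (.leaf (nat_lit 0x5333511544454113)) (.leaf (nat_lit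 0x0))))) (.node (.node (.node (.leaf (nat_lit 0x5252)) (.leaf (nat_lit 0x41354515314532))) (.node (.leaf (nat_lit 0x532331354144248)) (.leaf (nat_lit 0x0)))) (.node (.node (.leaf (nat_lit 0x351425315415)) (.leaf (nat_lit 0x45444113335332248))) (.node (.leaf (nat_lit 0x4411331525)) (.leaf (nat_lit 0x0)))))))))))

end Cfsg.Agent.TcData.HN.I1539000
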