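import Cfsg.Agent.Lib.TcFacts

set_option autoImplicit false
set_option Elab.async false
set_option maxRecDepth 100000
set_option linter.all false

namespace Cfsg.Agent.TcData.HN.I1539000

open Cfsg.Agent.Lib.TcFacts

/-- A part of a table. -/
noncomputable def PW3 : Tr := (.node (.node (.node (.node (.node (.node (.node (.node (.node (.leaf (nat_lit 0x6473)) (.leaf (nat_lit 0x515231148))) (.node (.leaf (nat_lit 0x4533114453541135)) (.leaf (nat_lit 0x25314532423545)))) (.node (.node (.leaf (nat_lit 0x542324513242328)) (.leaf (nat_lit 0x1354531453544113))) (.node (.leaf (nat_lit 0x231453142354)) (.leaf (nat_lit 0x0))))) (.node (.node (.node (.leaf (nat_lit 0x5423545314538)) (.leaf (nat_lit 0x3514153254528))) (.node (.leaf (nat_lit 0x3241354132458)) (.leaf (nat_lit 0x13335444242423131333544424242313133354442424253138)))) (.node (.node (.leaf (nat_lit 0x1423542314538)) (.leaf (nat_lit 0x2245331144538))) (.node (.leaf (nat_lit 0x23545153245324)) (.leaf (nat_lit 0x0)))))) (.node (.node (.node (.node (.leaf (nat_lit 0x314135413145))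 (.leaf (nat_lit 0x2542532545138))) (.node (.leaf (nat_lit 0x4535442233545322)) (.leaf (nat_lit 0x44411333541135)))) (.node (.node (.leaf (nat_lit 0x24535415354535)) (.leaf (nat_lit 0x31322445354135458))) (.node (.leaf (nat_lit 0x52451153518)) (.leaf (nat_lit 0x0))))) (.node (.node (.node (.leaf (nat_lit 0x4424241313133354442424131313335444242451313133354)) (.leaf (nat_lit 0x453145231453258))) (.node (.leaf (nat_lit 0x1144453251545333)) (.leaf (nat_lit 0x0)))) (.node (.node (.leaf (nat_lit 0x35254532413542)) (.leaf (nat_lit 0x354132541354528))) (.node (.leaf (nat_lit 0x4113542235)) (.leaf (nat_lit 0x0))))))) (.node (.node (.node (.node (.node (.leaf (nat_lit 0x23142325413145)) (.leaf (nat_lit 0x335225444525138))) (.node (.leaf (nat_lit 0x45351541354132)) (.leaf (nat_lit 0x3114533114458)))) (.node (.node (.leaf (nat_lit 0x53542535453514)) (.leaf (nat_lit 0x5453231144535423))) (.node (.leaf (nat_lit 0x4113544113358)) (.leaf (nat_lit 0x0))))) (.node (.node (.node (.leaf (nat_lit 0x53544223354522)) (.leaf (nat_lit 0x53541135454113)))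 (.node (.leaf (nat_lit 0x545311145354138)) (.leaf (nat_lit 0x245235241535)))) (.node (.node (.leaf (nat_lit 0x1145453511545353)) (.leaf (nat_lit 0x53544113354152))) (.node (.leaf (nat_lit 0x45251354522535)) (.leaf (nat_lit 0x0)))))) (.node (.node (.node (.node (.leaf (nat_lit 0x241354515314538)) (.leaf (nat_lit 0x532545131541))) (.node (.leaf (nat_lit 0x54231451314232)) (.leaf (nat_lit 0x545153545314538)))) (.node (.node (.leaf (nat_lit 0x423514135425358)) (.leaf (nat_lit 0x54532245354411338))) (.node (.leaf (nat_lit 0x3352514411)) (.leaf (nat_lit 0x0))))) (.node (.node (.node (.leaf (nat_lit 0x11445351154533)) (.leaf (nat_lit 0x2452253515))) (.node (.leaf (nat_lit 0x54531423542352)) (.leaf (nat_lit 0x0)))) (.node (.node (.leaf (nat_lit 0x413514132415318)) (.leaf (nat_lit 0x53522542518))) (.node (.leaf (nat_lit 0x2453533114454532)) (.leaf (nat_lit 0x0)))))))) (.node (.node (.node (.node (.node (.node (.leaf (nat_lit 0x411311)) (.leaf (nat_lit 0x53142351413242))) (.node (.leaf (nat_lit 0x545324535452538)) (.leaf (nat_lit 0x142324153142358))))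 (.node (.node (.leaf (nat_lit 0x661628)) (.leaf (nat_lit 0x15324235141324))) (.node (.leaf (nat_lit 0x31354242442311541331)) (.leaf (nat_lit 0x0))))) (.node (.node (.node (.leaf (nat_lit 0x44245323313541)) (.leaf (nat_lit 0x315415315452))) (.node (.leaf (nat_lit 0x3254523254158)) (.leaf (nat_lit 0x515233511544)))) (.node (.node (.leaf (nat_lit 0x242354131453)) (.leaf (nat_lit 0x15314532413545))) (.node (.leaf (nat_lit 0x23245131423154)) (.leaf (nat_lit 0x0)))))) (.node (.node (.node (.node (.leaf (nat_lit 0x332354144145328)) (.leaf (nat_lit 0x5245231545238))) (.node (.leaf (nat_lit 0x3142314131418)) (.leaf (nat_lit 0x315423145132428)))) (.node (.node (.leaf (nat_lit 0x241314253142358)) (.leaf (nat_lit 0x4532322445354235))) (.node (.leaf (nat_lit 0x353114545115)) (.leaf (nat_lit 0x0))))) (.node (.node (.node (.leaf (nat_lit 0x41135444113335)) (.leaf (nat_lit 0x45322453544223358))) (.node (.leaf (nat_lit 0x311444515233)) (.leaf (nat_lit 0x0)))) (.node (.node (.leaf (nat_lit 0x1544113351)) (.leaf (nat_lit 0x33114442238))) (.node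 (.leaf (nat_lit 0x525145411353)) (.leaf (nat_lit 0x0))))))) (.node (.node (.node (.node (.node (.leaf (nat_lit 0x25453152545352)) (.leaf (nat_lit 0x44223352258))) (.node (.leaf (nat_lit 0x14232415314235)) (.leaf (nat_lit 0x24525314132423)))) (.node (.node (.leaf (nat_lit 0x45314135423515)) (.leaf (nat_lit 0x44422333228))) (.node (.leaf (nat_lit 0x354525135422)) (.leaf (nat_lit 0x0))))) (.node (.node (.node (.leaf (nat_lit 0x42314513142325)) (.leaf (nat_lit 0x53114541138))) (.node (.leaf (nat_lit 0x52254544113353)) (.leaf (nat_lit 0x0)))) (.node (.node (.leaf (nat_lit 0x524532245351)) (.leaf (nat_lit 0x152532248))) (.node (.leaf (nat_lit 0x135241535145)) (.leaf (nat_lit 0x0)))))) (.node (.node (.node (.node (.leaf (nat_lit 0x51454411335352)) (.leaf (nat_lit 0x1351452315458))) (.node (.leaf (nat_lit 0x32453145253542)) (.leaf (nat_lit 0x54533114453511)))) (.node (.node (.leaf (nat_lit 0x45322245354235)) (.leaf (nat_lit 0x3224445152338))) (.node (.leaf (nat_lit 0x311454451523358)) (.leaf (nat_lit 0x0))))) (.node (.node (.node (.leaf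 (nat_lit 0x45131453154531)) (.leaf (nat_lit 0x33545314535414118))) (.node (.leaf (nat_lit 0x5245232542538)) (.leaf (nat_lit 0x0)))) (.node (.node (.leaf (nat_lit 0x523541325413548)) (.leaf (nat_lit 0x5152352254))) (.node (.leaf (nat_lit 0x23514132425314)) (.leaf (nat_lit 0x0))))))))) (.node (.node (.node (.node (.node (.node (.node (.leaf (nat_lit 0x27717)) (.leaf (nat_lit 0x114544113353))) (.node (.leaf (nat_lit 0x324135451531458)) (.leaf (nat_lit 0x351154531145)))) (.node (.node (.leaf (nat_lit 0x41135152)) (.leaf (nat_lit 0x154232451314238))) (.node (.leaf (nat_lit 0x133131354242442311548)) (.leaf (nat_lit 0x0))))) (.node (.node (.node (.leaf (nat_lit 0x35152422)) (.leaf (nat_lit 0x225354223545))) (.node (.leaf (nat_lit 0x32453542422335458)) (.leaf (nat_lit 0x1145453522545353)))) (.node (.node (.leaf (nat_lit 0x535413524135428)) (.leaf (nat_lit 0x5453245354422323))) (.node (.leaf (nat_lit 0x54135241354253)) (.leaf (nat_lit 0x0)))))) (.node (.node (.node (.node (.leaf (nat_lit 0x54144145313313)) (.leaf (nat_lit 0x5145453114535352)))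 (.node (.leaf (nat_lit 0x41411335453145358)) (.leaf (nat_lit 0x425315415351)))) (.node (.node (.leaf (nat_lit 0x42531413524132)) (.leaf (nat_lit 0x23533114454515))) (.node (.leaf (nat_lit 0x52354522535451)) (.leaf (nat_lit 0x0))))) (.node (.node (.node (.leaf (nat_lit 0x53351154453114)) (.leaf (nat_lit 0x42235322458))) (.node (.leaf (nat_lit 0x54442424513131333544424241313133354442424131313338)) (.leaf (nat_lit 0x0)))) (.node (.node (.leaf (nat_lit 0x24532331354144)) (.leaf (nat_lit 0x54235154531413))) (.node (.leaf (nat_lit 0x25145331144535)) (.leaf (nat_lit 0x0))))))) (.node (.node (.node (.node (.node (.leaf (nat_lit 0x352451351415)) (.leaf (nat_lit 0x54525135452253))) (.node (.leaf (nat_lit 0x322452518)) (.leaf (nat_lit 0x541352545324238)))) (.node (.node (.leaf (nat_lit 0x35141354253542)) (.leaf (nat_lit 0x525354532453548))) (.node (.leaf (nat_lit 0x145131423154138)) (.leaf (nat_lit 0x0))))) (.node (.node (.node (.leaf (nat_lit 0x31413514132415)) (.leaf (nat_lit 0x314235451531458))) (.node (.leaf (nat_lit 0x524531425314538))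 (.leaf (nat_lit 0x2235453515453542)))) (.node (.node (.leaf (nat_lit 0x142354231453)) (.leaf (nat_lit 0x4542235322))) (.node (.leaf (nat_lit 0x2531545232548)) (.leaf (nat_lit 0x0)))))) (.node (.node (.node (.node (.leaf (nat_lit 0x5413145314138)) (.leaf (nat_lit 0x5354113545118))) (.node (.leaf (nat_lit 0x14232541314523)) (.leaf (nat_lit 0x3544113354451153)))) (.node (.node (.leaf (nat_lit 0x1411318)) (.leaf (nat_lit 0x513254153524))) (.node (.leaf (nat_lit 0x25314535245314)) (.leaf (nat_lit 0x0))))) (.node (.node (.node (.leaf (nat_lit 0x32451324231541)) (.leaf (nat_lit 0x245253542314538))) (.node (.leaf (nat_lit 0x5225352514)) (.leaf (nat_lit 0x0)))) (.node (.node (.leaf (nat_lit 0x522545322453)) (.leaf (nat_lit 0x23154231451324))) (.node (.leaf (nat_lit 0x3154253154518)) (.leaf (nat_lit 0x0)))))))) (.node (.node (.node (.node (.node (.node (.leaf (nat_lit 0x113114)) (.leaf (nat_lit 0x51545324135413))) (.node (.leaf (nat_lit 0x1441133525)) (.leaf (nat_lit 0x115322458)))) (.node (.node (.leaf (nat_lit 0x41314513141325)) (.leaf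 (nat_lit 0x51535441133542))) (.node (.leaf (nat_lit 0x25145451153535)) (.leaf (nat_lit 0x0))))) (.node (.node (.node (.leaf (nat_lit 0x5423245314138)) (.leaf (nat_lit 0x413245351541358))) (.node (.leaf (nat_lit 0x42315423545135)) (.leaf (nat_lit 0x23545352545354)))) (.node (.node (.leaf (nat_lit 0x244145323313548)) (.leaf (nat_lit 0x3114544113358))) (.node (.leaf (nat_lit 0x453541113545318)) (.leaf (nat_lit 0x0)))))) (.node (.node (.node (.node (.leaf (nat_lit 0x23541442453133)) (.leaf (nat_lit 0x54241133545324538))) (.node (.leaf (nat_lit 0x413545235413258)) (.leaf (nat_lit 0x2453331144453515)))) (.node (.node (.leaf (nat_lit 0x354113545152)) (.leaf (nat_lit 0x45314535414113358))) (.node (.leaf (nat_lit 0x3514253254258)) (.leaf (nat_lit 0x0))))) (.node (.node (.node (.leaf (nat_lit 0x442424442424442424442424)) (.leaf (nat_lit 0x5254532245318))) (.node (.leaf (nat_lit 0x452513545115358)) (.leaf (nat_lit 0x0)))) (.node (.node (.leaf (nat_lit 0x452314232541318)) (.leaf (nat_lit 0x4532245332248))) (.node (.leaf (nat_lit 0x5154453311445332))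 (.leaf (nat_lit 0x0))))))) (.node (.node (.node (.node (.node (.leaf (nat_lit 0x5251451153)) (.leaf (nat_lit 0x352545314135418))) (.node (.leaf (nat_lit 0x3545324535424223)) (.leaf (nat_lit 0x245352514532)))) (.node (.node (.leaf (nat_lit 0x4453541354531311)) (.leaf (nat_lit 0x1314532423548))) (.node (.leaf (nat_lit 0x532413142314518)) (.leaf (nat_lit 0x0))))) (.node (.node (.node (.leaf (nat_lit 0x45153541314532)) (.leaf (nat_lit 0x4535225453531145))) (.node (.leaf (nat_lit 0x44242413131333544424241313133354442424513131333548)) (.leaf (nat_lit 0x0)))) (.node (.node (.leaf (nat_lit 0x1335251441)) (.leaf (nat_lit 0x1354531311445354))) (.node (.leaf (nat_lit 0x4542235311)) (.leaf (nat_lit 0x0)))))) (.node (.node (.node (.node (.leaf (nat_lit 0x1453224535258)) (.leaf (nat_lit 0x232423141314))) (.node (.leaf (nat_lit 0x51545352254532)) (.leaf (nat_lit 0x522535442233548)))) (.node (.node (.leaf (nat_lit 0x314235413245)) (.leaf (nat_lit 0x35453311445354118))) (.node (.leaf (nat_lit 0x5251452253)) (.leaf (nat_lit 0x0))))) (.node (.node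 (.node (.leaf (nat_lit 0x32331354244145)) (.leaf (nat_lit 0x523141325413248))) (.node (.leaf (nat_lit 0x4442424131313335444242413131333544424245131313335)) (.leaf (nat_lit 0x0)))) (.node (.node (.leaf (nat_lit 0x235423145314)) (.leaf (nat_lit 0x35453322445354228))) (.node (.leaf (nat_lit 0x3545451523535411)) (.leaf (nat_lit 0x0)))))))))) (.node (.node (.node (.node (.node (.node (.node (.node (.leaf (nat_lit 0x525111)) (.leaf (nat_lit 0x242532423514238))) (.node (.leaf (nat_lit 0x452315415315)) (.leaf (nat_lit 0x52514454113533)))) (.node (.node (.leaf (nat_lit 0x532332354244248)) (.leaf (nat_lit 0x51314532545324))) (.node (.leaf (nat_lit 0x15253114)) (.leaf (nat_lit 0x0))))) (.node (.node (.node (.leaf (nat_lit 0x5233544223354451)) (.leaf (nat_lit 0x45115335411354))) (.node (.leaf (nat_lit 0x15354131453245)) (.leaf (nat_lit 0x3354451153354411)))) (.node (.node (.leaf (nat_lit 0x31423524131425)) (.leaf (nat_lit 0x14535414223354538))) (.node (.leaf (nat_lit 0x4531423542318)) (.leaf (nat_lit 0x0)))))) (.node (.node (.node (.node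 (.leaf (nat_lit 0x35224133131354242442)) (.leaf (nat_lit 0x541135352254))) (.node (.leaf (nat_lit 0x45314253245351)) (.leaf (nat_lit 0x525314531413548)))) (.node (.node (.leaf (nat_lit 0x25413545235413)) (.leaf (nat_lit 0x131413254232458))) (.node (.leaf (nat_lit 0x245325453145138)) (.leaf (nat_lit 0x0))))) (.node (.node (.node (.leaf (nat_lit 0x1135453525453541)) (.leaf (nat_lit 0x1452352425358))) (.node (.leaf (nat_lit 0x3141354232458)) (.leaf (nat_lit 0x0)))) (.node (.node (.leaf (nat_lit 0x314531423542)) (.leaf (nat_lit 0x41324231451531))) (.node (.leaf (nat_lit 0x535423514135428)) (.leaf (nat_lit 0x0))))))) (.node (.node (.node (.node (.node (.leaf (nat_lit 0x22541135)) (.leaf (nat_lit 0x5314235423148))) (.node (.leaf (nat_lit 0x45253541314531)) (.leaf (nat_lit 0x351154532245)))) (.node (.node (.leaf (nat_lit 0x531451535423148)) (.leaf (nat_lit 0x513542235452))) (.node (.leaf (nat_lit 0x24535423545322)) (.leaf (nat_lit 0x0))))) (.node (.node (.node (.leaf (nat_lit 0x23145352542354)) (.leaf (nat_lit 0x4515235411358))) (.node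 (.leaf (nat_lit 0x32542314513142)) (.leaf (nat_lit 0x3335351154544422)))) (.node (.node (.leaf (nat_lit 0x3354411335444113)) (.leaf (nat_lit 0x3545411353545152))) (.node (.leaf (nat_lit 0x5452253541138)) (.leaf (nat_lit 0x0)))))) (.node (.node (.node (.node (.leaf (nat_lit 0x14515354231453)) (.leaf (nat_lit 0x1354542235354525))) (.node (.leaf (nat_lit 0x42324525324131)) (.leaf (nat_lit 0x15335411354425)))) (.node (.node (.leaf (nat_lit 0x54232541354513)) (.leaf (nat_lit 0x2445354235453232))) (.node (.leaf (nat_lit 0x232542324523148)) (.leaf (nat_lit 0x0))))) (.node (.node (.node (.leaf (nat_lit 0x13545311145354)) (.leaf (nat_lit 0x244511533515))) (.node (.leaf (nat_lit 0x3335444242425313133354442424231313335444242423131)) (.leaf (nat_lit 0x0)))) (.node (.node (.leaf (nat_lit 0x54513545325453)) (.leaf (nat_lit 0x5354422313545314))) (.node (.leaf (nat_lit 0x451153541135)) (.leaf (nat_lit 0x0)))))))) (.node (.node (.node (.node (.node (.node (.leaf (nat_lit 0x24153245351453)) (.leaf (nat_lit 0x32244522538))) (.node (.leaf (nat_lit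 0x25354535145354)) (.leaf (nat_lit 0x5451523511)))) (.node (.node (.leaf (nat_lit 0x5235141535148)) (.leaf (nat_lit 0x425314535245318))) (.node (.leaf (nat_lit 0x31525411)) (.leaf (nat_lit 0x0))))) (.node (.node (.node (.leaf (nat_lit 0x145323313542448)) (.leaf (nat_lit 0x235452354232548))) (.node (.leaf (nat_lit 0x4535311454535115)) (.leaf (nat_lit 0x31311445354135458)))) (.node (.node (.leaf (nat_lit 0x3541354531322445)) (.leaf (nat_lit 0x413545324535))) (.node (.leaf (nat_lit 0x54135452354132)) (.leaf (nat_lit 0x0)))))) (.node (.node (.node (.node (.leaf (nat_lit 0x142324153241358)) (.leaf (nat_lit 0x515353114542))) (.node (.leaf (nat_lit 0x315453545235458)) (.leaf (nat_lit 0x11354451153354)))) (.node (.node (.leaf (nat_lit 0x152511)) (.leaf (nat_lit 0x3254153254528))) (.node (.leaf (nat_lit 0x3152545311458)) (.leaf (nat_lit 0x0))))) (.node (.node (.node (.leaf (nat_lit 0x3313323331332333133238)) (.leaf (nat_lit 0x1313133354442424131313335444242451313133354442424))) (.node (.leaf (nat_lit 0x445251333114)) (.leaf (nat_lit 0x0))))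 (.node (.node (.leaf (nat_lit 0x23514135425354)) (.leaf (nat_lit 0x24131313335444242451313133354442424131313335444248))) (.node (.leaf (nat_lit 0x54253541352413)) (.leaf (nat_lit 0x0))))))) (.node (.node (.node (.node (.node (.leaf (nat_lit 0x45314535411135)) (.leaf (nat_lit 0x2445251332))) (.node (.leaf (nat_lit 0x54535152453522)) (.leaf (nat_lit 0x35154135413245)))) (.node (.node (.leaf (nat_lit 0x54142233545314538)) (.leaf (nat_lit 0x22332515448))) (.node (.leaf (nat_lit 0x3245314235418)) (.leaf (nat_lit 0x0))))) (.node (.node (.node (.leaf (nat_lit 0x54422323545324538)) (.leaf (nat_lit 0x135425354135248))) (.node (.leaf (nat_lit 0x14232425314135)) (.leaf (nat_lit 0x0)))) (.node (.node (.leaf (nat_lit 0x13145131413254)) (.leaf (nat_lit 0x413542324531))) (.node (.leaf (nat_lit 0x23515242)) (.leaf (nat_lit 0x0)))))) (.node (.node (.node (.node (.leaf (nat_lit 0x11452513)) (.leaf (nat_lit 0x2245322453))) (.node (.leaf (nat_lit 0x354235453222458)) (.leaf (nat_lit 0x24131425314235)))) (.node (.node (.leaf (nat_lit 0x4113332244))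 (.leaf (nat_lit 0x4131413142318))) (.node (.leaf (nat_lit 0x522545422353)) (.leaf (nat_lit 0x0))))) (.node (.node (.node (.leaf (nat_lit 0x153514513154)) (.leaf (nat_lit 0x545152354113))) (.node (.leaf (nat_lit 0x41352545314135)) (.leaf (nat_lit 0x0)))) (.node (.node (.leaf (nat_lit 0x145315453145138)) (.leaf (nat_lit 0x4535331144545311))) (.node (.leaf (nat_lit 0x4223331144)) (.leaf (nat_lit 0x0))))))))) (.node (.node (.node (.node (.node (.node (.node (.leaf (nat_lit 0x17277)) (.leaf (nat_lit 0x3514153524518))) (.node (.leaf (nat_lit 0x513242315413248)) (.leaf (nat_lit 0x3515245311458)))) (.node (.node (.leaf (nat_lit 0x31453541113545)) (.leaf (nat_lit 0x523254153514))) (.node (.leaf (nat_lit 0x3154513514528)) (.leaf (nat_lit 0x0))))) (.node (.node (.node (.leaf (nat_lit 0x53541324531451)) (.leaf (nat_lit 0x35451531453241))) (.node (.leaf (nat_lit 0x5135242531548)) (.leaf (nat_lit 0x22545352514535)))) (.node (.node (.leaf (nat_lit 0x35254135413145)) (.leaf (nat_lit 0x413525453141358))) (.node (.leaf (nat_lit 0x325413545135428))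 (.leaf (nat_lit 0x0)))))) (.node (.node (.node (.node (.leaf (nat_lit 0x31313131313131318)) (.leaf (nat_lit 0x2314532413548))) (.node (.leaf (nat_lit 0x54535251453511)) (.leaf (nat_lit 0x31333544424242313133354442424231313335444242425318)))) (.node (.node (.leaf (nat_lit 0x531545314513148)) (.leaf (nat_lit 0x1113545352545354))) (.node (.leaf (nat_lit 0x411351528)) (.leaf (nat_lit 0x0))))) (.node (.node (.node (.leaf (nat_lit 0x423115413313135424248)) (.leaf (nat_lit 0x531142518))) (.node (.leaf (nat_lit 0x24131423145153)) (.leaf (nat_lit 0x0)))) (.node (.node (.leaf (nat_lit 0x42315413245132)) (.leaf (nat_lit 0x44411333531145))) (.node (.leaf (nat_lit 0x535242531542)) (.leaf (nat_lit 0x0))))))) (.node (.node (.node (.node (.node (.leaf (nat_lit 0x44235224133131354242)) (.leaf (nat_lit 0x5115451523))) (.node (.leaf (nat_lit 0x545235245132)) (.leaf (nat_lit 0x3535425153545422)))) (.node (.node (.leaf (nat_lit 0x5325452325418)) (.leaf (nat_lit 0x13514235425354))) (.node (.leaf (nat_lit 0x254232452314238)) (.leaf (nat_lit 0x0)))))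 (.node (.node (.node (.leaf (nat_lit 0x15314135141324)) (.leaf (nat_lit 0x2322445354235453))) (.node (.leaf (nat_lit 0x1324532413548)) (.leaf (nat_lit 0x3315254411)))) (.node (.node (.leaf (nat_lit 0x524513254153)) (.leaf (nat_lit 0x53525423542314))) (.node (.leaf (nat_lit 0x545315453545238)) (.leaf (nat_lit 0x0)))))) (.node (.node (.node (.node (.leaf (nat_lit 0x13545135423254)) (.leaf (nat_lit 0x5225351524))) (.node (.leaf (nat_lit 0x5425352415328)) (.leaf (nat_lit 0x3351154453311445)))) (.node (.node (.leaf (nat_lit 0x54532453542223)) (.leaf (nat_lit 0x545324513145328))) (.node (.leaf (nat_lit 0x2444113332)) (.leaf (nat_lit 0x0))))) (.node (.node (.node (.leaf (nat_lit 0x45351154535152)) (.leaf (nat_lit 0x15324135142324))) (.node (.leaf (nat_lit 0x351451325451)) (.leaf (nat_lit 0x0)))) (.node (.node (.leaf (nat_lit 0x23141325423145)) (.leaf (nat_lit 0x4113354531145354))) (.node (.leaf (nat_lit 0x415315425351)) (.leaf (nat_lit 0x0)))))))) (.node (.node (.node (.node (.node (.node (.leaf (nat_lit 0x142535145135)) (.leaf (nat_lit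 0x2453542354533114))) (.node (.leaf (nat_lit 0x3141354131458)) (.leaf (nat_lit 0x5315425352428)))) (.node (.node (.leaf (nat_lit 0x522542238)) (.leaf (nat_lit 0x4141133545314535))) (.node (.leaf (nat_lit 0x35225452518)) (.leaf (nat_lit 0x0))))) (.node (.node (.node (.leaf (nat_lit 0x241314131413)) (.leaf (nat_lit 0x251445115335))) (.node (.leaf (nat_lit 0x4535311454531525)) (.leaf (nat_lit 0x35422235453245)))) (.node (.node (.leaf (nat_lit 0x52354531545354)) (.leaf (nat_lit 0x51154535251453))) (.node (.leaf (nat_lit 0x1452325415358)) (.leaf (nat_lit 0x0)))))) (.node (.node (.node (.node (.leaf (nat_lit 0x51453542535453)) (.leaf (nat_lit 0x5244113351))) (.node (.leaf (nat_lit 0x3145354422313545)) (.leaf (nat_lit 0x32423514131425)))) (.node (.node (.leaf (nat_lit 0x54131451314132)) (.leaf (nat_lit 0x33224441138))) (.node (.leaf (nat_lit 0x23241532413514)) (.leaf (nat_lit 0x0))))) (.node (.node (.node (.leaf (nat_lit 0x31525422)) (.leaf (nat_lit 0x2254515235))) (.node (.leaf (nat_lit 0x5351425325428)) (.leaf (nat_lit 0x0)))) (.node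 (.node (.leaf (nat_lit 0x314135141314258)) (.leaf (nat_lit 0x2353114545158))) (.node (.leaf (nat_lit 0x115444113335)) (.leaf (nat_lit 0x0))))))) (.node (.node (.node (.node (.node (.leaf (nat_lit 0x523351154451)) (.leaf (nat_lit 0x532242518))) (.node (.leaf (nat_lit 0x3545331144535411)) (.leaf (nat_lit 0x411353152545)))) (.node (.node (.leaf (nat_lit 0x132245258)) (.leaf (nat_lit 0x444531145333118))) (.node (.leaf (nat_lit 0x3131333544424242531313335444242423131333544424242)) (.leaf (nat_lit 0x0))))) (.node (.node (.node (.leaf (nat_lit 0x354531453545158)) (.leaf (nat_lit 0x35142324253141))) (.node (.leaf (nat_lit 0x54232451314231)) (.leaf (nat_lit 0x0)))) (.node (.node (.leaf (nat_lit 0x451324231542318)) (.leaf (nat_lit 0x41351423242531))) (.node (.leaf (nat_lit 0x532542535142)) (.leaf (nat_lit 0x0)))))) (.node (.node (.node (.node (.leaf (nat_lit 0x545251354113)) (.leaf (nat_lit 0x1545232542538))) (.node (.leaf (nat_lit 0x45251351158)) (.leaf (nat_lit 0x132413242314)))) (.node (.node (.leaf (nat_lit 0x451351415315)) (.leaf (nat_lit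 0x42413131333544424241313133354442424513131333544428))) (.node (.leaf (nat_lit 0x14135241324253)) (.leaf (nat_lit 0x0))))) (.node (.node (.node (.leaf (nat_lit 0x313331313331313331313331)) (.leaf (nat_lit 0x5351524522))) (.node (.leaf (nat_lit 0x154535452354538)) (.leaf (nat_lit 0x0)))) (.node (.node (.leaf (nat_lit 0x453251545311)) (.leaf (nat_lit 0x153514153254))) (.node (.leaf (nat_lit 0x154452253325)) (.leaf (nat_lit 0x0)))))))))))

end Cfsg.Agent.TcData.HN.I1539000
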